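import Cfsg.Agent.F4Square.Two.Setup

/-!
Certificates for the coset of the Weyl element number 0.
-/

set_option autoImplicit false
set_option maxRecDepth 100000
set_option maxHeartbeats 0
set_option Elab.async false

namespace Cfsg.Agent.F4Square.Two

/-- The certificates. -/
noncomputable def cert0 : Tree :=
  (.node (.node (.node (.node (.node (.node (.node (.node (.node (.node (.node (.leaf 0x0) (.leaf 0x76e0f5006)) (.node (.leaf 0x16e8cb0a2) (.leaf 0x15b3a3b0a6))) (.node (.node (.leaf 0x63249b050) (.leaf 0xb05425004)) (.node (.leaf 0x2f93d7010) (.leaf 0x843023000)))) (.node (.node (.node (.leaf 0x53c4e9004) (.leaf 0x666149044)) (.node (.leaf 0x91225000) (.leaf 0x188acb050))) (.node (.node (.leaf 0xc46607010) (.leaf 0xfc281900e)) (.node (.leaf 0x306045042) (.leaf 0x5f4d9300e))))) (.node (.node (.node (.node (.leaf 0x1ac5c7042) (.leaf 0xec52b17a)) (.node (.leaf 0x9a9f5000) (.leaf 0xd6159016))) (.node (.node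 (.leaf 0x1219459000) (.leaf 0x133e9b17a)) (.node (.leaf 0x240f65014) (.leaf 0xd2069024)))) (.node (.node (.node (.leaf 0x58335b0a2) (.leaf 0xecc1c700e)) (.node (.leaf 0xe6fab17a) (.leaf 0x51afb194))) (.node (.node (.leaf 0xe451c9046) (.leaf 0x2bc8bb00a)) (.node (.leaf 0x49874904e) (.leaf 0x8d405000)))))) (.node (.node (.node (.node (.node (.leaf 0x6183cb2dc) (.leaf 0x50af37014)) (.node (.leaf 0x2bac3b00a) (.leaf 0x90f65014))) (.node (.node (.leaf 0x4e20d7010) (.leaf 0x40caeb01e)) (.node (.leaf 0x97097002) (.leaf 0xbcaf3000)))) (.node (.node (.node (.leaf 0x338bb9036) (.leaf 0x6c425700e)) (.node (.leaf 0x7541b144) (.leaf 0x1fe087002))) (.node (.node (.leaf 0x2274fb090) (.leaf 0xe4932700e)) (.node (.leaf 0xead2b17a) (.leaf 0x668e9030))))) (.node (.node (.node (.node (.leaf 0xc3444b00a) (.leaf 0x145b597000)) (.node (.leaf 0x55e3e9004) (.leaf 0xaf96b184))) (.node (.node (.leaf 0x966b5014) (.leaf 0x201439014)) (.node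 (.leaf 0x86dc5014) (.leaf 0x4efa7020)))) (.node (.node (.node (.leaf 0x259b59082) (.leaf 0x4da0db024)) (.node (.leaf 0x1dbdfb08a) (.leaf 0x245997002))) (.node (.node (.leaf 0x10da97024) (.leaf 0xa5c7014)) (.node (.leaf 0x1867aab0a6) (.leaf 0xff3feb01e))))))) (.node (.node (.node (.node (.node (.node (.leaf 0x1fbef5004) (.leaf 0x1d45ab08a)) (.node (.leaf 0x9beffb00a) (.leaf 0xae2087002))) (.node (.node (.leaf 0x95149002) (.leaf 0x4a898300e)) (.node (.leaf 0x6489b1d6) (.leaf 0x80aab090)))) (.node (.node (.node (.leaf 0x3156900a) (.leaf 0x1f1309002)) (.node (.leaf 0x11ed1b1d6) (.leaf 0xaad8b086))) (.node (.node (.leaf 0x256977004) (.leaf 0x1be845010)) (.node (.leaf 0xbaa2b08a) (.leaf 0x16da9b0a2))))) (.node (.node (.node (.node (.leaf 0x51ad0b084) (.leaf 0x30e7f7002)) (.node (.leaf 0x14b0b184) (.leaf 0x18fbf7000))) (.node (.node (.leaf 0x688a5b0cc) (.leaf 0x42237010)) (.node (.leaf 0x532b49042) (.leaf 0x714efb08a))))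 (.node (.node (.node (.leaf 0x11298905c) (.leaf 0xb1e4b905c)) (.node (.leaf 0x1aeea900c) (.leaf 0x1ff165010))) (.node (.node (.leaf 0x7f0b9046) (.leaf 0x1c9eeb000)) (.node (.leaf 0x1ead5b05c) (.leaf 0x17373904e)))))) (.node (.node (.node (.node (.node (.leaf 0x1f0a09002) (.leaf 0x99c49002)) (.node (.leaf 0x1b127b0cc) (.leaf 0x57f8b062))) (.node (.node (.leaf 0x3cd83b024) (.leaf 0xd68e9014)) (.node (.leaf 0x1f22b5010) (.leaf 0x10921901c)))) (.node (.node (.node (.leaf 0x228feb090) (.leaf 0x245149002)) (.node (.leaf 0x3ef667000) (.leaf 0x48f5a9030))) (.node (.node (.leaf 0x3b0ae700e) (.leaf 0x35144b10c)) (.node (.leaf 0x5c1b85006) (.leaf 0x95f90c6))))) (.node (.node (.node (.node (.leaf 0xcb109036) (.leaf 0x9b3a7b00a)) (.node (.leaf 0x40293b01e) (.leaf 0x1fc2a5004))) (.node (.node (.leaf 0x14f0fb0fc) (.leaf 0x2f8dab00c)) (.node (.leaf 0x56e055006) (.leaf 0x196a8b084)))) (.node (.node (.node (.leaf 0xd6bc7042) (.leaf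 0xa503b062)) (.node (.leaf 0x3729f9026) (.leaf 0xa5f900a))) (.node (.node (.leaf 0x7f6517000) (.leaf 0x79b9eb1d6)) (.node (.leaf 0x1873fb002) (.leaf 0x5befd900c)))))))) (.node (.node (.node (.node (.node (.node (.node (.leaf 0x23486901a) (.leaf 0xcbfd29036)) (.node (.leaf 0x30eb5500e) (.leaf 0x101ab086))) (.node (.node (.leaf 0xe1a30b024) (.leaf 0x68de905c)) (.node (.leaf 0x2422c7002) (.leaf 0x1159e9030)))) (.node (.node (.node (.leaf 0x44fb9010) (.leaf 0x6d41db2dc)) (.node (.leaf 0x158f6b042) (.leaf 0x9a7b5010))) (.node (.node (.leaf 0x13bf9b17a) (.leaf 0x27b72b086)) (.node (.leaf 0x188747030) (.leaf 0x433499030))))) (.node (.node (.node (.node (.leaf 0x34b489016) (.leaf 0xa6bc4b08a)) (.node (.leaf 0xa61c2b05a) (.leaf 0x9ce65010))) (.node (.node (.leaf 0x141a9b062) (.leaf 0x4f106b194)) (.node (.leaf 0xaac829016) (.leaf 0x6a7753002)))) (.node (.node (.node (.leaf 0x922c7002) (.leaf 0xb8ea3000)) (.node (.leaf 0x13e69b17a)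 (.leaf 0xc150b05c))) (.node (.node (.leaf 0x84115000) (.leaf 0x588c8b0a2)) (.node (.leaf 0xd6989082) (.leaf 0x19b03b09c)))))) (.node (.node (.node (.node (.node (.leaf 0x2bc1b14e) (.leaf 0x4599bb090)) (.node (.leaf 0x97df5004) (.leaf 0x1d627b08a))) (.node (.node (.leaf 0x458e55014) (.leaf 0xa6b8b194)) (.node (.leaf 0x3822a901a) (.leaf 0x2412a5004)))) (.node (.node (.node (.leaf 0x36059004) (.leaf 0x3787034)) (.node (.leaf 0x16a5cb0a2) (.leaf 0x545369044))) (.node (.node (.leaf 0x90d96b084) (.leaf 0xb30fb08a)) (.node (.leaf 0x314e1b014) (.leaf 0x58818b0a2))))) (.node (.node (.node (.node (.leaf 0x9fbc7002) (.leaf 0x561577002)) (.node (.leaf 0x92526901a) (.leaf 0xa61f43002))) (.node (.node (.leaf 0x130fcb17a) (.leaf 0x912a5004)) (.node (.leaf 0x283109010) (.leaf 0x1e3959036)))) (.node (.node (.node (.leaf 0x49a08901a) (.leaf 0x80955014)) (.node (.leaf 0x25af89016) (.leaf 0x2a6c0b002))) (.node (.node (.leaf 0x388f6904e)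 (.leaf 0x247df5004)) (.node (.leaf 0x16dab0ea) (.leaf 0x5d781b01e))))))) (.node (.node (.node (.node (.node (.node (.leaf 0xd9be7004) (.leaf 0x55c3e901c)) (.node (.leaf 0x3b18d7000) (.leaf 0x772df900c))) (.node (.node (.leaf 0x175af9016) (.leaf 0x30069006)) (.node (.leaf 0x90319002) (.leaf 0xfdca90c6)))) (.node (.node (.node (.leaf 0x5ecfb086) (.leaf 0xf0f9006)) (.node (.leaf 0x1f70d9002) (.leaf 0x1c472b06a))) (.node (.node (.leaf 0x16b39b0a2) (.leaf 0x40bc3b01e)) (.node (.leaf 0x12a5db14e) (.leaf 0xeac2b17a))))) (.node (.node (.node (.node (.leaf 0x66e9042) (.leaf 0x5b0fb0ea)) (.node (.leaf 0x4a925300a) (.leaf 0x39073b14e))) (.node (.node (.leaf 0x15079b000) (.leaf 0xb6cab08a)) (.node (.leaf 0x1c0737026) (.leaf 0x6cc0905c)))) (.node (.node (.node (.leaf 0x1d832b08a) (.leaf 0x9793fb17a)) (.node (.leaf 0x2b2aeb00a) (.leaf 0x25cd97024))) (.node (.node (.leaf 0x29792b14e) (.leaf 0xb683f9036)) (.node (.leaf 0x153d4b002)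 (.leaf 0x4772ab086)))))) (.node (.node (.node (.node (.node (.leaf 0x15fab194) (.leaf 0xa718b0ea)) (.node (.leaf 0x9be19002) (.leaf 0x7e7299030))) (.node (.node (.leaf 0x10ea39024) (.leaf 0x31443b000)) (.node (.leaf 0x166a9b0a2) (.leaf 0x250279014)))) (.node (.node (.node (.leaf 0x2959b0c0) (.leaf 0x1ad84901c)) (.node (.leaf 0x1feaf5000) (.leaf 0x220eeb090))) (.node (.node (.leaf 0x41bbeb0d6) (.leaf 0x72ee9026)) (.node (.leaf 0x33e02b056) (.leaf 0x4e33b01c))))) (.node (.node (.node (.node (.leaf 0x775939024) (.leaf 0x5e62a900c)) (.node (.leaf 0x6bd7ab17a) (.leaf 0x2acbfb050))) (.node (.node (.leaf 0xfeca900a) (.leaf 0x4ab243006)) (.node (.leaf 0x38e79042) (.leaf 0x253fc7006)))) (.node (.node (.node (.leaf 0x4a8653006) (.leaf 0xc3325b00a)) (.node (.leaf 0x10ae59082) (.leaf 0x1701e9082))) (.node (.node (.leaf 0xec42b17a) (.leaf 0x1f1465014)) (.node (.leaf 0x66ab69044) (.leaf 0x1080f900c))))))))) (.node (.node (.node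 (.node (.node (.node (.node (.node (.leaf 0x45fb15004) (.leaf 0xea2ab17a)) (.node (.leaf 0x7b7e7026) (.leaf 0x2b8e1b0cc))) (.node (.node (.leaf 0xa4e09014) (.leaf 0xf412b0fc)) (.node (.leaf 0x277d39006) (.leaf 0x12c0db14e)))) (.node (.node (.node (.leaf 0x1c66c700e) (.leaf 0x1fdb062)) (.node (.leaf 0x182a9042) (.leaf 0x23fb9b194))) (.node (.node (.leaf 0x30f079002) (.leaf 0x52ce5b0d6)) (.node (.leaf 0x7f44d9026) (.leaf 0x26a27b05c))))) (.node (.node (.node (.node (.leaf 0x8f945010) (.leaf 0x2949b0c0)) (.node (.leaf 0xd90d901a) (.leaf 0x146c79006))) (.node (.node (.leaf 0x319d5b00c) (.leaf 0x19910b084)) (.node (.leaf 0x104b3c1002) (.leaf 0xefaab17a)))) (.node (.node (.node (.leaf 0x284fc7026) (.leaf 0x5a6b3900c)) (.node (.leaf 0x2fd419026) (.leaf 0x8acd5b0a6))) (.node (.node (.leaf 0x30e53b0a6) (.leaf 0x37c31b042)) (.node (.leaf 0xb2ba2b05a) (.leaf 0x3fddb184)))))) (.node (.node (.node (.node (.node (.leaf 0x2880f7030)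 (.leaf 0x32a91b01c)) (.node (.leaf 0x146e69042) (.leaf 0x4e0419026))) (.node (.node (.leaf 0x8adbb0cc) (.leaf 0x215b7b0c6)) (.node (.leaf 0x335919036) (.leaf 0x22b7d5010)))) (.node (.node (.node (.leaf 0x2e142b050) (.leaf 0x69f9db0c6)) (.node (.leaf 0x4a0033002) (.leaf 0x674585000))) (.node (.node (.leaf 0x62099b0d6) (.leaf 0x5a3f9042)) (.node (.leaf 0x111fc9044) (.leaf 0x29043b14e))))) (.node (.node (.node (.node (.leaf 0x30f169002) (.leaf 0x1b3e6b090)) (.node (.leaf 0x1868f9010) (.leaf 0x4234f9010))) (.node (.node (.leaf 0x1e818900e) (.leaf 0x25c3c904e)) (.node (.leaf 0x68f98b090) (.leaf 0x8f005004)))) (.node (.node (.node (.leaf 0x146b9006) (.leaf 0x2e570b000)) (.node (.leaf 0x4a747030) (.leaf 0xfb8bb194))) (.node (.node (.leaf 0x401e6b01e) (.leaf 0x95c66b08a)) (.node (.leaf 0xd259700a) (.leaf 0x31e0db144))))))) (.node (.node (.node (.node (.node (.node (.leaf 0x9e4b4b090) (.leaf 0x3227ab09a)) (.node (.leaf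 0x40fdbb01e) (.leaf 0xc163900e))) (.node (.node (.leaf 0x9d3a5002) (.leaf 0x9c02502a)) (.node (.leaf 0x311769026) (.leaf 0x426977010)))) (.node (.node (.node (.leaf 0xd4b1f7026) (.leaf 0xe07ab17a)) (.node (.leaf 0x4e23a7030) (.leaf 0x16ee4b0a2))) (.node (.node (.leaf 0x1fb87014) (.leaf 0x1b4515000)) (.node (.leaf 0x33acb062) (.leaf 0x6d829044))))) (.node (.node (.node (.node (.leaf 0x1440040000) (.leaf 0x111507905c)) (.node (.leaf 0x560ee9002) (.leaf 0x2d9a29026))) (.node (.node (.leaf 0x17289004) (.leaf 0xe452b17a)) (.node (.leaf 0x6cc44b042) (.leaf 0xb250b05a)))) (.node (.node (.node (.leaf 0x2330eb062) (.leaf 0xaf4d8b024)) (.node (.leaf 0x246ae5006) (.leaf 0xa8429082))) (.node (.node (.leaf 0x13be9b17a) (.leaf 0x2904ab0c0)) (.node (.leaf 0xeefab17a) (.leaf 0x818779046)))))) (.node (.node (.node (.node (.node (.leaf 0x2fbd17026) (.leaf 0xb5553000)) (.node (.leaf 0x6272b1fe) (.leaf 0x4d687b0c6))) (.node (.node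 (.leaf 0xe2d2b17a) (.leaf 0x1b8755014)) (.node (.leaf 0x48e749044) (.leaf 0xbeb194)))) (.node (.node (.node (.leaf 0x14b089004) (.leaf 0x1962bb09c)) (.node (.leaf 0xa1939016) (.leaf 0x3713eb06a))) (.node (.node (.leaf 0x19176b036) (.leaf 0x117e2b1fe)) (.node (.leaf 0x1de6c3000) (.leaf 0x1f20f502a))))) (.node (.node (.node (.node (.leaf 0x275587014) (.leaf 0x11cc89030)) (.node (.leaf 0x97b0fc) (.leaf 0xf76bb0ea))) (.node (.node (.leaf 0x1ae29904e) (.leaf 0x32d82b014)) (.node (.leaf 0xed48f905c) (.leaf 0x8b5ab0cc)))) (.node (.node (.node (.leaf 0x106a0901a) (.leaf 0x56b3e9002)) (.node (.leaf 0x43273905c) (.leaf 0x97d07b17a))) (.node (.node (.leaf 0x1d6e8b05a) (.leaf 0x7525b014)) (.node (.leaf 0x1397cb17a) (.leaf 0x2e91b14e)))))))) (.node (.node (.node (.node (.node (.node (.node (.leaf 0x2db99b00c) (.leaf 0x43fcb050)) (.node (.leaf 0x227305004) (.leaf 0x67fd55014))) (.node (.node (.leaf 0x38449b194) (.leaf 0x7b7bb000))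 (.node (.leaf 0x6bb49044) (.leaf 0x65eb086)))) (.node (.node (.node (.leaf 0x3b7e07020) (.leaf 0x35a41b056)) (.node (.leaf 0x1d849b05a) (.leaf 0x82aa05042))) (.node (.node (.leaf 0x99d2c905a) (.leaf 0x62fbb05c)) (.node (.leaf 0x29a1ab0c0) (.leaf 0x181be7020))))) (.node (.node (.node (.node (.leaf 0x285dd7020) (.leaf 0x3a7b69042)) (.node (.leaf 0x8c855010) (.leaf 0x3f9eb0fc))) (.node (.node (.leaf 0x10aff59036) (.leaf 0x104b711002)) (.node (.leaf 0x344ac700a) (.leaf 0x49699901c)))) (.node (.node (.node (.leaf 0x1045641002) (.leaf 0xda3fc9036)) (.node (.leaf 0x15207b09a) (.leaf 0x3b3297026))) (.node (.node (.leaf 0xf9eb0ea) (.leaf 0x16481b0a2)) (.node (.leaf 0x16211b0a2) (.leaf 0xd309904e)))))) (.node (.node (.node (.node (.node (.leaf 0xcb9bb056) (.leaf 0x2b9b1b0a6)) (.node (.leaf 0xae867024) (.leaf 0x123b90c6))) (.node (.node (.leaf 0x30605502a) (.leaf 0x5b654900a)) (.node (.leaf 0x4a113905a) (.leaf 0x7970e9036))))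 (.node (.node (.node (.leaf 0x2af2fb014) (.leaf 0x2281c5010)) (.node (.leaf 0x3e5ceb01c) (.leaf 0x2db41b144))) (.node (.node (.leaf 0x508e900a) (.leaf 0x14ad790c6)) (.node (.leaf 0x1ea92900e) (.leaf 0xbcb93b050))))) (.node (.node (.node (.node (.leaf 0x78c24b01e) (.leaf 0x8b97e7010)) (.node (.leaf 0xa64e4905a) (.leaf 0x75e80b01c))) (.node (.node (.leaf 0x885f3900a) (.leaf 0xa2a659010)) (.node (.leaf 0x232f3b184) (.leaf 0x4cd39000)))) (.node (.node (.node (.leaf 0x8a515004) (.leaf 0x578e90c6)) (.node (.leaf 0xb26a8b08a) (.leaf 0x673e7b090))) (.node (.node (.leaf 0x2cd5eb002) (.leaf 0x2550e704e)) (.node (.leaf 0x844ecb05a) (.leaf 0x97d17b17a))))))) (.node (.node (.node (.node (.node (.node (.leaf 0x5a919004) (.leaf 0x3562b900e)) (.node (.leaf 0x38d7b086) (.leaf 0x123d5b0c0))) (.node (.node (.leaf 0x1f1c25042) (.leaf 0x1fb0e500a)) (.node (.leaf 0x87efbb0a2) (.leaf 0x165e4b0a2)))) (.node (.node (.node (.leaf 0x9e3a500e)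 (.leaf 0x9bc7500e)) (.node (.leaf 0x2d56f9046) (.leaf 0x133f9b17a))) (.node (.node (.leaf 0x1396cb17a) (.leaf 0x833e1b090)) (.node (.leaf 0x1ab79700a) (.leaf 0x58230b0a2))))) (.node (.node (.node (.node (.leaf 0x96ae5006) (.leaf 0x94335006)) (.node (.leaf 0xb0943000) (.leaf 0x206f4700a))) (.node (.node (.leaf 0x3ce53b024) (.leaf 0x4a028b08a)) (.node (.leaf 0x86afc7020) (.leaf 0x2bbf4b0a6)))) (.node (.node (.node (.leaf 0x1c8bcb144) (.leaf 0x2a247b09a)) (.node (.leaf 0x3ae509004) (.leaf 0x79d0b042))) (.node (.node (.leaf 0x850ab0cc) (.leaf 0x560b0502a)) (.node (.leaf 0x1a73d901a) (.leaf 0x6c23a7026)))))) (.node (.node (.node (.node (.node (.leaf 0x18e077010) (.leaf 0x1fc065006)) (.node (.leaf 0x58c8db0a2) (.leaf 0x312b39046))) (.node (.node (.leaf 0xbb78b05a) (.leaf 0xce229036)) (.node (.leaf 0x444b7000) (.leaf 0x143347034)))) (.node (.node (.node (.leaf 0x110129044) (.leaf 0xfeb4b062)) (.node (.leaf 0x78231b01e)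 (.leaf 0x10c0c700a))) (.node (.node (.leaf 0x2bea4b0cc) (.leaf 0x1b757b090)) (.node (.leaf 0x9ed0eb00a) (.leaf 0x16e34b0a2))))) (.node (.node (.node (.node (.leaf 0x40193b01e) (.leaf 0x5ab5f9014)) (.node (.leaf 0x517cbb09c) (.leaf 0x94c74901a))) (.node (.node (.leaf 0x717913000) (.leaf 0x4fcbb002)) (.node (.leaf 0x2509b2dc) (.leaf 0x94ee500a)))) (.node (.node (.node (.leaf 0x4eb487020) (.leaf 0x493b47006)) (.node (.leaf 0x55ed5900a) (.leaf 0x1015c904e))) (.node (.node (.leaf 0x54417014) (.leaf 0x19347034)) (.node (.leaf 0x1c634b00c) (.leaf 0x654b184)))))))))) (.node (.node (.node (.node (.node (.node (.node (.node (.node (.leaf 0xcb69014) (.leaf 0x1b6027002)) (.node (.leaf 0xb3443002) (.leaf 0x66224b1fe))) (.node (.node (.leaf 0x6bbb9036) (.leaf 0x58669b0a2)) (.node (.leaf 0x11f84900e) (.leaf 0x82dbb0a6)))) (.node (.node (.node (.leaf 0xf24b9024) (.leaf 0x50b569016)) (.node (.leaf 0x6dcc900e) (.leaf 0x14e7d904e)))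 (.node (.node (.leaf 0xbf3a3002) (.leaf 0x42277026)) (.node (.leaf 0x1cc387030) (.leaf 0x397c9016))))) (.node (.node (.node (.node (.leaf 0xcb17006) (.leaf 0x4545e9002)) (.node (.leaf 0x1e9069030) (.leaf 0x7605cb0a6))) (.node (.node (.leaf 0x348bbb086) (.leaf 0x2f995b002)) (.node (.leaf 0x6bfebb17a) (.leaf 0xf5257024)))) (.node (.node (.node (.leaf 0x25bc6b0fc) (.leaf 0x2cbca7026)) (.node (.leaf 0x1dafa905a) (.leaf 0x2bbbe502a))) (.node (.node (.leaf 0xad5e9004) (.leaf 0x302e15014)) (.node (.leaf 0xc32b7b0cc) (.leaf 0x2c4c9b014)))))) (.node (.node (.node (.node (.node (.leaf 0x1d406b05a) (.leaf 0x813417030)) (.node (.leaf 0x335fbb05c) (.leaf 0x3543f9030))) (.node (.node (.leaf 0x12a90b14e) (.leaf 0x1f0d700a)) (.node (.leaf 0x5ca4eb090) (.leaf 0x682de5004)))) (.node (.node (.node (.leaf 0x11f7037042) (.leaf 0x2a44b14e)) (.node (.leaf 0x1b2d27002) (.leaf 0x1df47905a))) (.node (.node (.leaf 0xa85a7034) (.leaf 0x10c68b062))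 (.node (.leaf 0x1146b9036) (.leaf 0x4551f9002))))) (.node (.node (.node (.node (.leaf 0x273d3704e) (.leaf 0x4d4e1b0d6)) (.node (.leaf 0xd047024) (.leaf 0x1d7d2905a))) (.node (.node (.leaf 0x49c1b042) (.leaf 0x483dc900e)) (.node (.leaf 0xf357900c) (.leaf 0x8569b00a)))) (.node (.node (.node (.leaf 0x25dcb2dc) (.leaf 0x8788ab0a2)) (.node (.leaf 0xa1960b084) (.leaf 0x4538e9002))) (.node (.node (.leaf 0x5636ab090) (.leaf 0x550809014)) (.node (.leaf 0xa1d77006) (.leaf 0x30aa2b090))))))) (.node (.node (.node (.node (.node (.node (.leaf 0x1ceb0b050) (.leaf 0x3863900c)) (.node (.leaf 0x6a781b05a) (.leaf 0x2e4d57000))) (.node (.node (.leaf 0x1660db0a2) (.leaf 0x2aa7d7020)) (.node (.leaf 0xc2d9016) (.leaf 0x13a44b17a)))) (.node (.node (.node (.leaf 0x19a6eb09c) (.leaf 0x652119024)) (.node (.leaf 0x9bd0b090) (.leaf 0x3a0f7004))) (.node (.node (.leaf 0x17cd5704e) (.leaf 0x38f4c704e)) (.node (.leaf 0x4d86b06a) (.leaf 0x13bd1b17a)))))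 (.node (.node (.node (.node (.leaf 0x29fcbb2dc) (.leaf 0x579e704e)) (.node (.leaf 0x8b105002) (.leaf 0x5bd499014))) (.node (.node (.leaf 0x8fb059046) (.leaf 0x22dd0502a)) (.node (.leaf 0x4203c700e) (.leaf 0x50ceb7024)))) (.node (.node (.node (.leaf 0x79f37020) (.leaf 0xeeebb17a)) (.node (.leaf 0x49812900a) (.leaf 0x8338b00a))) (.node (.node (.leaf 0xa886c900a) (.leaf 0x8620502a)) (.node (.leaf 0x1456d700a) (.leaf 0x17d8590c6)))))) (.node (.node (.node (.node (.node (.leaf 0x1cfe77000) (.leaf 0x1b1355006)) (.node (.leaf 0x7d654b00a) (.leaf 0xc51ecb0cc))) (.node (.node (.leaf 0x12f48b2dc) (.leaf 0xe06bb17a)) (.node (.leaf 0x1da0bb05a) (.leaf 0x56cc15000)))) (.node (.node (.node (.leaf 0x1fa47b00a) (.leaf 0xa9659006)) (.node (.leaf 0xcc17905c) (.leaf 0x71633b05a))) (.node (.node (.leaf 0x220d8b00a) (.leaf 0x2e9cb0c0)) (.node (.leaf 0x2fb26b050) (.leaf 0xd6a6b0ea))))) (.node (.node (.node (.node (.leaf 0x10763b194)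 (.leaf 0xb992a9004)) (.node (.leaf 0x3ff79024) (.leaf 0xccc901c))) (.node (.node (.leaf 0x4090ab01e) (.leaf 0x784a0b01e)) (.node (.leaf 0x837735014) (.leaf 0xdc66b086)))) (.node (.node (.node (.leaf 0x9e80b090) (.leaf 0x339829044)) (.node (.leaf 0xa7f4900c) (.leaf 0x3b252b050))) (.node (.node (.leaf 0x95044905a) (.leaf 0x186d69046)) (.node (.leaf 0x5a5cd7034) (.leaf 0x165d904e)))))))) (.node (.node (.node (.node (.node (.node (.node (.leaf 0xd7c6b194) (.leaf 0x7c9db09a)) (.node (.leaf 0x22a31b00a) (.leaf 0xbe42905a))) (.node (.node (.leaf 0x10e83b086) (.leaf 0x28445b000)) (.node (.leaf 0x42e24b00c) (.leaf 0x5a9b690c6)))) (.node (.node (.node (.leaf 0x1f4c2b00a) (.leaf 0x14a31901a)) (.node (.leaf 0x1ee16905c) (.leaf 0x6147042))) (.node (.node (.leaf 0x1c67004) (.leaf 0x3376c9044)) (.node (.leaf 0x7685cb0cc) (.leaf 0x27f6d700a))))) (.node (.node (.node (.node (.leaf 0x10743b0ea) (.leaf 0x1de64b08a)) (.node (.leaf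 0xc141905c) (.leaf 0x639c69026))) (.node (.node (.leaf 0x24ce7b00a) (.leaf 0x93ddb090)) (.node (.leaf 0x2b6675006) (.leaf 0xd97fb0fc)))) (.node (.node (.node (.leaf 0x1be737002) (.leaf 0x6ec727024)) (.node (.leaf 0x153107026) (.leaf 0x106b704e))) (.node (.node (.leaf 0x72ed29016) (.leaf 0x5aab6900a)) (.node (.leaf 0xbedcb08a) (.leaf 0x3a469901a)))))) (.node (.node (.node (.node (.node (.leaf 0x8b8bb0a6) (.leaf 0xd30a5904e)) (.node (.leaf 0x719ceb05a) (.leaf 0x422cb014))) (.node (.node (.leaf 0x968db090) (.leaf 0x45088b00a)) (.node (.leaf 0xacd67042) (.leaf 0x46b61b056)))) (.node (.node (.node (.leaf 0x31299082) (.leaf 0x5bbc79082)) (.node (.leaf 0x284d7b050) (.leaf 0x2064bb194))) (.node (.node (.leaf 0x309d7042) (.leaf 0xea3bb17a)) (.node (.leaf 0x9912b00a) (.leaf 0x570b1901a))))) (.node (.node (.node (.node (.leaf 0xeb83b17a) (.leaf 0xbc2f905a)) (.node (.leaf 0x1ded43002) (.leaf 0x1e245b1d6))) (.node (.node (.leaf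 0x370cb7010) (.leaf 0x6477e9002)) (.node (.leaf 0x9f5ab00a) (.leaf 0x64fa900e)))) (.node (.node (.node (.leaf 0xb596b05a) (.leaf 0x8561b00a)) (.node (.leaf 0x413abb024) (.leaf 0x1f19ab00a))) (.node (.node (.leaf 0xc9cab10c) (.leaf 0x2b4f2500a)) (.node (.leaf 0x39aaab2dc) (.leaf 0x6a7523004))))))) (.node (.node (.node (.node (.node (.node (.leaf 0x4232b000) (.leaf 0x9ce7b00a)) (.node (.leaf 0xa3a900c) (.leaf 0x13651b17a))) (.node (.node (.leaf 0x13fc4b17a) (.leaf 0x3d89e90c6)) (.node (.leaf 0x6f6c3b090) (.leaf 0x223ceb0a6)))) (.node (.node (.node (.leaf 0x1f679b090) (.leaf 0x387f9014)) (.node (.leaf 0xa35e901c) (.leaf 0x7e3ab01c))) (.node (.node (.leaf 0x54d1db10c) (.leaf 0x7520b7030)) (.node (.leaf 0x662b99036) (.leaf 0x499429006))))) (.node (.node (.node (.node (.leaf 0x1f669b090) (.leaf 0x378d7024)) (.node (.leaf 0xac789024) (.leaf 0x857e9002))) (.node (.node (.leaf 0x74f29010) (.leaf 0x3405901c)) (.node (.leaf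 0x78aadb01e) (.leaf 0x1879b9026)))) (.node (.node (.node (.leaf 0x160b0b0a2) (.leaf 0xd7e9024)) (.node (.leaf 0x1961901a) (.leaf 0x6202b056))) (.node (.node (.leaf 0xdcc5b062) (.leaf 0x25e1fb086)) (.node (.leaf 0xfd249016) (.leaf 0x561fbb090)))))) (.node (.node (.node (.node (.node (.leaf 0x8709082) (.leaf 0x12f08b0c0)) (.node (.leaf 0x8ebf9002) (.leaf 0xe613b17a))) (.node (.node (.leaf 0x2cf0bb06a) (.leaf 0x4ede2b050)) (.node (.leaf 0xba4db08a) (.leaf 0x157b17020)))) (.node (.node (.node (.leaf 0x6c4bf7020) (.leaf 0x222839002)) (.node (.leaf 0x8a25f5006) (.leaf 0xa5289042))) (.node (.node (.leaf 0x1b741500e) (.leaf 0x5ebc700a)) (.node (.leaf 0x4051ab01e) (.leaf 0x22580b00a))))) (.node (.node (.node (.node (.leaf 0xbadbb05a) (.leaf 0x228729002)) (.node (.leaf 0xc5479030) (.leaf 0x33d72b1fe))) (.node (.node (.leaf 0x84a28b08a) (.leaf 0xeb93b17a)) (.node (.leaf 0x45ec9b00a) (.leaf 0x16d0db0a2)))) (.node (.node (.node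 (.leaf 0x8dae9002) (.leaf 0x107b8b7006)) (.node (.leaf 0x5c86fb090) (.leaf 0x836775004))) (.node (.node (.leaf 0x8d0ab0a6) (.leaf 0x55ac904e)) (.node (.leaf 0x823aeb0cc) (.leaf 0x243ddb090))))))))) (.node (.node (.node (.node (.node (.node (.node (.node (.leaf 0x48221b10c) (.leaf 0x2403db0a6)) (.node (.leaf 0x237777034) (.leaf 0x6e59b05c))) (.node (.node (.leaf 0xd1169042) (.leaf 0x19469b084)) (.node (.leaf 0x133d1b17a) (.leaf 0x5ff79014)))) (.node (.node (.node (.leaf 0x17f427042) (.leaf 0x39dbbb2dc)) (.node (.leaf 0x1baf9b00a) (.leaf 0x2bbd65004))) (.node (.node (.leaf 0xb9d5905a) (.leaf 0x966db0cc)) (.node (.leaf 0x1a14f900a) (.leaf 0x2f52db01c))))) (.node (.node (.node (.node (.leaf 0xd0a79006) (.leaf 0x13d5c69006)) (.node (.leaf 0x2aa159046) (.leaf 0x14827004))) (.node (.node (.leaf 0x983db0cc) (.leaf 0x2366b9004)) (.node (.leaf 0x78f5b050) (.leaf 0x13a94b17a)))) (.node (.node (.node (.leaf 0x8d877002) (.leaf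 0x19396b09c)) (.node (.leaf 0x142bd7006) (.leaf 0x4410b00c))) (.node (.node (.leaf 0xcc1b9044) (.leaf 0x2d7769010)) (.node (.leaf 0x7b0489004) (.leaf 0x2346b901c)))))) (.node (.node (.node (.node (.node (.leaf 0xe86bb17a) (.leaf 0x236799024)) (.node (.leaf 0x1496c9082) (.leaf 0x47c6d9016))) (.node (.node (.leaf 0x10eed7034) (.leaf 0x2a0f87010)) (.node (.leaf 0x162b5b0a2) (.leaf 0x30a0904e)))) (.node (.node (.node (.leaf 0xb16d905a) (.leaf 0x17f0a7014)) (.node (.leaf 0x11ea9b10c) (.leaf 0x12718b0c0))) (.node (.node (.leaf 0x9660b0a6) (.leaf 0x1f69cb0a6)) (.node (.leaf 0x5c9d15010) (.leaf 0x40b87b01e))))) (.node (.node (.node (.node (.leaf 0x16f25b0a2) (.leaf 0x8f177002)) (.node (.leaf 0x1528901c) (.leaf 0x30d92b0cc))) (.node (.node (.leaf 0x20d5a90c6) (.leaf 0x2bbb35004)) (.node (.leaf 0xa4b79b084) (.leaf 0x74427000)))) (.node (.node (.node (.leaf 0xfa18700a) (.leaf 0x5c097024)) (.node (.leaf 0x9bf425000) (.leaf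 0x16a48b0a2))) (.node (.node (.leaf 0x24e6db0a6) (.leaf 0x4f4e8901c)) (.node (.leaf 0x1d284905a) (.leaf 0x79a359030))))))) (.node (.node (.node (.node (.node (.node (.leaf 0x605fdb1d6) (.leaf 0xd7d07034)) (.node (.leaf 0xae75900a) (.leaf 0x2a573b00c))) (.node (.node (.leaf 0x71711905a) (.leaf 0x33008905c)) (.node (.leaf 0xf71904e) (.leaf 0x15d1b700e)))) (.node (.node (.node (.leaf 0x4ea14b06a) (.leaf 0x1ac147014)) (.node (.leaf 0x1ff07042) (.leaf 0xb444300e))) (.node (.node (.leaf 0x514c3b036) (.leaf 0x8367f500e)) (.node (.leaf 0x209997014) (.leaf 0x235927006))))) (.node (.node (.node (.node (.leaf 0x9297b7014) (.leaf 0x69127b0d6)) (.node (.leaf 0x376ccb050) (.leaf 0x65522700a))) (.node (.node (.leaf 0xc7b59044) (.leaf 0x18399016)) (.node (.leaf 0x68d66502a) (.leaf 0x25aad7034)))) (.node (.node (.node (.leaf 0x3c06704e) (.leaf 0x32a4eb144)) (.node (.leaf 0x678ab9002) (.leaf 0x4a5e4b05a))) (.node (.node (.leaf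 0xf908904e) (.leaf 0x54610b056)) (.node (.leaf 0x2b36d7002) (.leaf 0x6e04b1fe)))))) (.node (.node (.node (.node (.node (.leaf 0x9030b0cc) (.leaf 0x48b79026)) (.node (.leaf 0x5891901c) (.leaf 0x4e08700e))) (.node (.node (.leaf 0x2a4ebb144) (.leaf 0x3dabfb194)) (.node (.leaf 0x1729a901c) (.leaf 0x3495a9006)))) (.node (.node (.node (.leaf 0x14fd07024) (.leaf 0x1f959b0a6)) (.node (.leaf 0x452277002) (.leaf 0x67d5a9002))) (.node (.node (.leaf 0x1d840300a) (.leaf 0x2d9edb09a)) (.node (.leaf 0x1bb98502a) (.leaf 0x6c829b050))))) (.node (.node (.node (.node (.leaf 0x1bfc8b00a) (.leaf 0x1f949b0a6)) (.node (.leaf 0x17a189024) (.leaf 0x1e85c9030))) (.node (.node (.leaf 0x8410500e) (.leaf 0x14b92900c)) (.node (.leaf 0x40742b01e) (.leaf 0x1af849004)))) (.node (.node (.node (.leaf 0x8d41500e) (.leaf 0xa207700a)) (.node (.leaf 0xccebb1fe) (.leaf 0x9e60b0cc))) (.node (.node (.leaf 0x1b7c6b0a6) (.leaf 0x37b7b9000)) (.node (.leaf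 0xa21700a) (.leaf 0x14a6e9014)))))))) (.node (.node (.node (.node (.node (.node (.node (.leaf 0x3f9a7b0d6) (.leaf 0x17c9a9004)) (.node (.leaf 0x141807042) (.leaf 0x3664901a))) (.node (.node (.leaf 0x119419036) (.leaf 0x18e07024)) (.node (.leaf 0x2234a7002) (.leaf 0x2bcf25014)))) (.node (.node (.node (.leaf 0x60199036) (.leaf 0x12758b2dc)) (.node (.leaf 0x23405900c) (.leaf 0xa360c700e))) (.node (.node (.leaf 0x1273e65006) (.leaf 0x51597042)) (.node (.leaf 0x8bd67002) (.leaf 0xb014905a))))) (.node (.node (.node (.node (.leaf 0x9d655b05a) (.leaf 0x24030b0cc)) (.node (.leaf 0x170b37006) (.leaf 0x387367006))) (.node (.node (.leaf 0x13c14b17a) (.leaf 0x2eb217026)) (.node (.leaf 0x10bb17014) (.leaf 0x214c5b0d6)))) (.node (.node (.node (.leaf 0x268cb0c0) (.leaf 0x173a9024)) (.node (.leaf 0xd7806904e) (.leaf 0x85a70b08a))) (.node (.node (.leaf 0x16e98b0a2) (.leaf 0x6b943b17a)) (.node (.leaf 0x11f29014) (.leaf 0x15d3c7010))))))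 (.node (.node (.node (.node (.node (.leaf 0x14a399016) (.leaf 0xd2f7900a)) (.node (.leaf 0x20b9b9042) (.leaf 0x2be965000))) (.node (.node (.leaf 0x16025b0a2) (.leaf 0x1a46900c)) (.node (.leaf 0x8e467002) (.leaf 0x11301b05c)))) (.node (.node (.node (.leaf 0x2c99db00c) (.leaf 0x67f1b10c)) (.node (.leaf 0x10b219004) (.leaf 0x1c2179010))) (.node (.node (.leaf 0x158547000) (.leaf 0x22c9a7002)) (.node (.leaf 0x523e1b024) (.leaf 0x5a477004))))) (.node (.node (.node (.node (.leaf 0x2b9a89002) (.leaf 0xb3d387026)) (.node (.leaf 0x169b5b0a2) (.leaf 0x4206ab06a))) (.node (.node (.leaf 0x1b137b0a6) (.leaf 0x731ff901c)) (.node (.leaf 0x25e1e900a) (.leaf 0x3a4619016)))) (.node (.node (.node (.leaf 0x13e81b17a) (.leaf 0xc0119030)) (.node (.leaf 0xd1f790c6) (.leaf 0x18f4b7026))) (.node (.node (.leaf 0x179567034) (.leaf 0x235fb7014)) (.node (.leaf 0x153cbb144) (.leaf 0xe393b17a))))))) (.node (.node (.node (.node (.node (.node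 (.leaf 0x2466db0cc) (.leaf 0xad7590c6)) (.node (.leaf 0xdb249004) (.leaf 0x7cda9000))) (.node (.node (.leaf 0x41429046) (.leaf 0x277507042)) (.node (.leaf 0x5c1cfb0cc) (.leaf 0xee03b17a)))) (.node (.node (.node (.leaf 0x642bb1d6) (.leaf 0x75c1fb144)) (.node (.leaf 0x48004b1fe) (.leaf 0x12fc0b14e))) (.node (.node (.leaf 0x158cc9000) (.leaf 0xbbc8f9046)) (.node (.leaf 0xe23bb17a) (.leaf 0x2dccb2dc))))) (.node (.node (.node (.node (.leaf 0x86d55006) (.leaf 0xbae3300a)) (.node (.leaf 0x4128fb0d6) (.leaf 0xe383b17a))) (.node (.node (.leaf 0x21a44b024) (.leaf 0x17af4900c)) (.node (.leaf 0x903db0a6) (.leaf 0x6a15fb08a)))) (.node (.node (.node (.leaf 0x204c57034) (.leaf 0x256419004)) (.node (.leaf 0x22404500a) (.leaf 0x1bbd0b00a))) (.node (.node (.leaf 0x2eff19026) (.leaf 0x1c8cf7010)) (.node (.leaf 0x89c45006) (.leaf 0x24830b0a6)))))) (.node (.node (.node (.node (.node (.leaf 0x575901a) (.leaf 0x5f6f9024)) (.node (.leaf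 0x2ad309010) (.leaf 0x805c37020))) (.node (.node (.leaf 0x70416b1d6) (.leaf 0x1036a6901c)) (.node (.leaf 0x2925ab2dc) (.leaf 0xb0f704e)))) (.node (.node (.node (.leaf 0x4abccb05a) (.leaf 0x258917014)) (.node (.leaf 0x26f7d9036) (.leaf 0x3ef0700a))) (.node (.node (.leaf 0x4b78db14e) (.leaf 0x23d2c9006)) (.node (.leaf 0xa565704e) (.leaf 0x7fc2b002))))) (.node (.node (.node (.node (.leaf 0xdbb47014) (.leaf 0x3597d9030)) (.node (.leaf 0x1c7c9082) (.leaf 0xe7bbb17a))) (.node (.node (.leaf 0x428b0b014) (.leaf 0x170d59006)) (.node (.leaf 0x1a9d7006) (.leaf 0x8a385042)))) (.node (.node (.node (.leaf 0x2c14b14e) (.leaf 0x1e113b05c)) (.node (.leaf 0x5edb900c) (.leaf 0x8384500a))) (.node (.node (.leaf 0x5d659082) (.leaf 0xa7f21300a)) (.node (.leaf 0x45f667002) (.leaf 0x1b7d6b0a6))))))))))) (.node (.node (.node (.node (.node (.node (.node (.node (.node (.node (.leaf 0x28f59b086) (.leaf 0x4bdc5b0c0)) (.node (.leaf 0x4a0013000)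 (.leaf 0x624907002))) (.node (.node (.leaf 0x5addb7020) (.leaf 0x3bb6c9042)) (.node (.leaf 0xe77bb17a) (.leaf 0x1c19e900c)))) (.node (.node (.node (.leaf 0x1125ab064) (.leaf 0x3700f9006)) (.node (.leaf 0x238bc9026) (.leaf 0x4cda69002))) (.node (.node (.leaf 0x7d525b0c6) (.leaf 0xb4ba905a)) (.node (.leaf 0x270cb0c0) (.leaf 0x2e304b0ea))))) (.node (.node (.node (.node (.leaf 0x1e36b000) (.leaf 0x1d1b4b08a)) (.node (.leaf 0x1b468b0c6) (.leaf 0x1d7beb05a))) (.node (.node (.leaf 0xe1c3b17a) (.leaf 0xb5bf905a)) (.node (.leaf 0x2839ab062) (.leaf 0xae5eb050)))) (.node (.node (.node (.leaf 0x9691b024) (.leaf 0x4e6cc9014)) (.node (.leaf 0xd4cbb002) (.leaf 0x1f6b7026))) (.node (.node (.leaf 0x15f039082) (.leaf 0x189247042)) (.node (.leaf 0xbd0cb08a) (.leaf 0x4dec75002)))))) (.node (.node (.node (.node (.node (.leaf 0x125c8b2dc) (.leaf 0x5fab6b08a)) (.node (.leaf 0x153929016) (.leaf 0x483e7004))) (.node (.node (.leaf 0x504e9026)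 (.leaf 0xa03475014)) (.node (.leaf 0x4ca12b0a6) (.leaf 0x6da50b2dc)))) (.node (.node (.node (.leaf 0x1acdab000) (.leaf 0xb992905a)) (.node (.leaf 0x5a2d700e) (.leaf 0x3297f901a))) (.node (.node (.leaf 0x4ba85b2dc) (.leaf 0x4c5769002)) (.node (.leaf 0x4f7339000) (.leaf 0x4a9cdb05a))))) (.node (.node (.node (.node (.leaf 0x38565b000) (.leaf 0xb907905a)) (.node (.leaf 0x103ce7010) (.leaf 0x502e47026))) (.node (.node (.leaf 0xedfbb17a) (.leaf 0x1cb329024)) (.node (.leaf 0x9487b0c6) (.leaf 0x733dbb144)))) (.node (.node (.node (.leaf 0x3459bb06a) (.leaf 0xb246b05a)) (.node (.leaf 0x21070b090) (.leaf 0x72acc7000))) (.node (.node (.leaf 0x19f4ab084) (.leaf 0x49647042)) (.node (.leaf 0x185e27004) (.leaf 0x687d6b0c6))))))) (.node (.node (.node (.node (.node (.node (.leaf 0x7a90904e) (.leaf 0x3f45fb090)) (.node (.leaf 0x182d6900c) (.leaf 0x158159014))) (.node (.node (.leaf 0x611a9b2dc) (.leaf 0x196b2b084)) (.node (.leaf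 0x31d07b194) (.leaf 0x3e7b57042)))) (.node (.node (.node (.leaf 0x18d609082) (.leaf 0xa4eacb036)) (.node (.leaf 0x12410b14e) (.leaf 0xd424b050))) (.node (.node (.leaf 0x3d71700e) (.leaf 0x225c2b024)) (.node (.leaf 0x56ac8b0c6) (.leaf 0x6203f5000))))) (.node (.node (.node (.node (.leaf 0x6bb2bb17a) (.leaf 0x108b77020)) (.node (.leaf 0xc70f1b084) (.leaf 0x5b25b00c))) (.node (.node (.leaf 0x274cb2dc) (.leaf 0x4e509082)) (.node (.leaf 0x1f862b0c6) (.leaf 0x10d09b09a)))) (.node (.node (.node (.leaf 0xddac7030) (.leaf 0x1d323b05a)) (.node (.leaf 0x166b3b0a2) (.leaf 0x32969026))) (.node (.node (.leaf 0x3b1c8900c) (.leaf 0x232a37030)) (.node (.leaf 0x13b04b17a) (.leaf 0x3cd2c5004)))))) (.node (.node (.node (.node (.node (.leaf 0x1cd619016) (.leaf 0x2294b14e)) (.node (.leaf 0x28439b194) (.leaf 0x34e5a7026))) (.node (.node (.leaf 0x3c04eb0cc) (.leaf 0x6a5a2b08a)) (.node (.leaf 0x13541b17a) (.leaf 0x19d5db036)))) (.node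 (.node (.node (.leaf 0x2a2c9b194) (.leaf 0x2d96290c6)) (.node (.leaf 0x16c23b0a2) (.leaf 0xbcddb08a))) (.node (.node (.leaf 0x4d42900c) (.leaf 0xb5ceeb0ea)) (.node (.leaf 0x11e19c905a) (.leaf 0xd047030))))) (.node (.node (.node (.node (.leaf 0x69804502a) (.leaf 0x59842b10c)) (.node (.leaf 0x3b4fe7034) (.leaf 0x1a1db042))) (.node (.node (.leaf 0x1108c0b0c0) (.leaf 0x41c69024)) (.node (.leaf 0xa6f663002) (.leaf 0x3c1005010)))) (.node (.node (.node (.leaf 0x59bdb144) (.leaf 0xa7f45b08a)) (.node (.leaf 0xf3de9010) (.leaf 0x27e439026))) (.node (.node (.leaf 0x47dff7000) (.leaf 0x2920bb0c0)) (.node (.leaf 0xb74bb05a) (.leaf 0x426cab0ea)))))))) (.node (.node (.node (.node (.node (.node (.node (.leaf 0x1d2d7905a) (.leaf 0x1cc387024)) (.node (.leaf 0x52db9046) (.leaf 0x27704b144))) (.node (.node (.leaf 0x4d44a500e) (.leaf 0x3b69b00c)) (.node (.leaf 0x14a9b7000) (.leaf 0xb724b08a)))) (.node (.node (.node (.leaf 0xafe335002)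 (.leaf 0x107ab06a)) (.node (.leaf 0x1578a901a) (.leaf 0x4c0195002))) (.node (.node (.leaf 0x2e6c4b086) (.leaf 0x4e417006)) (.node (.leaf 0x73c4c7000) (.leaf 0x64415b0c6))))) (.node (.node (.node (.node (.leaf 0x16adbb0a2) (.leaf 0x4dfea5042)) (.node (.leaf 0x86143904e) (.leaf 0x580beb0a2))) (.node (.node (.leaf 0x662c1b044) (.leaf 0x24df5b0d6)) (.node (.leaf 0x1e02bb044) (.leaf 0x1df02905a)))) (.node (.node (.node (.leaf 0x21c97b00a) (.leaf 0xf7fd6700e)) (.node (.leaf 0x141e7cb08a) (.leaf 0x18d129014))) (.node (.node (.leaf 0x2c0ca9006) (.leaf 0x34bc7b000)) (.node (.leaf 0x2f1bc7004) (.leaf 0x369e79036)))))) (.node (.node (.node (.node (.node (.leaf 0x63b002) (.leaf 0x1604bb0a2)) (.node (.leaf 0x2be39b0d6) (.leaf 0x3febeb090))) (.node (.node (.leaf 0xb8ea3002) (.leaf 0xc042b114)) (.node (.leaf 0x6773eb0d6) (.leaf 0xaccb9901c)))) (.node (.node (.node (.leaf 0x70c0700a) (.leaf 0x8e37000)) (.node (.leaf 0x12e88b0c0)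 (.leaf 0x1da6f905a))) (.node (.node (.leaf 0x8bd2b0d6) (.leaf 0x3907ab0c0)) (.node (.leaf 0x37a1b144) (.leaf 0x3d50b9046))))) (.node (.node (.node (.node (.leaf 0xf6d07b05a) (.leaf 0x3e1839024)) (.node (.leaf 0x62a6d7002) (.leaf 0x1f910b024))) (.node (.node (.leaf 0x6b283b17a) (.leaf 0x2dc159004)) (.node (.leaf 0x50ceb7030) (.leaf 0x1c3b0901c)))) (.node (.node (.node (.leaf 0x10fdeb01c) (.leaf 0x157b6904e)) (.node (.leaf 0x4a747024) (.leaf 0x446d9b036))) (.node (.node (.leaf 0x396f3b14e) (.leaf 0x1d12a905a)) (.node (.leaf 0x16ec7b0a2) (.leaf 0x31727b086))))))) (.node (.node (.node (.node (.node (.node (.leaf 0xbcf3b05a) (.leaf 0x3c639046)) (.node (.leaf 0x2f23f904e) (.leaf 0x69b829002))) (.node (.node (.leaf 0xc7b9000) (.leaf 0x65dbb114)) (.node (.leaf 0xa80eb7030) (.leaf 0x1ae69b042)))) (.node (.node (.node (.leaf 0x937fdb10c) (.leaf 0x13954b17a)) (.node (.leaf 0x18e2d9016) (.leaf 0x3fa845014))) (.node (.node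 (.leaf 0x7e04901a) (.leaf 0x1bdbfb0d6)) (.node (.leaf 0x52460b0cc) (.leaf 0x539e4b06a))))) (.node (.node (.node (.node (.leaf 0x3be3c9024) (.leaf 0x2891fb184)) (.node (.leaf 0x11a83b044) (.leaf 0x3ce8d5004))) (.node (.node (.leaf 0x177a9b002) (.leaf 0x65fcb064)) (.node (.leaf 0x1df8b014) (.leaf 0x18dac901c)))) (.node (.node (.node (.leaf 0xa904b000) (.leaf 0x414205006)) (.node (.leaf 0x408d9016) (.leaf 0x1c3287042))) (.node (.node (.leaf 0x13184b17a) (.leaf 0x323e07004)) (.node (.leaf 0x2e9a4b194) (.leaf 0xfb3f7020)))))) (.node (.node (.node (.node (.node (.leaf 0x14172bb05a) (.leaf 0xabe9b002)) (.node (.leaf 0x452a8b0c6) (.leaf 0x23afd7020))) (.node (.node (.leaf 0x2d7639042) (.leaf 0xe54ceb0fc)) (.node (.leaf 0xdccb050) (.leaf 0x2a244b0fc)))) (.node (.node (.node (.leaf 0x134c1b17a) (.leaf 0x54b1db044)) (.node (.leaf 0x159a77024) (.leaf 0x14fd07030))) (.node (.node (.leaf 0x586eab0a2) (.leaf 0x161afb0a2)) (.node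 (.leaf 0x103569010) (.leaf 0xcfb84905a))))) (.node (.node (.node (.node (.leaf 0xbd25b08a) (.leaf 0x748a29000)) (.node (.leaf 0x3986ab0c0) (.leaf 0x2ad77b184))) (.node (.node (.leaf 0x3c1715010) (.leaf 0xa72f7b05a)) (.node (.leaf 0x83a09b0d6) (.leaf 0x5a9c2b01c)))) (.node (.node (.node (.leaf 0x1673fb0a2) (.leaf 0x90357b09c)) (.node (.leaf 0x3e7487006) (.leaf 0x42fc901c))) (.node (.node (.leaf 0x3e6719082) (.leaf 0x253fa7010)) (.node (.leaf 0xccbdb064) (.leaf 0xe8abb17a))))))))) (.node (.node (.node (.node (.node (.node (.node (.node (.leaf 0x64f0db0c6) (.leaf 0x8307ab0c6)) (.node (.leaf 0xd073b01c) (.leaf 0x15e42b062))) (.node (.node (.leaf 0x3b067026) (.leaf 0x1c185700a)) (.node (.leaf 0x238059046) (.leaf 0xb359e904e)))) (.node (.node (.node (.leaf 0x3c80fb090) (.leaf 0x7f3d7024)) (.node (.leaf 0x13d41b17a) (.leaf 0x38657b09a))) (.node (.node (.leaf 0x274d37026) (.leaf 0x3529cb114)) (.node (.leaf 0x21e0db0a6)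 (.leaf 0xb8c4905a))))) (.node (.node (.node (.node (.leaf 0x7a979014) (.leaf 0xfafdb050)) (.node (.leaf 0x2759eb000) (.leaf 0x1a2ea9046))) (.node (.node (.leaf 0x2080a7026) (.leaf 0x26d07b114)) (.node (.leaf 0x1db2d905a) (.leaf 0x3db3fb06a)))) (.node (.node (.node (.leaf 0x144af20000) (.leaf 0x236387010)) (.node (.leaf 0xa62cf300a) (.leaf 0x52936b00a))) (.node (.node (.leaf 0x71117b08a) (.leaf 0x47ffe7020)) (.node (.leaf 0xdc637010) (.leaf 0x3dbb01c)))))) (.node (.node (.node (.node (.node (.leaf 0x498d3b06a) (.leaf 0x3bb39900a)) (.node (.leaf 0x603cdb114) (.leaf 0xc813b064))) (.node (.node (.leaf 0x6fad6b024) (.leaf 0x130d4b17a)) (.node (.leaf 0xbcac905a) (.leaf 0x6cd29901c)))) (.node (.node (.node (.leaf 0xe353b17a) (.leaf 0x19844b036)) (.node (.leaf 0x33b7b06a) (.leaf 0x567cfb024))) (.node (.node (.leaf 0xa099b500e) (.leaf 0xa0366500e)) (.node (.leaf 0xb91bab014) (.leaf 0x5274db090))))) (.node (.node (.node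 (.node (.leaf 0xe9d3b17a) (.leaf 0x7df5901c)) (.node (.leaf 0x91c219010) (.leaf 0x13304b17a))) (.node (.node (.leaf 0x7f83e7014) (.leaf 0x6c47d9082)) (.node (.leaf 0x4eb74b0ea) (.leaf 0x5c2fb06a)))) (.node (.node (.node (.leaf 0x25aca9000) (.leaf 0x3f29eb0cc)) (.node (.leaf 0x13d91b17a) (.leaf 0x58fbeb0a2))) (.node (.node (.leaf 0x1dc95905a) (.leaf 0x68bceb0c6)) (.node (.leaf 0x2c981b184) (.leaf 0x15cbdb086))))))) (.node (.node (.node (.node (.node (.node (.leaf 0xef7bb17a) (.leaf 0x141eb9010)) (.node (.leaf 0x139b289026) (.leaf 0x1b4efb0d6))) (.node (.node (.leaf 0x589e7026) (.leaf 0x95262b05a)) (.node (.leaf 0x72b089026) (.leaf 0x6cbc47006)))) (.node (.node (.node (.leaf 0x169697500e) (.leaf 0x159f7b184)) (.node (.leaf 0xe343b17a) (.leaf 0x295cab0c0))) (.node (.node (.leaf 0x56ecb042) (.leaf 0x194c7b084)) (.node (.leaf 0x16b23b0a2) (.leaf 0x7d899082))))) (.node (.node (.node (.node (.leaf 0xb200300a) (.leaf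 0xdbb05b10c)) (.node (.leaf 0xf9b307030) (.leaf 0x33d5b014))) (.node (.node (.leaf 0x4d3557002) (.leaf 0x69774500e)) (.node (.leaf 0xa738b06a) (.leaf 0x32e98b194)))) (.node (.node (.node (.leaf 0x4a81904e) (.leaf 0x4cfdf7002)) (.node (.leaf 0x2b786b0c6) (.leaf 0x418655002))) (.node (.node (.leaf 0x4292b900a) (.leaf 0x1139010)) (.node (.leaf 0x1c24700e) (.leaf 0xb5ae300a)))))) (.node (.node (.node (.node (.node (.leaf 0xcf266905a) (.leaf 0x5334eb050)) (.node (.leaf 0x41107b0a6) (.leaf 0x62f9f502a))) (.node (.node (.leaf 0x11fb4b064) (.leaf 0x29ed3b14e)) (.node (.leaf 0x95e8b0d6) (.leaf 0x473477010)))) (.node (.node (.node (.leaf 0x234b7b144) (.leaf 0x502087000)) (.node (.leaf 0xaa59bb144) (.leaf 0x28b0a9016))) (.node (.node (.leaf 0x1efb9026) (.leaf 0x36ba5b05c)) (.node (.leaf 0x18511904e) (.leaf 0x12698b0c0))))) (.node (.node (.node (.node (.leaf 0x27a7db042) (.leaf 0xd3ba7020)) (.node (.leaf 0xafdfd7002) (.leaf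 0x16db3b0a2))) (.node (.node (.leaf 0x6a34c3000) (.leaf 0x736f97020)) (.node (.leaf 0xbbee3006) (.leaf 0x3b429704e)))) (.node (.node (.node (.leaf 0x195bcb036) (.leaf 0x52b6bb00a)) (.node (.leaf 0x40d1700a) (.leaf 0x702d7042))) (.node (.node (.leaf 0xe5fbb17a) (.leaf 0x4e959b0fc)) (.node (.leaf 0x58146b0a2) (.leaf 0x7c9889000)))))))) (.node (.node (.node (.node (.node (.node (.node (.leaf 0x7b0b900c) (.leaf 0x50de7b00c)) (.node (.leaf 0x5986d9044) (.leaf 0x106a67000))) (.node (.node (.leaf 0x13cc1b17a) (.leaf 0xcf41fb05a)) (.node (.leaf 0x3ce5fb090) (.leaf 0x449dfb084)))) (.node (.node (.node (.leaf 0x803eb900c) (.leaf 0x903dab036)) (.node (.leaf 0x198afb084) (.leaf 0x27252b06a))) (.node (.node (.leaf 0xb045905a) (.leaf 0x1038d97000)) (.node (.leaf 0x198bd7905a) (.leaf 0x17e4ab014))))) (.node (.node (.node (.node (.leaf 0x33d53b044) (.leaf 0x53f87b042)) (.node (.leaf 0x32138b086) (.leaf 0x4e2b4b086))) (.node (.node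 (.leaf 0x165c7b0a2) (.leaf 0xfcb7010)) (.node (.leaf 0x19f4b144) (.leaf 0x1567db0ea)))) (.node (.node (.node (.leaf 0x1d93c905a) (.leaf 0x6756eb0d6)) (.node (.leaf 0x3d53b000) (.leaf 0x1edf3b114))) (.node (.node (.leaf 0x1cf73704e) (.leaf 0x281917004)) (.node (.leaf 0xe0abb17a) (.leaf 0x1ab30700e)))))) (.node (.node (.node (.node (.node (.leaf 0x313719004) (.leaf 0x71c3fb08a)) (.node (.leaf 0xa5ceb014) (.leaf 0x320b7b062))) (.node (.node (.leaf 0xc7cab044) (.leaf 0x6ed7ab014)) (.node (.leaf 0xa5e6b09a) (.leaf 0xc14b6700e)))) (.node (.node (.node (.leaf 0xb3fd905a) (.leaf 0x5ec1ab000)) (.node (.leaf 0x4f913b01c) (.leaf 0x143b0b09a))) (.node (.node (.leaf 0x2e24c7004) (.leaf 0x4c5e05042)) (.node (.leaf 0x2f5cb2dc) (.leaf 0x21c80b0cc))))) (.node (.node (.node (.node (.leaf 0x9541b024) (.leaf 0x13984b17a)) (.node (.leaf 0x123cb00c) (.leaf 0x27c4b14e))) (.node (.node (.leaf 0x13711b17a) (.leaf 0x7ea77004)) (.node (.leaf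 0x179b2b09a) (.leaf 0x6a8ab064)))) (.node (.node (.node (.leaf 0x740127010) (.leaf 0x1a28f9026)) (.node (.leaf 0x596bb000) (.leaf 0x8bc2b0d6))) (.node (.node (.leaf 0x2c512b0fc) (.leaf 0xb80c4b144)) (.node (.leaf 0x1d554905a) (.leaf 0x4dbbe5010))))))) (.node (.node (.node (.node (.node (.node (.leaf 0x41bea9002) (.leaf 0x26000b064)) (.node (.leaf 0x775c9016) (.leaf 0x1804b704e))) (.node (.node (.leaf 0xe15835004) (.leaf 0x41f57b0a6)) (.node (.leaf 0x4927704e) (.leaf 0xbffc300e)))) (.node (.node (.node (.leaf 0xf26435014) (.leaf 0x3df59b014)) (.node (.leaf 0xcc27020) (.leaf 0x2f6feb184))) (.node (.node (.leaf 0x55d3eb050) (.leaf 0x320cab184)) (.node (.leaf 0xbc3ba7006) (.leaf 0x4d7387002))))) (.node (.node (.node (.node (.leaf 0x21480b0a6) (.leaf 0x5ce23b024)) (.node (.leaf 0x1683fb0a2) (.leaf 0x1120bb114))) (.node (.node (.leaf 0x27018b014) (.leaf 0x22852b024)) (.node (.leaf 0x44427b084) (.leaf 0x4c95901a))))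 (.node (.node (.node (.leaf 0x300adb0c6) (.leaf 0x5d01b014)) (.node (.leaf 0x1a768b00c) (.leaf 0x10421b050))) (.node (.node (.leaf 0x1e469046) (.leaf 0x2fb49b0fc)) (.node (.leaf 0x1077e9000) (.leaf 0x6c7f17042)))))) (.node (.node (.node (.node (.node (.leaf 0x24432b0c6) (.leaf 0x6abea3004)) (.node (.leaf 0x2da53b0ea) (.leaf 0x7e507006))) (.node (.node (.leaf 0xa70373006) (.leaf 0x8404f3002)) (.node (.leaf 0x2160db0cc) (.leaf 0x4bfd5b2dc)))) (.node (.node (.node (.leaf 0x4e4b09a) (.leaf 0xfd6eb002)) (.node (.leaf 0x140fa7020) (.leaf 0x1e3e8b064))) (.node (.node (.leaf 0x3709eb0ea) (.leaf 0x18e25901a)) (.node (.leaf 0x2ab339082) (.leaf 0x6313b044))))) (.node (.node (.node (.node (.leaf 0x311b690c6) (.leaf 0x3290db0fc)) (.node (.leaf 0x4109b9002) (.leaf 0x1a2e0b144))) (.node (.node (.leaf 0x49e427026) (.leaf 0x3455db144)) (.node (.leaf 0xf5257030) (.leaf 0x2f1cb0c0)))) (.node (.node (.node (.leaf 0x62172500e) (.leaf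 0x84deb024)) (.node (.leaf 0x2a3729016) (.leaf 0x592839044))) (.node (.node (.leaf 0x2eb0f901a) (.leaf 0x17f11b01c)) (.node (.leaf 0x52d10b090) (.leaf 0x3ad887030)))))))))) (.node (.node (.node (.node (.node (.node (.node (.node (.node (.leaf 0xd5379026) (.leaf 0x36ca7b05c)) (.node (.leaf 0x2855f7042) (.leaf 0x2a3bf9004))) (.node (.node (.leaf 0x4b2d0b14e) (.leaf 0x1cfb1b062)) (.node (.leaf 0x21ef7500e) (.leaf 0x1228db14e)))) (.node (.node (.node (.leaf 0xb580b05a) (.leaf 0x45fbeb024)) (.node (.leaf 0x3fcd39002) (.leaf 0x851103002))) (.node (.node (.leaf 0x34f0eb002) (.leaf 0xf948b042)) (.node (.leaf 0xb256b905a) (.leaf 0x5f573905a))))) (.node (.node (.node (.node (.leaf 0x2c7509016) (.leaf 0x3676e9044)) (.node (.leaf 0xec92b17a) (.leaf 0x927ab0c6))) (.node (.node (.leaf 0x34db7020) (.leaf 0x74161700e)) (.node (.leaf 0x4a64f300a) (.leaf 0x1f16db024)))) (.node (.node (.node (.leaf 0x7ba44b144) (.leaf 0xb0c53000))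 (.node (.leaf 0x38abd7020) (.leaf 0x13729b17a))) (.node (.node (.leaf 0x215cb5006) (.leaf 0x27d9b0c0)) (.node (.leaf 0x762e90c6) (.leaf 0x3bda49014)))))) (.node (.node (.node (.node (.node (.leaf 0x18e07030) (.leaf 0x752e900a)) (.node (.leaf 0x287fc9006) (.leaf 0x2e2429004))) (.node (.node (.leaf 0xe0bab17a) (.leaf 0x40a6b086)) (.node (.leaf 0x22378b0c6) (.leaf 0x99252905a)))) (.node (.node (.node (.leaf 0x245e8b0d6) (.leaf 0x15de6700a)) (.node (.leaf 0x3fa9eb0a6) (.leaf 0x10f7fb000))) (.node (.node (.leaf 0xed12b17a) (.leaf 0x73cffb050)) (.node (.leaf 0x1d538b05a) (.leaf 0x2de5c9016))))) (.node (.node (.node (.node (.leaf 0x14423a0000) (.leaf 0x14afb002)) (.node (.leaf 0x71ce8905a) (.leaf 0x4a2f53006))) (.node (.node (.leaf 0x13abcb17a) (.leaf 0x2e02e7034)) (.node (.leaf 0x59e29010) (.leaf 0x4912e7010)))) (.node (.node (.node (.leaf 0x21206500a) (.leaf 0x17bd57026)) (.node (.leaf 0x25ed1b014) (.leaf 0x65f437030)))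 (.node (.node (.leaf 0x5f23e905a) (.leaf 0x14e179026)) (.node (.leaf 0x4a66b0ea) (.leaf 0xa9a7eb084))))))) (.node (.node (.node (.node (.node (.node (.leaf 0x1cb68b184) (.leaf 0x180c3b0fc)) (.node (.leaf 0x3be6b904e) (.leaf 0xb30b37034))) (.node (.node (.leaf 0x109f1b014) (.leaf 0x20926b01c)) (.node (.leaf 0x910b0b06a) (.leaf 0x1570199026)))) (.node (.node (.node (.leaf 0x4d24b184) (.leaf 0x29a4bb2dc)) (.node (.leaf 0x52f9e5004) (.leaf 0xe5eab17a))) (.node (.node (.leaf 0x5ac43b000) (.leaf 0x63749901c)) (.node (.leaf 0x1d961b05a) (.leaf 0x3d131b09a))))) (.node (.node (.node (.node (.leaf 0x28eb5900c) (.leaf 0x1b11ab024)) (.node (.leaf 0xef6ab17a) (.leaf 0x3fd2fb0a6))) (.node (.node (.leaf 0x282077014) (.leaf 0x71817034)) (.node (.leaf 0x1834ab194) (.leaf 0x3a9a6b06a)))) (.node (.node (.node (.leaf 0x8543b0d6) (.leaf 0x349569000)) (.node (.leaf 0x62297b00a) (.leaf 0xe3a9046))) (.node (.node (.leaf 0x1e1adb044)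 (.leaf 0x4c2415004)) (.node (.leaf 0x42a45904e) (.leaf 0xd810b144)))))) (.node (.node (.node (.node (.node (.leaf 0x2a1599042) (.leaf 0x84bffb08a)) (.node (.leaf 0x1975cb09c) (.leaf 0x39c2ab2dc))) (.node (.node (.leaf 0x8d72ab000) (.leaf 0x52d1c7002)) (.node (.leaf 0xb109b05a) (.leaf 0xb0a4db0d6)))) (.node (.node (.node (.leaf 0x2e2349042) (.leaf 0x494d77020)) (.node (.leaf 0xae867030) (.leaf 0x2a1667006))) (.node (.node (.leaf 0xadb59026) (.leaf 0x551299010)) (.node (.leaf 0x4fa54700e) (.leaf 0x3e663b086))))) (.node (.node (.node (.node (.leaf 0x172f7000) (.leaf 0x3c0ba7002)) (.node (.leaf 0x753d490c6) (.leaf 0x58733b0a2))) (.node (.node (.leaf 0x3dc729010) (.leaf 0x36ddeb1fe)) (.node (.leaf 0x16fd2b0a2) (.leaf 0xdfd8b00c)))) (.node (.node (.node (.leaf 0x4147d5000) (.leaf 0x6010ab064)) (.node (.leaf 0xfce7b000) (.leaf 0x37bcc901c))) (.node (.node (.leaf 0x2e41b14e) (.leaf 0xf6da7026)) (.node (.leaf 0x6b6aab17a)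 (.leaf 0x25ebbb000)))))))) (.node (.node (.node (.node (.node (.node (.node (.leaf 0x495db062) (.leaf 0x13f39b17a)) (.node (.leaf 0xfe6db014) (.leaf 0x435afb064))) (.node (.node (.leaf 0x1adf3b002) (.leaf 0xa66a8b05a)) (.node (.leaf 0xa73333004) (.leaf 0x62a8ab00a)))) (.node (.node (.node (.leaf 0x311cc904e) (.leaf 0x5bf37020)) (.node (.leaf 0x13aacb17a) (.leaf 0x18d6ab086))) (.node (.node (.leaf 0x907f9b084) (.leaf 0x3fa8eb0a6)) (.node (.leaf 0x6a4ef905a) (.leaf 0x5469b09a))))) (.node (.node (.node (.node (.leaf 0x3af75b042) (.leaf 0x413a7b090)) (.node (.leaf 0x1c1d2b0ea) (.leaf 0xb8b144))) (.node (.node (.leaf 0x13da9b17a) (.leaf 0x3daba7010)) (.node (.leaf 0x7cf43b09a) (.leaf 0x2e9c0900c)))) (.node (.node (.node (.leaf 0x163bab0a2) (.leaf 0x6ec727030)) (.node (.leaf 0x467e3b064) (.leaf 0x26e1db114))) (.node (.node (.leaf 0x3fc2b01c) (.leaf 0x8050b0c6)) (.node (.leaf 0x5a58cb042) (.leaf 0x3640c9030)))))) (.node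 (.node (.node (.node (.node (.leaf 0xb0a12b0c6) (.leaf 0x287a99042)) (.node (.leaf 0x7cf79b06a) (.leaf 0x1c312b086))) (.node (.node (.leaf 0x1606ab0a2) (.leaf 0x58497b0a2)) (.node (.leaf 0x1070997026) (.leaf 0xb3443000)))) (.node (.node (.node (.leaf 0x3218590c6) (.leaf 0x7e1b5b064)) (.node (.leaf 0x1d7153000) (.leaf 0x8418ab08a))) (.node (.node (.leaf 0x16d56b0a2) (.leaf 0x15a4090c6)) (.node (.leaf 0x2547cb042) (.leaf 0x5f139b08a))))) (.node (.node (.node (.node (.leaf 0x3d0a9010) (.leaf 0x29c1bb2dc)) (.node (.leaf 0x194e4b09c) (.leaf 0x6a242905a))) (.node (.node (.leaf 0x3c4505006) (.leaf 0x16986b0a2)) (.node (.leaf 0x1ef79000) (.leaf 0x1b85eb0d6)))) (.node (.node (.node (.leaf 0xe30b00c) (.leaf 0xbfa8b05a)) (.node (.leaf 0x81ecb9042) (.leaf 0x7d0f9042))) (.node (.node (.leaf 0x20021b09a) (.leaf 0x15410704e)) (.node (.leaf 0x9224b024) (.leaf 0xfd5517002))))))) (.node (.node (.node (.node (.node (.node (.leaf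 0x3adb2b000) (.leaf 0x1a884b050)) (.node (.leaf 0x12555b0c0) (.leaf 0x516a7010))) (.node (.node (.leaf 0x7ddf4b0c6) (.leaf 0x12115b2dc)) (.node (.leaf 0xd1957b084) (.leaf 0x23139b06a)))) (.node (.node (.node (.leaf 0xfd0bb06a) (.leaf 0xac5aab0fc)) (.node (.leaf 0x225b7b0d6) (.leaf 0x53c2a700e))) (.node (.node (.leaf 0xed02b17a) (.leaf 0x8e7a1b06a)) (.node (.leaf 0x7c657014) (.leaf 0x164aeb0a2))))) (.node (.node (.node (.node (.leaf 0x1051cb042) (.leaf 0x130241b14e)) (.node (.leaf 0x11161b114) (.leaf 0x14cf4b144))) (.node (.node (.leaf 0x1b701b0c6) (.leaf 0xe68700e)) (.node (.leaf 0x7ff59004) (.leaf 0x5b5949026)))) (.node (.node (.node (.leaf 0xbdb1b05a) (.leaf 0x22573b024)) (.node (.leaf 0x10bb27026) (.leaf 0x99f9026))) (.node (.node (.leaf 0x2c1347006) (.leaf 0x2499b2dc)) (.node (.leaf 0x83f67b0c6) (.leaf 0x4c7845010)))))) (.node (.node (.node (.node (.node (.leaf 0xbaaae7000) (.leaf 0xcf9e63000)) (.node (.leaf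 0x4a718905a) (.leaf 0x178527030))) (.node (.node (.leaf 0x1cdabb0fc) (.leaf 0x7c6fbb014)) (.node (.leaf 0xa2dc7020) (.leaf 0x283837034)))) (.node (.node (.node (.leaf 0x396db09a) (.leaf 0x18964b184)) (.node (.leaf 0x635f79024) (.leaf 0xaf324b0cc))) (.node (.node (.leaf 0x5816fb0a2) (.leaf 0x45bfb0fc)) (.node (.leaf 0x24b8fb0c6) (.leaf 0x7b58b9026))))) (.node (.node (.node (.node (.leaf 0x4e20b700a) (.leaf 0x254ffb06a)) (.node (.leaf 0x28bd79004) (.leaf 0xa6d51b05a))) (.node (.node (.leaf 0x4806b194) (.leaf 0x1028b050)) (.node (.leaf 0x41b045000) (.leaf 0x35112b044)))) (.node (.node (.node (.leaf 0x28df99024) (.leaf 0x49bf1b09a)) (.node (.leaf 0x4c5985004) (.leaf 0x33d27010))) (.node (.node (.leaf 0x23903b09a) (.leaf 0x52ab97002)) (.node (.leaf 0xec82b17a) (.leaf 0x9df5b0d6))))))))) (.node (.node (.node (.node (.node (.node (.node (.node (.leaf 0x71bfb0ea) (.leaf 0x12905b2dc)) (.node (.leaf 0xedeab17a) (.leaf 0x17c297000)))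 (.node (.node (.leaf 0x158109006) (.leaf 0x4f6c7014)) (.node (.leaf 0x344a67010) (.leaf 0x2a6b6700a)))) (.node (.node (.node (.leaf 0x214349002) (.leaf 0xd632b000)) (.node (.leaf 0xc0f7026) (.leaf 0x4bc48b0c0))) (.node (.node (.leaf 0x59e989036) (.leaf 0x5ffe1905a)) (.node (.leaf 0x185787034) (.leaf 0x31171901c))))) (.node (.node (.node (.node (.leaf 0x382bbb144) (.leaf 0x10c0f9046)) (.node (.leaf 0x47b8ab06a) (.leaf 0x5967ab1d6))) (.node (.node (.leaf 0xbafaf7020) (.leaf 0xe76ab17a)) (.node (.leaf 0xd3900b050) (.leaf 0x164bab0a2)))) (.node (.node (.node (.leaf 0x84b84b05a) (.leaf 0x450e9b0c6)) (.node (.leaf 0x6528fb00c) (.leaf 0x19fdcdb00c))) (.node (.node (.leaf 0x2b5abb0c6) (.leaf 0x14c98b014)) (.node (.leaf 0xb572b08a) (.leaf 0x3c9955002)))))) (.node (.node (.node (.node (.node (.leaf 0x12d45b0c0) (.leaf 0x16656b0a2)) (.node (.leaf 0x1adf9010) (.leaf 0x319589016))) (.node (.node (.leaf 0x5c8d2b024) (.leaf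 0x99594905a)) (.node (.leaf 0xb31b042) (.leaf 0x64173b0d6)))) (.node (.node (.node (.leaf 0x42ca29014) (.leaf 0x2489b2dc)) (.node (.leaf 0x37629000) (.leaf 0x16f6ab0a2))) (.node (.node (.leaf 0x284ec900a) (.leaf 0xf7579046)) (.node (.leaf 0x49b467000) (.leaf 0x585a9000))))) (.node (.node (.node (.node (.leaf 0xcf1b33004) (.leaf 0x6c71bb086)) (.node (.leaf 0x27a97b002) (.leaf 0x1441b10000))) (.node (.node (.leaf 0x52f93500e) (.leaf 0x270407030)) (.node (.leaf 0x4cfc9004) (.leaf 0x6fd6bb0d6)))) (.node (.node (.node (.leaf 0x8ce9b900e) (.leaf 0x337ab002)) (.node (.leaf 0x9432b0c6) (.leaf 0x1725eb00c))) (.node (.node (.leaf 0x7f7fb086) (.leaf 0x6a74d905a)) (.node (.leaf 0x609c0b064) (.leaf 0x429a87024))))))) (.node (.node (.node (.node (.node (.node (.leaf 0xe512b17a) (.leaf 0x1d14fb08a)) (.node (.leaf 0x1bc19b0c6) (.leaf 0x31ba97024))) (.node (.node (.leaf 0xa3eb06a) (.leaf 0x2a6dc900a)) (.node (.leaf 0x866789024)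 (.leaf 0x28e0e700a)))) (.node (.node (.node (.leaf 0x551e67030) (.leaf 0x6df1b044)) (.node (.leaf 0xe8bab17a) (.leaf 0x176d99010))) (.node (.node (.leaf 0x4f7790c6) (.leaf 0x15477010)) (.node (.leaf 0xbc67b08a) (.leaf 0x37e75901a))))) (.node (.node (.node (.node (.leaf 0x21baf5000) (.leaf 0x43c85b064)) (.node (.leaf 0x95420b05a) (.leaf 0x7fe6b0fc))) (.node (.node (.leaf 0xff31b00c) (.leaf 0x7e72eb044)) (.node (.leaf 0x3812b700e) (.leaf 0x132bcb17a)))) (.node (.node (.node (.leaf 0x1607eb0a2) (.leaf 0x4877900a)) (.node (.leaf 0x52927000) (.leaf 0x8553b0d6))) (.node (.node (.leaf 0xa30a700e) (.leaf 0x323529004)) (.node (.leaf 0x389807000) (.leaf 0x428649082)))))) (.node (.node (.node (.node (.node (.leaf 0x21a065014) (.leaf 0x512a4b09c)) (.node (.leaf 0x7bdfb194) (.leaf 0xabf49046))) (.node (.node (.leaf 0x3f85a7002) (.leaf 0x4ca23b090)) (.node (.leaf 0x27e177000) (.leaf 0x2b93cb0d6)))) (.node (.node (.node (.leaf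 0xd9f4b014) (.leaf 0x1342cb17a)) (.node (.leaf 0x58aa3b0a2) (.leaf 0x2f4269004))) (.node (.node (.leaf 0x13db9b17a) (.leaf 0x180da9042)) (.node (.leaf 0x7a588b114) (.leaf 0xa9c50b036))))) (.node (.node (.node (.node (.leaf 0xf5a9b144) (.leaf 0x840a03000)) (.node (.leaf 0x2356bb050) (.leaf 0xb44339046))) (.node (.node (.leaf 0x1844b9006) (.leaf 0x652d7700e)) (.node (.leaf 0x3c454b00a) (.leaf 0x2178b5014)))) (.node (.node (.node (.leaf 0x4a1f6905a) (.leaf 0x5112b002)) (.node (.leaf 0x13f29b17a) (.leaf 0x6d055b14e))) (.node (.node (.leaf 0x15d6f9004) (.leaf 0xe492b17a)) (.node (.leaf 0x4ece2901c) (.leaf 0x9fc65b056)))))))) (.node (.node (.node (.node (.node (.node (.node (.leaf 0x5fa28905a) (.leaf 0x1f7fdb024)) (.node (.leaf 0xb98d6700e) (.leaf 0xa39ab144))) (.node (.node (.leaf 0x1fe04b0d6) (.leaf 0xe502b17a)) (.node (.leaf 0x218419002) (.leaf 0x1d8e2b08a)))) (.node (.node (.node (.leaf 0xfe39700e) (.leaf 0x74a85b014))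 (.node (.leaf 0xb51ab08a) (.leaf 0x155cd9042))) (.node (.node (.leaf 0x18c413700e) (.leaf 0x2f5be7042)) (.node (.leaf 0xee415b0a2) (.leaf 0xb2df0905a))))) (.node (.node (.node (.node (.leaf 0x2a5cc704e) (.leaf 0x32152901c)) (.node (.leaf 0x1423db042) (.leaf 0x437deb114))) (.node (.node (.leaf 0x7a8cb062) (.leaf 0x1536f901c)) (.node (.leaf 0x872ccb0a2) (.leaf 0xb1cb014)))) (.node (.node (.node (.leaf 0x2cba4700a) (.leaf 0x25cf5b00c)) (.node (.leaf 0x378d7030) (.leaf 0x3c2b5b00a))) (.node (.node (.leaf 0x19c7db09c) (.leaf 0x3f2a0500e)) (.node (.leaf 0x3cf239002) (.leaf 0xa3917010)))))) (.node (.node (.node (.node (.node (.leaf 0x5c097030) (.leaf 0xd946b06a)) (.node (.leaf 0x21f919002) (.leaf 0xa0697000))) (.node (.node (.leaf 0xd8a32905a) (.leaf 0x67708b0c6)) (.node (.leaf 0x1c92390c6) (.leaf 0x381089000)))) (.node (.node (.node (.leaf 0xae02b00c) (.leaf 0x144ff10000)) (.node (.leaf 0x9e72eb0c6) (.leaf 0x4b008b2dc)))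 (.node (.node (.leaf 0x50d0ab042) (.leaf 0x1bbe7020)) (.node (.leaf 0x28bec90c6) (.leaf 0x20ac17030))))) (.node (.node (.node (.node (.leaf 0x1157b01c) (.leaf 0x5ad0db144)) (.node (.leaf 0x3ac479026) (.leaf 0x920bc7000))) (.node (.node (.leaf 0xf10a9026) (.leaf 0x43187034)) (.node (.leaf 0x8058b0c6) (.leaf 0x3ccf39002)))) (.node (.node (.node (.leaf 0x3039bb0d6) (.leaf 0x2ce08901a)) (.node (.leaf 0x105229026) (.leaf 0xe482b17a))) (.node (.node (.leaf 0x9df4b024) (.leaf 0x14be77b08a)) (.node (.leaf 0x2ec21704e) (.leaf 0x6a8cc905a))))))) (.node (.node (.node (.node (.node (.node (.leaf 0x4c073b090) (.leaf 0x127ddb14e)) (.node (.leaf 0x3efd39042) (.leaf 0x107a5b00c))) (.node (.node (.leaf 0x3bfa7000) (.leaf 0x252fd700e)) (.node (.leaf 0x8480db05a) (.leaf 0x16f02b0a2)))) (.node (.node (.node (.leaf 0xcb30b114) (.leaf 0x1cb7c7034)) (.node (.leaf 0x5a9769026) (.leaf 0x24487b0c6))) (.node (.node (.leaf 0x4d279006) (.leaf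 0x17446700e)) (.node (.leaf 0x21a4c7002) (.leaf 0x4df49b090))))) (.node (.node (.node (.node (.leaf 0x50263b050) (.leaf 0x3b3fcb194)) (.node (.leaf 0x425719016) (.leaf 0x530619026))) (.node (.node (.leaf 0x1343cb17a) (.leaf 0xbe9fb08a)) (.node (.leaf 0x3505b050) (.leaf 0x19b15b09c)))) (.node (.node (.node (.leaf 0x1d8b7b08a) (.leaf 0x4ad69042)) (.node (.leaf 0x3f03b7002) (.leaf 0x9de5b0d6))) (.node (.node (.leaf 0x5ea2b9000) (.leaf 0x63164904e)) (.node (.leaf 0x212425004) (.leaf 0x6f39b114)))))) (.node (.node (.node (.node (.node (.leaf 0x13739b17a) (.leaf 0x7a450b044)) (.node (.leaf 0x4a08e3002) (.leaf 0x6a4693006))) (.node (.node (.leaf 0x925719046) (.leaf 0x1062db144)) (.node (.leaf 0x302fcb0c6) (.leaf 0x4ec20900c)))) (.node (.node (.node (.leaf 0xa3e19000) (.leaf 0x1feffb0c6)) (.node (.leaf 0x24691b024) (.leaf 0x27c9b0c0))) (.node (.node (.leaf 0x2a5dc90c6) (.leaf 0x1875b900a)) (.node (.leaf 0x129d84500e)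 (.leaf 0x70ab000))))) (.node (.node (.node (.node (.leaf 0x41b36b0cc) (.leaf 0x3973bb2dc)) (.node (.leaf 0x3f3eb7002) (.leaf 0x33db1b114))) (.node (.node (.leaf 0x160d2b0a2) (.leaf 0x135a9b17a)) (.node (.leaf 0x15ab77042) (.leaf 0x283fc704e)))) (.node (.node (.node (.leaf 0x3c45cb00a) (.leaf 0x101062502a)) (.node (.leaf 0x149c77026) (.leaf 0x786db184))) (.node (.node (.leaf 0x46862b114) (.leaf 0x3600a905c)) (.node (.leaf 0x4a9cfb05a) (.leaf 0x17ef49046))))))))))))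

theorem cert0_0 : chunkB 0 cert0 0 = true := by decide +kernel

theorem cert0_1 : chunkB 0 cert0 1 = true := by decide +kernel

theorem cert0_2 : chunkB 0 cert0 2 = true := by decide +kernel

theorem cert0_3 : chunkB 0 cert0 3 = true := by decide +kernel

theorem cert0_4 : chunkB 0 cert0 4 = true := by decide +kernel

theorem cert0_5 : chunkB 0 cert0 5 = true := by decide +kernel

theorem cert0_6 : chunkB 0 cert0 6 = true := by decide +kernel

theorem cert0_7 : chunkB 0 cert0 7 = true := by decide +kernel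

theorem cert0_ok : ∀ k < 2048, itemB 0 cert0 k = true :=
  of_chunks cert0_0 cert0_1 cert0_2 cert0_3 cert0_4 cert0_5 cert0_6 cert0_7

end Cfsg.Agent.F4Square.Two
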