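import Cfsg.Agent.F4Square.Two.Setup

/-!
Certificates for the coset of the Weyl element number 1.
-/

set_option autoImplicit false
set_option maxRecDepth 100000
set_option maxHeartbeats 0
set_option Elab.async false

namespace Cfsg.Agent.F4Square.Two

/-- The certificates. -/
noncomputable def cert1 : Tree :=
  (.node (.node (.node (.node (.node (.node (.node (.node (.node (.node (.node (.leaf 0x267829014) (.leaf 0x2b181b090)) (.node (.leaf 0x359059004) (.leaf 0x2fa75b044))) (.node (.node (.leaf 0x31a79b086) (.leaf 0x54f99904e)) (.node (.leaf 0x3efd59024) (.leaf 0x2bedbb00a)))) (.node (.node (.node (.leaf 0xd72427010) (.leaf 0x15e2ed9030)) (.node (.leaf 0x9d3a5000) (.leaf 0x1878b700a))) (.node (.node (.leaf 0x153b2b114) (.leaf 0xdea900e)) (.node (.leaf 0x88fef9036) (.leaf 0x9e597002))))) (.node (.node (.node (.node (.leaf 0x506e67010) (.leaf 0x345eeb10c)) (.node (.leaf 0x94c75000) (.leaf 0x6863eb00a))) (.node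 (.node (.leaf 0x3af039036) (.leaf 0x367289046)) (.node (.leaf 0x2a15ab044) (.leaf 0x2b0d1b090)))) (.node (.node (.node (.leaf 0xff39b1fe) (.leaf 0x46f44901a)) (.node (.leaf 0x1cc827024) (.leaf 0x1332fb01e))) (.node (.node (.leaf 0x2abc3b064) (.leaf 0x48b81901a)) (.node (.leaf 0x266017006) (.leaf 0x16be9b0a2)))))) (.node (.node (.node (.node (.node (.leaf 0x83951b0cc) (.leaf 0x45df2b0c0)) (.node (.leaf 0x6bd1901a) (.leaf 0x94e65014))) (.node (.node (.leaf 0x3719f904e) (.leaf 0x149bab056)) (.node (.leaf 0x2436b0c6) (.leaf 0x27d0f9036)))) (.node (.node (.node (.leaf 0x38885b00c) (.leaf 0x20561905c)) (.node (.leaf 0x3871b1fe) (.leaf 0x9bc97002))) (.node (.node (.leaf 0x4f119006) (.leaf 0x12305b0d6)) (.node (.leaf 0x84b15b036) (.leaf 0x671a6b14e))))) (.node (.node (.node (.node (.leaf 0x13427b01e) (.leaf 0x43267042)) (.node (.leaf 0x8066fb184) (.leaf 0x10379036))) (.node (.node (.leaf 0x927b5014) (.leaf 0x2b093b00a))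 (.node (.leaf 0xbfffb084) (.leaf 0x52e35b2dc)))) (.node (.node (.node (.leaf 0x118292b14e) (.leaf 0x16179b0a2)) (.node (.leaf 0xaa8b67026) (.leaf 0x99180b09c))) (.node (.node (.leaf 0xcaa7b086) (.leaf 0x8a82b0c0)) (.node (.leaf 0x11fc900e) (.leaf 0x5040b10c))))))) (.node (.node (.node (.node (.node (.node (.leaf 0x3ffc9036) (.leaf 0x11189901a)) (.node (.leaf 0x367259000) (.leaf 0x3d6959044))) (.node (.node (.leaf 0xb6d52b086) (.leaf 0x4000900c)) (.node (.leaf 0x3704c7004) (.leaf 0x163ee3b09c)))) (.node (.node (.node (.leaf 0x92d49002) (.leaf 0xb198b036)) (.node (.leaf 0x5c617b2dc) (.leaf 0x20c8b9030))) (.node (.node (.leaf 0x4ddbcb14e) (.leaf 0x4370c904e)) (.node (.leaf 0x2d0c6901a) (.leaf 0xc876e901a))))) (.node (.node (.node (.node (.leaf 0x2e89b0d6) (.leaf 0xaa2c8b042)) (.node (.leaf 0x266fd9016) (.leaf 0x24d3a5000))) (.node (.node (.leaf 0x32307b114) (.leaf 0x29963b090)) (.node (.leaf 0xd945b1d6) (.leaf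 0x59eeeb042)))) (.node (.node (.node (.leaf 0x1f01e5006) (.leaf 0x1f76b5006)) (.node (.leaf 0xc9b0d9016) (.leaf 0x10d8037004))) (.node (.node (.leaf 0xf20bcb2dc) (.leaf 0x5b2db1fe)) (.node (.leaf 0x626f704e) (.leaf 0x1eda6b0ea)))))) (.node (.node (.node (.node (.node (.leaf 0x358de9006) (.leaf 0x66ee8901c)) (.node (.leaf 0xd516905c) (.leaf 0xa9ec700e))) (.node (.node (.leaf 0x10ea39030) (.leaf 0x1f032500e)) (.node (.leaf 0x13abab01e) (.leaf 0x254e2b10c)))) (.node (.node (.node (.leaf 0xbc47b084) (.leaf 0x137f2b01e)) (.node (.leaf 0x64563b0c0) (.leaf 0xbd01fb2dc))) (.node (.node (.leaf 0x442b3b036) (.leaf 0xf44b0b024)) (.node (.leaf 0x764ab062) (.leaf 0x9e049002))))) (.node (.node (.node (.node (.leaf 0x412e7014) (.leaf 0x1fed25042)) (.node (.leaf 0x769387002) (.leaf 0x55be39000))) (.node (.node (.leaf 0x3abcb05c) (.leaf 0x1713eb000)) (.node (.leaf 0x12f04b024) (.leaf 0xa2179026)))) (.node (.node (.node (.leaf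 0x16c1cb0a2) (.leaf 0x2e460b064)) (.node (.leaf 0x106e8b1d6) (.leaf 0x57a12900e))) (.node (.node (.leaf 0x24bc97002) (.leaf 0x22f8b024)) (.node (.leaf 0x3e5e37042) (.leaf 0x1b0ffb0c0)))))))) (.node (.node (.node (.node (.node (.node (.node (.leaf 0x1996900e) (.leaf 0x49aa19030)) (.node (.leaf 0xbaf0b036) (.leaf 0x57a8b05c))) (.node (.node (.leaf 0x5875db0a2) (.leaf 0x516b8b084)) (.node (.leaf 0x313b9b0ea) (.leaf 0x78964b01e)))) (.node (.node (.node (.leaf 0x22056b0c0) (.leaf 0x24cf19002)) (.node (.leaf 0x1b9afb0c0) (.leaf 0x91735010))) (.node (.node (.leaf 0x33881b062) (.leaf 0x3fe12b024)) (.node (.leaf 0x9f79ab042) (.leaf 0x4c716b024))))) (.node (.node (.node (.node (.leaf 0x19ce6b036) (.leaf 0x708039014)) (.node (.leaf 0x5be56b01c) (.leaf 0x94ee5010))) (.node (.node (.leaf 0xa57cb144) (.leaf 0x95ec7002)) (.node (.leaf 0x9e611b0a6) (.leaf 0x4f2a2900e)))) (.node (.node (.node (.leaf 0x595e7b050) (.leaf 0x1717a8b056))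 (.node (.leaf 0x3472b1d6) (.leaf 0x2306f9046))) (.node (.node (.leaf 0x25fe8b1d6) (.leaf 0x83dbb14e)) (.node (.leaf 0x2cf339004) (.leaf 0x7642d9002)))))) (.node (.node (.node (.node (.node (.leaf 0x43949042) (.leaf 0x15547b704e)) (.node (.leaf 0x9e8f5004) (.leaf 0xe68557002))) (.node (.node (.leaf 0x29ae15014) (.leaf 0x13f3fb01e)) (.node (.leaf 0xecb78b0ea) (.leaf 0x47168b1fe)))) (.node (.node (.node (.leaf 0xfb36b1d6) (.leaf 0x1bb9036)) (.node (.leaf 0x1e27fb0fc) (.leaf 0x10286b10c))) (.node (.node (.leaf 0x5586b7000) (.leaf 0x26bb47042)) (.node (.leaf 0x3ee61900c) (.leaf 0x608d904e))))) (.node (.node (.node (.node (.leaf 0x68045b090) (.leaf 0xa6a4b00c)) (.node (.leaf 0x1e8c6b194) (.leaf 0x19dfbb09c))) (.node (.node (.leaf 0x5e42e9030) (.leaf 0x9b7a5004)) (.node (.leaf 0x18ac1704e) (.leaf 0x15f29b064)))) (.node (.node (.node (.leaf 0x36b557010) (.leaf 0x1abec905c)) (.node (.leaf 0x360ad7000) (.leaf 0x16ce9b0a2)))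 (.node (.node (.leaf 0xdf0900e) (.leaf 0x402f4b17a)) (.node (.leaf 0x1117f704e) (.leaf 0x977c7002))))))) (.node (.node (.node (.node (.node (.node (.leaf 0x4a5a7034) (.leaf 0x2da8e9016)) (.node (.leaf 0x8e73e9010) (.leaf 0x515d6b036))) (.node (.node (.leaf 0xc887b194) (.leaf 0x28580b044)) (.node (.leaf 0x24b7a5004) (.leaf 0x1294b056)))) (.node (.node (.node (.leaf 0x8c464b01c) (.leaf 0xac529046)) (.node (.leaf 0x9cf19002) (.leaf 0x62b91b14e))) (.node (.node (.leaf 0x116c5904e) (.leaf 0x2477c7002)) (.node (.leaf 0x2bcfeb00a) (.leaf 0x20410b1d6))))) (.node (.node (.node (.node (.leaf 0xf34cb10c) (.leaf 0x39fa05000)) (.node (.leaf 0x582b056) (.leaf 0x5f4c4b09c))) (.node (.node (.leaf 0x7dec3b0c0) (.leaf 0x5ee89036)) (.node (.leaf 0xa6100b09c) (.leaf 0xfe9823000)))) (.node (.node (.node (.leaf 0xe24d99042) (.leaf 0x5a0ebb1fe)) (.node (.leaf 0x4dbe9004) (.leaf 0x133e2b01e))) (.node (.node (.leaf 0x24e8f5004) (.leaf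 0x43be901c)) (.node (.leaf 0xc08879026) (.leaf 0xc6eeb0fc)))))) (.node (.node (.node (.node (.node (.leaf 0x89bf0905a) (.leaf 0x7ca69b09a)) (.node (.leaf 0xd6e57b000) (.leaf 0x837c4b0a6))) (.node (.node (.leaf 0x2671a9024) (.leaf 0x310e7b184)) (.node (.leaf 0x5d889b01e) (.leaf 0x424c27014)))) (.node (.node (.node (.leaf 0x245ec7002) (.leaf 0x12782b0c6)) (.node (.leaf 0x3ea127006) (.leaf 0x4ca5ab0d6))) (.node (.node (.leaf 0x1afeb056) (.leaf 0x9f219002)) (.node (.leaf 0x3568e900a) (.leaf 0x145939036))))) (.node (.node (.node (.node (.leaf 0xc7eae3002) (.leaf 0x31594b0fc)) (.node (.leaf 0x2d17f9082) (.leaf 0x1d897b084))) (.node (.node (.leaf 0xdad5db184) (.leaf 0x106dfeb042)) (.node (.leaf 0x3e2bb7014) (.leaf 0x3a35cb056)))) (.node (.node (.node (.leaf 0x5d0ab1d6) (.leaf 0xcd8b056)) (.node (.leaf 0x37dce7024) (.leaf 0x631a4900a))) (.node (.node (.leaf 0xf3a49036) (.leaf 0x1a66e9030)) (.node (.leaf 0x1fa07502a)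 (.leaf 0x109b3905c))))))))) (.node (.node (.node (.node (.node (.node (.node (.node (.leaf 0x298e55004) (.leaf 0x48bad7006)) (.node (.leaf 0x7907ab0fc) (.leaf 0xb0002500e))) (.node (.node (.leaf 0x5eb3b056) (.leaf 0x172bc700e)) (.node (.leaf 0xbeb9b036) (.leaf 0x75459014)))) (.node (.node (.node (.leaf 0xb7a3cb014) (.leaf 0x12b15b0d6)) (.node (.leaf 0x35affb194) (.leaf 0xb27e5b09c))) (.node (.node (.leaf 0x13737b01e) (.leaf 0x1532ab044)) (.node (.leaf 0x3e348900a) (.leaf 0x6d62eb0c6))))) (.node (.node (.node (.node (.leaf 0x7a8b1901c) (.leaf 0x33ebf900a)) (.node (.leaf 0x71757004) (.leaf 0x4b373b0c6))) (.node (.node (.leaf 0x1159e9024) (.leaf 0x1da42b084)) (.node (.leaf 0x168a4b0a2) (.leaf 0x51933b09c)))) (.node (.node (.node (.leaf 0x227eb0c6) (.leaf 0x55c08b09a)) (.node (.leaf 0x81f799014) (.leaf 0x2a892b114))) (.node (.node (.leaf 0x17c739026) (.leaf 0xab69eb0ea)) (.node (.leaf 0xf68b1fe) (.leaf 0x22eceb14e))))))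 (.node (.node (.node (.node (.node (.leaf 0x78e7cb01e) (.leaf 0x575db056)) (.node (.leaf 0x4a41900a) (.leaf 0x6d999016))) (.node (.node (.leaf 0x2b431b0cc) (.leaf 0x312f17004)) (.node (.leaf 0xd75c9030) (.leaf 0x4b5d1b024)))) (.node (.node (.node (.leaf 0x115ba900c) (.leaf 0x1ac2bb05c)) (.node (.leaf 0x1383fb01e) (.leaf 0x290b95010))) (.node (.node (.leaf 0xa8e2b000) (.leaf 0x1388dcb0ea)) (.node (.leaf 0x50b8e7000) (.leaf 0x19b38b084))))) (.node (.node (.node (.node (.leaf 0x16c74b0a2) (.leaf 0x10f51ab0ea)) (.node (.leaf 0xbbd6b901c) (.leaf 0x2c70a700a))) (.node (.node (.leaf 0xf449b056) (.leaf 0x10d779044)) (.node (.leaf 0x6df2cb024) (.leaf 0x119f67004)))) (.node (.node (.node (.leaf 0x83e71b090) (.leaf 0x1546e8b2dc)) (.node (.leaf 0x3d9bb056) (.leaf 0x14f9b05c))) (.node (.node (.leaf 0x430cc7006) (.leaf 0x66f07042)) (.node (.leaf 0xae4257002) (.leaf 0x189b27014))))))) (.node (.node (.node (.node (.node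 (.node (.leaf 0x96bcd7042) (.leaf 0x25a4ab05c)) (.node (.leaf 0xc8179042) (.leaf 0x47118b056))) (.node (.node (.leaf 0x91225002) (.leaf 0x971a502a)) (.node (.leaf 0x48f5a9024) (.leaf 0xb6fab084)))) (.node (.node (.node (.leaf 0x8aa65b090) (.leaf 0x1a7a2b1fe)) (.node (.leaf 0x1f1625004) (.leaf 0x893a23002))) (.node (.node (.leaf 0x7b9a9016) (.leaf 0x1ca68b0ea)) (.node (.leaf 0x15cb821002) (.leaf 0x73951b00c))))) (.node (.node (.node (.node (.leaf 0x9e05eb00a) (.leaf 0x79613b086)) (.node (.leaf 0x5389cb050) (.leaf 0x265f5901a))) (.node (.node (.leaf 0x1a9009044) (.leaf 0xadf5b042)) (.node (.leaf 0x12667db09c) (.leaf 0x30b3900e)))) (.node (.node (.node (.leaf 0x6ba67004) (.leaf 0xc1669006)) (.node (.leaf 0x145f9b05c) (.leaf 0x3d52f905c))) (.node (.node (.leaf 0x1fe335010) (.leaf 0x45e7700a)) (.node (.leaf 0x2de1eb062) (.leaf 0x343fd9044)))))) (.node (.node (.node (.node (.node (.leaf 0x9a5b6b024) (.leaf 0x158f89b09c))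 (.node (.leaf 0xeb14bb2dc) (.leaf 0x1bc4eb0c0))) (.node (.node (.leaf 0x35c1fb086) (.leaf 0x695b10c)) (.node (.leaf 0x16051b0a2) (.leaf 0x1d24b1fe)))) (.node (.node (.node (.leaf 0x9ba34b0a6) (.leaf 0x23591b014)) (.node (.leaf 0x15c24b1002) (.leaf 0xd3cd7b1d6))) (.node (.node (.leaf 0xaefcd9002) (.leaf 0x2e99b0d6)) (.node (.leaf 0x40ba4b17a) (.leaf 0x11e057006))))) (.node (.node (.node (.node (.leaf 0x795b9082) (.leaf 0x32f9fb044)) (.node (.leaf 0xb741b036) (.leaf 0x5be5900e))) (.node (.node (.leaf 0x1f3e75004) (.leaf 0x6038901c)) (.node (.leaf 0x49383905c) (.leaf 0x556c3b01c)))) (.node (.node (.node (.leaf 0x12bd4b024) (.leaf 0x21188b0c0)) (.node (.leaf 0x5afc79030) (.leaf 0x3d320b1d6))) (.node (.node (.leaf 0x5dad1b01e) (.leaf 0x59177b014)) (.node (.leaf 0x48d929014) (.leaf 0x9cb97b062)))))))) (.node (.node (.node (.node (.node (.node (.node (.leaf 0x10bfeb05c) (.leaf 0x880ab14e)) (.node (.leaf 0x29ca85010)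 (.leaf 0x3ec4890c6))) (.node (.node (.leaf 0x14503b1d6) (.leaf 0xc2f99004)) (.node (.leaf 0x9d2fdb09c) (.leaf 0x10ad8cb184)))) (.node (.node (.node (.leaf 0x2ed2fb044) (.leaf 0xb1ac39014)) (.node (.leaf 0x111f87024) (.leaf 0xda13b05c))) (.node (.node (.leaf 0x75c5db064) (.leaf 0x5ed22b1fe)) (.node (.leaf 0x1849e7034) (.leaf 0x276c99036))))) (.node (.node (.node (.node (.leaf 0x1e9f7900a) (.leaf 0xf6bb1d6)) (.node (.leaf 0x107599030) (.leaf 0x189449024))) (.node (.node (.leaf 0x13c2fb01e) (.leaf 0x61d35b024)) (.node (.leaf 0x9ad9036) (.leaf 0x315f77024)))) (.node (.node (.node (.leaf 0x4460bb036) (.leaf 0x342799030)) (.node (.leaf 0x180629004) (.leaf 0x167a4b0a2))) (.node (.node (.leaf 0x6037db062) (.leaf 0x1673f8b0fc)) (.node (.leaf 0x1fd657002) (.leaf 0x1181b10c)))))) (.node (.node (.node (.node (.node (.leaf 0xcb8ceb0fc) (.leaf 0x2b261b0a6)) (.node (.leaf 0x74c61b1fe) (.leaf 0x1724e9046))) (.node (.node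 (.leaf 0x6b4d7006) (.leaf 0x2c464704e)) (.node (.leaf 0xb3d2b084) (.leaf 0x2e286b064)))) (.node (.node (.node (.leaf 0x8e30eb002) (.leaf 0x439a97042)) (.node (.leaf 0xd27a9044) (.leaf 0xae1187002))) (.node (.node (.leaf 0x18662901c) (.leaf 0x4fd49b05c)) (.node (.leaf 0x684c9082) (.leaf 0x494190c6))))) (.node (.node (.node (.node (.leaf 0x960db7004) (.leaf 0x7ec5b9024)) (.node (.leaf 0xa5c77026) (.leaf 0x4645c9016))) (.node (.node (.leaf 0x6c1b1b0ea) (.leaf 0xac961b0ea)) (.node (.leaf 0x47e06900e) (.leaf 0x2bc31b0a6)))) (.node (.node (.node (.leaf 0x346d6b05c) (.leaf 0xadb6b06a)) (.node (.leaf 0x1fdb57002) (.leaf 0xc0297014))) (.node (.node (.leaf 0x15b99036) (.leaf 0x13b27b01e)) (.node (.leaf 0xa3804900c) (.leaf 0x16b74b0a2))))))) (.node (.node (.node (.node (.node (.node (.leaf 0xe8db4b144) (.leaf 0x12dcab0c6)) (.node (.leaf 0x1ecb47014) (.leaf 0x6c0dbb184))) (.node (.node (.leaf 0x666a900c) (.leaf 0x66ee3704e))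 (.node (.leaf 0x148b99036) (.leaf 0x184149042)))) (.node (.node (.node (.leaf 0x9222500e) (.leaf 0x9a97500e)) (.node (.leaf 0x2bd74b0cc) (.leaf 0x571399036))) (.node (.node (.leaf 0x41d8ab024) (.leaf 0xd4d1cb0ea)) (.node (.leaf 0x36a29036) (.leaf 0x3d07f9030))))) (.node (.node (.node (.node (.leaf 0x9ea65006) (.leaf 0x933b5006)) (.node (.leaf 0x10707b1fe) (.leaf 0x1f0635014))) (.node (.node (.leaf 0x230fcb042) (.leaf 0x71ee904e)) (.node (.leaf 0x2bf24b0a6) (.leaf 0x14751b10c)))) (.node (.node (.node (.leaf 0x17c6cb144) (.leaf 0x1f3cd9002)) (.node (.leaf 0x40131b17a) (.leaf 0x15ced21002))) (.node (.node (.leaf 0xd5b09044) (.leaf 0x6e2f77000)) (.node (.leaf 0x221a7b0c0) (.leaf 0x77fc3905c)))))) (.node (.node (.node (.node (.node (.leaf 0x7e8897042) (.leaf 0x201a59044)) (.node (.leaf 0x2d19db0ea) (.leaf 0x1f55e5014))) (.node (.node (.leaf 0x7f82901a) (.leaf 0x5f4b900e)) (.node (.leaf 0x584e5b0a2) (.leaf 0x1841e3b056))))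 (.node (.node (.node (.leaf 0x111049082) (.leaf 0x3fa9900e)) (.node (.leaf 0x68a07024) (.leaf 0x16f51b0a2))) (.node (.node (.leaf 0xd0687b1fe) (.leaf 0x68878b0cc)) (.node (.leaf 0x8e5ab14e) (.leaf 0x4b11704e))))) (.node (.node (.node (.node (.leaf 0xa040b014) (.leaf 0xc57690c6)) (.node (.leaf 0x68a35b0a6) (.leaf 0x21ac8b2dc))) (.node (.node (.leaf 0x113a87042) (.leaf 0x316a39082)) (.node (.leaf 0x91425042) (.leaf 0x668e9024)))) (.node (.node (.node (.leaf 0x193d3b09c) (.leaf 0x1fabf5000)) (.node (.leaf 0x907ee3004) (.leaf 0x36f997026))) (.node (.node (.leaf 0x11e7b1d6) (.leaf 0x67569014)) (.node (.leaf 0x176e4b00c) (.leaf 0x8edb05c)))))))))) (.node (.node (.node (.node (.node (.node (.node (.node (.node (.leaf 0x2be965002) (.leaf 0x2460ab00a)) (.node (.leaf 0x553e29046) (.leaf 0x4f1e49044))) (.node (.node (.leaf 0x296869002) (.leaf 0x57b9ab1fe)) (.node (.leaf 0x134c6b01e) (.leaf 0xb859b09c)))) (.node (.node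 (.node (.leaf 0x425eb904e) (.leaf 0x498c5b1fe)) (.node (.leaf 0x2c9069016) (.leaf 0x3c485b0c6))) (.node (.node (.leaf 0xa068b09a) (.leaf 0x29d53b0a6)) (.node (.leaf 0x1e109030) (.leaf 0x508da7026))))) (.node (.node (.node (.node (.leaf 0x298079002) (.leaf 0xfbb05c)) (.node (.leaf 0x1aa6b9036) (.leaf 0x75800b114))) (.node (.node (.leaf 0x57d2a9044) (.leaf 0x3091ab0c0)) (.node (.leaf 0x25c9b900e) (.leaf 0x5d820b01e)))) (.node (.node (.node (.leaf 0xabe987024) (.leaf 0xcd66704e)) (.node (.leaf 0x4d421b0c0) (.leaf 0x24442b00a))) (.node (.node (.leaf 0x5ef18b056) (.leaf 0x31e999024)) (.node (.leaf 0x1f7c9b0cc) (.leaf 0x7f279004)))))) (.node (.node (.node (.node (.node (.leaf 0x4884a9042) (.leaf 0x68547034)) (.node (.leaf 0x35add7042) (.leaf 0x5d36db01e))) (.node (.node (.leaf 0x271d69044) (.leaf 0xfc34b1d6)) (.node (.leaf 0x3efb37024) (.leaf 0x9b49030)))) (.node (.node (.node (.leaf 0x45ab2b2dc) (.leaf 0x7a0ba9006))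 (.node (.leaf 0x66a82b086) (.leaf 0x3fdab10c))) (.node (.node (.leaf 0x5d29905c) (.leaf 0x3182f901c)) (.node (.leaf 0x4f8b901a) (.leaf 0x7e537034))))) (.node (.node (.node (.node (.leaf 0x207b7900e) (.leaf 0x1493a9044)) (.node (.leaf 0x3a7dc9044) (.leaf 0x69964b0c6))) (.node (.node (.leaf 0x81d2b2dc) (.leaf 0x3ce7905c)) (.node (.leaf 0x3f8a8b0c6) (.leaf 0x42a7f901a)))) (.node (.node (.node (.leaf 0x23c6e7010) (.leaf 0x839389002)) (.node (.leaf 0x296979002) (.leaf 0x4fb7904e))) (.node (.node (.leaf 0x31dbb7034) (.leaf 0x1634db0a2)) (.node (.leaf 0x2dea0704e) (.leaf 0x1ffd9b0a6))))))) (.node (.node (.node (.node (.node (.node (.leaf 0x10cdf900e) (.leaf 0x7e0da9006)) (.node (.leaf 0x467c7004) (.leaf 0x1111c7034))) (.node (.node (.leaf 0x9e79a5010) (.leaf 0x29e82b0a6)) (.node (.leaf 0x7cd9900c) (.leaf 0xd192900e)))) (.node (.node (.node (.leaf 0x175777000) (.leaf 0x357b79014)) (.node (.leaf 0x31cc99042) (.leaf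 0x3a2cb1d6))) (.node (.node (.leaf 0x342d905c) (.leaf 0x4088cb17a)) (.node (.leaf 0x7f009006) (.leaf 0x433bd7034))))) (.node (.node (.node (.node (.leaf 0x55d14b00c) (.leaf 0x12149044)) (.node (.leaf 0x281aab114) (.leaf 0x3d9f0b05c))) (.node (.node (.leaf 0x3af5ab1fe) (.leaf 0x35f05901c)) (.node (.leaf 0x393579002) (.leaf 0x1e77b05c)))) (.node (.node (.node (.leaf 0x1c145704e) (.leaf 0xf24b9030)) (.node (.leaf 0x127d8b0d6) (.leaf 0x62604b14e))) (.node (.node (.leaf 0x29a5cb00a) (.leaf 0x9000b090)) (.node (.leaf 0x4daa9b14e) (.leaf 0x58e01b0a2)))))) (.node (.node (.node (.node (.node (.leaf 0x1c31590c6) (.leaf 0xaab3b01c)) (.node (.leaf 0x9650b090) (.leaf 0x5f4a4b036))) (.node (.node (.leaf 0x2fc5b024) (.leaf 0x51e76b09c)) (.node (.leaf 0xa22b9010) (.leaf 0x485487014)))) (.node (.node (.node (.leaf 0x26cf4b184) (.leaf 0x63ed2b062)) (.node (.leaf 0x132b1fe) (.leaf 0x1e409904e))) (.node (.node (.leaf 0x6f33ab0c0)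 (.leaf 0x6e902b06a)) (.node (.leaf 0x33605700a) (.leaf 0x40509b17a))))) (.node (.node (.node (.node (.leaf 0x65169b050) (.leaf 0xdf4f29010)) (.node (.leaf 0x74722b05c) (.leaf 0x1a980b056))) (.node (.node (.leaf 0x13df3b01e) (.leaf 0x8a9747002)) (.node (.leaf 0x132ebb01e) (.leaf 0x3a2f89030)))) (.node (.node (.node (.leaf 0x5e78b1d6) (.leaf 0x23c29b09a)) (.node (.leaf 0xf44eb10c) (.leaf 0x39262b0a6))) (.node (.node (.leaf 0x52728b0c0) (.leaf 0x500c7b000)) (.node (.leaf 0x494c9014) (.leaf 0x617f900a)))))))) (.node (.node (.node (.node (.node (.node (.node (.leaf 0x8c693b144) (.leaf 0x1644db0a2)) (.node (.leaf 0x34e55900e) (.leaf 0x2900db00a))) (.node (.node (.leaf 0x3a543b05c) (.leaf 0x11bce9042)) (.node (.leaf 0x366d8b000) (.leaf 0x783a8b01e)))) (.node (.node (.node (.leaf 0x4352290c6) (.leaf 0x9442b00a)) (.node (.leaf 0x2ce5a904e) (.leaf 0x18864b0ea))) (.node (.node (.leaf 0x980db090) (.leaf 0x39119b00a))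 (.node (.leaf 0x2b2775006) (.leaf 0x5029044))))) (.node (.node (.node (.node (.leaf 0x296bc5002) (.leaf 0x1db89b09c)) (.node (.leaf 0xfa45905c) (.leaf 0x6ef937026))) (.node (.node (.leaf 0x5172b10c) (.leaf 0x27cf09030)) (.node (.leaf 0x70f19b184) (.leaf 0x370b190c6)))) (.node (.node (.node (.leaf 0x1bbbfb2dc) (.leaf 0xda30b056)) (.node (.leaf 0x5b3abb06a) (.leaf 0x204bb0c6))) (.node (.node (.leaf 0x130eb1fe) (.leaf 0x4e117b114)) (.node (.leaf 0x960ab00a) (.leaf 0x13196b01e)))))) (.node (.node (.node (.node (.node (.leaf 0x63d3cb0fc) (.leaf 0x166f0b0a2)) (.node (.leaf 0x47554905c) (.leaf 0x62389004))) (.node (.node (.leaf 0x2307eb01c) (.leaf 0x147a09030)) (.node (.leaf 0x7345a7000) (.leaf 0x5525c700e)))) (.node (.node (.node (.leaf 0x3d965b1fe) (.leaf 0x25435900e)) (.node (.leaf 0x2bbb65042) (.leaf 0xc104700a))) (.node (.node (.leaf 0x4adc3b084) (.leaf 0x793d49016)) (.node (.leaf 0x444beb036) (.leaf 0x47129082)))))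 (.node (.node (.node (.node (.leaf 0x9e5db090) (.leaf 0x128a1b024)) (.node (.leaf 0x1a7e9044) (.leaf 0x780e5b01e))) (.node (.node (.leaf 0xda360904e) (.leaf 0x60e87014)) (.node (.leaf 0x1157f9006) (.leaf 0x838c59002)))) (.node (.node (.node (.leaf 0x77b77014) (.leaf 0x3ff79030)) (.node (.leaf 0x4b939016) (.leaf 0x425679016))) (.node (.node (.leaf 0x25c0a9036) (.leaf 0x176ef9000)) (.node (.leaf 0x600a69014) (.leaf 0x77ff7042))))))) (.node (.node (.node (.node (.node (.node (.leaf 0x114609004) (.leaf 0x2f160b064)) (.node (.leaf 0x1f71cb0cc) (.leaf 0x64de9042))) (.node (.node (.leaf 0x468a57014) (.leaf 0x1e959700a)) (.node (.leaf 0x74f519044) (.leaf 0xd8539036)))) (.node (.node (.node (.leaf 0x76f46b00a) (.leaf 0x2548db056)) (.node (.leaf 0x27ea49044) (.leaf 0x4717db1d6))) (.node (.node (.leaf 0x18709b0fc) (.leaf 0x8af265004)) (.node (.leaf 0x1547f5b0c0) (.leaf 0x1c8b3700a))))) (.node (.node (.node (.node (.leaf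 0x34d4fb056) (.leaf 0x460359004)) (.node (.leaf 0x79ddd901c) (.leaf 0x3f0e3b024))) (.node (.node (.leaf 0x3ca46b0d6) (.leaf 0x81c2b2dc)) (.node (.leaf 0x230f69010) (.leaf 0x4c367024)))) (.node (.node (.node (.leaf 0x144d3b05c) (.leaf 0x2734fb05c)) (.node (.leaf 0x37de1704e) (.leaf 0x115b07014))) (.node (.node (.leaf 0x688265042) (.leaf 0x20625b056)) (.node (.leaf 0x22416b2dc) (.leaf 0x11e470b09c)))))) (.node (.node (.node (.node (.node (.leaf 0x3121c9006) (.leaf 0x896c73000)) (.node (.leaf 0x41b1fb0d6) (.leaf 0x1b2efb2dc))) (.node (.node (.leaf 0x1e20d901a) (.leaf 0x430319004)) (.node (.leaf 0x92b7b00a) (.leaf 0x106be9036)))) (.node (.node (.node (.leaf 0x7652cb090) (.leaf 0x1167379082)) (.node (.leaf 0xa57a7020) (.leaf 0x5fc33b084))) (.node (.node (.leaf 0x13fbbb01e) (.leaf 0x1cc15900a)) (.node (.leaf 0x25a63b056) (.leaf 0x7dcd9024))))) (.node (.node (.node (.node (.leaf 0xb3e1b09c) (.leaf 0x666f9006)) (.node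 (.leaf 0x50a5bb06a) (.leaf 0x91bfb00a))) (.node (.node (.leaf 0xb589044) (.leaf 0x335af704e)) (.node (.leaf 0x39ed8b00a) (.leaf 0x215cb0d6)))) (.node (.node (.node (.leaf 0x2a8a0b044) (.leaf 0x58791b0a2)) (.node (.leaf 0x7d27901c) (.leaf 0x34f7db056))) (.node (.node (.leaf 0x31fa77042) (.leaf 0x545c39006)) (.node (.leaf 0x24000b090) (.leaf 0x10b65900e))))))))) (.node (.node (.node (.node (.node (.node (.node (.node (.leaf 0x245b0b0a6) (.leaf 0x52938b2dc)) (.node (.leaf 0x10e40b10c) (.leaf 0x44aabb09c))) (.node (.node (.leaf 0x4008cb17a) (.leaf 0x7447cb1d6)) (.node (.leaf 0x58799030) (.leaf 0x13bc6b01e)))) (.node (.node (.node (.leaf 0x44c64b084) (.leaf 0x47c049030)) (.node (.leaf 0x1fbe9b090) (.leaf 0x245bdb0cc))) (.node (.node (.leaf 0x4dc9b0fc) (.leaf 0xb0b8b09c)) (.node (.leaf 0x1117eb086) (.leaf 0x1900905c))))) (.node (.node (.node (.node (.leaf 0xbc3b10c) (.leaf 0x64632b2dc)) (.node (.leaf 0x1fbf9b090)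 (.leaf 0x298e4500e))) (.node (.node (.leaf 0x4b66b184) (.leaf 0x234c6b002)) (.node (.leaf 0x76849b0a6) (.leaf 0x78bfdb01e)))) (.node (.node (.node (.leaf 0x9b09d7002) (.leaf 0x2fbf3b044)) (.node (.leaf 0x590859046) (.leaf 0x5cdab05c))) (.node (.node (.leaf 0x244edb0cc) (.leaf 0x38aea7000)) (.node (.leaf 0x34419044) (.leaf 0x3906f7002)))))) (.node (.node (.node (.node (.node (.leaf 0x4658cb062) (.leaf 0x3755f7006)) (.node (.leaf 0x21415b0c0) (.leaf 0xb2ffdb036))) (.node (.node (.leaf 0x1a0bbb1d6) (.leaf 0x69b0b184)) (.node (.leaf 0x342c89036) (.leaf 0x2203b0c6)))) (.node (.node (.node (.leaf 0x180ba7024) (.leaf 0x94edb0cc)) (.node (.leaf 0x141f0905c) (.leaf 0xc0f9901c))) (.node (.node (.leaf 0x2b8ab5004) (.leaf 0xc50d9082)) (.node (.leaf 0x138deb01e) (.leaf 0x1296fb0c6))))) (.node (.node (.node (.node (.leaf 0x1ebc97006) (.leaf 0x12871b024)) (.node (.leaf 0x114beb0ea) (.leaf 0x107aae7020))) (.node (.node (.leaf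 0x95b0b0a6) (.leaf 0x4011cb17a)) (.node (.leaf 0xff159030) (.leaf 0x27019b1d6)))) (.node (.node (.node (.leaf 0x6fb2bb0c0) (.leaf 0xc000b7000)) (.node (.leaf 0x208d5b1fe) (.leaf 0x1e2be7004))) (.node (.node (.leaf 0x244e0b0a6) (.leaf 0x3b1ffb044)) (.node (.leaf 0x48c09b062) (.leaf 0x95bdb0cc))))))) (.node (.node (.node (.node (.node (.node (.leaf 0xd583b1d6) (.leaf 0x1ed989082)) (.node (.leaf 0x39bb8500e) (.leaf 0xc9c1c9004))) (.node (.node (.leaf 0x9db0b0cc) (.leaf 0x6909b062)) (.node (.leaf 0xa6e905c) (.leaf 0x14ae6905c)))) (.node (.node (.node (.leaf 0x294cb0d6) (.leaf 0x2bbad7002)) (.node (.leaf 0x11af7b0fc) (.leaf 0xaadbb002))) (.node (.node (.leaf 0xa6736b084) (.leaf 0x16b08b0a2)) (.node (.leaf 0x29cfe7002) (.leaf 0x7a50900a))))) (.node (.node (.node (.node (.leaf 0x9ce0b0cc) (.leaf 0x168f5b0a2)) (.node (.leaf 0x5967bb00c) (.leaf 0x2de627006))) (.node (.node (.leaf 0xf8c99044) (.leaf 0xcc6f7004)) (.node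 (.leaf 0x9c18a7042) (.leaf 0x1b00eb2dc)))) (.node (.node (.node (.leaf 0x3ef35b086) (.leaf 0x6055f704e)) (.node (.leaf 0x8c6e97020) (.leaf 0x27377b10c))) (.node (.node (.leaf 0xc2d47006) (.leaf 0x5483b1fe)) (.node (.leaf 0xc0b8bb002) (.leaf 0xf1e6b05c)))))) (.node (.node (.node (.node (.node (.leaf 0x2c541b086) (.leaf 0x73be700a)) (.node (.leaf 0xbe90b09c) (.leaf 0x392bb1fe))) (.node (.node (.leaf 0x3f3d9030) (.leaf 0xd313fb10c)) (.node (.leaf 0x19cfeb09c) (.leaf 0xc4d9ab044)))) (.node (.node (.node (.leaf 0x34b88b05c) (.leaf 0x24db0b0cc)) (.node (.leaf 0x1c1c89024) (.leaf 0x352f0700a))) (.node (.node (.leaf 0x26c8b900a) (.leaf 0x7688cb0a6)) (.node (.leaf 0x4c24b0ea) (.leaf 0x279129030))))) (.node (.node (.node (.node (.leaf 0xbaba0b1d6) (.leaf 0x3c256b0d6)) (.node (.leaf 0xa51849024) (.leaf 0x2d7db9004))) (.node (.node (.leaf 0x102fdb1fe) (.leaf 0x13ef3b01e)) (.node (.leaf 0x23441b050) (.leaf 0x131ebb01e))))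 (.node (.node (.node (.leaf 0x1c2a905c) (.leaf 0x3340e9024)) (.node (.leaf 0x18ac69082) (.leaf 0x93db5b01c))) (.node (.node (.leaf 0xa2d39000) (.leaf 0x163d8b0a2)) (.node (.leaf 0x6e78e9046) (.leaf 0x1fb3cb090)))))))) (.node (.node (.node (.node (.node (.node (.node (.leaf 0x89f873004) (.leaf 0x64a7b0fc)) (.node (.leaf 0x5a6adb056) (.leaf 0x6cd949006))) (.node (.node (.leaf 0x333949082) (.leaf 0x5108eb09c)) (.node (.leaf 0x1ce237006) (.leaf 0x2589ab1d6)))) (.node (.node (.node (.leaf 0x223b7b2dc) (.leaf 0x1b65eb2dc)) (.node (.leaf 0x5e339044) (.leaf 0x4010cb17a))) (.node (.node (.leaf 0x2bab89002) (.leaf 0x253789036)) (.node (.leaf 0xff4fb1fe) (.leaf 0x1c5867034))))) (.node (.node (.node (.node (.leaf 0x3e515b194) (.leaf 0x294a15006)) (.node (.leaf 0x1ed8e9014) (.leaf 0x2b8e25014))) (.node (.node (.leaf 0x8353b2dc) (.leaf 0x2d5db901c)) (.node (.leaf 0x685a17002) (.leaf 0x5eb2db05c)))) (.node (.node (.node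 (.leaf 0x10978b05c) (.leaf 0xa3d0b050)) (.node (.leaf 0x3abb6905c) (.leaf 0x1fd57b00a))) (.node (.node (.leaf 0xdcadb10c) (.leaf 0x1b69b1d6)) (.node (.leaf 0x13296b01e) (.leaf 0x29fb85006)))))) (.node (.node (.node (.node (.node (.leaf 0xc2909016) (.leaf 0x4723e9044)) (.node (.leaf 0x7089b9042) (.leaf 0x2b3375014))) (.node (.node (.leaf 0xea4905c) (.leaf 0x2ba689002)) (.node (.leaf 0x4e44b194) (.leaf 0x2c1ebb184)))) (.node (.node (.node (.leaf 0x1a630b1fe) (.leaf 0x11451b062)) (.node (.leaf 0x428f8b0ea) (.leaf 0x1f24fb00a))) (.node (.node (.leaf 0xae5b7000) (.leaf 0x1a0e59036)) (.node (.leaf 0x30edbb0c0) (.leaf 0x3a9abb10c))))) (.node (.node (.node (.node (.leaf 0x5d178b01e) (.leaf 0xc8db9900c)) (.node (.leaf 0x158acb114) (.leaf 0x1812c7004))) (.node (.node (.leaf 0x31e1c704e) (.leaf 0xc5779b0cc)) (.node (.leaf 0x203d6b1d6) (.leaf 0x5df75b01e)))) (.node (.node (.node (.leaf 0x13d8eb01e) (.leaf 0x2b98e5000))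 (.node (.leaf 0x2975c5042) (.leaf 0x1794fb01c))) (.node (.node (.leaf 0x438eab0fc) (.leaf 0x6f4eb194)) (.node (.leaf 0x5fb16b084) (.leaf 0xcff3900c))))))) (.node (.node (.node (.node (.node (.node (.leaf 0xce217024) (.leaf 0x25d38b05c)) (.node (.leaf 0x795090c6) (.leaf 0x5bdd9044))) (.node (.node (.leaf 0x24cedb0a6) (.leaf 0x167f5b0a2)) (.node (.leaf 0x1c5459006) (.leaf 0x49d97b056)))) (.node (.node (.node (.leaf 0x63fc97004) (.leaf 0x5ed3bb1d6)) (.node (.leaf 0x43878b062) (.leaf 0x45e4b086))) (.node (.node (.leaf 0x1ed159016) (.leaf 0xa303a7024)) (.node (.leaf 0x9cedb0a6) (.leaf 0x606e1700a))))) (.node (.node (.node (.node (.leaf 0x9ffb07010) (.leaf 0x1db00b09c)) (.node (.leaf 0xd7e9030) (.leaf 0x6baeb0ea))) (.node (.node (.leaf 0x29daf7002) (.leaf 0x103389036)) (.node (.leaf 0x96a73b194) (.leaf 0x47e989044)))) (.node (.node (.node (.leaf 0x88cd7b10c) (.leaf 0x1497bb10c)) (.node (.leaf 0x56002b0c0) (.leaf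 0x33c969014))) (.node (.node (.leaf 0x36905b01c) (.leaf 0x173a9030)) (.node (.leaf 0xd4959036) (.leaf 0x77831900e)))))) (.node (.node (.node (.node (.node (.leaf 0xcb717042) (.leaf 0x1809b904e)) (.node (.leaf 0x626eb086) (.leaf 0x2c881b0ea))) (.node (.node (.leaf 0x77db1d6) (.leaf 0x9c2bb7006)) (.node (.leaf 0x629dcb0c0) (.leaf 0xa7087030)))) (.node (.node (.node (.leaf 0x9b04a5000) (.leaf 0x22ae7b2dc)) (.node (.leaf 0xd3c0b1fe) (.leaf 0x398195042))) (.node (.node (.leaf 0x1abddb10c) (.leaf 0x138bbb01e)) (.node (.leaf 0x114e8b184) (.leaf 0x4da71b0c0))))) (.node (.node (.node (.node (.leaf 0x1c0fb10c) (.leaf 0x2b15b024)) (.node (.leaf 0x9dbdb0a6) (.leaf 0x12fc8b0d6))) (.node (.node (.leaf 0x17d5f7010) (.leaf 0x2b2507002)) (.node (.leaf 0x24dbdb0a6) (.leaf 0x50a4a9026)))) (.node (.node (.node (.leaf 0x7b00704e) (.leaf 0x1046eb1d6)) (.node (.leaf 0x18c7f901a) (.leaf 0x334f0901c))) (.node (.node (.leaf 0x7608cb0cc)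 (.leaf 0xc79f9014)) (.node (.leaf 0x3d1b9044) (.leaf 0xa80d69000))))))))))) (.node (.node (.node (.node (.node (.node (.node (.node (.node (.node (.leaf 0x973d4b01e) (.leaf 0x3ded0b114)) (.node (.leaf 0x274f5014) (.leaf 0x41324b00a))) (.node (.node (.leaf 0xe596c9026) (.leaf 0x46735b050)) (.node (.leaf 0x810b47026) (.leaf 0x1d5bbb036)))) (.node (.node (.node (.leaf 0xefc9b01e) (.leaf 0x5cf1fb14e)) (.node (.leaf 0xed99b01e) (.leaf 0x6b9ab000))) (.node (.node (.leaf 0x75fcb01c) (.leaf 0x696f7026)) (.node (.leaf 0x71803b036) (.leaf 0x96f5fb000))))) (.node (.node (.node (.node (.leaf 0x49630b114) (.leaf 0x910407024)) (.node (.leaf 0x9a584b00a) (.leaf 0x15c579030))) (.node (.node (.leaf 0x12c7db090) (.leaf 0x3c0405006)) (.node (.leaf 0xc095b144) (.leaf 0x596be700a)))) (.node (.node (.node (.leaf 0x61696500e) (.leaf 0x2f6e5000)) (.node (.leaf 0x286d3b1fe) (.leaf 0x72d919082))) (.node (.node (.leaf 0xc04a1901a)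 (.leaf 0xd407db002)) (.node (.leaf 0x2dc89002) (.leaf 0x16163b0a2)))))) (.node (.node (.node (.node (.node (.leaf 0xb9022b086) (.leaf 0x16cf3b0a2)) (.node (.leaf 0x4f95bb044) (.leaf 0x23490901a))) (.node (.node (.leaf 0x4ebeb050) (.leaf 0x2f135000)) (.node (.leaf 0x5b7317024) (.leaf 0x3b685b05c)))) (.node (.node (.node (.leaf 0x26f2e7020) (.leaf 0x1dc7eb09c)) (.node (.leaf 0x67cbeb2dc) (.leaf 0xc50dfb0c6))) (.node (.node (.leaf 0x2a60bb056) (.leaf 0x507bb064)) (.node (.leaf 0x122aab00a) (.leaf 0x9b6bcb0d6))))) (.node (.node (.node (.node (.leaf 0x3c0045042) (.leaf 0x25d25014)) (.node (.leaf 0x5f72b044) (.leaf 0x73af69006))) (.node (.node (.leaf 0x4770b000) (.leaf 0xb1bf69000)) (.node (.leaf 0x11985b042) (.leaf 0xaba9901a)))) (.node (.node (.node (.leaf 0x174e29024) (.leaf 0xdf2bb044)) (.node (.leaf 0x27f69b114) (.leaf 0x21189002))) (.node (.node (.leaf 0xcf4db00c) (.leaf 0xf5dba7026)) (.node (.leaf 0x1b1ceb0c0)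 (.leaf 0x32d0c9044))))))) (.node (.node (.node (.node (.node (.node (.leaf 0x2aaf29036) (.leaf 0x1204fb00a)) (.node (.leaf 0x669b77000) (.leaf 0x632649026))) (.node (.node (.leaf 0x784fb09a) (.leaf 0xc5b69026)) (.node (.leaf 0x1b49eb0c0) (.leaf 0x2e2a8b056)))) (.node (.node (.node (.leaf 0x2d6709026) (.leaf 0x177f19016)) (.node (.leaf 0x3fe839002) (.leaf 0xa5a5700a))) (.node (.node (.leaf 0x172857006) (.leaf 0x2d2437030)) (.node (.leaf 0x33a7b9000) (.leaf 0x31bd7b09a))))) (.node (.node (.node (.node (.leaf 0x1ed429046) (.leaf 0xe35cb01e)) (.node (.leaf 0x397bbb0d6) (.leaf 0x8c4d5b194))) (.node (.node (.leaf 0x2a485900e) (.leaf 0x6c10f700e)) (.node (.leaf 0x3608990c6) (.leaf 0x1b2b7b14e)))) (.node (.node (.node (.leaf 0x21f07002) (.leaf 0x85207b036)) (.node (.leaf 0x12047b00a) (.leaf 0x75f7b014))) (.node (.node (.leaf 0x46abd7030) (.leaf 0x3fd329002)) (.node (.leaf 0x8e5bbb0ea) (.leaf 0x18a38ab05c)))))) (.node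 (.node (.node (.node (.node (.leaf 0x40ad9b17a) (.leaf 0xe9f06900e)) (.node (.leaf 0xc805700e) (.leaf 0x2ea0eb056))) (.node (.node (.leaf 0x5752bb044) (.leaf 0x2c6c87000)) (.node (.leaf 0x156fb1b002) (.leaf 0x3f31eb0a6)))) (.node (.node (.node (.leaf 0x28df99030) (.leaf 0x2f6b29044)) (.node (.leaf 0x2c1e07010) (.leaf 0x1134ab000))) (.node (.node (.leaf 0x6a8fbb036) (.leaf 0x5b1a09016)) (.node (.leaf 0x640f2b0c0) (.leaf 0x19b0c57030))))) (.node (.node (.node (.node (.leaf 0x68803b0c6) (.leaf 0x6fcdb042)) (.node (.leaf 0x32a9eb1fe) (.leaf 0x1db45b084))) (.node (.node (.leaf 0x227c6b2dc) (.leaf 0x316d9b06a)) (.node (.leaf 0x91afd7006) (.leaf 0x25d45b064)))) (.node (.node (.node (.leaf 0x29e0ab0d6) (.leaf 0xe04cb01e)) (.node (.leaf 0x4cd5b002) (.leaf 0x4cc53b0cc))) (.node (.node (.leaf 0xa2054905c) (.leaf 0x552f09004)) (.node (.leaf 0x69685500e) (.leaf 0x2b607002)))))))) (.node (.node (.node (.node (.node (.node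 (.node (.leaf 0x2c1f7b00c) (.leaf 0x187f2b014)) (.node (.leaf 0x1068ba9016) (.leaf 0x2bc18b024))) (.node (.node (.leaf 0x459eab14e) (.leaf 0x66c6f9000)) (.node (.leaf 0x9dd7b0c6) (.leaf 0xfe81b064)))) (.node (.node (.node (.leaf 0x3e2619046) (.leaf 0x1baa7b14e)) (.node (.leaf 0x25c2ab114) (.leaf 0x3018ab2dc))) (.node (.node (.leaf 0x2ecf6900e) (.leaf 0x20475010)) (.node (.leaf 0x16d7fb0a2) (.leaf 0x298adb0c6))))) (.node (.node (.node (.node (.leaf 0x42aabb042) (.leaf 0xb26bb036)) (.node (.leaf 0x21b59002) (.leaf 0x68ea0b0d6))) (.node (.node (.leaf 0xf6c6b114) (.leaf 0x212e5004)) (.node (.leaf 0x89c3b2dc) (.leaf 0xb5eeb09c)))) (.node (.node (.node (.leaf 0x2615f9010) (.leaf 0x41ab6b0a6)) (.node (.leaf 0x3cbc5500e) (.leaf 0x1552ab10c))) (.node (.node (.leaf 0x88719b114) (.leaf 0x15f47905c)) (.node (.leaf 0xadabf7006) (.leaf 0x499a8b044)))))) (.node (.node (.node (.node (.node (.leaf 0x11700eb0fc) (.leaf 0x92ae57042))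 (.node (.leaf 0x1c04ab050) (.leaf 0x581d7b0a2))) (.node (.node (.leaf 0x6dd45b0a6) (.leaf 0x82bd7b2dc)) (.node (.leaf 0x17be87024) (.leaf 0x2cf7fb144)))) (.node (.node (.node (.leaf 0x2f1b5004) (.leaf 0x613bb5002)) (.node (.leaf 0x9e51b024) (.leaf 0x372dfb042))) (.node (.node (.leaf 0x62394b14e) (.leaf 0x798db06a)) (.node (.leaf 0x273f1b044) (.leaf 0x55677900a))))) (.node (.node (.node (.node (.leaf 0x12acabb144) (.leaf 0x2d5a07026)) (.node (.leaf 0x22296b2dc) (.leaf 0x17b6a9014))) (.node (.node (.leaf 0xaeb5904e) (.leaf 0x21659002)) (.node (.leaf 0xe8c9b01e) (.leaf 0x106d5b064)))) (.node (.node (.node (.leaf 0x2b4b9b0d6) (.leaf 0x35d21b144)) (.node (.leaf 0x17860901c) (.leaf 0x3e297700e))) (.node (.node (.leaf 0x4bfc0b0cc) (.leaf 0x97cd4b01e)) (.node (.leaf 0x21c25010) (.leaf 0x72d149016))))))) (.node (.node (.node (.node (.node (.node (.leaf 0x6e093704e) (.leaf 0x2aab3900e)) (.node (.leaf 0xacfd49026) (.leaf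 0x4681ab002))) (.node (.node (.leaf 0xc3f39046) (.leaf 0x11a7f7026)) (.node (.leaf 0x12bb0b090) (.leaf 0x17ba49082)))) (.node (.node (.node (.leaf 0x431e29026) (.leaf 0x212c5b2dc)) (.node (.leaf 0x934c27042) (.leaf 0xe74cb01e))) (.node (.node (.leaf 0x91f499016) (.leaf 0xa14eab084)) (.node (.leaf 0x1649bb0a2) (.leaf 0x28cd7002))))) (.node (.node (.node (.node (.leaf 0x89d3b2dc) (.leaf 0x1f484b0d6)) (.node (.leaf 0x4ce03b0cc) (.leaf 0x6b964b01e))) (.node (.node (.leaf 0x8907bb05a) (.leaf 0x355fb9046)) (.node (.leaf 0x1477bb044) (.leaf 0x18e9ab09a)))) (.node (.node (.node (.leaf 0x4004cb17a) (.leaf 0x5b5f9901c)) (.node (.leaf 0x1fc3db024) (.leaf 0x17cf87042))) (.node (.node (.leaf 0x18604b06a) (.leaf 0x505bbb0ea)) (.node (.leaf 0x138b027030) (.leaf 0x51b05b09c)))))) (.node (.node (.node (.node (.node (.leaf 0x6006b9000) (.leaf 0x3aca2b064)) (.node (.leaf 0x40c59b17a) (.leaf 0x2c5af700e))) (.node (.node (.leaf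 0x2d6a17020) (.leaf 0xb795b084)) (.node (.leaf 0x295d7002) (.leaf 0x48d1f7000)))) (.node (.node (.node (.leaf 0x159cd905c) (.leaf 0x26487b01c)) (.node (.leaf 0x3f008b00a) (.leaf 0x40edcb17a))) (.node (.node (.leaf 0x18ef0db0cc) (.leaf 0xc00fd700a)) (.node (.leaf 0x416d7b0a6) (.leaf 0xec5cb01e))))) (.node (.node (.node (.node (.leaf 0x3bbc59036) (.leaf 0x9ab03b0a6)) (.node (.leaf 0x42704b000) (.leaf 0x11ddeb06a))) (.node (.node (.leaf 0x2c98d9046) (.leaf 0x122e0b090)) (.node (.leaf 0x193c5b09c) (.leaf 0x16e17b0a2)))) (.node (.node (.node (.leaf 0x15bdcb1d6) (.leaf 0x1e9c0700e)) (.node (.leaf 0x402c9b17a) (.leaf 0x89bbf905a))) (.node (.node (.leaf 0x4105b9002) (.leaf 0x1690bb0a2)) (.node (.leaf 0x36789900a) (.leaf 0x6aa8b014))))))))) (.node (.node (.node (.node (.node (.node (.node (.node (.leaf 0x6e0cb00c) (.leaf 0x2a2a0b10c)) (.node (.leaf 0xa2757006) (.leaf 0x59c85900c))) (.node (.node (.leaf 0xc95b044)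 (.leaf 0x17715700a)) (.node (.leaf 0x9edfb0c6) (.leaf 0x2bca9b0d6)))) (.node (.node (.node (.leaf 0x16bf3b0a2) (.leaf 0x1f81b044)) (.node (.leaf 0x85cffb036) (.leaf 0x53ffd9016))) (.node (.node (.leaf 0x696deb0a6) (.leaf 0x7adff7020)) (.node (.leaf 0x9d81b024) (.leaf 0x364f2901c))))) (.node (.node (.node (.node (.leaf 0x50bda9006) (.leaf 0x1d0fdb084)) (.node (.leaf 0xdd299904e) (.leaf 0xefc1b01e))) (.node (.node (.leaf 0x3cc14502a) (.leaf 0xa549d7010)) (.node (.leaf 0x253abb064) (.leaf 0x9c61d9000)))) (.node (.node (.node (.leaf 0x2b0c8b024) (.leaf 0x4eb0a9030)) (.node (.leaf 0x55bab114) (.leaf 0xf24eb044))) (.node (.node (.leaf 0xf438cb0a6) (.leaf 0x8ea8a90c6)) (.node (.leaf 0x36c227014) (.leaf 0x58047b0a2)))))) (.node (.node (.node (.node (.node (.leaf 0x18565b002) (.leaf 0x1ba7fb0c0)) (.node (.leaf 0x19274b09c) (.leaf 0x2ef98b1fe))) (.node (.node (.leaf 0x3384b044) (.leaf 0xc6667026)) (.node (.leaf 0x111af9026)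 (.leaf 0x611b89002)))) (.node (.node (.node (.leaf 0x1c99ab014) (.leaf 0x758e09036)) (.node (.leaf 0x6394b144) (.leaf 0x3f4fb7002))) (.node (.node (.leaf 0x23a559082) (.leaf 0x51f34b09c)) (.node (.leaf 0x7fa9b000) (.leaf 0x3310b7010))))) (.node (.node (.node (.node (.leaf 0x3acd4b064) (.leaf 0x11a4c700e)) (.node (.leaf 0x28db8b1d6) (.leaf 0x4b3e0b090))) (.node (.node (.leaf 0xe8c80b184) (.leaf 0x667479010)) (.node (.leaf 0x2c06502a) (.leaf 0x29435002)))) (.node (.node (.node (.leaf 0x6260cb0c0) (.leaf 0x1cd62b09a)) (.node (.leaf 0xa4a19016) (.leaf 0x16a63b0a2))) (.node (.node (.leaf 0x3233a905c) (.leaf 0x2c3647026)) (.node (.leaf 0x2d5a7b144) (.leaf 0x15352b05c))))))) (.node (.node (.node (.node (.node (.node (.leaf 0xabde7004) (.leaf 0x2b2d6b0c6)) (.node (.leaf 0x38c3690c6) (.leaf 0x3c904b00a))) (.node (.node (.leaf 0x2fdf3b10c) (.leaf 0x3094bb2dc)) (.node (.leaf 0x480f0b09a) (.leaf 0x422db01c)))) (.node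 (.node (.node (.leaf 0x566d2b2dc) (.leaf 0x358d5b014)) (.node (.leaf 0x65ce39042) (.leaf 0x1a005b114))) (.node (.node (.leaf 0xc103b000) (.leaf 0xbcffb905c)) (.node (.leaf 0x298e6b024) (.leaf 0xc9621b042))))) (.node (.node (.node (.node (.leaf 0xa2843b05c) (.leaf 0x3f501500e)) (.node (.leaf 0x23ed97042) (.leaf 0x655e29006))) (.node (.node (.leaf 0x66fdf7010) (.leaf 0xf1f7b064)) (.node (.leaf 0x76aeb042) (.leaf 0x8101d9046)))) (.node (.node (.node (.leaf 0x8b52b2dc) (.leaf 0x58c2fb0a2)) (.node (.leaf 0x18762b050) (.leaf 0x1278db0a6))) (.node (.node (.leaf 0xd2f79900e) (.leaf 0x1469cb064)) (.node (.leaf 0x24865b0d6) (.leaf 0xa1f69024)))))) (.node (.node (.node (.node (.node (.leaf 0xbe86b09c) (.leaf 0x173e9901a)) (.node (.leaf 0x32748905c) (.leaf 0x634b87000))) (.node (.node (.leaf 0xaefa2b0c6) (.leaf 0x2d21c9000)) (.node (.leaf 0x2dca49010) (.leaf 0x3e3587026)))) (.node (.node (.node (.leaf 0x3192fb050) (.leaf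 0x1d843b036)) (.node (.leaf 0x6d975b090) (.leaf 0x126ddb0a6))) (.node (.node (.leaf 0x6bd7cb01e) (.leaf 0x36c8b7006)) (.node (.leaf 0xa852900c) (.leaf 0x2a20db1fe))))) (.node (.node (.node (.node (.leaf 0x14db3b114) (.leaf 0x1566b9044)) (.node (.leaf 0x364999006) (.leaf 0x32621b1d6))) (.node (.node (.leaf 0xc01d8901c) (.leaf 0x42291b01c)) (.node (.leaf 0xb78cdb062) (.leaf 0x2caf49026)))) (.node (.node (.node (.leaf 0x6a6a9046) (.leaf 0x696adb00a)) (.node (.leaf 0xea04b01e) (.leaf 0x18480b000))) (.node (.node (.leaf 0x502557034) (.leaf 0x41b7d500e)) (.node (.leaf 0x199f5db0ea) (.leaf 0xa5b4eb144)))))))) (.node (.node (.node (.node (.node (.node (.node (.leaf 0x71639b084) (.leaf 0xa8777900c)) (.node (.leaf 0x611059002) (.leaf 0x4ad88b084))) (.node (.node (.leaf 0x22c67b2dc) (.leaf 0x238889016)) (.node (.leaf 0x8a2e3b0c6) (.leaf 0xb82db084)))) (.node (.node (.node (.leaf 0xe4db114) (.leaf 0x2f05e9030)) (.node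 (.leaf 0xe8c1b01e) (.leaf 0xa3b8bb042))) (.node (.node (.leaf 0x24662b0c6) (.leaf 0x4896b09a)) (.node (.leaf 0xc49b5b056) (.leaf 0x632889010))))) (.node (.node (.node (.node (.leaf 0x25175006) (.leaf 0x1159b114)) (.node (.leaf 0x366f29004) (.leaf 0x8b42b2dc))) (.node (.node (.leaf 0x3f1cb114) (.leaf 0x1f6f7b0c6)) (.node (.leaf 0xae587042) (.leaf 0x3e0497020)))) (.node (.node (.node (.leaf 0x3ff4a7002) (.leaf 0x3c0339002)) (.node (.leaf 0x92b7c901a) (.leaf 0x119ba9046))) (.node (.node (.leaf 0x172e3704e) (.leaf 0x6d9b8b090)) (.node (.leaf 0x156719044) (.leaf 0xc254b042)))))) (.node (.node (.node (.node (.node (.leaf 0x240b500e) (.leaf 0x2476500e)) (.node (.leaf 0xac8d7b144) (.leaf 0x6d1a8b090))) (.node (.node (.leaf 0x7fe469030) (.leaf 0x23941901c)) (.node (.leaf 0x7c21ab0fc) (.leaf 0x1667fb0a2)))) (.node (.node (.node (.leaf 0x12f8db0cc) (.leaf 0x26aa79000)) (.node (.leaf 0x18fdbb042) (.leaf 0x4d429b14e)))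 (.node (.node (.leaf 0x736e7b086) (.leaf 0x12910b0a6)) (.node (.leaf 0xee91b01e) (.leaf 0x209b8b044))))) (.node (.node (.node (.node (.leaf 0x60cdb7010) (.leaf 0x3cbe39002)) (.node (.leaf 0x796b27026) (.leaf 0x3202a9030))) (.node (.node (.leaf 0x1831d2b2dc) (.leaf 0x3c03fb0a6)) (.node (.leaf 0x44c4b06a) (.leaf 0x2c1bb7030)))) (.node (.node (.node (.leaf 0x3baa0b056) (.leaf 0xa7e49082)) (.node (.leaf 0x20165042) (.leaf 0x2dd2500a))) (.node (.node (.leaf 0x16fefb0a2) (.leaf 0x2ae48b05c)) (.node (.leaf 0x36328900c) (.leaf 0x12eddb0cc))))))) (.node (.node (.node (.node (.node (.node (.leaf 0x486eb014) (.leaf 0x9cf809046)) (.node (.leaf 0x2fd14905c) (.leaf 0x69c929002))) (.node (.node (.leaf 0x12110b0cc) (.leaf 0x16887b0a2)) (.node (.leaf 0x1a1ddb044) (.leaf 0x4a7c2b036)))) (.node (.node (.node (.leaf 0x23c7c7006) (.leaf 0x907863002)) (.node (.leaf 0x2d2c99046) (.leaf 0x11b44b00c))) (.node (.node (.leaf 0x192ccb09c)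 (.leaf 0x22e37b2dc)) (.node (.leaf 0x230db9014) (.leaf 0x578e3b114))))) (.node (.node (.node (.node (.leaf 0x16517b0a2) (.leaf 0x6304700e)) (.node (.leaf 0x1cd88b06a) (.leaf 0xa2d0901c))) (.node (.node (.leaf 0x3b458900e) (.leaf 0x1ed32b000)) (.node (.leaf 0x531ce7004) (.leaf 0x1051c3b114)))) (.node (.node (.node (.leaf 0x3695c9042) (.leaf 0x9068b0d6)) (.node (.leaf 0x489377010) (.leaf 0x1620bb0a2))) (.node (.node (.leaf 0x580e3b0a2) (.leaf 0x3fbb55006)) (.node (.leaf 0x166706b144) (.leaf 0xd4e8b064)))))) (.node (.node (.node (.node (.node (.leaf 0xe904b01e) (.leaf 0x5781cb064)) (.node (.leaf 0x10886b044) (.leaf 0xe614b01e))) (.node (.node (.leaf 0xa66e9014) (.leaf 0x1f9adb024)) (.node (.leaf 0x1639bb0a2) (.leaf 0x3b1579036)))) (.node (.node (.node (.leaf 0x4c0195000) (.leaf 0x156dd9030)) (.node (.leaf 0x21f0db14e) (.leaf 0x4b29eb00a))) (.node (.node (.leaf 0x17e45904e) (.leaf 0x62bf9026)) (.node (.leaf 0xb60acb00c)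 (.leaf 0x8bcdbb050))))) (.node (.node (.node (.node (.leaf 0x3c5ceb0a6) (.leaf 0x5995b064)) (.node (.leaf 0x23dc97024) (.leaf 0x97759b01e))) (.node (.node (.leaf 0x125b6f7020) (.leaf 0x2de37700e)) (.node (.leaf 0x26c6f7000) (.leaf 0x7827b050)))) (.node (.node (.node (.leaf 0x65cb290c6) (.leaf 0x1581bb1fe)) (.node (.leaf 0x28d62b10c) (.leaf 0x3613a7042))) (.node (.node (.leaf 0xbc93b036) (.leaf 0x1b42fb0c0)) (.node (.leaf 0x411c9500a) (.leaf 0xa7087024)))))))))) (.node (.node (.node (.node (.node (.node (.node (.node (.node (.leaf 0x323f19036) (.leaf 0x5f4d2b09c)) (.node (.leaf 0x6e6f49004) (.leaf 0x266acb014))) (.node (.node (.leaf 0x111f87030) (.leaf 0x15bd9900e)) (.node (.leaf 0x25e1b090) (.leaf 0x6b0e5b01e)))) (.node (.node (.node (.leaf 0x68b37000) (.leaf 0xe51db01e)) (.node (.leaf 0xa1bc7034) (.leaf 0x1be8eb2dc))) (.node (.node (.leaf 0x2963b00a) (.leaf 0xe4353b10c)) (.node (.leaf 0xfb84b7002) (.leaf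 0x18bd59010))))) (.node (.node (.node (.node (.leaf 0x731c9000) (.leaf 0x14d51b044)) (.node (.leaf 0x40871b17a) (.leaf 0x51902b084))) (.node (.node (.leaf 0x8f80db1fe) (.leaf 0x596b9b086)) (.node (.leaf 0xebd0b01e) (.leaf 0x1278e500a)))) (.node (.node (.node (.leaf 0x22277b0c0) (.leaf 0xd698d9082)) (.node (.leaf 0x86042905c) (.leaf 0x24edfb0c6))) (.node (.node (.leaf 0xea0db01e) (.leaf 0x20b1b090)) (.node (.leaf 0x4e055b10c) (.leaf 0x10d5d7b000)))))) (.node (.node (.node (.node (.node (.leaf 0x23b419004) (.leaf 0x3f0a55010)) (.node (.leaf 0x161eeb0a2) (.leaf 0x3b9ea905c))) (.node (.node (.leaf 0xe180b01e) (.leaf 0x3fbafb0cc)) (.node (.leaf 0x96e4b024) (.leaf 0x3c68fb090)))) (.node (.node (.node (.leaf 0x2fc75b10c) (.leaf 0x97838b01e)) (.node (.leaf 0x120c2500e) (.leaf 0x1252f500e))) (.node (.node (.leaf 0x19adab084) (.leaf 0x865bb14e)) (.node (.leaf 0x2c21ab042) (.leaf 0x683c6b0c6))))) (.node (.node (.node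 (.node (.leaf 0x232bb00a) (.leaf 0x49819026)) (.node (.leaf 0x122035006) (.leaf 0x129d65006))) (.node (.node (.leaf 0x2083eb044) (.leaf 0xd535b114)) (.node (.leaf 0x79e369010) (.leaf 0x2ac099030)))) (.node (.node (.node (.leaf 0x31deb700e) (.leaf 0x2ea7eb1fe)) (.node (.leaf 0x6b3f5b01e) (.leaf 0xbf140b1d6))) (.node (.node (.leaf 0x97328b01e) (.leaf 0x40cb4b17a)) (.node (.leaf 0x18e6d9000) (.leaf 0x1d076b036))))))) (.node (.node (.node (.node (.node (.node (.leaf 0x44e32b084) (.leaf 0xaed790c6)) (.node (.leaf 0x4c367030) (.leaf 0x4b40f5010))) (.node (.node (.leaf 0x4c18f7002) (.leaf 0x4bfec7002)) (.node (.leaf 0x4c117026) (.leaf 0x86168905c)))) (.node (.node (.node (.leaf 0x21cd0b14e) (.leaf 0x7b877b114)) (.node (.leaf 0x28a1ab1d6) (.leaf 0x27ebcb064))) (.node (.node (.leaf 0x7b2bcb064) (.leaf 0x1effb9010)) (.node (.leaf 0x3a781b114) (.leaf 0x17fb8b184))))) (.node (.node (.node (.node (.leaf 0x33f4cb144) (.leaf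 0x2e7649030)) (.node (.leaf 0x2c833b050) (.leaf 0x41f145004))) (.node (.node (.leaf 0x77e8cb044) (.leaf 0x88f0fb114)) (.node (.leaf 0x1fdd0b024) (.leaf 0xce5a9010)))) (.node (.node (.node (.leaf 0x3117bb144) (.leaf 0x4bd2a5010)) (.node (.leaf 0x76c47000) (.leaf 0x6086a9046))) (.node (.node (.leaf 0x66b7cb00c) (.leaf 0x161fab0a2)) (.node (.leaf 0x7ce3c7006) (.leaf 0x694585014)))))) (.node (.node (.node (.node (.node (.leaf 0x3fb1eb0cc) (.leaf 0x35dab044)) (.node (.leaf 0x1e60cb09a) (.leaf 0xb154b084))) (.node (.node (.leaf 0x2e34b090) (.leaf 0x71ec7010)) (.node (.leaf 0x554be7004) (.leaf 0x16716b0a2)))) (.node (.node (.node (.leaf 0x112237000) (.leaf 0x376e17026)) (.node (.leaf 0x9875b0d6) (.leaf 0x3c9005014))) (.node (.node (.leaf 0x7293b144) (.leaf 0x1692ab0a2)) (.node (.leaf 0xc1ef29024) (.leaf 0x11b60b050))))) (.node (.node (.node (.node (.leaf 0x2205eb14e) (.leaf 0x23192900a)) (.node (.leaf 0x2d9bdb06a)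 (.leaf 0x168c6b0a2))) (.node (.node (.leaf 0x3cd3eb090) (.leaf 0x61161b0cc)) (.node (.leaf 0x5e40b044) (.leaf 0x2a57bb1fe)))) (.node (.node (.node (.leaf 0x410385010) (.leaf 0x6033b002)) (.node (.leaf 0x76c14b0d6) (.leaf 0x30102b14e))) (.node (.node (.leaf 0xadd7900a) (.leaf 0x5a7f8b114)) (.node (.leaf 0x2ea87b05c) (.leaf 0x2c64b090)))))))) (.node (.node (.node (.node (.node (.node (.node (.leaf 0xfcee69026) (.leaf 0xbae6b036)) (.node (.leaf 0x30912b14e) (.leaf 0x28f80b10c))) (.node (.node (.leaf 0xe61db01e) (.leaf 0xacd09004)) (.node (.leaf 0xcb927010) (.leaf 0x3e03b064)))) (.node (.node (.node (.leaf 0xd4d299026) (.leaf 0x982ab0c6)) (.node (.leaf 0x3f2845010) (.leaf 0x3e86bb050))) (.node (.node (.leaf 0x1166b064) (.leaf 0x70d99046)) (.node (.leaf 0x6bef8b01e) (.leaf 0xdd06cb184))))) (.node (.node (.node (.node (.leaf 0xa9007014) (.leaf 0xa8d119004)) (.node (.leaf 0xe90db01e) (.leaf 0xdaadb044))) (.node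 (.node (.leaf 0x73a4f9014) (.leaf 0x36accb194)) (.node (.leaf 0x193a5b036) (.leaf 0x20d07b064)))) (.node (.node (.node (.leaf 0x26181b042) (.leaf 0x2fc4db05c)) (.node (.leaf 0xc6c2b01c) (.leaf 0xe4d0b01e))) (.node (.node (.leaf 0x2d34bb014) (.leaf 0x55f549082)) (.node (.leaf 0x6bcf5b01e) (.leaf 0x116ab9000)))))) (.node (.node (.node (.node (.node (.leaf 0x3540ab01c) (.leaf 0x141d9b114)) (.node (.leaf 0x40a21b17a) (.leaf 0x17cc2b086))) (.node (.node (.leaf 0x6138b050) (.leaf 0x1ef73b01c)) (.node (.leaf 0x8b02b0c0) (.leaf 0x127c25002)))) (.node (.node (.node (.leaf 0xd7596704e) (.leaf 0xe280b01e)) (.node (.leaf 0x16542b0a2) (.leaf 0x3e592b042))) (.node (.node (.leaf 0xc129a7004) (.leaf 0x43a377020)) (.node (.leaf 0x651e2704e) (.leaf 0x42f9a7030))))) (.node (.node (.node (.node (.leaf 0x7743700e) (.leaf 0x38c26704e)) (.node (.leaf 0x97c28b01e) (.leaf 0x54874b050))) (.node (.node (.leaf 0x15e83900e) (.leaf 0xb79469014))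 (.node (.leaf 0x72bc4b062) (.leaf 0x1eb637010)))) (.node (.node (.node (.leaf 0x18f5eb144) (.leaf 0x54eec7030)) (.node (.leaf 0x2a18b9044) (.leaf 0x26c9b7026))) (.node (.node (.leaf 0x59f79b0ea) (.leaf 0x83a2fb0c6)) (.node (.leaf 0x586feb0a2) (.leaf 0x50d24700a))))))) (.node (.node (.node (.node (.node (.node (.leaf 0xcadb7020) (.leaf 0xc22a99004)) (.node (.leaf 0x233c29006) (.leaf 0x18cce700e))) (.node (.node (.leaf 0x8385cb0d6) (.leaf 0x31d189000)) (.node (.leaf 0x2f5eb00a) (.leaf 0x3581a7010)))) (.node (.node (.node (.leaf 0x8b12b0c0) (.leaf 0xa347eb144)) (.node (.leaf 0x8095fb09a) (.leaf 0x71523b09c))) (.node (.node (.leaf 0x5504e9014) (.leaf 0x800bb14e)) (.node (.leaf 0xdcd7a9014) (.leaf 0x5b061b184))))) (.node (.node (.node (.node (.leaf 0x45ab064) (.leaf 0x5b88b114)) (.node (.leaf 0x186e57000) (.leaf 0x4c58e7002))) (.node (.node (.leaf 0x1a0fb044) (.leaf 0x4b0175014)) (.node (.leaf 0xd1255b09c) (.leaf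 0xc0f4790c6)))) (.node (.node (.node (.leaf 0x189709046) (.leaf 0x657b9000)) (.node (.leaf 0x3a409b044) (.leaf 0xa2c79006))) (.node (.node (.leaf 0x1ab53b044) (.leaf 0x7015eb002)) (.node (.leaf 0x3c36eb090) (.leaf 0x1d4c4b084)))))) (.node (.node (.node (.node (.node (.leaf 0xa7237b09c) (.leaf 0x1cd9c7020)) (.node (.leaf 0x1f201b0d6) (.leaf 0x2d57cb01c))) (.node (.node (.leaf 0x1c3b044) (.leaf 0x7afed700e)) (.node (.leaf 0x7ef997030) (.leaf 0x7117eb036)))) (.node (.node (.node (.leaf 0xf67c8b084) (.leaf 0x17c3bb0fc)) (.node (.leaf 0xa3a69042) (.leaf 0x46f91700e))) (.node (.node (.leaf 0xa9d59b09c) (.leaf 0x2605ab06a)) (.node (.leaf 0x91db2b0ea) (.leaf 0x36becb086))))) (.node (.node (.node (.node (.leaf 0x40b87020) (.leaf 0x156ebb056)) (.node (.leaf 0x43e4e7010) (.leaf 0x8cc777014))) (.node (.node (.leaf 0x4c71e7002) (.leaf 0x2916b00a)) (.node (.leaf 0x41dd95010) (.leaf 0x22c27b0c0)))) (.node (.node (.node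 (.leaf 0x3e391b000) (.leaf 0x24068b0d6)) (.node (.leaf 0x1078727004) (.leaf 0x1861d7010))) (.node (.node (.leaf 0xd61d17042) (.leaf 0x2a8bd9044)) (.node (.leaf 0x4e7e7b1d6) (.leaf 0x46b669026))))))))) (.node (.node (.node (.node (.node (.node (.node (.node (.leaf 0x16ee41b0c0) (.leaf 0x291cbb0d6)) (.node (.leaf 0x46bb3b000) (.leaf 0x382479024))) (.node (.node (.leaf 0x8293b0c0) (.leaf 0x2f932b056)) (.node (.leaf 0x2b0fbb0c6) (.leaf 0x1e84b7000)))) (.node (.node (.node (.leaf 0x381c59082) (.leaf 0x11ed27020)) (.node (.leaf 0x4f557000) (.leaf 0x59a3f7024))) (.node (.node (.leaf 0x15a34b10c) (.leaf 0x2d11b0a6)) (.node (.leaf 0x6bfb0b01e) (.leaf 0x4ed08b056))))) (.node (.node (.node (.node (.leaf 0xbbf547010) (.leaf 0x55199901a)) (.node (.leaf 0x24e51b024) (.leaf 0x71217020))) (.node (.node (.leaf 0x5b4697014) (.leaf 0x23158b062)) (.node (.leaf 0x176e39006) (.leaf 0xe4d8b01e)))) (.node (.node (.node (.leaf 0x2341b0a6)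 (.leaf 0x16a92b0a2)) (.node (.leaf 0x7c8ac700a) (.leaf 0xa94fb0fc))) (.node (.node (.leaf 0x200a6b114) (.leaf 0x3e593b09a)) (.node (.leaf 0xec55b01e) (.leaf 0x2a559905c)))))) (.node (.node (.node (.node (.node (.leaf 0x2faf8b056) (.leaf 0x4e3d7010)) (.node (.leaf 0xe745b01e) (.leaf 0xd4f789046))) (.node (.node (.leaf 0x4b4a700e) (.leaf 0x445b7b084)) (.node (.leaf 0xa836b194) (.leaf 0x4b0335002)))) (.node (.node (.node (.leaf 0x12b419002) (.leaf 0x306cab0c0)) (.node (.leaf 0x173f29042) (.leaf 0x65ff09016))) (.node (.node (.leaf 0x8961fb08a) (.leaf 0x6ee65b062)) (.node (.leaf 0xc701b3004) (.leaf 0xb333b09c))))) (.node (.node (.node (.node (.leaf 0x1f92ab0c6) (.leaf 0x6680b09a)) (.node (.leaf 0x8e8ab14e) (.leaf 0x19c7fb084))) (.node (.node (.leaf 0xb3c7b900e) (.leaf 0x58412b0a2)) (.node (.leaf 0xab1bbb01c) (.leaf 0x50f909016)))) (.node (.node (.node (.leaf 0x2e20db1d6) (.leaf 0xd46a2700e)) (.node (.leaf 0xc86a7000)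 (.leaf 0x2d9e2b042))) (.node (.node (.leaf 0x222afb14e) (.leaf 0x394bab0d6)) (.node (.leaf 0x86c3c9044) (.leaf 0x44009046))))))) (.node (.node (.node (.node (.node (.node (.leaf 0x3c0d55004) (.leaf 0x48c1ab06a)) (.node (.leaf 0x407a1b17a) (.leaf 0x9865b0d6))) (.node (.node (.leaf 0x61a81b090) (.leaf 0x60e2eb06a)) (.node (.leaf 0xae96b0ea) (.leaf 0x40364b17a)))) (.node (.node (.node (.leaf 0x2385ab0fc) (.leaf 0xb8ceb036)) (.node (.leaf 0x2df54b002) (.leaf 0x4484fb084))) (.node (.node (.leaf 0x68427020) (.leaf 0x7eccf7020)) (.node (.leaf 0x507517024) (.leaf 0x12f865010))))) (.node (.node (.node (.node (.leaf 0x675bb01c) (.leaf 0x7e179b09a)) (.node (.leaf 0x67c47b14e) (.leaf 0xfdc4b114))) (.node (.node (.leaf 0x41406b090) (.leaf 0x305c3b14e)) (.node (.leaf 0x9ac2c5000) (.leaf 0x2f990900e)))) (.node (.node (.node (.leaf 0x2a6579030) (.leaf 0x6e782b194)) (.node (.leaf 0x2f94b0cc) (.leaf 0x1284b5010))) (.node (.node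 (.leaf 0x32d8cb056) (.leaf 0x41f1c5000)) (.node (.leaf 0x4152b00c) (.leaf 0x10cd8b114)))))) (.node (.node (.node (.node (.node (.leaf 0x3242b114) (.leaf 0x4eb779036)) (.node (.leaf 0x17a609004) (.leaf 0x5474fb01c))) (.node (.node (.leaf 0x33b4eb06a) (.leaf 0xf8346b09c)) (.node (.leaf 0x65bb114) (.leaf 0x47e36b064)))) (.node (.node (.node (.leaf 0x298f7b024) (.leaf 0x3be3c9030)) (.node (.leaf 0x2ec4b0cc) (.leaf 0x36c949014))) (.node (.node (.leaf 0x370459010) (.leaf 0x4aee2b09c)) (.node (.leaf 0x7c007026) (.leaf 0x2794b0a6))))) (.node (.node (.node (.node (.leaf 0x5694ab14e) (.leaf 0xace38b002)) (.node (.leaf 0x71f38b084) (.leaf 0x2d979b000))) (.node (.node (.leaf 0xa456b086) (.leaf 0x171f07014)) (.node (.leaf 0x4e9ab144) (.leaf 0x3c89eb0cc)))) (.node (.node (.node (.leaf 0x1f051b0d6) (.leaf 0x12d4c7002)) (.node (.leaf 0x98b6f9026) (.leaf 0x26c4b0a6))) (.node (.node (.leaf 0x61f93b00a) (.leaf 0x12a375004))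 (.node (.leaf 0x1e1939000) (.leaf 0x28e1b900e)))))))) (.node (.node (.node (.node (.node (.node (.node (.leaf 0x1ceb97000) (.leaf 0x126749002)) (.node (.leaf 0x79909026) (.leaf 0x1574cb05c))) (.node (.node (.leaf 0x225d6b0c0) (.leaf 0x118139010)) (.node (.leaf 0x2511b0cc) (.leaf 0xa0409b14e)))) (.node (.node (.node (.leaf 0x4c892b0a6) (.leaf 0xadb98b194)) (.node (.leaf 0x79dce9000) (.leaf 0xe045b01e))) (.node (.node (.leaf 0x58d2eb0a2) (.leaf 0x75aab905c)) (.node (.leaf 0x237f3b0ea) (.leaf 0x38d61901c))))) (.node (.node (.node (.node (.leaf 0x41c77b090) (.leaf 0x598717004)) (.node (.leaf 0x192d4b036) (.leaf 0x36c679016))) (.node (.node (.leaf 0x9fec69016) (.leaf 0xa37659026)) (.node (.leaf 0x440b064) (.leaf 0x4ba325006)))) (.node (.node (.node (.leaf 0x58dfeb0a2) (.leaf 0x958c7b09c)) (.node (.leaf 0x180ba7030) (.leaf 0x67c57b14e))) (.node (.node (.leaf 0x1cd8eb00c) (.leaf 0x70ef7030)) (.node (.leaf 0x287e3b056)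 (.leaf 0x1a218b064)))))) (.node (.node (.node (.node (.node (.leaf 0x435fe9000) (.leaf 0x16aeeb0a2)) (.node (.leaf 0x266b0b00c) (.leaf 0xb6d4f7010))) (.node (.node (.leaf 0xb53cb084) (.leaf 0x2d0dbb050)) (.node (.leaf 0x21580b14e) (.leaf 0x12ea49002)))) (.node (.node (.node (.leaf 0x65dfd9082) (.leaf 0xc3eab002)) (.node (.leaf 0x3e8fbb014) (.leaf 0x5bae57034))) (.node (.node (.leaf 0x1510c9036) (.leaf 0x9662b0c6)) (.node (.leaf 0x59c819014) (.leaf 0x8fbd5900e))))) (.node (.node (.node (.node (.leaf 0x11f8bb01c) (.leaf 0x1646aab1fe)) (.node (.leaf 0x17cb3900a) (.leaf 0xebd8b01e))) (.node (.node (.leaf 0x2b41b0cc) (.leaf 0xaf9f9b0c0)) (.node (.leaf 0x2809db056) (.leaf 0x1623eb0a2)))) (.node (.node (.node (.leaf 0x1d4e3b09c) (.leaf 0x6d0b7010)) (.node (.leaf 0xe355b01e) (.leaf 0xa9560b09c))) (.node (.node (.leaf 0x4c0f79002) (.leaf 0x2ab5ab10c)) (.node (.leaf 0x46187b06a) (.leaf 0xa218b184))))))) (.node (.node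 (.node (.node (.node (.node (.leaf 0x21c58b2dc) (.leaf 0x3519b064)) (.node (.leaf 0x2f01a900e) (.leaf 0xa7adab036))) (.node (.node (.leaf 0x315f77030) (.leaf 0x46ee5b014)) (.node (.leaf 0x1f4cb064) (.leaf 0x433a6b002)))) (.node (.node (.node (.leaf 0x12fa97002) (.leaf 0x1cb499010)) (.node (.leaf 0x19c17b084) (.leaf 0x1e324b050))) (.node (.node (.leaf 0x5837ab0a2) (.leaf 0x3c5105010)) (.node (.leaf 0x4fcd9000) (.leaf 0xce217030))))) (.node (.node (.node (.node (.leaf 0xa731b062) (.leaf 0x418655000)) (.node (.leaf 0x22abfb14e) (.leaf 0x40534b17a))) (.node (.node (.leaf 0x94989b064) (.leaf 0x381df9014)) (.node (.leaf 0x1932cb036) (.leaf 0x48a86b000)))) (.node (.node (.node (.leaf 0x1e6ac7030) (.leaf 0x18d7b114)) (.node (.leaf 0x2e72fb10c) (.leaf 0x124da5000))) (.node (.node (.leaf 0x51bcfb084) (.leaf 0x698215010)) (.node (.leaf 0xc1f9b050) (.leaf 0x9aeb2b090)))))) (.node (.node (.node (.node (.node (.leaf 0x1622ab0a2)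 (.leaf 0x17fac7034)) (.node (.leaf 0x4294eb144) (.leaf 0x488cb7026))) (.node (.node (.leaf 0x3606a7024) (.leaf 0x65839010)) (.node (.leaf 0x8283b0c0) (.leaf 0x6d0435042)))) (.node (.node (.node (.leaf 0x22086b0c0) (.leaf 0x16816b0a2)) (.node (.leaf 0x1f040b024) (.leaf 0x28725900e))) (.node (.node (.leaf 0xff8e5b17a) (.leaf 0xf94cb044)) (.node (.leaf 0x60a5ab000) (.leaf 0x122397002))))) (.node (.node (.node (.node (.leaf 0x186119026) (.leaf 0x3752ab00c)) (.node (.leaf 0x4a451b084) (.leaf 0x42be97000))) (.node (.node (.leaf 0x7acbbb06a) (.leaf 0x1a68bb114)) (.node (.leaf 0x14cc81b090) (.leaf 0x2b635b024)))) (.node (.node (.node (.leaf 0x665e37026) (.leaf 0x1dd5eb036)) (.node (.leaf 0x15801b1fe) (.leaf 0x118d8b09a))) (.node (.node (.leaf 0x112db7010) (.leaf 0x12f8e5014)) (.node (.leaf 0x336dab000) (.leaf 0x48e59010))))))))))))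

theorem cert1_0 : chunkB 1 cert1 0 = true := by decide +kernel

theorem cert1_1 : chunkB 1 cert1 1 = true := by decide +kernel

theorem cert1_2 : chunkB 1 cert1 2 = true := by decide +kernel

theorem cert1_3 : chunkB 1 cert1 3 = true := by decide +kernel

theorem cert1_4 : chunkB 1 cert1 4 = true := by decide +kernel

theorem cert1_5 : chunkB 1 cert1 5 = true := by decide +kernel

theorem cert1_6 : chunkB 1 cert1 6 = true := by decide +kernel

theorem cert1_7 : chunkB 1 cert1 7 = true := by decide +kernel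

theorem cert1_ok : ∀ k < 2048, itemB 1 cert1 k = true :=
  of_chunks cert1_0 cert1_1 cert1_2 cert1_3 cert1_4 cert1_5 cert1_6 cert1_7

end Cfsg.Agent.F4Square.Two
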