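import Cfsg.Agent.F4Square.Two.Setup

/-!
Certificates for the coset of the Weyl element number 10.
-/

set_option autoImplicit false
set_option maxRecDepth 100000
set_option maxHeartbeats 0
set_option Elab.async false

namespace Cfsg.Agent.F4Square.Two

/-- The certificates. -/
noncomputable def cert10 : Tree :=
  (.node (.node (.node (.node (.node (.node (.node (.node (.node (.node (.node (.leaf 0x645f700e) (.leaf 0x719903000)) (.node (.leaf 0x4d5d7b05a) (.leaf 0xae71b2dc))) (.node (.node (.leaf 0xa1bb044) (.leaf 0x203097002)) (.node (.leaf 0x145539010) (.leaf 0x11cdcb144)))) (.node (.node (.node (.leaf 0x4699eb1fe) (.leaf 0x29b23b09a)) (.node (.leaf 0x7b719082) (.leaf 0x32f47b042))) (.node (.node (.leaf 0x123f3b090) (.leaf 0x2c971700e)) (.node (.leaf 0x5bd0b0c6) (.leaf 0x207265014))))) (.node (.node (.node (.node (.leaf 0x1cfa45006) (.leaf 0x44629700e)) (.node (.leaf 0xa8f40b042) (.leaf 0x34e0700e))) (.node (.node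 (.leaf 0x16a0b17a) (.leaf 0x84f49046)) (.node (.leaf 0x10da1b000) (.leaf 0x60ad9046)))) (.node (.node (.node (.leaf 0x5d3fdb0a6) (.leaf 0x13c40b062)) (.node (.leaf 0x79387006) (.leaf 0x1030b17a))) (.node (.node (.leaf 0x389b59004) (.leaf 0xc4a17014)) (.node (.leaf 0x1cd955006) (.leaf 0x91287b0cc)))))) (.node (.node (.node (.node (.node (.leaf 0xbf719000) (.leaf 0x2b2c9b1d6)) (.node (.leaf 0x1a0beb0ea) (.leaf 0x1be283000))) (.node (.node (.leaf 0x59592b0c0) (.leaf 0x8b0a700e)) (.node (.leaf 0x36a36900a) (.leaf 0x20af25000)))) (.node (.node (.node (.leaf 0x670757006) (.leaf 0x5deadb0a6)) (.node (.leaf 0x9123c5010) (.leaf 0xa248a9082))) (.node (.node (.leaf 0xbb599010) (.leaf 0xc4319004)) (.node (.leaf 0x190b07042) (.leaf 0x734aab1fe))))) (.node (.node (.node (.node (.leaf 0x58ba2b00c) (.leaf 0x847c2b09a)) (.node (.leaf 0x2d2b064) (.leaf 0x56dcc9042))) (.node (.node (.leaf 0x4721b1fe) (.leaf 0x21c87b044)) (.node (.leaf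 0x371f9026) (.leaf 0x8bd6fb06a)))) (.node (.node (.node (.leaf 0xdc029006) (.leaf 0x5c3fb7024)) (.node (.leaf 0x2266b024) (.leaf 0x266fb7030))) (.node (.node (.leaf 0x194d99016) (.leaf 0x16c90b0d6)) (.node (.leaf 0x8d832700a) (.leaf 0x18d787006))))))) (.node (.node (.node (.node (.node (.node (.leaf 0xd04d0b0cc) (.leaf 0x55960704e)) (.node (.leaf 0x125285014) (.leaf 0x11adb17a))) (.node (.node (.leaf 0x954cb7020) (.leaf 0x2f445b0a2)) (.node (.leaf 0xbb0eb144) (.leaf 0x3ccc27024)))) (.node (.node (.node (.leaf 0x3175cb01c) (.leaf 0x12e62b090)) (.node (.leaf 0x59d82b0c0) (.leaf 0x6c07b00c))) (.node (.node (.leaf 0x1adf7b0fc) (.leaf 0x56f08900c)) (.node (.leaf 0x2e4cbb050) (.leaf 0x65f09000))))) (.node (.node (.node (.node (.leaf 0x13faeb0fc) (.leaf 0x180ab9024)) (.node (.leaf 0x43ceab086) (.leaf 0x7ef3900c))) (.node (.node (.leaf 0xa631b0c0) (.leaf 0x3cb8b00c)) (.node (.leaf 0xe5e89014) (.leaf 0x248d9b09c)))) (.node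 (.node (.node (.leaf 0x584f57000) (.leaf 0x61d89010)) (.node (.leaf 0x2b353b10c) (.leaf 0xbea97000))) (.node (.node (.leaf 0x2fdd5b0a2) (.leaf 0x199e67004)) (.node (.leaf 0x1b164b05a) (.leaf 0x67a36900c)))))) (.node (.node (.node (.node (.node (.leaf 0x514899006) (.leaf 0x18727900c)) (.node (.leaf 0x28dfeb044) (.leaf 0x40ac9036))) (.node (.node (.leaf 0x7cf14900a) (.leaf 0xa426b9002)) (.node (.leaf 0xcefa90c6) (.leaf 0x590dbb14e)))) (.node (.node (.node (.leaf 0x4decb05c) (.leaf 0x7dc57024)) (.node (.leaf 0x1b3db17a) (.leaf 0xa74eeb0a6))) (.node (.node (.leaf 0x6d8fb144) (.leaf 0xb4c6b00c)) (.node (.leaf 0xa5358b036) (.leaf 0x9f9b9b05a))))) (.node (.node (.node (.node (.leaf 0x14c9b7010) (.leaf 0x15d349036)) (.node (.leaf 0x45a01b014) (.leaf 0xcdfa900a))) (.node (.node (.leaf 0x13c792b014) (.leaf 0x14998b09a)) (.node (.leaf 0x9a5f47042) (.leaf 0xf6769000)))) (.node (.node (.node (.leaf 0x2fa5b0c6) (.leaf 0x6e68790c6))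 (.node (.leaf 0x8e92bb0ea) (.leaf 0x2b4ce9030))) (.node (.node (.leaf 0x9a8aa7004) (.leaf 0xc088db002)) (.node (.leaf 0x3130b144) (.leaf 0x786f9014)))))))) (.node (.node (.node (.node (.node (.node (.node (.leaf 0x249ab0d6) (.leaf 0x18c057042)) (.node (.leaf 0x7ed57042) (.leaf 0x6ba827030))) (.node (.node (.leaf 0xca3d7034) (.leaf 0x48fd2b09c)) (.node (.leaf 0x35fed90c6) (.leaf 0x376da9004)))) (.node (.node (.node (.leaf 0x253337010) (.leaf 0x7c349016)) (.node (.leaf 0x330219026) (.leaf 0x4aaeb1d6))) (.node (.node (.leaf 0x1d165b0fc) (.leaf 0xb5de700e)) (.node (.leaf 0xffbe7000) (.leaf 0x41770b14e))))) (.node (.node (.node (.node (.leaf 0x1a5c9b062) (.leaf 0xefd3904e)) (.node (.leaf 0x5d6a0b0cc) (.leaf 0x19e0d7006))) (.node (.node (.leaf 0x2b580905c) (.leaf 0x560199006)) (.node (.leaf 0x2002e5010) (.leaf 0x1820b17a)))) (.node (.node (.node (.leaf 0x251f8b09a) (.leaf 0x1eb0b17a)) (.node (.leaf 0x34306b2dc) (.leaf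 0x36d079042))) (.node (.node (.leaf 0x5ecf19024) (.leaf 0x68287000)) (.node (.leaf 0x380c17034) (.leaf 0x393a9046)))))) (.node (.node (.node (.node (.node (.leaf 0x2212db2dc) (.leaf 0x740453006)) (.node (.leaf 0x180049016) (.leaf 0x17bdeb014))) (.node (.node (.leaf 0x40eb1905c) (.leaf 0x29701b06a)) (.node (.leaf 0x13527b0ea) (.leaf 0x1bdfdb05a)))) (.node (.node (.node (.leaf 0x263589026) (.leaf 0x37c427042)) (.node (.leaf 0x2a3f9b01c) (.leaf 0x20e475004))) (.node (.node (.leaf 0x2a390b06a) (.leaf 0xd552900a)) (.node (.leaf 0x9713b0d6) (.leaf 0x1009cb002))))) (.node (.node (.node (.node (.leaf 0x534afb042) (.leaf 0x77baf9042)) (.node (.leaf 0x13fe7b086) (.leaf 0x6e5f87034))) (.node (.node (.leaf 0x91297b0cc) (.leaf 0x1c6b1500e)) (.node (.leaf 0x267597020) (.leaf 0x28587b064)))) (.node (.node (.node (.leaf 0xd65290c6) (.leaf 0x1c508500e)) (.node (.leaf 0x1b5e23004) (.leaf 0x1e9089014))) (.node (.node (.leaf 0x725c2904e)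 (.leaf 0x98905b01c)) (.node (.leaf 0x7ce2a700a) (.leaf 0xb4749046))))))) (.node (.node (.node (.node (.node (.node (.leaf 0x1b2db17a) (.leaf 0xcbaa9006)) (.node (.leaf 0x3836e900a) (.leaf 0x44d61b00c))) (.node (.node (.leaf 0x19ee07024) (.leaf 0x819c5b0a6)) (.node (.leaf 0x59d7b0d6) (.leaf 0x92740b114)))) (.node (.node (.node (.leaf 0x4ac8fb0c6) (.leaf 0x6408c90c6)) (.node (.leaf 0x2a0deb09a) (.leaf 0x2f6d5b0a2))) (.node (.node (.leaf 0x8c917010) (.leaf 0x4ae41b024)) (.node (.leaf 0x1a430b184) (.leaf 0x62fb990c6))))) (.node (.node (.node (.node (.leaf 0x192169014) (.leaf 0x2f345b0a2)) (.node (.leaf 0x7abf8b09c) (.leaf 0x32c8eb050))) (.node (.node (.leaf 0x5d6adb0cc) (.leaf 0xec327024)) (.node (.leaf 0x53489b002) (.leaf 0x7a1f7004)))) (.node (.node (.node (.leaf 0x19cce9024) (.leaf 0x4c74cb184)) (.node (.leaf 0x251fb9010) (.leaf 0xcdbb9042))) (.node (.node (.leaf 0x8b9ab144) (.leaf 0x22da5b14e)) (.node (.leaf 0x374da901c)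 (.leaf 0x429be9006)))))) (.node (.node (.node (.node (.node (.leaf 0x794d901c) (.leaf 0x3cfec9014)) (.node (.leaf 0x16fb3b0c6) (.leaf 0x367e59004))) (.node (.node (.leaf 0x29140b01c) (.leaf 0x4904b10c)) (.node (.leaf 0x120355000) (.leaf 0x1e6b29082)))) (.node (.node (.node (.leaf 0x189837004) (.leaf 0x11bdb17a)) (.node (.leaf 0x452ecb042) (.leaf 0xa3334901a))) (.node (.node (.leaf 0x4d812b05a) (.leaf 0x45a167026)) (.node (.leaf 0x1d4dfb062) (.leaf 0xf52d7030))))) (.node (.node (.node (.node (.leaf 0x174a4b06a) (.leaf 0x5c6de901a)) (.node (.leaf 0xf95b8b044) (.leaf 0x87697000))) (.node (.node (.leaf 0x18f8d901c) (.leaf 0x11eb709082)) (.node (.leaf 0xafd2cb194) (.leaf 0x2ba9e905c)))) (.node (.node (.node (.leaf 0x8602b00c) (.leaf 0x13671b184)) (.node (.leaf 0x29e9bb014) (.leaf 0x25563b01c))) (.node (.node (.leaf 0x1c09b7002) (.leaf 0xd5d99004)) (.node (.leaf 0x6ab709010) (.leaf 0x38c6e90c6))))))))) (.node (.node (.node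 (.node (.node (.node (.node (.node (.leaf 0xd313b194) (.leaf 0xc9f8b062)) (.node (.leaf 0x74920b08a) (.leaf 0x5cf49b0ea))) (.node (.node (.leaf 0x11a5b7026) (.leaf 0x353fd9006)) (.node (.leaf 0x32d5eb014) (.leaf 0x7d240b036)))) (.node (.node (.node (.leaf 0xaac24b036) (.leaf 0x1df227024)) (.node (.leaf 0x1c4a39002) (.leaf 0x71f8904e))) (.node (.node (.leaf 0x1b6dfb08a) (.leaf 0x5a88b0c6)) (.node (.leaf 0x2f7fdb0a2) (.leaf 0x3afeb06a))))) (.node (.node (.node (.node (.leaf 0x673b5904e) (.leaf 0x2f7c0b0a2)) (.node (.leaf 0x64a599024) (.leaf 0x3641cb062))) (.node (.node (.leaf 0x22db5b14e) (.leaf 0xa7994500e)) (.node (.leaf 0xe0cfb062) (.leaf 0x4cf7b056)))) (.node (.node (.node (.leaf 0x1cdf0b00a) (.leaf 0x144e3b002)) (.node (.leaf 0x196cd904e) (.leaf 0xb4059026))) (.node (.node (.leaf 0xfb0db09a) (.leaf 0x19bdb17a)) (.node (.leaf 0x135697014) (.leaf 0x233fbb00c)))))) (.node (.node (.node (.node (.node (.leaf 0x1800c901a)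 (.leaf 0x49b40704e)) (.node (.leaf 0x1cd339002) (.leaf 0x9521db050))) (.node (.node (.leaf 0x504e5b044) (.leaf 0x65bddb194)) (.node (.leaf 0xe300b086) (.leaf 0x965fb024)))) (.node (.node (.node (.leaf 0x25940b050) (.leaf 0x405179044)) (.node (.leaf 0x29a8db000) (.leaf 0x29cab0d6))) (.node (.node (.leaf 0xa22dbb062) (.leaf 0x4325a9042)) (.node (.leaf 0x7bed6b090) (.leaf 0xbdda7030))))) (.node (.node (.node (.node (.leaf 0x6bbad9010) (.leaf 0xfe067010)) (.node (.leaf 0x1cb6eb0a6) (.leaf 0x4c51b056))) (.node (.node (.leaf 0x2181fb114) (.leaf 0x20f6b024)) (.node (.leaf 0xf72c4500a) (.leaf 0x23d63b144)))) (.node (.node (.node (.leaf 0x267cc9010) (.leaf 0x86867030)) (.node (.leaf 0x132db17a) (.leaf 0x2cf20b042))) (.node (.node (.leaf 0x53ea6b014) (.leaf 0x4ca147014)) (.node (.leaf 0x8eb59026) (.leaf 0x444fdb014))))))) (.node (.node (.node (.node (.node (.node (.leaf 0x20f26500a) (.leaf 0x1baa93004)) (.node (.leaf 0xbc9827014)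 (.leaf 0x12f705010))) (.node (.node (.leaf 0x3aa60900e) (.leaf 0x16b0b17a)) (.node (.leaf 0x1c31fb0a6) (.leaf 0x664c1b00a)))) (.node (.node (.node (.leaf 0x1ea70b086) (.leaf 0xf68e9010)) (.node (.leaf 0x334759010) (.leaf 0x1020b17a))) (.node (.node (.leaf 0x79b1bb0d6) (.leaf 0x13036900a)) (.node (.leaf 0x649b7030) (.leaf 0x34ca7b2dc))))) (.node (.node (.node (.node (.leaf 0x5eba490c6) (.leaf 0xbc86b7006)) (.node (.leaf 0xc832b0fc) (.leaf 0x951329000))) (.node (.node (.leaf 0x1d757901a) (.leaf 0x1373690c6)) (.node (.leaf 0x4dda43006) (.leaf 0x15efe9036)))) (.node (.node (.node (.leaf 0x7a929b09c) (.leaf 0xf056b01c)) (.node (.leaf 0x2acbfb042) (.leaf 0x4d9ba3006))) (.node (.node (.leaf 0xe2a5b0fc) (.leaf 0xb8e55b002)) (.node (.leaf 0x73a8700a) (.leaf 0x1c951b00a)))))) (.node (.node (.node (.node (.node (.leaf 0x1fed4b114) (.leaf 0x51799900a)) (.node (.leaf 0xdd80b062) (.leaf 0x12952b0cc))) (.node (.node (.leaf 0x9110b0c6)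 (.leaf 0x1273c5004)) (.node (.leaf 0x3731d900a) (.leaf 0x1b8a23000)))) (.node (.node (.node (.leaf 0x6ad277030) (.leaf 0x62ae99006)) (.node (.leaf 0x20abb5006) (.leaf 0x206665006))) (.node (.node (.leaf 0xeb62b184) (.leaf 0xec1a6b002)) (.node (.leaf 0xdfafd7014) (.leaf 0x38f9b042))))) (.node (.node (.node (.node (.leaf 0x148df2300a) (.leaf 0x6b5d89046)) (.node (.leaf 0x20957500e) (.leaf 0x20eea500e))) (.node (.node (.leaf 0x32fe6b09a) (.leaf 0x4a0f900e)) (.node (.leaf 0x1eb33b062) (.leaf 0x74859b08a)))) (.node (.node (.node (.leaf 0x8d3d37042) (.leaf 0x2a366b050)) (.node (.leaf 0xa00b064) (.leaf 0x1b002b08a))) (.node (.node (.leaf 0x231f3700e) (.leaf 0x3efdfb09c)) (.node (.leaf 0x879927010) (.leaf 0x3b4079030)))))))) (.node (.node (.node (.node (.node (.node (.node (.leaf 0x5c689b086) (.leaf 0x330ab000)) (.node (.leaf 0x409a19030) (.leaf 0x411f8b0c0))) (.node (.node (.leaf 0x8c316b09a) (.leaf 0xb58c7020)) (.node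 (.leaf 0x9703b0d6) (.leaf 0x352e09042)))) (.node (.node (.node (.leaf 0x7f2c901a) (.leaf 0x51a13700a)) (.node (.leaf 0x17ec7b042) (.leaf 0x435db900a))) (.node (.node (.leaf 0x2fe6db0a2) (.leaf 0xc68bb086)) (.node (.leaf 0x65508b0fc) (.leaf 0x1ac3f9006))))) (.node (.node (.node (.node (.leaf 0x36f77b086) (.leaf 0xa91ef9024)) (.node (.leaf 0x1c9a0502a) (.leaf 0x7f9cf9044))) (.node (.node (.leaf 0xcf4bb0ea) (.leaf 0x12fd3b0cc)) (.node (.leaf 0x3b20ab10c) (.leaf 0x1cca8b00a)))) (.node (.node (.node (.leaf 0x35f2c900c) (.leaf 0xdf01b184)) (.node (.leaf 0x5c656b062) (.leaf 0x1bff7b08a))) (.node (.node (.leaf 0x436db90c6) (.leaf 0x1cf505002)) (.node (.leaf 0x15499b056) (.leaf 0x133db17a)))))) (.node (.node (.node (.node (.node (.leaf 0x625327034) (.leaf 0xa621b0c0)) (.node (.leaf 0x31682b042) (.leaf 0x183b114))) (.node (.node (.leaf 0x21604b064) (.leaf 0x3869fb194)) (.node (.leaf 0x1e750b194) (.leaf 0xbafd39030)))) (.node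 (.node (.node (.leaf 0x915615000) (.leaf 0xe1c0b0ea)) (.node (.leaf 0xa95e09016) (.leaf 0x5dff7b00a))) (.node (.node (.leaf 0x68b019006) (.leaf 0x13d157034)) (.node (.leaf 0x361b7b0ea) (.leaf 0x661c9502a))))) (.node (.node (.node (.node (.leaf 0x55c139004) (.leaf 0x44298b042)) (.node (.leaf 0x7ce93901c) (.leaf 0x2f8fdb0a2))) (.node (.node (.leaf 0x2f810b0a2) (.leaf 0x81dc7020)) (.node (.leaf 0xdafcc7026) (.leaf 0x2e6bcb01c)))) (.node (.node (.node (.leaf 0x5b067704e) (.leaf 0x19adb17a)) (.node (.leaf 0x4d5e0905a) (.leaf 0x15b37b056))) (.node (.node (.leaf 0x11996b000) (.leaf 0x1a0ce9042)) (.node (.leaf 0x19e91901a) (.leaf 0x6fc49026))))))) (.node (.node (.node (.node (.node (.node (.leaf 0x5df1db090) (.leaf 0x5dd3b024)) (.node (.leaf 0x2715cb036) (.leaf 0x4dc98300e))) (.node (.node (.leaf 0x60a0bb056) (.leaf 0xf96f7020)) (.node (.leaf 0x1830b17a) (.leaf 0x3f3d9b09c)))) (.node (.node (.node (.leaf 0x42a9900e) (.leaf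 0x1ea0b17a)) (.node (.leaf 0x3d436b036) (.leaf 0x7256704e))) (.node (.node (.leaf 0x1d77e9082) (.leaf 0x37c1d90c6)) (.node (.leaf 0x12d215010) (.leaf 0x15b8f900e))))) (.node (.node (.node (.node (.leaf 0x275d3b084) (.leaf 0x454e5b00c)) (.node (.leaf 0xa97c17024) (.leaf 0x1c009b00a))) (.node (.node (.leaf 0x6d608b000) (.leaf 0x1b8ff3000)) (.node (.leaf 0x1932f704e) (.leaf 0x20a5f5002)))) (.node (.node (.node (.leaf 0x16c99b024) (.leaf 0x6f33db09a)) (.node (.leaf 0x43bbc9004) (.leaf 0x36bd7b194))) (.node (.node (.leaf 0x4b636b09c) (.leaf 0x69547026)) (.node (.leaf 0xc7a9b184) (.leaf 0x266c7b00c)))))) (.node (.node (.node (.node (.node (.leaf 0xdcb3b086) (.leaf 0x5487b0d6)) (.node (.leaf 0x4672a9030) (.leaf 0x453e9036))) (.node (.node (.leaf 0x31b99b000) (.leaf 0x368f7026)) (.node (.leaf 0x36cfeb0fc) (.leaf 0x126755004)))) (.node (.node (.node (.leaf 0xa0b9b14e) (.leaf 0xb8ea7b042)) (.node (.leaf 0x74092905a) (.leaf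 0x252039000))) (.node (.node (.leaf 0x1bcbab08a) (.leaf 0xb1957026)) (.node (.leaf 0x28f36b114) (.leaf 0xc2dd5b0fc))))) (.node (.node (.node (.node (.leaf 0x1de0f9016) (.leaf 0x1b3d03004)) (.node (.leaf 0x483bab09c) (.leaf 0x74f1f905a))) (.node (.node (.leaf 0xae61b2dc) (.leaf 0x1a9687014)) (.node (.leaf 0x3d84b014) (.leaf 0x8d657026)))) (.node (.node (.node (.leaf 0x39371b114) (.leaf 0x2afdb0c6)) (.node (.leaf 0x22f3db0c0) (.leaf 0x4583db144))) (.node (.node (.leaf 0x6a557020) (.leaf 0x2e133b09a)) (.node (.leaf 0x61e2eb036) (.leaf 0x133269006)))))))))) (.node (.node (.node (.node (.node (.node (.node (.node (.node (.leaf 0x4e1987026) (.leaf 0x1cde45014)) (.node (.leaf 0x2ffacb0a2) (.leaf 0xbd29b002))) (.node (.node (.leaf 0x8b9da9000) (.leaf 0x1b65c300a)) (.node (.leaf 0x38be77004) (.leaf 0x1dff09042)))) (.node (.node (.node (.leaf 0x1b706300a) (.leaf 0xf79a9026)) (.node (.leaf 0x2a77b024) (.leaf 0xcea9c7026)))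 (.node (.node (.leaf 0x3b032b1d6) (.leaf 0x53e7c7020)) (.node (.leaf 0x2f37cb0a2) (.leaf 0x4c7e9904e))))) (.node (.node (.node (.node (.leaf 0x322587020) (.leaf 0x20150b090)) (.node (.leaf 0xfa21700e) (.leaf 0x1229db00a))) (.node (.node (.leaf 0x41eb5b2dc) (.leaf 0x515327024)) (.node (.leaf 0x45e91b050) (.leaf 0x3e8b7010)))) (.node (.node (.node (.leaf 0x40e1e9036) (.leaf 0x36eaf7004)) (.node (.leaf 0xa8bcb14e) (.leaf 0xa0f8b7026))) (.node (.node (.leaf 0x4410eb01c) (.leaf 0x19b2eb086)) (.node (.leaf 0x3a9bb01c) (.leaf 0x1489eb06a)))))) (.node (.node (.node (.node (.node (.leaf 0xa4db114) (.leaf 0x15315905c)) (.node (.leaf 0x170959010) (.leaf 0x699db000))) (.node (.node (.leaf 0x1fd5b17a) (.leaf 0x2af4b0c6)) (.node (.leaf 0x18094b062) (.leaf 0x1405b17a)))) (.node (.node (.node (.leaf 0x7195b184) (.leaf 0x12c84502a)) (.node (.leaf 0x28d6cb114) (.leaf 0x2b5ba900e))) (.node (.node (.leaf 0x199eeb0ea) (.leaf 0x2ae219010))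 (.node (.leaf 0x46e37b1d6) (.leaf 0x1bf1c3006))))) (.node (.node (.node (.node (.leaf 0x54caab044) (.leaf 0x1d8cc900c)) (.node (.leaf 0x13044700a) (.leaf 0xdbd9901c))) (.node (.node (.leaf 0x1c03fb090) (.leaf 0xcb537004)) (.node (.leaf 0x2d77fb084) (.leaf 0x3489eb14e)))) (.node (.node (.node (.leaf 0xda9d9082) (.leaf 0x9b23cb08a)) (.node (.leaf 0x1a83f704e) (.leaf 0x77d01901c))) (.node (.node (.leaf 0x31a699046) (.leaf 0xc4e97042)) (.node (.leaf 0x2d61cb036) (.leaf 0x75abfb042))))))) (.node (.node (.node (.node (.node (.node (.leaf 0x1698b17a) (.leaf 0x5bc64b184)) (.node (.leaf 0x60450b1d6) (.leaf 0x192e7b0fc))) (.node (.node (.leaf 0x71e15300a) (.leaf 0x302e0b024)) (.node (.leaf 0xb0565b014) (.leaf 0xc6ab9024)))) (.node (.node (.node (.leaf 0x11a5e7020) (.leaf 0x3c961900a)) (.node (.leaf 0x451cab002) (.leaf 0x2d7e4b036))) (.node (.node (.leaf 0xb8ebb042) (.leaf 0x55c9bb184)) (.node (.leaf 0x12142b0a6) (.leaf 0x3716f9016)))))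 (.node (.node (.node (.node (.leaf 0x63cf2b064) (.leaf 0x56127904e)) (.node (.leaf 0x342b7b0c0) (.leaf 0x84e9b002))) (.node (.node (.leaf 0x2f5d9b0a2) (.leaf 0x3d401b084)) (.node (.leaf 0x429a1901c) (.leaf 0x815099002)))) (.node (.node (.node (.leaf 0xdc2b7004) (.leaf 0x1bf69905a)) (.node (.leaf 0x8a9d9900c) (.leaf 0x146b0b014))) (.node (.node (.leaf 0xd2f47006) (.leaf 0xca57900c)) (.node (.leaf 0x49aca904e) (.leaf 0x5107f9016)))))) (.node (.node (.node (.node (.node (.leaf 0xeb1b13000) (.leaf 0x71e4b062)) (.node (.leaf 0x35bd0b0ea) (.leaf 0x2e0bb0d6))) (.node (.node (.leaf 0x1648b17a) (.leaf 0x905c3b0d6)) (.node (.leaf 0x10b387026) (.leaf 0x9c51e7010)))) (.node (.node (.node (.leaf 0x261b3b014) (.leaf 0x1d63a7014)) (.node (.leaf 0x8a04b000) (.leaf 0x16f3cb024))) (.node (.node (.leaf 0x2c3edb09a) (.leaf 0x4dc5db05a)) (.node (.leaf 0x31827020) (.leaf 0x4906e901a))))) (.node (.node (.node (.node (.leaf 0x2a2a97010)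 (.leaf 0x1c60eb090)) (.node (.leaf 0x3799e9082) (.leaf 0x9fd813006))) (.node (.node (.leaf 0x9d4eb024) (.leaf 0x16366b0c6)) (.node (.leaf 0x24aceb084) (.leaf 0xade867024)))) (.node (.node (.node (.leaf 0x5e746901a) (.leaf 0x2b674b056)) (.node (.leaf 0xae24b0c0) (.leaf 0x1a811901a))) (.node (.node (.leaf 0x2fc49b0a2) (.leaf 0x1e50d900a)) (.node (.leaf 0x120d4b00a) (.leaf 0xc3759082)))))))) (.node (.node (.node (.node (.node (.node (.node (.leaf 0x7f8eb0fc) (.leaf 0x667315000)) (.node (.leaf 0x4cbdd901a) (.leaf 0x122979002))) (.node (.node (.leaf 0x14e0ab000) (.leaf 0x5dd619002)) (.node (.leaf 0x11be8b09a) (.leaf 0x77b4b900c)))) (.node (.node (.node (.leaf 0x4b96b10c) (.leaf 0x7fe4fb056)) (.node (.leaf 0x1a11d700a) (.leaf 0xbec76b114))) (.node (.node (.leaf 0xda2f900c) (.leaf 0x13f26704e)) (.node (.leaf 0x101797020) (.leaf 0x6a13b050))))) (.node (.node (.node (.node (.leaf 0x12bc5b00a) (.leaf 0x45d497030)) (.node (.leaf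 0x13754904e) (.leaf 0x1bb00300e))) (.node (.node (.leaf 0x678fab0ea) (.leaf 0xd6d39024)) (.node (.leaf 0x36a9f9014) (.leaf 0x16c5db0d6)))) (.node (.node (.node (.leaf 0x112277010) (.leaf 0x121569002)) (.node (.leaf 0x695b6b044) (.leaf 0x34fe7b0c0))) (.node (.node (.leaf 0x7be24500a) (.leaf 0x1bbca300e)) (.node (.leaf 0xdc509016) (.leaf 0x19f49b062)))))) (.node (.node (.node (.node (.node (.leaf 0x329067030) (.leaf 0x10fe89026)) (.node (.leaf 0x2c7137020) (.leaf 0x3157c9000))) (.node (.node (.leaf 0x12c079002) (.leaf 0x865eb050)) (.node (.leaf 0x3f583b084) (.leaf 0x2f47cb0a2)))) (.node (.node (.node (.leaf 0x2f0acb0a2) (.leaf 0x1285b17a)) (.node (.leaf 0x4643905c) (.leaf 0x1a55b17a))) (.node (.node (.leaf 0xa6160704e) (.leaf 0x6f77b9046)) (.node (.leaf 0x9ce677020) (.leaf 0xdd5b044))))) (.node (.node (.node (.node (.leaf 0x35356b184) (.leaf 0x17772b00c)) (.node (.leaf 0x511c49014) (.leaf 0x1d8e09024))) (.node (.node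 (.leaf 0x37b527024) (.leaf 0xa664b2dc)) (.node (.leaf 0x1c02fb090) (.leaf 0xe112db0ea)))) (.node (.node (.node (.leaf 0x661bfb090) (.leaf 0x9692b0d6)) (.node (.leaf 0x5be2b024) (.leaf 0xce239014))) (.node (.node (.leaf 0x7367b194) (.leaf 0x43751700a)) (.node (.leaf 0x128c69002) (.leaf 0x99a279046))))))) (.node (.node (.node (.node (.node (.node (.leaf 0x9b41b0c6) (.leaf 0x66bab042)) (.node (.leaf 0x5bbffb0fc) (.leaf 0x27f7cb09c))) (.node (.node (.leaf 0x23749b06a) (.leaf 0xee3d704e)) (.node (.leaf 0x3ca6190c6) (.leaf 0xc3bf6b09c)))) (.node (.node (.node (.leaf 0x31e0fb00c) (.leaf 0xd3417042)) (.node (.leaf 0x7187b086) (.leaf 0x62671b0fc))) (.node (.node (.leaf 0xcbd5e901c) (.leaf 0x1818b17a)) (.node (.leaf 0x247b9b036) (.leaf 0x3667d7042))))) (.node (.node (.node (.node (.leaf 0x35139010) (.leaf 0x18132b0fc)) (.node (.leaf 0x4435e7010) (.leaf 0x4ccd905c))) (.node (.node (.leaf 0x23bdfb09a) (.leaf 0x20b1db090)) (.node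 (.leaf 0xc4289016) (.leaf 0x1d4767034)))) (.node (.node (.node (.leaf 0x5b546b194) (.leaf 0x4d2f33004)) (.node (.leaf 0xd81b9014) (.leaf 0x1b510905a))) (.node (.node (.leaf 0x1a20d904e) (.leaf 0x367199082)) (.node (.leaf 0x33eb4b06a) (.leaf 0x3d32eb09c)))))) (.node (.node (.node (.node (.node (.leaf 0x31397b144) (.leaf 0xca31901c)) (.node (.leaf 0xb612b050) (.leaf 0x65590704e))) (.node (.node (.leaf 0x11e37b01c) (.leaf 0x6ff71b144)) (.node (.leaf 0x2994fb00c) (.leaf 0xd4517024)))) (.node (.node (.node (.leaf 0x327cb09a) (.leaf 0x9f022300e)) (.node (.leaf 0x1bc8b17a) (.leaf 0xeb6d900a))) (.node (.node (.leaf 0x326319026) (.leaf 0x63a8b002)) (.node (.leaf 0x1716a700e) (.leaf 0x1f946b044))))) (.node (.node (.node (.node (.leaf 0x171657000) (.leaf 0x2fed9b0a2)) (.node (.leaf 0x38cc99082) (.leaf 0x1b2a8905a))) (.node (.node (.leaf 0x71702300e) (.leaf 0x7447b0ea)) (.node (.leaf 0x4d8e5b05a) (.leaf 0x2a27ab00c)))) (.node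 (.node (.node (.leaf 0x7abe0b036) (.leaf 0x1d0327042)) (.node (.leaf 0x3f5ebb084) (.leaf 0x173b09046))) (.node (.node (.leaf 0x1258cb00a) (.leaf 0x140c5b042)) (.node (.leaf 0x849357000) (.leaf 0x987259000))))))))) (.node (.node (.node (.node (.node (.node (.node (.node (.leaf 0x1c2fc5010) (.leaf 0x14604b00c)) (.node (.leaf 0x4ed43b00c) (.leaf 0x2c7a2b002))) (.node (.node (.leaf 0x5c4339004) (.leaf 0x1edfe9004)) (.node (.leaf 0x6e91b06a) (.leaf 0x176487020)))) (.node (.node (.node (.leaf 0x2e5099046) (.leaf 0x8f816b062)) (.node (.leaf 0x1024d3905a) (.leaf 0x4b7eb05c))) (.node (.node (.leaf 0x131b3900c) (.leaf 0x64122901a)) (.node (.leaf 0x2da1ab084) (.leaf 0x200fdb0a6))))) (.node (.node (.node (.node (.leaf 0x8b9229010) (.leaf 0x44026b002)) (.node (.leaf 0x1aa9e9024) (.leaf 0x33885b002))) (.node (.node (.leaf 0x54962b114) (.leaf 0xd764700a)) (.node (.leaf 0x4330a9024) (.leaf 0x1933f90c6)))) (.node (.node (.node (.leaf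 0x137079024) (.leaf 0x8de6b09a)) (.node (.leaf 0x5c6a99024) (.leaf 0xb678e9046))) (.node (.node (.leaf 0x2ccba9000) (.leaf 0x1018b17a)) (.node (.leaf 0x35e987004) (.leaf 0x8dceb014)))))) (.node (.node (.node (.node (.node (.leaf 0x4a924b024) (.leaf 0x4c1c4901c)) (.node (.leaf 0x4de163000) (.leaf 0xbe58b06a))) (.node (.node (.leaf 0x12325500e) (.leaf 0x9ba85905a)) (.node (.leaf 0x1d9fd704e) (.leaf 0x1144f7000)))) (.node (.node (.node (.leaf 0x12734500e) (.leaf 0x1b386b05a)) (.node (.leaf 0x1c5005004) (.leaf 0x33e37000))) (.node (.node (.leaf 0x6c09eb144) (.leaf 0xedba9004)) (.node (.leaf 0x3bea3900e) (.leaf 0x5d72b024))))) (.node (.node (.node (.node (.leaf 0x3c5ca7014) (.leaf 0x38280700a)) (.node (.leaf 0x2a6cd9026) (.leaf 0x1b288b08a))) (.node (.node (.leaf 0xd748901a) (.leaf 0x15fb79044)) (.node (.leaf 0x13c8b17a) (.leaf 0x72397034)))) (.node (.node (.node (.leaf 0x11ec0b050) (.leaf 0x304f6b0c6)) (.node (.leaf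 0x4b113b09c) (.leaf 0x1cb0fb0cc))) (.node (.node (.leaf 0x37802b184) (.leaf 0x6d1d99026)) (.node (.leaf 0xa35fcb062) (.leaf 0xe3227042))))))) (.node (.node (.node (.node (.node (.node (.leaf 0x1b822905a) (.leaf 0x13edf9014)) (.node (.leaf 0x1898d9004) (.leaf 0x7306900a))) (.node (.node (.leaf 0x3ce719006) (.leaf 0xe3ba901c)) (.node (.leaf 0x128fe7002) (.leaf 0x1fdceb114)))) (.node (.node (.node (.leaf 0x102abdb08a) (.leaf 0x192147034)) (.node (.leaf 0x313b9000) (.leaf 0x1b9a1b08a))) (.node (.node (.leaf 0x68c3b014) (.leaf 0xc3bbbb036)) (.node (.leaf 0x8dd837024) (.leaf 0xa674b2dc))))) (.node (.node (.node (.node (.leaf 0x450e2b01c) (.leaf 0x136317042)) (.node (.leaf 0x65b09900c) (.leaf 0x1ee909024))) (.node (.node (.leaf 0x6957db064) (.leaf 0xcd70901a)) (.node (.leaf 0x916eb9002) (.leaf 0xaba19905c)))) (.node (.node (.node (.leaf 0x494bdb0ea) (.leaf 0x18b5d7014)) (.node (.leaf 0x22db8b14e) (.leaf 0x1b87f905a))) (.node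 (.node (.leaf 0x1255b17a) (.leaf 0x33fe0b000)) (.node (.leaf 0x8dc1b01c) (.leaf 0x1a85b17a)))))) (.node (.node (.node (.node (.node (.leaf 0x11e087030) (.leaf 0x1ba53b05a)) (.node (.leaf 0x46de4900e) (.leaf 0x12b2e7002))) (.node (.node (.leaf 0x505b0b064) (.leaf 0x100e7b144)) (.node (.leaf 0x353d39016) (.leaf 0x9181a9002)))) (.node (.node (.node (.leaf 0x16eacb024) (.leaf 0x7cc397004)) (.node (.leaf 0x1bdda905a) (.leaf 0x1c37eb0cc))) (.node (.node (.leaf 0x435347042) (.leaf 0x4b779044)) (.node (.leaf 0x89b6c7042) (.leaf 0x3ab189044))))) (.node (.node (.node (.node (.leaf 0x8a172700a) (.leaf 0x7c0690c6)) (.node (.leaf 0x24f0bb084) (.leaf 0x1b817905a))) (.node (.node (.leaf 0x4c68a7004) (.leaf 0xcefd87010)) (.node (.leaf 0x8c7117000) (.leaf 0x10f2a57030)))) (.node (.node (.node (.leaf 0x275c5b09c) (.leaf 0x6a50b01c)) (.node (.leaf 0x36fc0904e) (.leaf 0x1a78c9082))) (.node (.node (.leaf 0x133617024) (.leaf 0x1fd91b064))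 (.node (.leaf 0x1a2cd7006) (.leaf 0x56af6b184)))))))) (.node (.node (.node (.node (.node (.node (.node (.leaf 0xae34b0c0) (.leaf 0x5557a904e)) (.node (.leaf 0x40d19044) (.leaf 0xb7d1b01c))) (.node (.node (.leaf 0x3b63b002) (.leaf 0x101119046)) (.node (.leaf 0x2fd61b0a2) (.leaf 0x2c60d7030)))) (.node (.node (.node (.leaf 0x2fff1b0a2) (.leaf 0x7734e704e)) (.node (.leaf 0x36190700a) (.leaf 0x8d57f9082))) (.node (.node (.leaf 0x2ec649010) (.leaf 0x105d49000)) (.node (.leaf 0x12a315006) (.leaf 0xd802704e))))) (.node (.node (.node (.node (.leaf 0xd234904e) (.leaf 0x1e98b17a)) (.node (.leaf 0x183ea90c6) (.leaf 0x13b4d9082))) (.node (.node (.leaf 0x1dcd3700a) (.leaf 0x5c71b0c6)) (.node (.leaf 0x44f2e9000) (.leaf 0x13ab9901c)))) (.node (.node (.node (.leaf 0x82fcfb10c) (.leaf 0x2facb0c6)) (.node (.leaf 0x1a0b67004) (.leaf 0x59a03b2dc))) (.node (.node (.leaf 0xeb94ab08a) (.leaf 0x3a86fb05c)) (.node (.leaf 0x22f30b0c0) (.leaf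 0x23c40b002)))))) (.node (.node (.node (.node (.node (.leaf 0x9682b0d6) (.leaf 0x1d4ad90c6)) (.node (.leaf 0x7233b901c) (.leaf 0x156459030))) (.node (.node (.leaf 0x1b770b08a) (.leaf 0x25ec29046)) (.node (.leaf 0x32fb2b00c) (.leaf 0x12d20500a)))) (.node (.node (.node (.leaf 0x657bb09a) (.leaf 0x70ae7b114)) (.node (.leaf 0x665715004) (.leaf 0x10c6c9010))) (.node (.node (.leaf 0x4c9e29024) (.leaf 0x73dd7014)) (.node (.leaf 0xe12a7014) (.leaf 0x299549026))))) (.node (.node (.node (.node (.leaf 0x1e6b77006) (.leaf 0x1660db0d6)) (.node (.leaf 0x55a4e901a) (.leaf 0x19e9e9042))) (.node (.node (.leaf 0x3c61a901c) (.leaf 0x684d29082)) (.node (.leaf 0x4dbb33000) (.leaf 0x10877700e)))) (.node (.node (.node (.leaf 0x7b4d9004) (.leaf 0x1e48b17a)) (.node (.leaf 0x1a6b8901c) (.leaf 0x564bcb086))) (.node (.node (.leaf 0x509fbb114) (.leaf 0x6ace8b01c)) (.node (.leaf 0x439bc901c) (.leaf 0x73c70900e))))))) (.node (.node (.node (.node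 (.node (.node (.leaf 0x42c7b1fe) (.leaf 0xbcc2b014)) (.node (.leaf 0x2e96fb00c) (.leaf 0x72cb37042))) (.node (.node (.leaf 0x82139b1d6) (.leaf 0xadecb14e)) (.node (.leaf 0xd88e79082) (.leaf 0x389c7030)))) (.node (.node (.node (.leaf 0x2f414b0a2) (.leaf 0xa40c55000)) (.node (.leaf 0x5db6b0d6) (.leaf 0x3c0649042))) (.node (.node (.leaf 0x1c36eb0cc) (.leaf 0x76569006)) (.node (.leaf 0x3c54b050) (.leaf 0x153199044))))) (.node (.node (.node (.node (.leaf 0xfb9bb06a) (.leaf 0x17d5b17a)) (.node (.leaf 0x1c05b17a) (.leaf 0x2a11d7026))) (.node (.node (.leaf 0x29fc47026) (.leaf 0x2d305b036)) (.node (.leaf 0x5afc0b062) (.leaf 0x1bcca3002)))) (.node (.node (.node (.leaf 0xc6b99b044) (.leaf 0xe7064b050)) (.node (.leaf 0x1bc003002) (.leaf 0x388d0904e))) (.node (.node (.leaf 0xe24c900c) (.leaf 0x29b057020)) (.node (.leaf 0x209b0b0a6) (.leaf 0x1b5c9b08a)))))) (.node (.node (.node (.node (.node (.leaf 0x200e0b0a6) (.leaf 0x65df7901c))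 (.node (.leaf 0xd34a79044) (.leaf 0x157beb05c))) (.node (.node (.leaf 0x3fabeb084) (.leaf 0x1362f7004)) (.node (.leaf 0x816975042) (.leaf 0xe4309042)))) (.node (.node (.node (.leaf 0x8038b06a) (.leaf 0x5e8b3b184)) (.node (.leaf 0x11fcfb002) (.leaf 0x18c897034))) (.node (.node (.leaf 0x19f789004) (.leaf 0x9e9eb024)) (.node (.leaf 0xa075b9026) (.leaf 0x4c65c7024))))) (.node (.node (.node (.node (.leaf 0x4e67c9010) (.leaf 0x1ecc09042)) (.node (.leaf 0x4917db086) (.leaf 0x54555b064))) (.node (.node (.leaf 0x75654b06a) (.leaf 0x429d9030)) (.node (.leaf 0x12fef7002) (.leaf 0x1e9dc900c)))) (.node (.node (.node (.leaf 0x5b137900a) (.leaf 0x245bb0d6)) (.node (.leaf 0xb15e4700a) (.leaf 0xbc3ab09a))) (.node (.node (.leaf 0xfa1297020) (.leaf 0xcc0c904e)) (.node (.leaf 0x79b79042) (.leaf 0x9b49b0c6))))))))))) (.node (.node (.node (.node (.node (.node (.node (.node (.node (.node (.leaf 0x250e1b062) (.leaf 0x718023000)) (.node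 (.leaf 0x421529010) (.leaf 0x5eeedb000))) (.node (.node (.leaf 0xdf6e7010) (.leaf 0x1e637b042)) (.node (.leaf 0x23095900c) (.leaf 0xcc64c300a)))) (.node (.node (.node (.leaf 0x8b48e90c6) (.leaf 0x5517fb144)) (.node (.leaf 0x1ff13905c) (.leaf 0x53c36901c))) (.node (.node (.leaf 0x77dba7010) (.leaf 0x424905c)) (.node (.leaf 0x21098905c) (.leaf 0x9f067002))))) (.node (.node (.node (.node (.leaf 0x5031500e) (.leaf 0xf83db184)) (.node (.leaf 0x39cf8905c) (.leaf 0x6304900a))) (.node (.node (.leaf 0x6701fb002) (.leaf 0xe76eb00c)) (.node (.leaf 0x53cd89042) (.leaf 0x443219082)))) (.node (.node (.node (.leaf 0xdb7eb01c) (.leaf 0x5f2415000)) (.node (.leaf 0x238f77014) (.leaf 0x55f2c7010))) (.node (.node (.leaf 0x113a57006) (.leaf 0x165299002)) (.node (.leaf 0x1a7db17a) (.leaf 0x51dd5b01c)))))) (.node (.node (.node (.node (.node (.leaf 0x5fa33b090) (.leaf 0x55fe7b00c)) (.node (.leaf 0x10893b184) (.leaf 0xf9fa7b1fe))) (.node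 (.node (.leaf 0x18a8db050) (.leaf 0x30467004)) (.node (.leaf 0x5103ab014) (.leaf 0x9d967002)))) (.node (.node (.node (.leaf 0x9597c901a) (.leaf 0x19f3b9000)) (.node (.leaf 0x1eefeb050) (.leaf 0x50b12b1fe))) (.node (.node (.leaf 0x4eb8a901a) (.leaf 0xabe4b2dc)) (.node (.leaf 0x8fa73b050) (.leaf 0x13029b014))))) (.node (.node (.node (.node (.leaf 0x768909014) (.leaf 0xe2e6b144)) (.node (.leaf 0xa9dafb06a) (.leaf 0x1b619b08a))) (.node (.node (.leaf 0x280f7900e) (.leaf 0x16cb99002)) (.node (.leaf 0x47877905c) (.leaf 0x29a3b090)))) (.node (.node (.node (.leaf 0x1fedb17a) (.leaf 0x34797006)) (.node (.leaf 0x445187006) (.leaf 0xc45e9010))) (.node (.node (.leaf 0x20465b0d6) (.leaf 0x39b01b1d6)) (.node (.leaf 0x30d557002) (.leaf 0x52e55b036))))))) (.node (.node (.node (.node (.node (.node (.leaf 0xb3ca6b10c) (.leaf 0x17de1900a)) (.node (.leaf 0x3d687b084) (.leaf 0xc7db1d6))) (.node (.node (.leaf 0x22a45000) (.leaf 0x4f375b01e))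 (.node (.leaf 0x1d70b17a) (.leaf 0x55de49010)))) (.node (.node (.node (.leaf 0x3c0057000) (.leaf 0x14e0b17a)) (.node (.leaf 0x39b67b10c) (.leaf 0x56e0d7000))) (.node (.node (.leaf 0xf99deb05c) (.leaf 0x13843b000)) (.node (.leaf 0x2e5ddb086) (.leaf 0x164247002))))) (.node (.node (.node (.node (.leaf 0x97705042) (.leaf 0xb78f27030)) (.node (.leaf 0x2308c9006) (.leaf 0x36d57b06a))) (.node (.node (.leaf 0x51cb7002) (.leaf 0x181d69000)) (.node (.leaf 0x21687b10c) (.leaf 0x8e7590c6)))) (.node (.node (.node (.leaf 0xd5977020) (.leaf 0x3154901c)) (.node (.leaf 0x14f3f9006) (.leaf 0xfdbcb062))) (.node (.node (.leaf 0x16a5f5014) (.leaf 0x6254704e)) (.node (.leaf 0x92c4500a) (.leaf 0x2c02f9024)))))) (.node (.node (.node (.node (.node (.leaf 0x2f7bab0a2) (.leaf 0x1cdc7b0d6)) (.node (.leaf 0x3c3fd7010) (.leaf 0x1bae0b08a))) (.node (.node (.leaf 0x23faf7042) (.leaf 0x75d149024)) (.node (.leaf 0x38eb29010) (.leaf 0x301535000))))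 (.node (.node (.node (.leaf 0x1f0d5905c) (.leaf 0x20af4b024)) (.node (.leaf 0x2972b090) (.leaf 0x16ff47002))) (.node (.node (.leaf 0x6bcc47004) (.leaf 0x16c365000)) (.node (.leaf 0x29e05014) (.leaf 0x2a510b194))))) (.node (.node (.node (.node (.leaf 0x72e7b06a) (.leaf 0x327a19006)) (.node (.leaf 0x7e3489042) (.leaf 0x1e56cb000))) (.node (.node (.leaf 0x6e7447030) (.leaf 0xb2b8b0ea)) (.node (.leaf 0x119727004) (.leaf 0x8665704e)))) (.node (.node (.node (.leaf 0x167fb5000) (.leaf 0x7e69030)) (.node (.leaf 0x768fa9082) (.leaf 0x94845006))) (.node (.node (.leaf 0x301d25014) (.leaf 0x2e20eb062)) (.node (.leaf 0x551b7002) (.leaf 0x69947b056)))))))) (.node (.node (.node (.node (.node (.node (.node (.leaf 0x15816b044) (.leaf 0xa13cb14e)) (.node (.leaf 0x1f346b10c) (.leaf 0x239a37034))) (.node (.node (.leaf 0x56a42b00c) (.leaf 0x58ffb901a)) (.node (.leaf 0xef697010) (.leaf 0x1b9b2905a)))) (.node (.node (.node (.leaf 0x230099024)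 (.leaf 0x115187042)) (.node (.leaf 0x4c2be9046) (.leaf 0xfd1bb194))) (.node (.node (.leaf 0x41035b2dc) (.leaf 0x4a05ab00a)) (.node (.leaf 0x30d387002) (.leaf 0x11e549082))))) (.node (.node (.node (.node (.leaf 0x18d5e7000) (.leaf 0x16fcc9002)) (.node (.leaf 0x5864500a) (.leaf 0x1b4af905a))) (.node (.node (.leaf 0x6b0df9016) (.leaf 0x96577002)) (.node (.leaf 0x177b1704e) (.leaf 0x2a3ebb062)))) (.node (.node (.node (.leaf 0x25c06b0ea) (.leaf 0xb18ab184)) (.node (.leaf 0x389c7024) (.leaf 0x5f2d45014))) (.node (.node (.leaf 0x1ffdb17a) (.leaf 0x50305042)) (.node (.leaf 0xe5017000) (.leaf 0x37a90b06a)))))) (.node (.node (.node (.node (.node (.leaf 0x3f8c7042) (.leaf 0x285c9900e)) (.node (.leaf 0x19e73b002) (.leaf 0x2fbbeb0a2))) (.node (.node (.leaf 0x1b671b08a) (.leaf 0x1c810b0c6)) (.node (.leaf 0x30ca87002) (.leaf 0x78b4db1fe)))) (.node (.node (.node (.leaf 0xb04db0fc) (.leaf 0x1d566700e)) (.node (.leaf 0x2af30b086)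 (.leaf 0x3a369014))) (.node (.node (.leaf 0xdae39b086) (.leaf 0x1bc4a905a)) (.node (.leaf 0x3238e9004) (.leaf 0xcaef7020))))) (.node (.node (.node (.node (.leaf 0x46454b064) (.leaf 0x2f942b0a2)) (.node (.leaf 0x26be5b086) (.leaf 0x243eab09c))) (.node (.node (.leaf 0x27e80b084) (.leaf 0x59245006)) (.node (.leaf 0xc1bb10c) (.leaf 0x23827901c)))) (.node (.node (.node (.leaf 0xf0c2b0fc) (.leaf 0x56555006)) (.node (.leaf 0x109b5b194) (.leaf 0x1a6db17a))) (.node (.node (.leaf 0x2cd1d7042) (.leaf 0x6d3c1b0fc)) (.node (.leaf 0x93c77002) (.leaf 0x19ee07030))))))) (.node (.node (.node (.node (.node (.node (.leaf 0x14b2f90c6) (.leaf 0xe6999000)) (.node (.leaf 0x7cc3b000) (.leaf 0x2162b090))) (.node (.node (.leaf 0x63aa700a) (.leaf 0x1cf0b17a)) (.node (.leaf 0x205aab0c6) (.leaf 0xdeb1b09a)))) (.node (.node (.node (.leaf 0x4476b7004) (.leaf 0xbef7b062)) (.node (.leaf 0x2ef15014) (.leaf 0x1560b17a))) (.node (.node (.leaf 0x5ef18b002)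 (.leaf 0x2c3a79014)) (.node (.leaf 0x52ba7002) (.leaf 0x2d249b084))))) (.node (.node (.node (.node (.leaf 0xb1cd6b002) (.leaf 0x1e611b002)) (.node (.leaf 0x9950500e) (.leaf 0xeb36700e))) (.node (.node (.leaf 0x395c29030) (.leaf 0x8d75900a)) (.node (.leaf 0x2f7d6b0a2) (.leaf 0x1d6e97010)))) (.node (.node (.node (.leaf 0x2c60d7024) (.leaf 0x161117002)) (.node (.leaf 0x30bae5004) (.leaf 0x10315b0ea))) (.node (.node (.leaf 0x573219036) (.leaf 0x9f01500e)) (.node (.leaf 0x79567026) (.leaf 0x6f5f0904e)))))) (.node (.node (.node (.node (.node (.leaf 0x4abe7b00a) (.leaf 0xa4a4b0c0)) (.node (.leaf 0x4f6905c) (.leaf 0x8a07700a))) (.node (.node (.leaf 0xd6b69010) (.leaf 0xe6b19010)) (.node (.leaf 0x945b9b09c) (.leaf 0x5a6a7002)))) (.node (.node (.node (.leaf 0x12374b0c6) (.leaf 0x3e6f3b084)) (.node (.leaf 0x353a900c) (.leaf 0x3031b5004))) (.node (.node (.leaf 0x3cf59016) (.leaf 0x23f55000)) (.node (.leaf 0x2999490c6) (.leaf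 0x2559fb0fc))))) (.node (.node (.node (.node (.leaf 0xc4c67010) (.leaf 0xf73bb086)) (.node (.leaf 0x22eb0b0c0) (.leaf 0x32be9024))) (.node (.node (.leaf 0x2aceeb184) (.leaf 0x162765004)) (.node (.leaf 0x23d599042) (.leaf 0xb878b086)))) (.node (.node (.node (.leaf 0x219729030) (.leaf 0x473fab10c)) (.node (.leaf 0x1bf18b08a) (.leaf 0x5cc5bb09a))) (.node (.node (.leaf 0x1442f900a) (.leaf 0x4da4d300a)) (.node (.leaf 0x51b12b09a) (.leaf 0x35a467030))))))))) (.node (.node (.node (.node (.node (.node (.node (.node (.leaf 0x17cbd27024) (.leaf 0xff257014)) (.node (.leaf 0xcbad7b042) (.leaf 0x15b9eb114))) (.node (.node (.leaf 0x269ee901a) (.leaf 0x23c8c704e)) (.node (.leaf 0x3c1717026) (.leaf 0xc3f97030)))) (.node (.node (.node (.leaf 0x8f8e7014) (.leaf 0x16afa5006)) (.node (.leaf 0x9d05cb014) (.leaf 0x36b41700e))) (.node (.node (.leaf 0x11899901a) (.leaf 0x61e67b084)) (.node (.leaf 0x546aab10c) (.leaf 0x8e571b00c))))) (.node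 (.node (.node (.node (.leaf 0x164eb500e) (.leaf 0x16726500e)) (.node (.leaf 0x2ab7b9016) (.leaf 0x1de347020))) (.node (.node (.leaf 0xc6eaa9030) (.leaf 0x27ddfb09c)) (.node (.leaf 0x84d67042) (.leaf 0x1db6d9026)))) (.node (.node (.node (.leaf 0x37a21b002) (.leaf 0x4751bb1fe)) (.node (.leaf 0x18d35b09a) (.leaf 0x7fc69026))) (.node (.node (.leaf 0x223e0b0c0) (.leaf 0x49ccb114)) (.node (.leaf 0xd5067000) (.leaf 0x17d9e7014)))))) (.node (.node (.node (.node (.node (.leaf 0x16cba500a) (.leaf 0x169de5042)) (.node (.leaf 0x2683b0cc) (.leaf 0x252179006))) (.node (.node (.leaf 0x220a0b2dc) (.leaf 0x7b29700e)) (.node (.leaf 0xb8a9044) (.leaf 0x21b889030)))) (.node (.node (.node (.leaf 0x2e1a59014) (.leaf 0x80109b0cc)) (.node (.leaf 0x3eadeb084) (.leaf 0x1a2deb06a))) (.node (.node (.leaf 0x2924b901c) (.leaf 0x515bdb002)) (.node (.leaf 0x92cbb0a6) (.leaf 0xbda07004))))) (.node (.node (.node (.node (.leaf 0x14f0b17a) (.leaf 0x5468b00a))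 (.node (.leaf 0xa4b4b0c0) (.leaf 0x592eb0a6))) (.node (.node (.leaf 0x1b738905a) (.leaf 0x9f21b00a)) (.node (.leaf 0x52c85002) (.leaf 0x310eb7014)))) (.node (.node (.node (.leaf 0x97397b042) (.leaf 0x69c19042)) (.node (.leaf 0x5260502a) (.leaf 0xb9909014))) (.node (.node (.leaf 0x1390db00c) (.leaf 0x1d60b17a)) (.node (.leaf 0x5df9fb0c6) (.leaf 0x638b7042))))))) (.node (.node (.node (.node (.node (.node (.leaf 0xb7279016) (.leaf 0x101bf59002)) (.node (.leaf 0x2adf87004) (.leaf 0x5f202b0cc))) (.node (.node (.leaf 0x10722904e) (.leaf 0xebad9026)) (.node (.leaf 0x5f1fb0a6) (.leaf 0x189b6b01c)))) (.node (.node (.node (.leaf 0x3d3f2b084) (.leaf 0x26b55004)) (.node (.leaf 0x178967042) (.leaf 0x1c097b0d6))) (.node (.node (.leaf 0x6bd0cb086) (.leaf 0x17fdb17a)) (.node (.leaf 0x83a54b084) (.leaf 0xe3b47020))))) (.node (.node (.node (.node (.leaf 0x83b8bb09c) (.leaf 0x2151c9044)) (.node (.leaf 0x1f517b1fe) (.leaf 0x3013b502a)))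 (.node (.node (.leaf 0x2a5089014) (.leaf 0x25a409004)) (.node (.leaf 0x86289042) (.leaf 0x75faf700a)))) (.node (.node (.node (.leaf 0x9a70b00a) (.leaf 0x266fb7024)) (.node (.leaf 0x3de9700a) (.leaf 0x11935700a))) (.node (.node (.leaf 0x7589044) (.leaf 0x983e9002)) (.node (.leaf 0x2ef2f9082) (.leaf 0x3abbeb064)))))) (.node (.node (.node (.node (.node (.leaf 0x31ad901a) (.leaf 0x23a15010)) (.node (.leaf 0x13e45700e) (.leaf 0x41025b2dc))) (.node (.node (.leaf 0x694f7034) (.leaf 0x50ec4905c)) (.node (.leaf 0x126db17a) (.leaf 0xef92ab05a)))) (.node (.node (.node (.leaf 0x2f706b0a2) (.leaf 0x2d52b0cc)) (.node (.leaf 0x1810f7020) (.leaf 0x17bb19006))) (.node (.node (.leaf 0x83789024) (.leaf 0xf44a9006)) (.node (.leaf 0x2e69e9016) (.leaf 0x7aa6ab09c))))) (.node (.node (.node (.node (.leaf 0x69139004) (.leaf 0x292327006)) (.node (.leaf 0x1b528300e) (.leaf 0x9b4ab0a6))) (.node (.node (.leaf 0x1a428b014) (.leaf 0x93ee9002))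 (.node (.leaf 0x338eb904e) (.leaf 0x104c6901a)))) (.node (.node (.node (.leaf 0x8b820b062) (.leaf 0x8b5e901c)) (.node (.leaf 0x5689b00a) (.leaf 0x6cad900c))) (.node (.node (.leaf 0x1b7a2300e) (.leaf 0x7088e9044)) (.node (.leaf 0x3e8c9b036) (.leaf 0x72384b01c)))))))) (.node (.node (.node (.node (.node (.node (.node (.leaf 0x5731cb056) (.leaf 0x62295b01c)) (.node (.leaf 0x89d77006) (.leaf 0xcb31b050))) (.node (.node (.leaf 0x50639002) (.leaf 0x3d135b036)) (.node (.leaf 0x7437a3000) (.leaf 0x12a0bb0d6)))) (.node (.node (.node (.leaf 0x364139046) (.leaf 0x40530b114)) (.node (.leaf 0x1f2999044) (.leaf 0x9b9bb0a6))) (.node (.node (.leaf 0x29c077034) (.leaf 0x5b76cb014)) (.node (.leaf 0x72f39046) (.leaf 0xf349030))))) (.node (.node (.node (.node (.leaf 0x66549006) (.leaf 0x6467bb00c)) (.node (.leaf 0x3f32ab036) (.leaf 0x2367e700a))) (.node (.node (.leaf 0xf5717034) (.leaf 0x513eb0a6)) (.node (.leaf 0x1421eb194) (.leaf 0x43a44b09a))))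 (.node (.node (.node (.leaf 0xa4b9db0c6) (.leaf 0x5384590c6)) (.node (.leaf 0xce8cc90c6) (.leaf 0x2800cb05c))) (.node (.node (.leaf 0x805a7034) (.leaf 0x1df227030)) (.node (.leaf 0x1bbb9905a) (.leaf 0x54129002)))))) (.node (.node (.node (.node (.node (.leaf 0x8493c7004) (.leaf 0x274bab036)) (.node (.leaf 0x935169004) (.leaf 0x1787a7034))) (.node (.node (.leaf 0xd186b002) (.leaf 0x9a3537026)) (.node (.leaf 0x693a7006) (.leaf 0x72dabb014)))) (.node (.node (.node (.leaf 0x10c1d7004) (.leaf 0x319027006)) (.node (.leaf 0x14bb7b0fc) (.leaf 0x1c948b0c6))) (.node (.node (.leaf 0x855e9004) (.leaf 0x4704b044)) (.node (.leaf 0x5ef39002) (.leaf 0x2e93b0cc))))) (.node (.node (.node (.node (.leaf 0x170e49024) (.leaf 0xe53d7026)) (.node (.leaf 0x1570b17a) (.leaf 0x21aa69044))) (.node (.node (.leaf 0xbdda7024) (.leaf 0x1a73f7026)) (.node (.leaf 0x5a829002) (.leaf 0x23b05c)))) (.node (.node (.node (.leaf 0x132460300a) (.leaf 0x17e0e9004))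 (.node (.leaf 0x1ba91905a) (.leaf 0x9f29b00a))) (.node (.node (.leaf 0x59793b2dc) (.leaf 0x5930b00a)) (.node (.leaf 0x45859b184) (.leaf 0x1ce0b17a))))))) (.node (.node (.node (.node (.node (.node (.leaf 0xec327030) (.leaf 0x1fe859030)) (.node (.leaf 0x4fb20b01e) (.leaf 0x3d8f704e))) (.node (.node (.leaf 0x135b39046) (.leaf 0xce2eb002)) (.node (.leaf 0x37b9904e) (.leaf 0x6f13901c)))) (.node (.node (.node (.leaf 0x80f4900c) (.leaf 0x4bef0b036)) (.node (.leaf 0x4d490b08a) (.leaf 0x20b05010))) (.node (.node (.leaf 0x47d319030) (.leaf 0x1b18c3006)) (.node (.leaf 0x127db17a) (.leaf 0xbab1fe))))) (.node (.node (.node (.node (.leaf 0x5d128b0d6) (.leaf 0x45e17b086)) (.node (.leaf 0x72f9b144) (.leaf 0x9360502a))) (.node (.node (.leaf 0x8a659006) (.leaf 0xa3bf0b042)) (.node (.leaf 0x12a2cb0c6) (.leaf 0x9a78b00a)))) (.node (.node (.node (.leaf 0x106ec7700e) (.leaf 0x27ee8b084)) (.node (.leaf 0x2582c7034) (.leaf 0xd4517030)))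 (.node (.node (.leaf 0x98015002) (.leaf 0x30dca500a)) (.node (.leaf 0x23b9c900a) (.leaf 0x2c18e704e)))))) (.node (.node (.node (.node (.node (.leaf 0x547f8b1d6) (.leaf 0x570fb0a6)) (.node (.leaf 0x4f37db01e) (.leaf 0x573d6900e))) (.node (.node (.leaf 0x17edb17a) (.leaf 0x559b09026)) (.node (.leaf 0x2542b0cc) (.leaf 0x1812e9010)))) (.node (.node (.node (.leaf 0x177f49042) (.leaf 0x1ba03300a)) (.node (.leaf 0x3867d7030) (.leaf 0x2b679b114))) (.node (.node (.leaf 0x26bc5004) (.leaf 0xaaa89b084)) (.node (.leaf 0xb84449024) (.leaf 0x29b519042))))) (.node (.node (.node (.node (.leaf 0x937ec9042) (.leaf 0x1e6d0b06a)) (.node (.leaf 0x7a8c7b036) (.leaf 0x2a9fe7024))) (.node (.node (.leaf 0x302cf5006) (.leaf 0x57d1b00a)) (.node (.leaf 0x4e4c5b194) (.leaf 0x336979016)))) (.node (.node (.node (.leaf 0x62d19024) (.leaf 0xf05a90c6)) (.node (.leaf 0x4f22db01e) (.leaf 0x10bce9016))) (.node (.node (.leaf 0x62837014) (.leaf 0xb7ab904e))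 (.node (.leaf 0x310509006) (.leaf 0x39dac9044)))))))))) (.node (.node (.node (.node (.node (.node (.node (.node (.node (.leaf 0x8018b0ea) (.leaf 0x13daab002)) (.node (.leaf 0xb64f4901c) (.leaf 0x3f925b084))) (.node (.node (.leaf 0xe493b042) (.leaf 0x11558b184)) (.node (.leaf 0x2f79bb0a2) (.leaf 0x1d88b17a)))) (.node (.node (.node (.leaf 0x144b87024) (.leaf 0x61310b09c)) (.node (.leaf 0x4454ab0fc) (.leaf 0x12e3db0c6))) (.node (.node (.leaf 0x1c8a9b0c6) (.leaf 0x8396bb036)) (.node (.leaf 0x1a9939010) (.leaf 0x53215000))))) (.node (.node (.node (.node (.leaf 0x148469014) (.leaf 0x220adb2dc)) (.node (.leaf 0x524ecb09c) (.leaf 0x19944700e))) (.node (.node (.leaf 0x1008b7014) (.leaf 0x70ab056)) (.node (.leaf 0x174a3b062) (.leaf 0x16713b00a)))) (.node (.node (.node (.leaf 0x2a54b00a) (.leaf 0x5acf4b042)) (.node (.leaf 0xeebab050) (.leaf 0x186d1b00c))) (.node (.node (.leaf 0x5b3fb090) (.leaf 0x1c0f2b024)) (.node (.leaf 0x30023b00a)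 (.leaf 0x100e27006)))))) (.node (.node (.node (.node (.node (.leaf 0x16968b090) (.leaf 0x1d58b17a)) (.node (.leaf 0x2e7037042) (.leaf 0xdc09b014))) (.node (.node (.leaf 0x61e6b062) (.leaf 0xade867030)) (.node (.leaf 0x4f759b01e) (.leaf 0x2552b0a6)))) (.node (.node (.node (.leaf 0x410a0b14e) (.leaf 0x1d301b002)) (.node (.leaf 0x268ab7042) (.leaf 0x450197042))) (.node (.node (.leaf 0x5f3e69002) (.leaf 0x283b19044)) (.node (.leaf 0x6d1099006) (.leaf 0x198ff9026))))) (.node (.node (.node (.node (.leaf 0x33ca49042) (.leaf 0x12ffd39042)) (.node (.leaf 0x51cf59000) (.leaf 0x98bab090))) (.node (.node (.leaf 0xeb3dab08a) (.leaf 0xf04a704e)) (.node (.leaf 0x3372b7006) (.leaf 0x3b7eb194)))) (.node (.node (.node (.leaf 0x8e4657030) (.leaf 0xbe959006)) (.node (.leaf 0xf35d2b024) (.leaf 0x7dc57030))) (.node (.node (.leaf 0x18749b144) (.leaf 0x804ab502a)) (.node (.leaf 0x8d8b056) (.leaf 0x230a2901a))))))) (.node (.node (.node (.node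 (.node (.node (.leaf 0x207d1b024) (.leaf 0x28fad9030)) (.node (.leaf 0xbcce7034) (.leaf 0x904ed5000))) (.node (.node (.leaf 0x25975700a) (.leaf 0x2803fb1fe)) (.node (.leaf 0x2e83b0a6) (.leaf 0xf510904e)))) (.node (.node (.node (.leaf 0x2a5db00a) (.leaf 0x6f11b194)) (.node (.leaf 0xe639036) (.leaf 0x17e24b194))) (.node (.node (.leaf 0x3871fb06a) (.leaf 0xcae1b014)) (.node (.leaf 0x32707904e) (.leaf 0x9a515000))))) (.node (.node (.node (.node (.leaf 0x4281cb042) (.leaf 0xcc4efb08a)) (.node (.leaf 0x2c70fb086) (.leaf 0x16cdeb00a))) (.node (.node (.leaf 0xdc425b14e) (.leaf 0x782a7000)) (.node (.leaf 0x4196b044) (.leaf 0x332f49024)))) (.node (.node (.node (.leaf 0x2975cb0fc) (.leaf 0x5f4eb090)) (.node (.leaf 0xd71fb000) (.leaf 0x5c8f09010))) (.node (.node (.leaf 0x993bb090) (.leaf 0x23dd19014)) (.node (.leaf 0x940dab084) (.leaf 0x3b0900e)))))) (.node (.node (.node (.node (.node (.leaf 0xb46b7006) (.leaf 0x1315b17a)) (.node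 (.leaf 0x10c5b17a) (.leaf 0x85b8b194))) (.node (.node (.leaf 0x376399000) (.leaf 0x4a3cf500e)) (.node (.leaf 0x96d55014) (.leaf 0x986f29004)))) (.node (.node (.node (.leaf 0x55313b050) (.leaf 0x133617030)) (.node (.leaf 0x5bc73b01c) (.leaf 0xe63cb000))) (.node (.node (.leaf 0x2c5cfb0ea) (.leaf 0x2011fb0c6)) (.node (.leaf 0x102259042) (.leaf 0x63b969030))))) (.node (.node (.node (.node (.leaf 0x1eab47020) (.leaf 0x3d255b09c)) (.node (.leaf 0x2055502a) (.leaf 0x10d11900c))) (.node (.node (.leaf 0x13bb9b050) (.leaf 0x628799026)) (.node (.leaf 0x790a2b090) (.leaf 0x5f731b00a)))) (.node (.node (.node (.leaf 0x8fbad7020) (.leaf 0x2130e900e)) (.node (.leaf 0x3762c9046) (.leaf 0x14ae87042))) (.node (.node (.leaf 0xa85df9042) (.leaf 0x2fe55002)) (.node (.leaf 0x1f8e1900e) (.leaf 0xb5129004)))))))) (.node (.node (.node (.node (.node (.node (.node (.leaf 0x1ae127020) (.leaf 0x53ca3901a)) (.node (.leaf 0x2f607b0a2) (.leaf 0x236ea9016)))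 (.node (.node (.leaf 0x75f29000) (.leaf 0x3992e900e)) (.node (.leaf 0x103d37042) (.leaf 0x4d0db3000)))) (.node (.node (.node (.leaf 0xa9452b002) (.leaf 0x1708b17a)) (.node (.leaf 0x6de8c9042) (.leaf 0x1bd8a3004))) (.node (.node (.leaf 0x5fa02b0a6) (.leaf 0x493fb064)) (.node (.leaf 0xbb12901c) (.leaf 0x439169046))))) (.node (.node (.node (.node (.leaf 0xceebb06a) (.leaf 0x1d4bcb000)) (.node (.leaf 0x11c0ab194) (.leaf 0x1a34bb01c))) (.node (.node (.leaf 0x23abb9082) (.leaf 0x2ebcb9004)) (.node (.leaf 0xb1745700e) (.leaf 0xb5189024)))) (.node (.node (.node (.leaf 0x8d03b062) (.leaf 0x4ec66700a)) (.node (.leaf 0x78ed8b1d6) (.leaf 0x48d15b036))) (.node (.node (.leaf 0x1312a7000) (.leaf 0x242e7b09c)) (.node (.leaf 0x532fb090) (.leaf 0x25a65904e)))))) (.node (.node (.node (.node (.node (.leaf 0xfe00700a) (.leaf 0x96b36b056)) (.node (.leaf 0x38b90b042) (.leaf 0x1b6113000))) (.node (.node (.leaf 0x2e7377034) (.leaf 0x2a266901c))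 (.node (.leaf 0x223edb0c0) (.leaf 0x37156b144)))) (.node (.node (.node (.leaf 0x89d8b086) (.leaf 0x2d42b0a6)) (.node (.leaf 0x20e38b0d6) (.leaf 0x14bfa900c))) (.node (.node (.leaf 0xa939b14e) (.leaf 0x1cd8b17a)) (.node (.leaf 0x443e5b184) (.leaf 0x7040eb056))))) (.node (.node (.node (.node (.leaf 0x249d4b084) (.leaf 0x7608590c6)) (.node (.leaf 0x270cb00a) (.leaf 0x28e56b05c))) (.node (.node (.leaf 0x14cb67004) (.leaf 0xd274b042)) (.node (.leaf 0x74728905a) (.leaf 0x4e7c890c6)))) (.node (.node (.node (.leaf 0x5b794b09a) (.leaf 0x34d27b2dc)) (.node (.leaf 0x2eb327006) (.leaf 0x1f519b056))) (.node (.node (.leaf 0x30869b090) (.leaf 0x10e5b9004)) (.node (.leaf 0x1be2db05a) (.leaf 0x9deab090))))))) (.node (.node (.node (.node (.node (.node (.leaf 0x2e969002) (.leaf 0x6e8e8700e)) (.node (.leaf 0x113aab086) (.leaf 0x269559042))) (.node (.node (.leaf 0x8dedb0fc) (.leaf 0x2693b0a6)) (.node (.leaf 0x306ecb090) (.leaf 0x1d9aab050))))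 (.node (.node (.node (.leaf 0x6a4777042) (.leaf 0xfe24901a)) (.node (.leaf 0x5a697b000) (.leaf 0x6f8cb0fc))) (.node (.node (.leaf 0x10c5b901c) (.leaf 0x98005000)) (.node (.leaf 0x3cb85b002) (.leaf 0xaca1b0c0))))) (.node (.node (.node (.node (.leaf 0xc8aa7026) (.leaf 0x63086905c)) (.node (.leaf 0x5fd79b00a) (.leaf 0x307bcb090))) (.node (.node (.leaf 0x161a5b090) (.leaf 0x1ef667030)) (.node (.leaf 0x575eb090) (.leaf 0x28179002)))) (.node (.node (.node (.leaf 0x2f723b0a2) (.leaf 0x107759024)) (.node (.leaf 0x1ddc3b042) (.leaf 0x1944cb00c))) (.node (.node (.leaf 0x64cbb184) (.leaf 0x4c9bf7010)) (.node (.leaf 0x976bb090) (.leaf 0x184d9700e)))))) (.node (.node (.node (.node (.node (.leaf 0x6d3f8900c) (.leaf 0x26731900c)) (.node (.leaf 0x1802a9026) (.leaf 0x14c457006))) (.node (.node (.leaf 0x169b5b090) (.leaf 0x30adeb00a)) (.node (.leaf 0x908a85014) (.leaf 0x1ff9f900e)))) (.node (.node (.node (.leaf 0x3c5eb0ea) (.leaf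 0x149819016)) (.node (.leaf 0x20069002) (.leaf 0x443e4b062))) (.node (.node (.leaf 0x1995b17a) (.leaf 0x62900e)) (.node (.leaf 0x42731b014) (.leaf 0x1145b17a))))) (.node (.node (.node (.node (.leaf 0x1156ab0ea) (.leaf 0x2a6627034)) (.node (.leaf 0xb6827014) (.leaf 0x287cf9044))) (.node (.node (.leaf 0x5c137b00c) (.leaf 0x2ff2fb0a2)) (.node (.leaf 0x177d6b184) (.leaf 0x1b04cb05a)))) (.node (.node (.node (.leaf 0x598cab14e) (.leaf 0x751d3901a)) (.node (.leaf 0x1599cb044) (.leaf 0x8796b184))) (.node (.node (.leaf 0x71ed9b08a) (.leaf 0x26879002)) (.node (.leaf 0x399eb086) (.leaf 0x4f98cb01e))))))))) (.node (.node (.node (.node (.node (.node (.node (.node (.leaf 0x51615004) (.leaf 0xf52d7024)) (.node (.leaf 0xc32d700e) (.leaf 0x7a172b036))) (.node (.node (.leaf 0x6b11a901c) (.leaf 0x8a1609026)) (.node (.leaf 0x7961c5010) (.leaf 0x16d48b0cc)))) (.node (.node (.node (.leaf 0x17f867024) (.leaf 0x9b654b08a)) (.node (.leaf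 0x7702db144) (.leaf 0x1ef297010))) (.node (.node (.leaf 0x1a9207030) (.leaf 0x39491b05c)) (.node (.leaf 0x119507014) (.leaf 0x31ae9042))))) (.node (.node (.node (.node (.leaf 0x3edb05c) (.leaf 0x180ebb06a)) (.node (.leaf 0x649b7024) (.leaf 0x16558b0cc))) (.node (.node (.leaf 0x63cea9044) (.leaf 0x4abee5014)) (.node (.leaf 0x16e95b0a6) (.leaf 0x318f9006)))) (.node (.node (.node (.leaf 0x333e190c6) (.leaf 0x2474ab036)) (.node (.leaf 0xfd039014) (.leaf 0x11dc09004))) (.node (.node (.leaf 0x2cff7002) (.leaf 0x2f50bb0a2)) (.node (.leaf 0x3cfa2b09a) (.leaf 0x435a6b000)))))) (.node (.node (.node (.node (.node (.leaf 0x98789900a) (.leaf 0x12f65b0c6)) (.node (.leaf 0x8a9b901a) (.leaf 0x2852b9030))) (.node (.node (.leaf 0x58cde901c) (.leaf 0x4dbdcb05a)) (.node (.leaf 0x59455010) (.leaf 0x36f627010)))) (.node (.node (.node (.leaf 0xe892b09a) (.leaf 0x934ab0cc)) (.node (.leaf 0xef7403000) (.leaf 0x5583db06a))) (.node (.node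 (.leaf 0x46c11b114) (.leaf 0x351dcb000)) (.node (.leaf 0x131d27010) (.leaf 0x361cdb09a))))) (.node (.node (.node (.node (.leaf 0x4a06a5000) (.leaf 0x4fb41b01e)) (.node (.leaf 0x767189042) (.leaf 0x1b50fb08a))) (.node (.node (.leaf 0x236c9b194) (.leaf 0x674f5b042)) (.node (.leaf 0x5f0fb0cc) (.leaf 0xfff5901c)))) (.node (.node (.node (.leaf 0x272f7002) (.leaf 0x2112cb1fe)) (.node (.leaf 0x700b7020) (.leaf 0x629359000))) (.node (.node (.leaf 0x6247ab00c) (.leaf 0x1195b17a)) (.node (.leaf 0x1945b17a) (.leaf 0x1998db042))))))) (.node (.node (.node (.node (.node (.node (.leaf 0x14f85904e) (.leaf 0x8738f7004)) (.node (.leaf 0x31e36901a) (.leaf 0x213e1b05c))) (.node (.node (.leaf 0x56a9cb06a) (.leaf 0xcafdb144)) (.node (.leaf 0xfd699082) (.leaf 0x21ea19036)))) (.node (.node (.node (.leaf 0x39bdcb1fe) (.leaf 0x358deb050)) (.node (.leaf 0x1155b9006) (.leaf 0x1b992b08a))) (.node (.node (.leaf 0x2514e7004) (.leaf 0x16695b0cc))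 (.node (.leaf 0x92c55010) (.leaf 0xe460b06a))))) (.node (.node (.node (.node (.leaf 0x49dddb06a) (.leaf 0x9acbb0cc)) (.node (.leaf 0x7c25b09a) (.leaf 0x1a3a37000))) (.node (.node (.leaf 0x14d8b17a) (.leaf 0x4d7863004)) (.node (.leaf 0x17d329082) (.leaf 0x28b15006)))) (.node (.node (.node (.leaf 0x1fcb49036) (.leaf 0xcb3b1d6)) (.node (.leaf 0x84b8190c6) (.leaf 0x2ba05006))) (.node (.node (.leaf 0x39f07034) (.leaf 0x6e7b6b06a)) (.node (.leaf 0x6d2cb700a) (.leaf 0xead9036)))))) (.node (.node (.node (.node (.node (.leaf 0x22ebdb0c0) (.leaf 0xc135b00c)) (.node (.leaf 0x2e03090c6) (.leaf 0x5241db09c))) (.node (.node (.leaf 0x6c369016) (.leaf 0x238e9b086)) (.node (.leaf 0x2b09bb114) (.leaf 0x86867024)))) (.node (.node (.node (.leaf 0x53748b194) (.leaf 0x6c32ab184)) (.node (.leaf 0x18e1db014) (.leaf 0x593eb0cc))) (.node (.node (.leaf 0x5cdfc7026) (.leaf 0x66e66b0d6)) (.node (.leaf 0xa3f1b2dc) (.leaf 0x10c2890c6))))) (.node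 (.node (.node (.node (.leaf 0x33bf1704e) (.leaf 0x1ede19010)) (.node (.leaf 0x2cfde900a) (.leaf 0x25f9500a))) (.node (.node (.leaf 0x1e8ba700e) (.leaf 0x116da9042)) (.node (.leaf 0xeb79b01c) (.leaf 0x2bfbcb064)))) (.node (.node (.node (.leaf 0x7e138b086) (.leaf 0x3c78ab014)) (.node (.leaf 0x19adab000) (.leaf 0x32a56b184))) (.node (.node (.leaf 0x27545042) (.leaf 0x1f08b17a)) (.node (.leaf 0x10832700a) (.leaf 0x66479082)))))))) (.node (.node (.node (.node (.node (.node (.node (.leaf 0x32d94b086) (.leaf 0x47c88b10c)) (.node (.leaf 0x6e71cb014) (.leaf 0xc9df5b0a6))) (.node (.node (.leaf 0x25ae7002) (.leaf 0x795cd5010)) (.node (.leaf 0xfb47900c) (.leaf 0x31ba57004)))) (.node (.node (.node (.leaf 0xc90a8b0cc) (.leaf 0x7d5b10c)) (.node (.leaf 0xe86ab014) (.leaf 0x89939016))) (.node (.node (.leaf 0x52c05004) (.leaf 0x20628b0d6)) (.node (.leaf 0x33df900a) (.leaf 0xce579046))))) (.node (.node (.node (.node (.leaf 0x1dca0b06a)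 (.leaf 0x42fcd700e)) (.node (.leaf 0xf22c29004) (.leaf 0x42d6e9026))) (.node (.node (.leaf 0x1131c7034) (.leaf 0x1aa6b9000)) (.node (.leaf 0x3cdf90c6) (.leaf 0x1f669b1fe)))) (.node (.node (.node (.leaf 0x198e8b014) (.leaf 0x30499b0cc)) (.node (.leaf 0xd3ddb00c) (.leaf 0x6b0e67034))) (.node (.node (.leaf 0x571fb0cc) (.leaf 0x1775c7004)) (.node (.leaf 0x6a599014) (.leaf 0x498dbb09a)))))) (.node (.node (.node (.node (.node (.leaf 0x65697004) (.leaf 0x257e7002)) (.node (.leaf 0x5fa055006) (.leaf 0x1792c9014))) (.node (.node (.leaf 0x5e345010) (.leaf 0x296b97004)) (.node (.leaf 0x2aa1d704e) (.leaf 0x84ec3700a)))) (.node (.node (.node (.leaf 0x14895700a) (.leaf 0x1bf27b08a)) (.node (.leaf 0x381d1700e) (.leaf 0xe9a33b17a))) (.node (.node (.leaf 0x60c92b114) (.leaf 0x5ebe7700e)) (.node (.leaf 0x2c5c59004) (.leaf 0x6fc86b0fc))))) (.node (.node (.node (.node (.leaf 0xbdfb700a) (.leaf 0x1b15b17a)) (.node (.leaf 0x18c5b17a)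 (.leaf 0x18cfa7026))) (.node (.node (.leaf 0x2a90d900a) (.leaf 0xf7db9024)) (.node (.leaf 0x4ee159042) (.leaf 0x25e749082)))) (.node (.node (.node (.leaf 0x80429082) (.leaf 0x30c99b0a6)) (.node (.leaf 0xaec65700a) (.leaf 0xb0c5900a))) (.node (.node (.leaf 0x64eeeb042) (.leaf 0x4d0b4b05a)) (.node (.leaf 0x25fc87042) (.leaf 0xf5f37004))))))) (.node (.node (.node (.node (.node (.node (.leaf 0x1208ab0d6) (.leaf 0x7e427010)) (.node (.leaf 0x4af319002) (.leaf 0x8be09014))) (.node (.node (.leaf 0x16548b0a6) (.leaf 0x3bc47014)) (.node (.leaf 0x32074b194) (.leaf 0x43d9b064)))) (.node (.node (.node (.leaf 0xfe2c9016) (.leaf 0x271a1b084)) (.node (.leaf 0x5eb009000) (.leaf 0x2f2bfb0a2))) (.node (.node (.leaf 0x512eb0cc) (.leaf 0x147c9901a)) (.node (.leaf 0x33ffb700a) (.leaf 0x2d413b09c))))) (.node (.node (.node (.node (.leaf 0x1b22ab08a) (.leaf 0x43dcb7026)) (.node (.leaf 0x1130b90c6) (.leaf 0xd785700e))) (.node (.node (.leaf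 0x4fa84b01e) (.leaf 0x468b1fe)) (.node (.leaf 0x17d6b901a) (.leaf 0x1a7b8b050)))) (.node (.node (.node (.leaf 0x85507004) (.leaf 0x28e5500e)) (.node (.leaf 0x42c5db144) (.leaf 0x1558b17a))) (.node (.node (.leaf 0x2f02fb0a2) (.leaf 0x13941b09a)) (.node (.leaf 0x1dc82b09a) (.leaf 0x55b83b014)))))) (.node (.node (.node (.node (.node (.leaf 0x1908eb06a) (.leaf 0x2e730900a)) (.node (.leaf 0x289dcb1d6) (.leaf 0x11c0b900a))) (.node (.node (.leaf 0x61fa904e) (.leaf 0x9e405004)) (.node (.leaf 0x23629b0ea) (.leaf 0x10c38704e)))) (.node (.node (.node (.leaf 0x11caa7b06a) (.leaf 0x26398900a)) (.node (.leaf 0x250fe9014) (.leaf 0x1ba403004))) (.node (.node (.leaf 0x29976901a) (.leaf 0x10328900a)) (.node (.leaf 0x2442cb084) (.leaf 0x5be0b7000))))) (.node (.node (.node (.node (.leaf 0x1588b17a) (.leaf 0x2f823b0a2)) (.node (.leaf 0x6ffdfb086) (.leaf 0x251987024))) (.node (.node (.leaf 0x7b310b0c6) (.leaf 0x71079905a)) (.node (.leaf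 0x16d58b0a6) (.leaf 0x3ef80b09c)))) (.node (.node (.node (.leaf 0x939bb0cc) (.leaf 0x6e0d2b000)) (.node (.leaf 0xd6929026) (.leaf 0x33549004))) (.node (.node (.leaf 0x49f8cb01c) (.leaf 0x451e0901a)) (.node (.leaf 0x43c01b042) (.leaf 0x6f2e901a))))))))))))

theorem cert10_0 : chunkB 10 cert10 0 = true := by decide +kernel

theorem cert10_1 : chunkB 10 cert10 1 = true := by decide +kernel

theorem cert10_2 : chunkB 10 cert10 2 = true := by decide +kernel

theorem cert10_3 : chunkB 10 cert10 3 = true := by decide +kernel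

theorem cert10_4 : chunkB 10 cert10 4 = true := by decide +kernel

theorem cert10_5 : chunkB 10 cert10 5 = true := by decide +kernel

theorem cert10_6 : chunkB 10 cert10 6 = true := by decide +kernel

theorem cert10_7 : chunkB 10 cert10 7 = true := by decide +kernel

theorem cert10_ok : ∀ k < 2048, itemB 10 cert10 k = true :=
  of_chunks cert10_0 cert10_1 cert10_2 cert10_3 cert10_4 cert10_5 cert10_6 cert10_7

end Cfsg.Agent.F4Square.Two
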