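import Cfsg.Agent.F4Square.Two.Setup

/-!
Certificates for the coset of the Weyl element number 11.
-/

set_option autoImplicit false
set_option maxRecDepth 100000
set_option maxHeartbeats 0
set_option Elab.async false

namespace Cfsg.Agent.F4Square.Two

/-- The certificates. -/
noncomputable def cert11 : Tree :=
  (.node (.node (.node (.node (.node (.node (.node (.node (.node (.node (.node (.leaf 0x1ab3b01e) (.leaf 0x8f0767010)) (.node (.leaf 0x23b5b0c6) (.leaf 0xea437026))) (.node (.node (.leaf 0x61bd6b036) (.leaf 0x7b1b6b14e)) (.node (.leaf 0x5715c7020) (.leaf 0x11378b194)))) (.node (.node (.node (.leaf 0x360e7024) (.leaf 0x39bf6700e)) (.node (.leaf 0x13e6b01e) (.leaf 0x206d49002))) (.node (.node (.leaf 0x274363000) (.leaf 0x639667030)) (.node (.leaf 0x560aa7020) (.leaf 0x519879010))))) (.node (.node (.node (.node (.leaf 0xdb1d900e) (.leaf 0x3dea6b036)) (.node (.leaf 0x655f5b014) (.leaf 0x193bbb05c))) (.node (.node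 (.leaf 0x35aa37010) (.leaf 0x34ac05042)) (.node (.leaf 0x13b10b05c) (.leaf 0x6a568b114)))) (.node (.node (.node (.leaf 0x7fd637004) (.leaf 0x6deb050)) (.node (.leaf 0x192f49044) (.leaf 0x1f6047010))) (.node (.node (.leaf 0x150b000) (.leaf 0x1e516b06a)) (.node (.leaf 0x16aeb01e) (.leaf 0x17013b114)))))) (.node (.node (.node (.node (.node (.leaf 0x2440e300e) (.leaf 0xa540b024)) (.node (.leaf 0x76759030) (.leaf 0x5d052b00a))) (.node (.node (.leaf 0x3610cb05c) (.leaf 0x284ecb01c)) (.node (.leaf 0x1b204b036) (.leaf 0x117cf77006)))) (.node (.node (.node (.leaf 0x62073b002) (.leaf 0x272213004)) (.node (.leaf 0x304ccb14e) (.leaf 0x2930eb114))) (.node (.node (.leaf 0x9b48b0c6) (.leaf 0x20a049002)) (.node (.leaf 0x7c4b69000) (.leaf 0xcdb69036))))) (.node (.node (.node (.node (.leaf 0x12c4bb0c0) (.leaf 0x17fbb01e)) (.node (.leaf 0x259a590c6) (.leaf 0x2cc5db0ea))) (.node (.node (.leaf 0x18f699044) (.leaf 0x3a564b184)) (.node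 (.leaf 0x259b5704e) (.leaf 0x3ef67b09c)))) (.node (.node (.node (.leaf 0xe94eb000) (.leaf 0xc2f5900e)) (.node (.leaf 0x556767010) (.leaf 0x38de4b10c))) (.node (.node (.leaf 0x2d248300e) (.leaf 0x477247026)) (.node (.leaf 0x34b045006) (.leaf 0x2231eb0c6))))))) (.node (.node (.node (.node (.node (.node (.leaf 0x4482900a) (.leaf 0x5c18db144)) (.node (.leaf 0x2aa6b024) (.leaf 0x2f9bdb0a2))) (.node (.node (.leaf 0xb75b002) (.leaf 0x2f650b0a2)) (.node (.leaf 0x3fa6e905a) (.leaf 0x7572b05c)))) (.node (.node (.node (.leaf 0xb7d08b050) (.leaf 0x67087b05c)) (.node (.leaf 0x4f76fb17a) (.leaf 0x37ff77000))) (.node (.node (.leaf 0x56523b01c) (.leaf 0x11458b0ea)) (.node (.leaf 0x1b687b084) (.leaf 0x3d7b9016))))) (.node (.node (.node (.node (.leaf 0x5457b0d6) (.leaf 0x155c290c6)) (.node (.leaf 0x424fdb056) (.leaf 0x12e1bb0c0))) (.node (.node (.leaf 0x3d9c0b084) (.leaf 0xc19db056)) (.node (.leaf 0xdcd7b056) (.leaf 0x336a9082))))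 (.node (.node (.node (.leaf 0x5d6afb00a) (.leaf 0xf64d9042)) (.node (.leaf 0x1f6719046) (.leaf 0x1a3f4b056))) (.node (.node (.leaf 0x2f980b0a2) (.leaf 0x203365014)) (.node (.leaf 0x52b63b036) (.leaf 0x3562b9010)))))) (.node (.node (.node (.node (.node (.leaf 0x2d8e0905a) (.leaf 0x878f59042)) (.node (.leaf 0x3f2d6905a) (.leaf 0x11749c900c))) (.node (.node (.leaf 0x27e9bb08a) (.leaf 0x45d59b0ea)) (.node (.leaf 0x3818ab1d6) (.leaf 0x3f49ab05a)))) (.node (.node (.node (.leaf 0x24ccd905a) (.leaf 0x3ad32b0ea)) (.node (.leaf 0x1f417700e) (.leaf 0x3ba66704e))) (.node (.node (.leaf 0x1dd839026) (.leaf 0x586d5b044)) (.node (.leaf 0xf673901c) (.leaf 0x594bab090))))) (.node (.node (.node (.node (.leaf 0x8275ab0ea) (.leaf 0x2bb2f704e)) (.node (.leaf 0x4b8290c6) (.leaf 0x80101b2dc))) (.node (.node (.leaf 0x7af8db08a) (.leaf 0x14845900a)) (.node (.leaf 0xff1d9024) (.leaf 0x4c0159036)))) (.node (.node (.node (.leaf 0x3ff7b905a)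 (.leaf 0x20fa25000)) (.node (.leaf 0x1bcfcb036) (.leaf 0x2893bb09a))) (.node (.node (.leaf 0x6275c7030) (.leaf 0xd375b056)) (.node (.leaf 0x3a7f2b086) (.leaf 0xcbafb056)))))))) (.node (.node (.node (.node (.node (.node (.node (.leaf 0x83c78b05a) (.leaf 0x144726b084)) (.node (.leaf 0x2de65300a) (.leaf 0x50a417026))) (.node (.node (.leaf 0xfb4f7034) (.leaf 0xa1fb07042)) (.node (.leaf 0x25ad7700a) (.leaf 0x3fd47b05a)))) (.node (.node (.node (.leaf 0xc987900e) (.leaf 0x3add2b194)) (.node (.leaf 0x8be0ab062) (.leaf 0x159db7b194))) (.node (.node (.leaf 0x1503d7014) (.leaf 0x8c1fcb064)) (.node (.leaf 0xfb5a7006) (.leaf 0x13ebb01e))))) (.node (.node (.node (.node (.leaf 0x5aeb59044) (.leaf 0x217c1b01c)) (.node (.leaf 0x28fedb06a) (.leaf 0x32d47004))) (.node (.node (.leaf 0x2c99db086) (.leaf 0x5fc0b0c6)) (.node (.leaf 0x1d954b144) (.leaf 0x49b75b050)))) (.node (.node (.node (.leaf 0x3e90cb084) (.leaf 0x25aa5900a)) (.node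 (.leaf 0xc27a37026) (.leaf 0xa5e1b0d6))) (.node (.node (.leaf 0x8b441b086) (.leaf 0x1f487b144)) (.node (.leaf 0x4bde6b09c) (.leaf 0x1106ab184)))))) (.node (.node (.node (.node (.node (.leaf 0x635497026) (.leaf 0x11f2db0fc)) (.node (.leaf 0x1abeb01e) (.leaf 0x40d117024))) (.node (.node (.leaf 0xa6b47b000) (.leaf 0x2ce2ab062)) (.node (.leaf 0x97183b01c) (.leaf 0x59d2bb090)))) (.node (.node (.node (.leaf 0x67d0b114) (.leaf 0x76fbb1fe)) (.node (.leaf 0x7d279b05a) (.leaf 0x8e43fb056))) (.node (.node (.leaf 0xddff900e) (.leaf 0xed82b06a)) (.node (.leaf 0x42359004) (.leaf 0x27916b08a))))) (.node (.node (.node (.node (.leaf 0x10cb1b064) (.leaf 0x631e07020)) (.node (.leaf 0x1d4dcb00c) (.leaf 0x6713eb1fe))) (.node (.node (.leaf 0x5c9279046) (.leaf 0x24060300a)) (.node (.leaf 0x1066eb114) (.leaf 0xf0739004)))) (.node (.node (.node (.leaf 0x1fb5fb00c) (.leaf 0x60f37b086)) (.node (.leaf 0x17f6b01e) (.leaf 0x40e57014))) (.node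 (.node (.leaf 0x390119000) (.leaf 0x272833000)) (.node (.leaf 0x4b963b036) (.leaf 0x16a3b01e))))))) (.node (.node (.node (.node (.node (.node (.leaf 0x24f94905a) (.leaf 0x19c32b1fe)) (.node (.leaf 0x9693b0d6) (.leaf 0x14f55704e))) (.node (.node (.leaf 0xcdab67026) (.leaf 0x2efa9b064)) (.node (.leaf 0x435fdb05c) (.leaf 0x3f9843002)))) (.node (.node (.node (.leaf 0x9d4fb024) (.leaf 0x13f45b1fe)) (.node (.leaf 0x2f280b0a2) (.leaf 0x20f265010))) (.node (.node (.leaf 0x46e857006) (.leaf 0x74d74b09c)) (.node (.leaf 0x4a568b2dc) (.leaf 0x47929006))))) (.node (.node (.node (.node (.leaf 0x14f4590c6) (.leaf 0x3533a7020)) (.node (.leaf 0x394897000) (.leaf 0x208fb5010))) (.node (.node (.leaf 0x1c6e6b2dc) (.leaf 0x2f2bdb0a2)) (.node (.leaf 0x7dc8a3004) (.leaf 0x945bbb09c)))) (.node (.node (.node (.leaf 0x32c4bb044) (.leaf 0x5f83b024)) (.node (.leaf 0x6262b9000) (.leaf 0x11647b062))) (.node (.node (.leaf 0x1d52e9046) (.leaf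 0x4ba05b084)) (.node (.leaf 0x155439042) (.leaf 0x2e1ab0d6)))))) (.node (.node (.node (.node (.node (.leaf 0xab8eb0c6) (.leaf 0x159d29006)) (.node (.leaf 0x2d921905a) (.leaf 0x208aa5004))) (.node (.node (.leaf 0x8b821b194) (.leaf 0x2063c7002)) (.node (.leaf 0x2ff2db0a2) (.leaf 0xb57b042)))) (.node (.node (.node (.leaf 0x60aa1b184) (.leaf 0x4f507b17a)) (.node (.leaf 0x24d6c905a) (.leaf 0x301f904e))) (.node (.node (.leaf 0x689acb050) (.leaf 0x171d0b064)) (.node (.leaf 0x19cc29044) (.leaf 0x3442b7002))))) (.node (.node (.node (.node (.leaf 0xe0c8b014) (.leaf 0x3f322b05a)) (.node (.leaf 0x45c52b062) (.leaf 0x21f22b09a))) (.node (.node (.leaf 0x204175004) (.leaf 0x1833fb1fe)) (.node (.leaf 0x22aadb0d6) (.leaf 0xa5c853004)))) (.node (.node (.node (.leaf 0xf579900c) (.leaf 0xd6ddb9010)) (.node (.leaf 0x5dcc0b090) (.leaf 0x3ca00b00c))) (.node (.node (.leaf 0x42439042) (.leaf 0x3423901a)) (.node (.leaf 0x131509036) (.leaf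 0xb09d090c6))))))))) (.node (.node (.node (.node (.node (.node (.node (.node (.leaf 0xd285b1fe) (.leaf 0x1173a7024)) (.node (.leaf 0x7de87b08a) (.leaf 0x4748bb144))) (.node (.node (.leaf 0x9b40b0c6) (.leaf 0x5568e7000)) (.node (.leaf 0x6e9e8b1fe) (.leaf 0x2d238b08a)))) (.node (.node (.node (.leaf 0x139dbb056) (.leaf 0x1d81eb000)) (.node (.leaf 0x476a09000) (.leaf 0x7165905c))) (.node (.node (.leaf 0x376367020) (.leaf 0x4b4fdb084)) (.node (.leaf 0x24745b08a) (.leaf 0xd50e7b086))))) (.node (.node (.node (.node (.leaf 0x20eab5006) (.leaf 0x202765006)) (.node (.leaf 0x43b86900e) (.leaf 0x4687b704e))) (.node (.node (.leaf 0x344205002) (.leaf 0x8b8399014)) (.node (.leaf 0xc366b1d6) (.leaf 0x3f284300e)))) (.node (.node (.node (.leaf 0x1b10ab084) (.leaf 0x10fbb01e)) (.node (.leaf 0x14ce67014) (.leaf 0x22006b0c6))) (.node (.node (.leaf 0xc1a89036) (.leaf 0x19b53b10c)) (.node (.leaf 0x222ccb024) (.leaf 0x3758fb01c)))))) (.node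 (.node (.node (.node (.node (.leaf 0xa38519044) (.leaf 0x42cfab1d6)) (.node (.leaf 0xae13e7034) (.leaf 0xb089b044))) (.node (.node (.leaf 0x1a331b10c) (.leaf 0x5e81e9000)) (.node (.leaf 0x606c57034) (.leaf 0x19b3b01e)))) (.node (.node (.node (.leaf 0x18ebeb10c) (.leaf 0x3515b7000)) (.node (.leaf 0x459039082) (.leaf 0x49bdb184))) (.node (.node (.leaf 0x1ce6b01e) (.leaf 0x4fc87b17a)) (.node (.leaf 0x121cab0c0) (.leaf 0x13975b056))))) (.node (.node (.node (.node (.leaf 0x5a640b1d6) (.leaf 0x2f3a8b0a2)) (.node (.leaf 0x25db59006) (.leaf 0x2b10c9082))) (.node (.node (.leaf 0x59cc85004) (.leaf 0x27194b05a)) (.node (.leaf 0x15aeb01e) (.leaf 0x20bda5042)))) (.node (.node (.node (.leaf 0x14bbe7042) (.leaf 0xa690b024)) (.node (.leaf 0x2bd0d7006) (.leaf 0xd9d09036))) (.node (.node (.leaf 0x1d8137026) (.leaf 0x19cce9030)) (.node (.leaf 0x855d79042) (.leaf 0x248dfb05a))))))) (.node (.node (.node (.node (.node (.node (.leaf 0x7af023006)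 (.leaf 0x2b82a900c)) (.node (.leaf 0x731f09082) (.leaf 0x1b01db036))) (.node (.node (.leaf 0x166c8b14e) (.leaf 0x3a83c7014)) (.node (.leaf 0xea04700e) (.leaf 0x1e1779026)))) (.node (.node (.node (.leaf 0x9e9fb024) (.leaf 0x9dba89044)) (.node (.leaf 0x273403000) (.leaf 0x74b6db09c))) (.node (.node (.leaf 0x13b629036) (.leaf 0x14436901c)) (.node (.leaf 0x88c9b044) (.leaf 0x7a0003006))))) (.node (.node (.node (.node (.leaf 0x4741b700e) (.leaf 0xc0e8b05c)) (.node (.leaf 0x2d6ca905a) (.leaf 0x24af4b08a))) (.node (.node (.leaf 0xb5531b06a) (.leaf 0x7db7905c)) (.node (.leaf 0x37380b09a) (.leaf 0x8913f9036)))) (.node (.node (.node (.leaf 0x23520b044) (.leaf 0xf1d0900a)) (.node (.leaf 0x1ff989026) (.leaf 0xa142f704e))) (.node (.node (.leaf 0x40a24700a) (.leaf 0x143d89042)) (.node (.leaf 0x11fcb904e) (.leaf 0x244ab0d6)))))) (.node (.node (.node (.node (.node (.leaf 0x56d1b7000) (.leaf 0x99ea99024)) (.node (.leaf 0x1b3f2b084)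 (.leaf 0x28cc3b050))) (.node (.node (.leaf 0x5d72db0a6) (.leaf 0x24e843002)) (.node (.leaf 0x21a0ab050) (.leaf 0x2336b024)))) (.node (.node (.node (.leaf 0x2430e3002) (.leaf 0x42a88b05c)) (.node (.leaf 0x1d02db042) (.leaf 0x4903f7020))) (.node (.node (.leaf 0x2bde07024) (.leaf 0x3db1b0fc)) (.node (.leaf 0x3cda37026) (.leaf 0x11f8f901a))))) (.node (.node (.node (.node (.leaf 0x360abb056) (.leaf 0x5913b024)) (.node (.leaf 0x6813a7020) (.leaf 0x324d3b114))) (.node (.node (.leaf 0x38921b056) (.leaf 0x49bcb062)) (.node (.leaf 0xe8d39026) (.leaf 0x1ebc4700e)))) (.node (.node (.node (.leaf 0x7cdb01c) (.leaf 0x25fce9004)) (.node (.leaf 0xd9e8b10c) (.leaf 0x3aaec9004))) (.node (.node (.leaf 0x13acd900e) (.leaf 0x15824b062)) (.node (.leaf 0xfecb69036) (.leaf 0x259077006)))))))) (.node (.node (.node (.node (.node (.node (.node (.leaf 0x325c0b064) (.leaf 0x241f7b05a)) (.node (.leaf 0xe0d4b144) (.leaf 0x7764b1d6))) (.node (.node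 (.leaf 0x36699900e) (.leaf 0x1482f7006)) (.node (.leaf 0x77390b10c) (.leaf 0x19beb01e)))) (.node (.node (.node (.leaf 0x255e89024) (.leaf 0x2ff95b0a2)) (.node (.leaf 0x2b7b07042) (.leaf 0x2d356b05a))) (.node (.node (.leaf 0x54343b00c) (.leaf 0x370cb086)) (.node (.leaf 0x1e054b144) (.leaf 0x4598a901a))))) (.node (.node (.node (.node (.leaf 0x10f6b01e) (.leaf 0x98c0fb044)) (.node (.leaf 0x2fd05b0a2) (.leaf 0xba51b114))) (.node (.node (.leaf 0x3fabb062) (.leaf 0x15a3b01e)) (.node (.leaf 0x66257b2dc) (.leaf 0x69ff7700e)))) (.node (.node (.node (.leaf 0x38649900e) (.leaf 0x41d3b194)) (.node (.leaf 0x5698b0c6) (.leaf 0x21554b000))) (.node (.node (.leaf 0x15c1ab0fc) (.leaf 0x4ea73b064)) (.node (.leaf 0x874b06a) (.leaf 0x3cadeb000)))))) (.node (.node (.node (.node (.node (.leaf 0x20af25002) (.leaf 0x20982502a)) (.node (.leaf 0x1b135b036) (.leaf 0x2c5fb9082))) (.node (.node (.leaf 0x372079010) (.leaf 0xa5f1b0d6)) (.node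 (.leaf 0x1e88cb00c) (.leaf 0x9e19e7000)))) (.node (.node (.node (.leaf 0x471ab0fc) (.leaf 0x26edb0c6)) (.node (.leaf 0x1cebb01e) (.leaf 0xd98eb1d6))) (.node (.node (.leaf 0x3458eb0a6) (.leaf 0x15ed3b194)) (.node (.leaf 0x491167010) (.leaf 0x42acdb1fe))))) (.node (.node (.node (.node (.leaf 0xeb6b09a) (.leaf 0x602b97014)) (.node (.leaf 0x1929e905c) (.leaf 0x3bc9f9014))) (.node (.node (.leaf 0x1748bb044) (.leaf 0x21b79b002)) (.node (.leaf 0x2d0c0b08a) (.leaf 0xc4fe4b194)))) (.node (.node (.node (.leaf 0x7cede9010) (.leaf 0x280e9b000)) (.node (.leaf 0x517b4b050) (.leaf 0x1f7487026))) (.node (.node (.leaf 0x30a44b0c0) (.leaf 0x38c5a9036)) (.node (.leaf 0x16200b0c0) (.leaf 0x118407004))))))) (.node (.node (.node (.node (.node (.node (.leaf 0x51b37b002) (.leaf 0x1db08b014)) (.node (.leaf 0x241a6905a) (.leaf 0x3cc4cb014))) (.node (.node (.leaf 0xce90b10c) (.leaf 0xaceeb9026)) (.node (.leaf 0x218e3b042) (.leaf 0x4e82ab044))))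 (.node (.node (.node (.leaf 0x4a33b0ea) (.leaf 0x36ecb194)) (.node (.leaf 0x5adfeb10c) (.leaf 0x4475f9082))) (.node (.node (.leaf 0xa39db9044) (.leaf 0x4fd17b17a)) (.node (.leaf 0x9683b0d6) (.leaf 0x1249ab0c0))))) (.node (.node (.node (.node (.leaf 0xf92257020) (.leaf 0x1a1c4b1fe)) (.node (.leaf 0x1ce97b2dc) (.leaf 0x1018fb064))) (.node (.node (.leaf 0x5699bb002) (.leaf 0x150f3b086)) (.node (.leaf 0x3366db114) (.leaf 0x14054900c)))) (.node (.node (.node (.leaf 0x40f74904e) (.leaf 0x18475905c)) (.node (.leaf 0x8f41b114) (.leaf 0x34071b00a))) (.node (.node (.leaf 0x14f9cf900c) (.leaf 0xa486b0c6)) (.node (.leaf 0x3719f7010) (.leaf 0x458117004)))))) (.node (.node (.node (.node (.node (.leaf 0xab803b086) (.leaf 0x45da19014)) (.node (.leaf 0x5d570b0cc) (.leaf 0x2d9483002))) (.node (.node (.leaf 0x2461e905a) (.leaf 0x15e33b0ea)) (.node (.leaf 0xc0eb014) (.leaf 0x27ffdb05a)))) (.node (.node (.node (.leaf 0x2afbcb064) (.leaf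 0x13c23900e)) (.node (.leaf 0x43e08b056) (.leaf 0xaf6979026))) (.node (.node (.leaf 0x1ff737030) (.leaf 0x122c3b14e)) (.node (.leaf 0x545b59046) (.leaf 0xb92f8b184))))) (.node (.node (.node (.node (.leaf 0x7aa79030) (.leaf 0x7a00c300e)) (.node (.leaf 0x4b68eb09c) (.leaf 0x87d46700a))) (.node (.node (.leaf 0x3a2b87034) (.leaf 0x8bd0b9082)) (.node (.leaf 0x2a09bb114) (.leaf 0x4cf3b086)))) (.node (.node (.node (.leaf 0x19680905c) (.leaf 0x502909046)) (.node (.leaf 0x111f69082) (.leaf 0x25e1e7014))) (.node (.node (.leaf 0xf2d090c6) (.leaf 0x99ba37014)) (.node (.leaf 0x7a2f6300e) (.leaf 0x4fc97b17a)))))))))) (.node (.node (.node (.node (.node (.node (.node (.node (.node (.leaf 0x8df2b064) (.leaf 0x46fd7042)) (.node (.leaf 0x47137b09a) (.leaf 0x274de905a))) (.node (.node (.leaf 0x45d977042) (.leaf 0x5e4c27026)) (.node (.leaf 0x1ff3cb002) (.leaf 0x13401905c)))) (.node (.node (.node (.leaf 0x785159046) (.leaf 0x3763cb00c))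 (.node (.leaf 0x27f8fb05a) (.leaf 0x3f960b05a))) (.node (.node (.leaf 0x114627014) (.leaf 0x4ad75b2dc)) (.node (.leaf 0xbc066b000) (.leaf 0x2b43f900a))))) (.node (.node (.node (.node (.leaf 0x2019db090) (.leaf 0x1a8d29044)) (.node (.leaf 0xd7e19030) (.leaf 0x3d846b09c))) (.node (.node (.leaf 0x5d39b0c6) (.leaf 0x68a379026)) (.node (.leaf 0x215099010) (.leaf 0x7458fb084)))) (.node (.node (.node (.leaf 0xccf6b05c) (.leaf 0x41822b0c6)) (.node (.leaf 0x24753b08a) (.leaf 0x9d090900e))) (.node (.node (.leaf 0x233c2b044) (.leaf 0x14048b194)) (.node (.leaf 0x73c8c9004) (.leaf 0x7a8853000)))))) (.node (.node (.node (.node (.node (.leaf 0xe25f9000) (.leaf 0xc2099030)) (.node (.leaf 0x57a88b06a) (.leaf 0x6f68e904e))) (.node (.node (.leaf 0x2c157901c) (.leaf 0x1ec78b050)) (.node (.leaf 0x1338ab10c) (.leaf 0x20edab00a)))) (.node (.node (.node (.leaf 0x354e2b000) (.leaf 0x277b6905a)) (.node (.leaf 0x7ae2b1d6) (.leaf 0x3f0163004)))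 (.node (.node (.leaf 0x2c1ad9042) (.leaf 0x5022b024)) (.node (.leaf 0x9111b0c6) (.leaf 0x200cdb090))))) (.node (.node (.node (.node (.leaf 0x22ff0b0d6) (.leaf 0xa658e7000)) (.node (.leaf 0x20092b00a) (.leaf 0x423039044))) (.node (.node (.leaf 0x43299082) (.leaf 0x1d8279010)) (.node (.leaf 0xa35629036) (.leaf 0x35b477026)))) (.node (.node (.node (.leaf 0xff859014) (.leaf 0x377990c6)) (.node (.leaf 0x8241d700a) (.leaf 0x1182a7042))) (.node (.node (.leaf 0x1af22b1fe) (.leaf 0x2bb3f90c6)) (.node (.leaf 0x19eaf7901c) (.leaf 0x27903905a))))))) (.node (.node (.node (.node (.node (.node (.leaf 0x11ab89024) (.leaf 0x1b255b09c)) (.node (.leaf 0x2f684b0a2) (.leaf 0x14ca8b0ea))) (.node (.node (.leaf 0x4372db1d6) (.leaf 0x35b6db042)) (.node (.leaf 0x73ccb10c) (.leaf 0x8b3b19042)))) (.node (.node (.node (.leaf 0x456cf7014) (.leaf 0xc15fb1fe)) (.node (.leaf 0x18cc4b05c) (.leaf 0x1e87b01e))) (.node (.node (.leaf 0x48ad7024) (.leaf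 0xf8d97b1d6)) (.node (.leaf 0x21406b144) (.leaf 0x1987020))))) (.node (.node (.node (.node (.leaf 0x119fb01e) (.leaf 0x2d0473000)) (.node (.leaf 0x496e1700e) (.leaf 0x2853f700e))) (.node (.node (.leaf 0x656d27000) (.leaf 0x42cb9014)) (.node (.leaf 0x727bdb050) (.leaf 0x11f2b01e)))) (.node (.node (.node (.leaf 0xf3579082) (.leaf 0x1d8bf7010)) (.node (.leaf 0x115f2901c) (.leaf 0x19819b05c))) (.node (.node (.leaf 0x20f2fb00a) (.leaf 0xe218b050)) (.node (.leaf 0x119a89042) (.leaf 0x5a5e8b10c)))))) (.node (.node (.node (.node (.node (.leaf 0x268d1b064) (.leaf 0x4c9e29030)) (.node (.leaf 0x5e66b0d6) (.leaf 0x2407eb08a))) (.node (.node (.leaf 0x1faab01e) (.leaf 0xbddfb044)) (.node (.leaf 0x137079030) (.leaf 0x21bceb00c)))) (.node (.node (.node (.leaf 0x1c1d7b0c0) (.leaf 0x27de2b05a)) (.node (.leaf 0x3228db114) (.leaf 0x50126b014))) (.node (.node (.leaf 0x4237d9044) (.leaf 0x7a9e9b05a)) (.node (.leaf 0x2b1147034) (.leaf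 0x7cbadb00c))))) (.node (.node (.node (.node (.leaf 0x16dcdb0c0) (.leaf 0x4330a9030)) (.node (.leaf 0x336ffb044) (.leaf 0x972a1b042))) (.node (.node (.leaf 0x4035901c) (.leaf 0x33816b064)) (.node (.leaf 0x2dd983004) (.leaf 0xbb2ef905c)))) (.node (.node (.node (.leaf 0x3d4f700a) (.leaf 0x971477026)) (.node (.leaf 0xd787d9004) (.leaf 0x1c66eb14e))) (.node (.node (.leaf 0x27d08b08a) (.leaf 0x5befab056)) (.node (.leaf 0x9712b0d6) (.leaf 0x79b49036)))))))) (.node (.node (.node (.node (.node (.node (.node (.leaf 0x3b976900a) (.leaf 0x45b699042)) (.node (.leaf 0xc899eb0cc) (.leaf 0x1f081b000))) (.node (.node (.leaf 0xe88267000) (.leaf 0x1926bb1d6)) (.node (.leaf 0x5f586b024) (.leaf 0xba513b194)))) (.node (.node (.node (.leaf 0x1e62b7000) (.leaf 0xcc2f9044)) (.node (.leaf 0x214649046) (.leaf 0xe3eabb17a))) (.node (.node (.leaf 0xabf239024) (.leaf 0x1588b9014)) (.node (.leaf 0x5a816b1d6) (.leaf 0x62a4f9026))))) (.node (.node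 (.node (.node (.leaf 0x1429db0fc) (.leaf 0x422c9016)) (.node (.leaf 0x730b87034) (.leaf 0x1551f900c))) (.node (.node (.leaf 0xe007b002) (.leaf 0x2f721b0a2)) (.node (.leaf 0x4b19026) (.leaf 0x248bb0d6)))) (.node (.node (.node (.leaf 0x154757024) (.leaf 0x273e63002)) (.node (.leaf 0x2b69e9042) (.leaf 0x110be7034))) (.node (.node (.leaf 0xdb579044) (.leaf 0x456067006)) (.node (.leaf 0x6dcdb064) (.leaf 0x42a2ab05c)))))) (.node (.node (.node (.node (.node (.leaf 0xa3adb024) (.leaf 0x14cfeb184)) (.node (.leaf 0x1100b7006) (.leaf 0x6404db144))) (.node (.node (.leaf 0x4fc26b17a) (.leaf 0x62e60700e)) (.node (.leaf 0x2bf2f9006) (.leaf 0x819165006)))) (.node (.node (.node (.leaf 0x342aeb090) (.leaf 0xade4b0d6)) (.node (.leaf 0x3cd7fb01c) (.leaf 0x117f29004))) (.node (.node (.leaf 0x48a88b084) (.leaf 0x7f17bb0ea)) (.node (.leaf 0xc27207030) (.leaf 0x289bc7010))))) (.node (.node (.node (.node (.leaf 0x9a85e900e) (.leaf 0x3fabb3004))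 (.node (.leaf 0x958eb024) (.leaf 0xb0f6b064))) (.node (.node (.leaf 0x92a56b042) (.leaf 0x216d6700e)) (.node (.leaf 0xec907030) (.leaf 0x77113b1fe)))) (.node (.node (.node (.leaf 0x1de967020) (.leaf 0x52a0eb036)) (.node (.leaf 0x3079900a) (.leaf 0x41874b024))) (.node (.node (.leaf 0x18786b1d6) (.leaf 0x7629b1fe)) (.node (.leaf 0x28037b00c) (.leaf 0x45107006))))))) (.node (.node (.node (.node (.node (.node (.leaf 0x1200bb2dc) (.leaf 0x14968b086)) (.node (.leaf 0xd7f59044) (.leaf 0x20180b090))) (.node (.node (.leaf 0x1d5b0b09a) (.leaf 0x3129704e)) (.node (.leaf 0x3a051904e) (.leaf 0x14cfb01e)))) (.node (.node (.node (.leaf 0x40af3b086) (.leaf 0x136c0b1d6)) (.node (.leaf 0x2b8789004) (.leaf 0x70a3cb000))) (.node (.node (.leaf 0x18a2b01e) (.leaf 0x45e399024)) (.node (.leaf 0x2f254b0a2) (.leaf 0x57312b014))))) (.node (.node (.node (.node (.leaf 0x495179046) (.leaf 0x158e19082)) (.node (.leaf 0x2b1a87014) (.leaf 0x2c3de7006)))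 (.node (.node (.leaf 0xf09a904e) (.leaf 0x18d849036)) (.node (.leaf 0xc11d9044) (.leaf 0x192b1b10c)))) (.node (.node (.node (.leaf 0x83bbb044) (.leaf 0x69debb014)) (.node (.leaf 0x493b7004) (.leaf 0x273cab05a))) (.node (.node (.leaf 0x119f59006) (.leaf 0x69120b01c)) (.node (.leaf 0x43139024) (.leaf 0x1fd7b01e)))))) (.node (.node (.node (.node (.node (.leaf 0x22683b0c6) (.leaf 0x409f900c)) (.node (.leaf 0x6e56b114) (.leaf 0x4f2b6b17a))) (.node (.node (.leaf 0xb11619030) (.leaf 0xe8877000)) (.node (.leaf 0x2dbaab08a) (.leaf 0x372339026)))) (.node (.node (.node (.leaf 0x28f8c9000) (.leaf 0xfc7e901a)) (.node (.leaf 0x283749010) (.leaf 0x2c9f37034))) (.node (.node (.leaf 0x78f4b05c) (.leaf 0x47f80b01c)) (.node (.leaf 0xdf67b1fe) (.leaf 0x6217026))))) (.node (.node (.node (.node (.leaf 0x153987006) (.leaf 0x1a4749044)) (.node (.leaf 0xe3ebbb17a) (.leaf 0x12fab01e))) (.node (.node (.leaf 0x1e2abb002) (.leaf 0x16a8db2dc))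 (.node (.leaf 0x1a5ebb05c) (.leaf 0x26e4b0c6)))) (.node (.node (.node (.leaf 0xf57c19010) (.leaf 0x196599036)) (.node (.leaf 0x1f652b042) (.leaf 0x3d2f3b036))) (.node (.node (.leaf 0x4567030) (.leaf 0x13257905c)) (.node (.leaf 0x22b7b024) (.leaf 0x200d0b090))))))))) (.node (.node (.node (.node (.node (.node (.node (.node (.leaf 0x965eb024) (.leaf 0x19628f900c)) (.node (.leaf 0xfdddb194) (.leaf 0x83e96b05a))) (.node (.node (.leaf 0x4908bb06a) (.leaf 0x515a8b00c)) (.node (.leaf 0x407839042) (.leaf 0x378a37026)))) (.node (.node (.node (.leaf 0x80e84b0c0) (.leaf 0x1f854b01c)) (.node (.leaf 0x13d519030) (.leaf 0x7999b056))) (.node (.node (.leaf 0x25e4b901a) (.leaf 0x36d5bb1fe)) (.node (.leaf 0x1bda4b09c) (.leaf 0x2c2f0704e))))) (.node (.node (.node (.node (.leaf 0x68006b06a) (.leaf 0x2f63cb0a2)) (.node (.leaf 0x3f3c9042) (.leaf 0x9c85890c6))) (.node (.node (.leaf 0xe7bfb01c) (.leaf 0xc98eb10c)) (.node (.leaf 0x298c0b114)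 (.leaf 0x1ab49b1d6)))) (.node (.node (.node (.leaf 0x3d1e7042) (.leaf 0x1cda6b0c0)) (.node (.leaf 0x20c30b0a6) (.leaf 0xa0d34b0ea))) (.node (.node (.leaf 0x2fdecb0a2) (.leaf 0x4864901a)) (.node (.leaf 0x18f4fb056) (.leaf 0x1d3507030)))))) (.node (.node (.node (.node (.node (.leaf 0x47d1db000) (.leaf 0x4f18eb17a)) (.node (.leaf 0x764bb056) (.leaf 0x1689db0c0))) (.node (.node (.leaf 0xe2387b01c) (.leaf 0x57fb9b002)) (.node (.leaf 0x29dbb0d6) (.leaf 0x5861b0c6)))) (.node (.node (.node (.leaf 0x7d383b05a) (.leaf 0x3ac747024)) (.node (.leaf 0x20260b0a6) (.leaf 0x4c52c9030))) (.node (.node (.leaf 0xb5ad87000) (.leaf 0x155d2704e)) (.node (.leaf 0xe36bbb17a) (.leaf 0x300c1b0c0))))) (.node (.node (.node (.node (.leaf 0x19842b056) (.leaf 0x1d417b002)) (.node (.leaf 0x14ca07004) (.leaf 0x27219905a))) (.node (.node (.leaf 0xe0c67020) (.leaf 0x1ce1fb14e)) (.node (.leaf 0x4a7bdb14e) (.leaf 0xab7db024)))) (.node (.node (.node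 (.leaf 0x9119b0c6) (.leaf 0x7034ab09a)) (.node (.leaf 0x173ddb114) (.leaf 0x180e9b056))) (.node (.node (.leaf 0x39d2ab014) (.leaf 0x21cdc7020)) (.node (.leaf 0x555d9b00c) (.leaf 0x12e8ab2dc))))))) (.node (.node (.node (.node (.node (.node (.leaf 0x5059010) (.leaf 0x3ca1f9000)) (.node (.leaf 0xba47b114) (.leaf 0x7923900e))) (.node (.node (.leaf 0x1bcfb01e) (.leaf 0xed70b09a)) (.node (.leaf 0x30b81b2dc) (.leaf 0x1ccf6b0c0)))) (.node (.node (.node (.leaf 0x270b7300a) (.leaf 0x66426b0c0)) (.node (.leaf 0x8314db08a) (.leaf 0x420cf9030))) (.node (.node (.leaf 0x54186b042) (.leaf 0x360319044)) (.node (.leaf 0x1fa2b01e) (.leaf 0x3bbe7b086))))) (.node (.node (.node (.node (.leaf 0x810b17002) (.leaf 0x6e8e6905c)) (.node (.leaf 0x14bab9016) (.leaf 0x10aae4b14e))) (.node (.node (.leaf 0x115f5704e) (.leaf 0x2b20eb194)) (.node (.leaf 0x1aa9e9030) (.leaf 0x2e6f4b044)))) (.node (.node (.node (.leaf 0x3a8ec901c) (.leaf 0xd9c3905c))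 (.node (.leaf 0x8c33b114) (.leaf 0x33037b114))) (.node (.node (.leaf 0x18d7b01e) (.leaf 0x12bdab2dc)) (.node (.leaf 0x3486fb0cc) (.leaf 0x118a590c6)))))) (.node (.node (.node (.node (.node (.leaf 0x41a35b0d6) (.leaf 0x23bcb0c6)) (.node (.leaf 0xd300b1d6) (.leaf 0x7aebbb08a))) (.node (.node (.leaf 0x213057026) (.leaf 0x35c69004)) (.node (.leaf 0x35b979026) (.leaf 0xc1bb905c)))) (.node (.node (.node (.leaf 0x30f19b14e) (.leaf 0x1e31b9010)) (.node (.leaf 0x18eb7900e) (.leaf 0xa24a0b09a))) (.node (.node (.leaf 0x63528b000) (.leaf 0x143ea9082)) (.node (.leaf 0x27ef73006) (.leaf 0x59cc1500e))))) (.node (.node (.node (.node (.leaf 0x11fab01e) (.leaf 0x20430b0cc)) (.node (.leaf 0x5a135b056) (.leaf 0x24a653000))) (.node (.node (.leaf 0xa42bb0c6) (.leaf 0x5811bb044)) (.node (.leaf 0xd19b9904e) (.leaf 0xfd3db0ea)))) (.node (.node (.node (.leaf 0x151fc901a) (.leaf 0x1a103b10c)) (.node (.leaf 0x4d51bb084) (.leaf 0x5836b0d6)))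 (.node (.node (.leaf 0x84f5db114) (.leaf 0x2618eb044)) (.node (.leaf 0xf6d9000) (.leaf 0x30627034)))))))) (.node (.node (.node (.node (.node (.node (.node (.leaf 0x48f87b09c) (.leaf 0x16fddb2dc)) (.node (.leaf 0x24771b05a) (.leaf 0x13522b05c))) (.node (.node (.leaf 0x1de4f9000) (.leaf 0x1a540905c)) (.node (.leaf 0x40012900a) (.leaf 0x605e17042)))) (.node (.node (.node (.leaf 0x2cca0900a) (.leaf 0xa8a837034)) (.node (.leaf 0xb00859014) (.leaf 0x95f9d7004))) (.node (.node (.leaf 0x60fb17024) (.leaf 0x2d40a3004)) (.node (.leaf 0x4683a9042) (.leaf 0x5ba700e))))) (.node (.node (.node (.node (.leaf 0x35299006) (.leaf 0xd4f1905c)) (.node (.leaf 0x7cfa7b000) (.leaf 0x106fcb044))) (.node (.node (.leaf 0x59a867002) (.leaf 0x7f1917014)) (.node (.leaf 0x17463cb09c) (.leaf 0x64a61b014)))) (.node (.node (.node (.leaf 0x22aa0b0d6) (.leaf 0x27ca8905a)) (.node (.leaf 0x7609046) (.leaf 0x43d37b05c))) (.node (.node (.leaf 0x505e0b000)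 (.leaf 0xbdd7010)) (.node (.leaf 0x5f656b024) (.leaf 0x2fd3cb0a2)))))) (.node (.node (.node (.node (.node (.leaf 0x38e1ab05c) (.leaf 0xc97edb0c0)) (.node (.leaf 0x1395b9044) (.leaf 0x562279026))) (.node (.node (.leaf 0x2d2a13000) (.leaf 0x6108bb036)) (.node (.leaf 0x37df7006) (.leaf 0x4516c900a)))) (.node (.node (.node (.leaf 0x149ee7024) (.leaf 0x6f7bab062)) (.node (.leaf 0x925c0b01c) (.leaf 0x336f0b064))) (.node (.node (.leaf 0xc519905c) (.leaf 0x21a959026)) (.node (.leaf 0xff72f7004) (.leaf 0x2d18db05a))))) (.node (.node (.node (.node (.leaf 0xd466b10c) (.leaf 0x1ea80b09a)) (.node (.leaf 0xf0fbb184) (.leaf 0x29858b044))) (.node (.node (.leaf 0x55b2b024) (.leaf 0x87525b194)) (.node (.leaf 0x3f57000) (.leaf 0x15f48700a)))) (.node (.node (.node (.leaf 0x5c9d1b050) (.leaf 0xeb379010)) (.node (.leaf 0x4dd0904e) (.leaf 0xa676db09a))) (.node (.node (.leaf 0x34d8eb0cc) (.leaf 0x3a47a7004)) (.node (.leaf 0x252d29082)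 (.leaf 0x9d01d9036))))))) (.node (.node (.node (.node (.node (.node (.leaf 0x7a5c53004) (.leaf 0x5d29f5004)) (.node (.leaf 0x1e88a7020) (.leaf 0x2865b7030))) (.node (.node (.leaf 0x136abb1fe) (.leaf 0x64ddbb000)) (.node (.leaf 0x302c9024) (.leaf 0x4ad65b2dc)))) (.node (.node (.node (.leaf 0xa0dd4b194) (.leaf 0x1d87b01e)) (.node (.leaf 0xcf78b1d6) (.leaf 0x3a0e09082))) (.node (.node (.leaf 0x1ce0fb14e) (.leaf 0x3b098b062)) (.node (.leaf 0x56318b00c) (.leaf 0x31567014))))) (.node (.node (.node (.node (.leaf 0x1269b7b2dc) (.leaf 0x3e9aab09c)) (.node (.leaf 0x2f899b0a2) (.leaf 0x129fb01e))) (.node (.node (.leaf 0xe3af7010) (.leaf 0x12f2b01e)) (.node (.leaf 0xbf6f6b0c6) (.leaf 0x35f529046)))) (.node (.node (.node (.leaf 0x344815004) (.leaf 0x516ce9046)) (.node (.leaf 0x3af129024) (.leaf 0x3debeb09c))) (.node (.node (.leaf 0xf6ab144) (.leaf 0x11fa5900a)) (.node (.leaf 0x252709014) (.leaf 0x1e1c3b01c)))))) (.node (.node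 (.node (.node (.node (.leaf 0x2027db0a6) (.leaf 0x28f209026)) (.node (.leaf 0x147ef904e) (.leaf 0x4310eb1fe))) (.node (.node (.leaf 0x136f59044) (.leaf 0xd6d39030)) (.node (.leaf 0x225a9b024) (.leaf 0x18aab01e)))) (.node (.node (.node (.leaf 0x24c333004) (.leaf 0x7d24a905a)) (.node (.leaf 0x56bd0b144) (.leaf 0x2e03cb114))) (.node (.node (.leaf 0x59504500a) (.leaf 0x4c8b09044)) (.node (.leaf 0x5567a9026) (.leaf 0x805c4b2dc))))) (.node (.node (.node (.node (.leaf 0x8105b5014) (.leaf 0x34c755010)) (.node (.leaf 0x494d0b042) (.leaf 0x1a4ce905c))) (.node (.node (.leaf 0xca2b00c) (.leaf 0x8714b064)) (.node (.leaf 0xb614b064) (.leaf 0x4e2acb044)))) (.node (.node (.node (.leaf 0x1ddd8b050) (.leaf 0x1988c900e)) (.node (.leaf 0x47ea8b002) (.leaf 0x2fe09b0a2))) (.node (.node (.leaf 0x7af1900e) (.leaf 0x18b169036)) (.node (.leaf 0x7f329036) (.leaf 0x18d11900e))))))))))) (.node (.node (.node (.node (.node (.node (.node (.node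 (.node (.node (.leaf 0x5383cb056) (.leaf 0x33c1e9044)) (.node (.leaf 0xa776eb14e) (.leaf 0x3972700e))) (.node (.node (.leaf 0xae524b000) (.leaf 0x4eb2b9044)) (.node (.leaf 0x3a5a0b00c) (.leaf 0xa7087002)))) (.node (.node (.node (.leaf 0x25c76b09a) (.leaf 0x51b997006)) (.node (.leaf 0x30a51b0c0) (.leaf 0x9f20b00a))) (.node (.node (.leaf 0xe0a2b086) (.leaf 0x2a353b10c)) (.node (.leaf 0x972e9002) (.leaf 0x90bed500e))))) (.node (.node (.node (.node (.leaf 0x5dd8500e) (.leaf 0x8ab1b1d6)) (.node (.leaf 0x3783bb0fc) (.leaf 0x26ff6b1d6))) (.node (.node (.leaf 0x22e85010) (.leaf 0x2e6979044)) (.node (.leaf 0x102f39030) (.leaf 0x983f9002)))) (.node (.node (.node (.leaf 0xc0dbeb1fe) (.leaf 0x3ca89046)) (.node (.leaf 0x51e2a7004) (.leaf 0x2d460300e))) (.node (.node (.leaf 0x69e24900a) (.leaf 0x2bc2b0cc)) (.node (.leaf 0x5579500e) (.leaf 0x29d739030)))))) (.node (.node (.node (.node (.node (.leaf 0x628789082) (.leaf 0x8a1b2704e))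 (.node (.leaf 0x100e6b10c) (.leaf 0x78b29b086))) (.node (.node (.leaf 0x3467042) (.leaf 0x4069db00c)) (.node (.leaf 0x701629004) (.leaf 0x25b5eb014)))) (.node (.node (.node (.leaf 0x200fab0c6) (.leaf 0x2bde07030)) (.node (.leaf 0x94fe9002) (.leaf 0x431ddb114))) (.node (.node (.leaf 0x1219006) (.leaf 0xa5987002)) (.node (.leaf 0x92cab0a6) (.leaf 0x2c45eb042))))) (.node (.node (.node (.node (.leaf 0x321a6905c) (.leaf 0xea62b0ea)) (.node (.leaf 0x93ef9002) (.leaf 0x6b08b10c))) (.node (.node (.leaf 0x492e4901a) (.leaf 0x198b1b044)) (.node (.leaf 0x548117004) (.leaf 0x92a929016)))) (.node (.node (.node (.leaf 0x1149ab09a) (.leaf 0x6a0cb9044)) (.node (.leaf 0x3f6b2b05a) (.leaf 0x1e951901a))) (.node (.node (.leaf 0x21567901a) (.leaf 0x8a28905c)) (.node (.leaf 0x23f45004) (.leaf 0x249eeb08a))))))) (.node (.node (.node (.node (.node (.node (.leaf 0xa0309002) (.leaf 0x304c9b14e)) (.node (.leaf 0x22b55b090) (.leaf 0x6f309036)))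 (.node (.node (.leaf 0x2a2c9b1d6) (.leaf 0xb9e969046)) (.node (.leaf 0x500b4b086) (.leaf 0x44429026)))) (.node (.node (.node (.leaf 0x77d2b114) (.leaf 0x4f87fb17a)) (.node (.leaf 0x4c95eb064) (.leaf 0xbcccb056))) (.node (.node (.leaf 0x10384b1d6) (.leaf 0x54ec6904e)) (.node (.leaf 0x14536b050) (.leaf 0x1fd02700a))))) (.node (.node (.node (.node (.leaf 0x360900c) (.leaf 0x31514b10c)) (.node (.leaf 0x29196b10c) (.leaf 0x930fc9030))) (.node (.node (.leaf 0x3f215b08a) (.leaf 0x5e0b7002)) (.node (.leaf 0x41010b090) (.leaf 0x25d11b01c)))) (.node (.node (.node (.leaf 0x5498a901a) (.leaf 0x28a6f7034)) (.node (.leaf 0x9b4bb0a6) (.leaf 0xe2dfd9016))) (.node (.node (.leaf 0x8fa6905c) (.leaf 0xaa7a5010)) (.node (.leaf 0xe5dbb0fc) (.leaf 0x3ba2b144)))))) (.node (.node (.node (.node (.node (.leaf 0x64a5b1fe) (.leaf 0x177369030)) (.node (.leaf 0x1f85890c6) (.leaf 0xa6775010))) (.node (.node (.leaf 0x4a06db14e) (.leaf 0x1ded89004))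 (.node (.leaf 0xf85db06a) (.leaf 0x5580d7024)))) (.node (.node (.node (.leaf 0x283c39004) (.leaf 0x723d39024)) (.node (.leaf 0x339d9010) (.leaf 0x85bbb10c))) (.node (.node (.leaf 0x36decb114) (.leaf 0x16048b14e)) (.node (.leaf 0x40ec5700e) (.leaf 0xe802b194))))) (.node (.node (.node (.node (.leaf 0x14e7014) (.leaf 0x1da487014)) (.node (.leaf 0x175edb1d6) (.leaf 0x3c9a1904e))) (.node (.node (.leaf 0x27078905a) (.leaf 0xa7de5004)) (.node (.leaf 0x211c27024) (.leaf 0x312ab00c)))) (.node (.node (.node (.leaf 0x2b5f37000) (.leaf 0x53d6a900e)) (.node (.leaf 0x3b9c3b000) (.leaf 0x26fb49036))) (.node (.node (.leaf 0x2c309b000) (.leaf 0x3aa139026)) (.node (.leaf 0x2713b0cc) (.leaf 0x5adb7002)))))))) (.node (.node (.node (.node (.node (.node (.node (.leaf 0x55e707006) (.leaf 0xe709b062)) (.node (.leaf 0x23a05900e) (.leaf 0x505d9b0fc))) (.node (.node (.leaf 0x9f28b00a) (.leaf 0x34356b0d6)) (.node (.leaf 0x2f447b0a2) (.leaf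 0x9b9ab0a6)))) (.node (.node (.node (.leaf 0x20634b024) (.leaf 0x22b48b090)) (.node (.leaf 0x17e8bb10c) (.leaf 0xf7e3b014))) (.node (.node (.leaf 0x2d7be3006) (.leaf 0x1b850b084)) (.node (.leaf 0x27c9a300a) (.leaf 0x6570b05c))))) (.node (.node (.node (.node (.leaf 0x49390904e) (.leaf 0x23d2b0cc)) (.node (.leaf 0x53205042) (.leaf 0x797e9b00a))) (.node (.node (.leaf 0x4144ab00a) (.leaf 0x3fbab905a)) (.node (.leaf 0x103b28b05a) (.leaf 0xcd77006)))) (.node (.node (.node (.leaf 0x50e2eb184) (.leaf 0x667d7b2dc)) (.node (.leaf 0xbea79036) (.leaf 0x4d69b00c))) (.node (.node (.leaf 0x2f6d7b0a2) (.leaf 0x5945500a)) (.node (.leaf 0x3eb0bb084) (.leaf 0xa1e57002)))))) (.node (.node (.node (.node (.node (.leaf 0x704db7006) (.leaf 0x285fd9042)) (.node (.leaf 0x2e967b1fe) (.leaf 0x1de43900a))) (.node (.node (.leaf 0x1398ab044) (.leaf 0x15cb67000)) (.node (.leaf 0x22f63b00a) (.leaf 0x9a38502a)))) (.node (.node (.node (.leaf 0x2d2b5300a)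 (.leaf 0x3f4fe905a)) (.node (.leaf 0x1a931b044) (.leaf 0x98005002))) (.node (.node (.leaf 0x14b89b002) (.leaf 0xe13399082)) (.node (.leaf 0x249042) (.leaf 0x79103b0a6))))) (.node (.node (.node (.node (.leaf 0x2cc57b050) (.leaf 0x753c0900e)) (.node (.leaf 0x100a3905c) (.leaf 0x25f95010))) (.node (.node (.leaf 0x37057010) (.leaf 0x524d5006)) (.node (.leaf 0x5666fb0fc) (.leaf 0x3d6d7000)))) (.node (.node (.node (.leaf 0x4101db090) (.leaf 0x53745006)) (.node (.leaf 0xab757002) (.leaf 0x4e5059030))) (.node (.node (.leaf 0x4db1b144) (.leaf 0x3ec48b036)) (.node (.leaf 0xb8a4900e) (.leaf 0x2b73b9000))))))) (.node (.node (.node (.node (.node (.node (.leaf 0x121d089036) (.leaf 0xf764bb14e)) (.node (.leaf 0xa09d9002) (.leaf 0x394c3700a))) (.node (.node (.leaf 0x1265ab2dc) (.leaf 0x71e81b084)) (.node (.leaf 0xbde901c) (.leaf 0x2f663b0a2)))) (.node (.node (.node (.leaf 0x6766b1d6) (.leaf 0x10dff5b0a6)) (.node (.leaf 0x5cd4d7034)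 (.leaf 0xaa675014))) (.node (.node (.leaf 0x93c2bb05c) (.leaf 0x547c29016)) (.node (.leaf 0x785bfb184) (.leaf 0x4aa7034))))) (.node (.node (.node (.node (.leaf 0x4606ab06a) (.leaf 0xdb70b114)) (.node (.leaf 0x21a409014) (.leaf 0xaa9e5000))) (.node (.node (.leaf 0x1f848704e) (.leaf 0x2430e3000)) (.node (.leaf 0x5de9004) (.leaf 0x78e84b0fc)))) (.node (.node (.node (.leaf 0x549039082) (.leaf 0x266f4b05c)) (.node (.leaf 0x64cefb086) (.leaf 0x63e49704e))) (.node (.node (.leaf 0x2eca19044) (.leaf 0x449f9046)) (.node (.leaf 0x3bb47b06a) (.leaf 0x1eadd700a)))))) (.node (.node (.node (.node (.node (.leaf 0x50a74b0ea) (.leaf 0x251a8b06a)) (.node (.leaf 0xaf1de7004) (.leaf 0x154757030))) (.node (.node (.leaf 0x4677b7026) (.leaf 0x44713b09a)) (.node (.leaf 0x51aa7002) (.leaf 0x2f56fb0a2)))) (.node (.node (.node (.leaf 0x5a3edb064) (.leaf 0xa74d9002)) (.node (.leaf 0x28a137014) (.leaf 0x47fd29016))) (.node (.node (.leaf 0x229feb00a)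 (.leaf 0xa13b5000)) (.node (.leaf 0x3c6a3704e) (.leaf 0x1ff58900a))))) (.node (.node (.node (.node (.leaf 0x51f029024) (.leaf 0x951bb0a6)) (.node (.leaf 0x7ab553000) (.leaf 0x2f03b0cc))) (.node (.node (.leaf 0xd9e4f7010) (.leaf 0x1b436b036)) (.node (.leaf 0x312fcb05c) (.leaf 0x75fa8b056)))) (.node (.node (.node (.leaf 0xf349024) (.leaf 0x89f69030)) (.node (.leaf 0x27171905a) (.leaf 0x17c26905c))) (.node (.node (.leaf 0x45da0b002) (.leaf 0x651777004)) (.node (.leaf 0xf0635700a) (.leaf 0x79838b00a))))))))) (.node (.node (.node (.node (.node (.node (.node (.node (.leaf 0x492fd7042) (.leaf 0x58b1bb10c)) (.node (.leaf 0x261bfb056) (.leaf 0x94855006))) (.node (.node (.leaf 0x7627a900e) (.leaf 0x277f0b08a)) (.node (.leaf 0x1f6d27006) (.leaf 0x142a1b01c)))) (.node (.node (.node (.leaf 0x5ffb3b090) (.leaf 0xffdab042)) (.node (.leaf 0x2dca8b08a) (.leaf 0x4c53b06a))) (.node (.node (.leaf 0x83ba9044) (.leaf 0x24270b05a)) (.node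 (.leaf 0x28cf0704e) (.leaf 0x56de7900a))))) (.node (.node (.node (.node (.leaf 0xa09859010) (.leaf 0x35b52900c)) (.node (.leaf 0x8cb19b05c) (.leaf 0xe31390c6))) (.node (.node (.leaf 0x5e458901a) (.leaf 0x5f78b00a)) (.node (.leaf 0x5faeb0a6) (.leaf 0x3ef4eb084)))) (.node (.node (.node (.leaf 0x17f5a9044) (.leaf 0x2ba15014)) (.node (.leaf 0x44927026) (.leaf 0xa208f9006))) (.node (.node (.leaf 0xc02ea9030) (.leaf 0x232cdb1fe)) (.node (.leaf 0x2d57eb05a) (.leaf 0x31201b056)))))) (.node (.node (.node (.node (.node (.leaf 0x732f39000) (.leaf 0x21328b0ea)) (.node (.leaf 0x8d204b062) (.leaf 0x5750a7024))) (.node (.node (.leaf 0x3f204905a) (.leaf 0x9ed4500a)) (.node (.leaf 0xa2bbe9042) (.leaf 0x2b4c39010)))) (.node (.node (.node (.leaf 0x26919b056) (.leaf 0x96205042)) (.node (.leaf 0x1d689b062) (.leaf 0x1c647b2dc))) (.node (.node (.leaf 0x6415b056) (.leaf 0x471900a)) (.node (.leaf 0x1b943b09c) (.leaf 0x7493b064))))) (.node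 (.node (.node (.node (.leaf 0x30b99026) (.leaf 0x2fe55000)) (.node (.leaf 0x1f17b7014) (.leaf 0x9781c901c))) (.node (.node (.leaf 0x4603c700e) (.leaf 0xb3f1b05c)) (.node (.leaf 0x51c9502a) (.leaf 0x34506b0d6)))) (.node (.node (.node (.leaf 0x2731ab05a) (.leaf 0x258ceb050)) (.node (.leaf 0x53215002) (.leaf 0x20e2b090))) (.node (.node (.leaf 0x16858b14e) (.leaf 0x64d6e900a)) (.node (.leaf 0x6a51ab10c) (.leaf 0x140518b0fc))))))) (.node (.node (.node (.node (.node (.node (.leaf 0x2b33b090) (.leaf 0xe7147034)) (.node (.leaf 0x49cad7024) (.leaf 0x2fe6fb0a2))) (.node (.node (.leaf 0x64df19004) (.leaf 0xc490b044)) (.node (.leaf 0x1fcd59042) (.leaf 0x3f9883006)))) (.node (.node (.node (.leaf 0x185a4b114) (.leaf 0x710ab044)) (.node (.leaf 0x2bb4b7010) (.leaf 0x247700a))) (.node (.node (.leaf 0x39fe89024) (.leaf 0x32173b05c)) (.node (.leaf 0x37107020) (.leaf 0xac13502a))))) (.node (.node (.node (.node (.leaf 0x2f0f3b0a2) (.leaf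 0x5199b00a)) (.node (.leaf 0x93c67002) (.leaf 0x295aeb05c))) (.node (.node (.leaf 0x34d91b0c6) (.leaf 0x8cf44b1fe)) (.node (.leaf 0x69b69036) (.leaf 0x5f522b090)))) (.node (.node (.node (.leaf 0x492139014) (.leaf 0x2f7ffb0a2)) (.node (.leaf 0x63acc9024) (.leaf 0x5d972b0c6))) (.node (.node (.leaf 0xd34f9b144) (.leaf 0x3573c9082)) (.node (.leaf 0x22e28b0a6) (.leaf 0xdd9e1900e)))))) (.node (.node (.node (.node (.node (.leaf 0x22e38b0a6) (.leaf 0x24fc9b05a)) (.node (.leaf 0xf564b002) (.leaf 0x569fb0a6))) (.node (.node (.leaf 0xbf7cb1fe) (.leaf 0x3e719b036)) (.node (.leaf 0x420e8b114) (.leaf 0x88ae97026)))) (.node (.node (.node (.leaf 0x10977b1fe) (.leaf 0x6c7d900e)) (.node (.leaf 0x8a53b05c) (.leaf 0x4e7979030))) (.node (.node (.leaf 0x3f517300a) (.leaf 0x3a297026)) (.node (.leaf 0x174889044) (.leaf 0x11774b000))))) (.node (.node (.node (.node (.leaf 0x4aa5b014) (.leaf 0x272a7b05a)) (.node (.leaf 0x276e9b08a) (.leaf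 0x5097e7024))) (.node (.node (.leaf 0x1d000b184) (.leaf 0x96567002)) (.node (.leaf 0x1c017b2dc) (.leaf 0x32db49030)))) (.node (.node (.node (.leaf 0x272833002) (.leaf 0x398f89042)) (.node (.leaf 0x201f5b0d6) (.leaf 0xb6db89046))) (.node (.node (.leaf 0x3c98d9016) (.leaf 0x118d9b002)) (.node (.leaf 0x140ceb09a) (.leaf 0x12e8bb2dc)))))))) (.node (.node (.node (.node (.node (.node (.node (.leaf 0x64a7e9006) (.leaf 0x631dc9042)) (.node (.leaf 0x54b99b086) (.leaf 0x3ad7cb014))) (.node (.node (.leaf 0x505c3901a) (.leaf 0x41dadb0cc)) (.node (.leaf 0xe5439006) (.leaf 0x216e8b086)))) (.node (.node (.node (.leaf 0x27e32b05a) (.leaf 0x50a39002)) (.node (.leaf 0x61ba0b036) (.leaf 0x110f2b050))) (.node (.node (.leaf 0xf773b050) (.leaf 0x25687b042)) (.node (.leaf 0x3f8b5905a) (.leaf 0x22e35b0a6))))) (.node (.node (.node (.node (.leaf 0x50d29002) (.leaf 0x41cfdb0cc)) (.node (.leaf 0x6efcdb114) (.leaf 0x233fab1d6))) (.node (.node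 (.leaf 0x1f8ab9004) (.leaf 0x1dd72b0ea)) (.node (.leaf 0x2fec5000) (.leaf 0x56bb79006)))) (.node (.node (.node (.leaf 0x1787a07010) (.leaf 0x414f0b0a6)) (.node (.leaf 0x5620b00a) (.leaf 0x4cbb8b064))) (.node (.node (.leaf 0x28f2b090) (.leaf 0x12bdbb2dc)) (.node (.leaf 0x504af904e) (.leaf 0x24e843000)))))) (.node (.node (.node (.node (.node (.leaf 0x39a537006) (.leaf 0x51339002)) (.node (.leaf 0x8236fb002) (.leaf 0x2e38cb1d6))) (.node (.node (.leaf 0x6c90eb1fe) (.leaf 0x13102b114)) (.node (.leaf 0x9951500e) (.leaf 0x47e51b0ea)))) (.node (.node (.node (.leaf 0x1f7477034) (.leaf 0x237c89036)) (.node (.leaf 0x9f00500e) (.leaf 0x2ba027020))) (.node (.node (.leaf 0x171b3b05c) (.leaf 0x5e3c2704e)) (.node (.leaf 0x73a047030) (.leaf 0xb7190c6))))) (.node (.node (.node (.node (.leaf 0x57beb0a6) (.leaf 0x83789030)) (.node (.leaf 0x2fb85014) (.leaf 0x22e25b0a6))) (.node (.node (.leaf 0x4c2fb000) (.leaf 0xead29042)) (.node (.leaf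 0x69f749006) (.leaf 0x6b4f7b10c)))) (.node (.node (.node (.leaf 0xba89b10c) (.leaf 0x1e1cc9082)) (.node (.leaf 0x24c8b3004) (.leaf 0x59429002))) (.node (.node (.leaf 0x1bc8eb036) (.leaf 0x30601b2dc)) (.node (.leaf 0x170e49030) (.leaf 0x107b99044))))))) (.node (.node (.node (.node (.node (.node (.leaf 0xa4325006) (.leaf 0xae7f5006)) (.node (.leaf 0x93d53b10c) (.leaf 0x22635b0cc))) (.node (.node (.leaf 0x5e8fb0a6) (.leaf 0x1b4e8b084)) (.node (.leaf 0x2d0473002) (.leaf 0xa528c3004)))) (.node (.node (.node (.leaf 0xc648b114) (.leaf 0x1fc489006)) (.node (.leaf 0x478acb0fc) (.leaf 0x159777020))) (.node (.node (.leaf 0x66bb6b2dc) (.leaf 0x4cd6fb114)) (.node (.leaf 0xb97b0b014) (.leaf 0x29c419030))))) (.node (.node (.node (.node (.leaf 0x2e873905c) (.leaf 0x263669036)) (.node (.leaf 0x243a1b05a) (.leaf 0x8b1c9044))) (.node (.node (.leaf 0x21d92b184) (.leaf 0x17c6ab1fe)) (.node (.leaf 0x6cc7900e) (.leaf 0x1feab901c)))) (.node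 (.node (.node (.leaf 0xbc77b1d6) (.leaf 0x314f9900e)) (.node (.leaf 0x360e7030) (.leaf 0x23288b05c))) (.node (.node (.leaf 0x54c1b00a) (.leaf 0x26ea1900e)) (.node (.leaf 0x3faee300e) (.leaf 0x6bef29030)))))) (.node (.node (.node (.node (.node (.leaf 0x25b94b000) (.leaf 0x9f077002)) (.node (.leaf 0x16dd0b0c0) (.leaf 0x2740e905a))) (.node (.node (.leaf 0x2323b090) (.leaf 0x16a90b2dc)) (.node (.leaf 0xa73f500a) (.leaf 0xa0035042)))) (.node (.node (.node (.leaf 0x27a51b08a) (.leaf 0xe1189004)) (.node (.leaf 0x39694900c) (.leaf 0x6033ab002))) (.node (.node (.leaf 0x107759030) (.leaf 0x67931b114)) (.node (.leaf 0x49117900c) (.leaf 0x3347a9030))))) (.node (.node (.node (.node (.leaf 0x744f8b084) (.leaf 0x1eba07024)) (.node (.leaf 0x51749700a) (.leaf 0x25b39b002))) (.node (.node (.leaf 0x27c2b905a) (.leaf 0x7fa569000)) (.node (.leaf 0x79981500e) (.leaf 0x35e299016)))) (.node (.node (.node (.leaf 0x4ffafb17a) (.leaf 0x6d83eb056))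 (.node (.leaf 0xd21704e) (.leaf 0x34212b024))) (.node (.node (.leaf 0xa463500e) (.leaf 0xa4ce500e)) (.node (.leaf 0x4290b042) (.leaf 0xea887014)))))))))) (.node (.node (.node (.node (.node (.node (.node (.node (.node (.leaf 0x1054e9036) (.leaf 0x57315000)) (.node (.leaf 0x52fa5b09c) (.leaf 0x10381900e))) (.node (.node (.leaf 0x38be4b044) (.leaf 0xcddff7004)) (.node (.leaf 0x1be29b084) (.leaf 0x3caa39006)))) (.node (.node (.node (.leaf 0x9ed55010) (.leaf 0x343f7b0d6)) (.node (.leaf 0x47069010) (.leaf 0xb0deb1fe))) (.node (.node (.leaf 0x4f0f6b17a) (.leaf 0x501d49024)) (.node (.leaf 0xa75d7b2dc) (.leaf 0x32b339036))))) (.node (.node (.node (.node (.leaf 0x2cf5500e) (.leaf 0x728dab0fc)) (.node (.leaf 0x3c9e29042) (.leaf 0x122c2b14e))) (.node (.node (.leaf 0x4549d7020) (.leaf 0x32470900e)) (.node (.leaf 0x4ddeb01c) (.leaf 0x16a5db2dc)))) (.node (.node (.node (.leaf 0xb5189030) (.leaf 0x8c139036)) (.node (.leaf 0xeafd700a)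 (.leaf 0x1b9d6b09c))) (.node (.node (.leaf 0x25a649046) (.leaf 0x503f69004)) (.node (.leaf 0x21a4500e) (.leaf 0x152e9700e)))))) (.node (.node (.node (.node (.node (.leaf 0x567b7704e) (.leaf 0xc05459036)) (.node (.leaf 0xce39016) (.leaf 0x1989bb114))) (.node (.node (.leaf 0x300c4b0c0) (.leaf 0x58368b1fe)) (.node (.leaf 0x62c0cb184) (.leaf 0x68874b184)))) (.node (.node (.node (.leaf 0x230099030) (.leaf 0xca7521000)) (.node (.leaf 0x3142cb1d6) (.leaf 0x51455014))) (.node (.node (.leaf 0x3f4c9b05a) (.leaf 0x159029026)) (.node (.leaf 0x9e415004) (.leaf 0x7ddb4300e))))) (.node (.node (.node (.node (.leaf 0x56189904e) (.leaf 0x934bb0cc)) (.node (.leaf 0x20b4fb0c6) (.leaf 0x39edb002))) (.node (.node (.leaf 0x3ee39b09c) (.leaf 0x5e29082)) (.node (.leaf 0x879289026) (.leaf 0x2bc2a9046)))) (.node (.node (.node (.leaf 0x51bfb090) (.leaf 0x318dd905c)) (.node (.leaf 0xfe6c9000) (.leaf 0x2af8c900e))) (.node (.node (.leaf 0x17008b056)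 (.leaf 0x273e63000)) (.node (.leaf 0x469a87030) (.leaf 0x355647034))))))) (.node (.node (.node (.node (.node (.node (.leaf 0x2fe2ab0a2) (.leaf 0x78ebe7006)) (.node (.leaf 0x4567024) (.leaf 0x16f95b14e))) (.node (.node (.leaf 0xa903b00a) (.leaf 0x2442ab05a)) (.node (.leaf 0x3545790c6) (.leaf 0x36c6b050)))) (.node (.node (.node (.leaf 0x65d6fb0ea) (.leaf 0x170f39036)) (.node (.leaf 0x9a76eb064) (.leaf 0x24764b08a))) (.node (.node (.leaf 0x2ebe7002) (.leaf 0x41abe500a)) (.node (.leaf 0x119ae700e) (.leaf 0x1e2b7900a))))) (.node (.node (.node (.node (.leaf 0x32c18b056) (.leaf 0x16b3adb00a)) (.node (.leaf 0x9db0eb064) (.leaf 0x750289044))) (.node (.node (.leaf 0x24c143002) (.leaf 0x125ff5b1fe)) (.node (.leaf 0x59c03b0d6) (.leaf 0x129a7a900a)))) (.node (.node (.node (.leaf 0xf61c7010) (.leaf 0x24d263002)) (.node (.leaf 0x2b1d4b144) (.leaf 0x33f0db05c))) (.node (.node (.leaf 0x466bf7000) (.leaf 0xf88fb144)) (.node (.leaf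 0x2d3083004) (.leaf 0x63ceb10c)))))) (.node (.node (.node (.node (.node (.leaf 0x3d957b084) (.leaf 0x699e3b184)) (.node (.leaf 0x6258eb086) (.leaf 0x468db09a))) (.node (.node (.leaf 0x414e65006) (.leaf 0x4117b5006)) (.node (.leaf 0x6dc1905c) (.leaf 0x63391b0fc)))) (.node (.node (.node (.leaf 0x2e6e7002) (.leaf 0x2865b7024)) (.node (.leaf 0x148859026) (.leaf 0xf6e47000))) (.node (.node (.leaf 0x2ef1c9036) (.leaf 0xbb4c9044)) (.node (.leaf 0x9acab0cc) (.leaf 0x9c854b01c))))) (.node (.node (.node (.node (.leaf 0x55ceb090) (.leaf 0x2e55cb05c)) (.node (.leaf 0xe4ad904e) (.leaf 0x496b17034))) (.node (.node (.leaf 0x3ab179010) (.leaf 0x3f93e3004)) (.node (.leaf 0x99078b01c) (.leaf 0xa065ab09a)))) (.node (.node (.node (.leaf 0xf117b00c) (.leaf 0x31c56b10c)) (.node (.leaf 0x32b1ab056) (.leaf 0xa90bb00a))) (.node (.node (.leaf 0x114049046) (.leaf 0x1e1b790c6)) (.node (.leaf 0x227465002) (.leaf 0x22dae502a)))))))) (.node (.node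 (.node (.node (.node (.node (.node (.leaf 0xd9feb114) (.leaf 0x2c9f07026)) (.node (.leaf 0x52c85000) (.leaf 0xb9ae9044))) (.node (.node (.leaf 0x517e2b086) (.leaf 0x2b0ff9026)) (.node (.leaf 0x2a5ba900e) (.leaf 0x5f598500e)))) (.node (.node (.node (.leaf 0x1eea87014) (.leaf 0xa68cb090)) (.node (.leaf 0x92c45010) (.leaf 0x603b905c))) (.node (.node (.leaf 0x27cab3000) (.leaf 0xf9799046)) (.node (.leaf 0x64550901a) (.leaf 0x35ec87014))))) (.node (.node (.node (.node (.leaf 0x1e3789004) (.leaf 0x1d3507024)) (.node (.leaf 0x2df85006) (.leaf 0x2e38eb1d6))) (.node (.node (.leaf 0x8f4919004) (.leaf 0x2f12eb0a2)) (.node (.leaf 0x11b597000) (.leaf 0xace6b00a)))) (.node (.node (.node (.leaf 0x25c319000) (.leaf 0x3dd3fb084)) (.node (.leaf 0x259899010) (.leaf 0x9d1bb0cc))) (.node (.node (.leaf 0x294ee9036) (.leaf 0x29e15006)) (.node (.leaf 0x447319046) (.leaf 0xa3dcb090)))))) (.node (.node (.node (.node (.node (.leaf 0x28a779082)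 (.leaf 0x42cc2b044)) (.node (.leaf 0x45b77020) (.leaf 0x317904e))) (.node (.node (.leaf 0x85c2900e) (.leaf 0x56345014)) (.node (.leaf 0x48085b036) (.leaf 0x6ae0b1d6)))) (.node (.node (.node (.leaf 0xe143704e) (.leaf 0x11f717010)) (.node (.leaf 0x9935bb09a) (.leaf 0xa3eeb00a))) (.node (.node (.leaf 0x49e9b9042) (.leaf 0x40cd77020)) (.node (.leaf 0x1fa65b086) (.leaf 0x2936d900e))))) (.node (.node (.node (.node (.leaf 0xa5cf4905a) (.leaf 0x57ba4900c)) (.node (.leaf 0xc78eb044) (.leaf 0x6fef4b002))) (.node (.node (.leaf 0xfb901a) (.leaf 0x272c6b08a)) (.node (.leaf 0x3900fb062) (.leaf 0x837c4905a)))) (.node (.node (.node (.leaf 0x20b0500a) (.leaf 0x63facb086)) (.node (.leaf 0x59afb090) (.leaf 0x140557026))) (.node (.node (.leaf 0x3b6f97030) (.leaf 0x117f06b09a)) (.node (.leaf 0xf01f700e) (.leaf 0x1ddd29024))))))) (.node (.node (.node (.node (.node (.node (.leaf 0x25f92b00c) (.leaf 0xae89b090)) (.node (.leaf 0x3698b000)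 (.leaf 0x3aa54b09a))) (.node (.node (.leaf 0x716f3b09c) (.leaf 0x6880db062)) (.node (.leaf 0x3aa767020) (.leaf 0x2de193004)))) (.node (.node (.node (.leaf 0x3f9843000) (.leaf 0x852bd7030)) (.node (.leaf 0x88897b042) (.leaf 0x939ab0cc))) (.node (.node (.leaf 0x22ef75006) (.leaf 0x15da1b00c)) (.node (.leaf 0x799dd5010) (.leaf 0xdfedb064))))) (.node (.node (.node (.node (.leaf 0x24fdcb08a) (.leaf 0x1dfad7006)) (.node (.leaf 0x1c3eeb14e) (.leaf 0x4d787b09c))) (.node (.node (.leaf 0x2488e905a) (.leaf 0xc3becb036)) (.node (.leaf 0x2bef7002) (.leaf 0x1fa63b184)))) (.node (.node (.node (.leaf 0xe5c1901a) (.leaf 0x22046500e)) (.node (.leaf 0xc8c7004) (.leaf 0xabd9b090))) (.node (.node (.leaf 0x10339b056) (.leaf 0x204b8b0d6)) (.node (.leaf 0x11be99010) (.leaf 0x8f3ab056)))))) (.node (.node (.node (.node (.node (.leaf 0x3f66b3004) (.leaf 0x253b97000)) (.node (.leaf 0x2dbda3000) (.leaf 0x131f8b044))) (.node (.node (.leaf 0x15e79b144)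 (.leaf 0x22942500a)) (.node (.leaf 0x2c1817020) (.leaf 0x1d19c9082)))) (.node (.node (.node (.leaf 0xd865d9004) (.leaf 0x1ba23b036)) (.node (.leaf 0x1aa3cb064) (.leaf 0x9fc9014))) (.node (.node (.leaf 0x2f996b0a2) (.leaf 0xb2cbd9026)) (.node (.leaf 0x76793b10c) (.leaf 0x121cbb0c0))))) (.node (.node (.node (.node (.leaf 0x3e151b09c) (.leaf 0x26024b1d6)) (.node (.leaf 0x1eb069042) (.leaf 0x283f7002))) (.node (.node (.leaf 0xa11dab000) (.leaf 0x584edb05c)) (.node (.leaf 0x70cea7024) (.leaf 0x843149030)))) (.node (.node (.node (.leaf 0x24392b05a) (.leaf 0x10907b056)) (.node (.leaf 0x14d7c7020) (.leaf 0x8c9cb056))) (.node (.node (.leaf 0x5ddeb090) (.leaf 0x5f7cf7002)) (.node (.leaf 0x24036905a) (.leaf 0x2e8f4b10c))))))))) (.node (.node (.node (.node (.node (.node (.node (.node (.leaf 0x5f882b0a6) (.leaf 0xf6109026)) (.node (.leaf 0x140097000) (.leaf 0xe718901c))) (.node (.node (.leaf 0x9c652b042) (.leaf 0x3b4d9b09a))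 (.node (.leaf 0x53f91b1d6) (.leaf 0x2d569002)))) (.node (.node (.node (.leaf 0x30b94b2dc) (.leaf 0x98015000)) (.node (.leaf 0x370e29024) (.leaf 0x3558fb0fc))) (.node (.node (.leaf 0xa03cb0a6) (.leaf 0x2c15b00a)) (.node (.leaf 0x55715004) (.leaf 0x29d3eb1d6))))) (.node (.node (.node (.node (.leaf 0x220f17002) (.leaf 0x568fb0cc)) (.node (.leaf 0x68959044) (.leaf 0x200c1b024))) (.node (.node (.leaf 0x2bfe8b014) (.leaf 0xae6cb0a6)) (.node (.leaf 0x2af19b05c) (.leaf 0x1fd2e9016)))) (.node (.node (.node (.leaf 0x3626ab044) (.leaf 0x32d6d9036)) (.node (.leaf 0x2d9483000) (.leaf 0x1eeb0b184))) (.node (.node (.leaf 0x24d79002) (.leaf 0xd01f6b0c6)) (.node (.leaf 0xe83a7004) (.leaf 0x3c16b014)))))) (.node (.node (.node (.node (.node (.leaf 0x31bb79044) (.leaf 0x9ac55014)) (.node (.leaf 0xbc61b1d6) (.leaf 0x4fc1eb17a))) (.node (.node (.leaf 0x1dd3d700a) (.leaf 0xd266b044)) (.node (.leaf 0x2f13b0a6) (.leaf 0x50141704e)))) (.node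 (.node (.node (.leaf 0xdf4b194) (.leaf 0x3315b01c)) (.node (.leaf 0x5f155010) (.leaf 0x4b851b036))) (.node (.node (.leaf 0x5227cb09c) (.leaf 0x2cc69002)) (.node (.leaf 0x48ad7030) (.leaf 0x556ba90c6))))) (.node (.node (.node (.node (.leaf 0xc956b114) (.leaf 0x222ef5010)) (.node (.leaf 0x143f17010) (.leaf 0x2dad73004))) (.node (.node (.leaf 0x25479002) (.leaf 0x7a2db3002)) (.node (.leaf 0x65e517034) (.leaf 0x48984b036)))) (.node (.node (.node (.leaf 0x35ff6b194) (.leaf 0x69cb99014)) (.node (.leaf 0x12e1ab0c0) (.leaf 0x223217002))) (.node (.node (.leaf 0x85219036) (.leaf 0x98bbb090)) (.node (.leaf 0xb208905c) (.leaf 0x28a0db086))))))) (.node (.node (.node (.node (.node (.node (.leaf 0x252b57026) (.leaf 0x376cb06a)) (.node (.leaf 0x6863c7014) (.leaf 0xb7dfb10c))) (.node (.node (.leaf 0xb17a905c) (.leaf 0xa669b0a6)) (.node (.leaf 0x397327024) (.leaf 0x16c0db2dc)))) (.node (.node (.node (.leaf 0x814b086) (.leaf 0xc1d059082))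 (.node (.leaf 0x2ab44b1fe) (.leaf 0x6dcdc9030))) (.node (.node (.leaf 0x1d46d904e) (.leaf 0x94331b036)) (.node (.leaf 0x5fbeb0cc) (.leaf 0x1cb8fb14e))))) (.node (.node (.node (.node (.leaf 0x133b062) (.leaf 0x495bdb184)) (.node (.leaf 0xaa3a23002) (.leaf 0x314beb05c))) (.node (.node (.leaf 0x2247c9002) (.leaf 0xc1323900c)) (.node (.leaf 0xe1d99016) (.leaf 0x41b449002)))) (.node (.node (.node (.leaf 0x3fbdeb08a) (.leaf 0x24c1d905a)) (.node (.leaf 0x17123b1d6) (.leaf 0x47bcf9004))) (.node (.node (.leaf 0x140799010) (.leaf 0x516c390c6)) (.node (.leaf 0x68f6b05c) (.leaf 0x4135b050)))))) (.node (.node (.node (.node (.node (.leaf 0x28a38b0fc) (.leaf 0x64b979014)) (.node (.leaf 0x23c2b0a6) (.leaf 0x264059030))) (.node (.node (.leaf 0x2d454b05a) (.leaf 0x3a9ecb050)) (.node (.leaf 0x7dc37905a) (.leaf 0x10909b1fe)))) (.node (.node (.node (.leaf 0x672f9044) (.leaf 0x8becb1fe)) (.node (.leaf 0x2f52ab0a2) (.leaf 0x27795b05a)))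 (.node (.node (.leaf 0x3ccd2b0ea) (.leaf 0x1f3ad7004)) (.node (.leaf 0x2b88eb06a) (.leaf 0x23d9f905c))))) (.node (.node (.node (.node (.leaf 0x6e693b114) (.leaf 0x24d35905a)) (.node (.leaf 0x609ddb00c) (.leaf 0xae69b0cc))) (.node (.node (.leaf 0x1ff5d9014) (.leaf 0x3cd12b086)) (.node (.leaf 0x2c1cb00a) (.leaf 0x7e54b114)))) (.node (.node (.node (.leaf 0x1eac9b062) (.leaf 0x993ab090)) (.node (.leaf 0xeb807042) (.leaf 0x3707c9082))) (.node (.node (.leaf 0x11f659026) (.leaf 0x41c949002)) (.node (.leaf 0x49367000) (.leaf 0x553817034)))))))) (.node (.node (.node (.node (.node (.node (.node (.leaf 0x546067006) (.leaf 0x10f149036)) (.node (.leaf 0x2c133b144) (.leaf 0x53885004))) (.node (.node (.leaf 0x356d0b184) (.leaf 0x2fbd2b0a2)) (.node (.leaf 0xec907024) (.leaf 0x82c9b10c)))) (.node (.node (.node (.leaf 0x4a4e8b2dc) (.leaf 0x21b889024)) (.node (.leaf 0xa83cb0cc) (.leaf 0x9a505000))) (.node (.node (.leaf 0x1e396b194)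 (.leaf 0x413335010)) (.node (.leaf 0xf9b0fc) (.leaf 0xc78669046))))) (.node (.node (.node (.node (.leaf 0x54b699042) (.leaf 0x11ef57026)) (.node (.leaf 0x8af53b086) (.leaf 0x602639046))) (.node (.node (.leaf 0xc3de5b036) (.leaf 0x254167030)) (.node (.leaf 0xeb7e900c) (.leaf 0xf06b184)))) (.node (.node (.node (.leaf 0x22b565000) (.leaf 0x47c967006)) (.node (.leaf 0x565589082) (.leaf 0x1fd26901a))) (.node (.node (.leaf 0x32ca8b1fe) (.leaf 0xeb0a9014)) (.node (.leaf 0x4cfe9000) (.leaf 0x21f0a901c)))))) (.node (.node (.node (.node (.node (.leaf 0x19153b044) (.leaf 0x290209036)) (.node (.leaf 0x1abdab064) (.leaf 0x24e093006))) (.node (.node (.leaf 0x2703b0a6) (.leaf 0x41bc75004)) (.node (.leaf 0x23159905c) (.leaf 0x4f0e6b17a)))) (.node (.node (.node (.leaf 0x58645010) (.leaf 0x21c989042)) (.node (.leaf 0x2d4db00a) (.leaf 0xe1c29024))) (.node (.node (.leaf 0x96d45014) (.leaf 0x24e483006)) (.node (.leaf 0x90e395010) (.leaf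 0x75f73b10c))))) (.node (.node (.node (.node (.leaf 0x30d4cb14e) (.leaf 0x1e46fb0fc)) (.node (.leaf 0x1c826b0c0) (.leaf 0x2a1b1b10c))) (.node (.node (.leaf 0x2706cb05a) (.leaf 0x22a45002)) (.node (.leaf 0x76e489030) (.leaf 0x1cb9fb14e)))) (.node (.node (.node (.leaf 0xa53d4b08a) (.leaf 0x2a14502a)) (.node (.leaf 0x6442b900c) (.leaf 0xf9117020))) (.node (.node (.leaf 0x7d113b05a) (.leaf 0x45b6b002)) (.node (.leaf 0x9debb090) (.leaf 0xa565c3002))))))) (.node (.node (.node (.node (.node (.node (.leaf 0x82034700e) (.leaf 0xc845b064)) (.node (.leaf 0x144549046) (.leaf 0x434b6b064))) (.node (.node (.leaf 0xe97d9b01e) (.leaf 0x155afb000)) (.node (.leaf 0x33eeb09a) (.leaf 0x19fcab064)))) (.node (.node (.node (.leaf 0xb66a9030) (.leaf 0x7ccd7900c)) (.node (.leaf 0xef6d7006) (.leaf 0x5cc80901a))) (.node (.node (.leaf 0x1684db0c0) (.leaf 0x18d21b064)) (.node (.leaf 0x5471f9004) (.leaf 0x79d995000))))) (.node (.node (.node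 (.node (.leaf 0x1e6b6b086) (.leaf 0x6f5afb09a)) (.node (.leaf 0x300d4b0c0) (.leaf 0xf1c07026))) (.node (.node (.leaf 0x2688fb1fe) (.leaf 0xcdd48901a)) (.node (.leaf 0x177b8b1fe) (.leaf 0x229599002)))) (.node (.node (.node (.leaf 0x6d937b05c) (.leaf 0x2756db05a)) (.node (.leaf 0x55bd59004) (.leaf 0x21ad27042))) (.node (.node (.leaf 0x2f646b0a2) (.leaf 0x2d44b00a)) (.node (.leaf 0x5e8c57034) (.leaf 0x110bc7020)))))) (.node (.node (.node (.node (.node (.leaf 0x3ed10b09c) (.leaf 0x1c676b0c0)) (.node (.leaf 0x516529042) (.leaf 0xed4b0ea))) (.node (.node (.leaf 0x62d19030) (.leaf 0x2c13c9000)) (.node (.leaf 0x403467000) (.leaf 0x15ed27026)))) (.node (.node (.node (.leaf 0x4ffceb17a) (.leaf 0x57aeb0cc)) (.node (.leaf 0x11b15f901a) (.leaf 0x1b401b084))) (.node (.node (.leaf 0x27af13000) (.leaf 0x2ef1e9036)) (.node (.leaf 0x18b36b114) (.leaf 0x2bd2b0a6))))) (.node (.node (.node (.node (.leaf 0x8883b1d6) (.leaf 0x8dff8700a))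 (.node (.leaf 0x12c4ab0c0) (.leaf 0x620047014))) (.node (.node (.leaf 0x1af03b044) (.leaf 0xe4a89905c)) (.node (.leaf 0x237cf9030) (.leaf 0x976ab090)))) (.node (.node (.node (.leaf 0x5451f901c) (.leaf 0x4a230b14e)) (.node (.leaf 0x7e5a7b05c) (.leaf 0xd74ee9000))) (.node (.node (.leaf 0x23058b1d6) (.leaf 0x102deb1d6)) (.node (.leaf 0xec1c9082) (.leaf 0x140a2700e))))))))))))

theorem cert11_0 : chunkB 11 cert11 0 = true := by decide +kernel

theorem cert11_1 : chunkB 11 cert11 1 = true := by decide +kernel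

theorem cert11_2 : chunkB 11 cert11 2 = true := by decide +kernel

theorem cert11_3 : chunkB 11 cert11 3 = true := by decide +kernel

theorem cert11_4 : chunkB 11 cert11 4 = true := by decide +kernel

theorem cert11_5 : chunkB 11 cert11 5 = true := by decide +kernel

theorem cert11_6 : chunkB 11 cert11 6 = true := by decide +kernel

theorem cert11_7 : chunkB 11 cert11 7 = true := by decide +kernel

theorem cert11_ok : ∀ k < 2048, itemB 11 cert11 k = true :=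
  of_chunks cert11_0 cert11_1 cert11_2 cert11_3 cert11_4 cert11_5 cert11_6 cert11_7

end Cfsg.Agent.F4Square.Two
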