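import Cfsg.Agent.F4Square.Two.Setup

/-!
Certificates for the coset of the Weyl element number 12.
-/

set_option autoImplicit false
set_option maxRecDepth 100000
set_option maxHeartbeats 0
set_option Elab.async false

namespace Cfsg.Agent.F4Square.Two

/-- The certificates. -/
noncomputable def cert12 : Tree :=
  (.node (.node (.node (.node (.node (.node (.node (.node (.node (.node (.node (.leaf 0xa7f17006) (.leaf 0xb9049014)) (.node (.leaf 0x40f3b05a) (.leaf 0x16ab3b184))) (.node (.node (.leaf 0x285bbb06a) (.leaf 0x2221901a)) (.node (.leaf 0x633759002) (.leaf 0xaffa9014)))) (.node (.node (.node (.leaf 0x4134ab042) (.leaf 0xc4fbb000)) (.node (.leaf 0x4a350b194) (.leaf 0xde697042))) (.node (.node (.leaf 0xac09030) (.leaf 0x541949026)) (.node (.leaf 0x36d5c9000) (.leaf 0x208659082))))) (.node (.node (.node (.node (.leaf 0x1a01b1d6) (.leaf 0x3e0da901a)) (.node (.leaf 0x2c9f6704e) (.leaf 0x4fdc05004))) (.node (.node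 (.leaf 0x634c35010) (.leaf 0x550c4b024)) (.node (.leaf 0x40a329006) (.leaf 0x45fdb08a)))) (.node (.node (.node (.leaf 0x4384bb084) (.leaf 0x1f2dc9006)) (.node (.leaf 0x1e3a39014) (.leaf 0x12fdeb044))) (.node (.node (.leaf 0x585cdb0cc) (.leaf 0x80efb06a)) (.node (.leaf 0x510b9044) (.leaf 0x77c94b042)))))) (.node (.node (.node (.node (.node (.leaf 0x481b4b044) (.leaf 0x8c7fab00a)) (.node (.leaf 0x7f44eb09a) (.leaf 0x310c4b2dc))) (.node (.node (.leaf 0x118f4904e) (.leaf 0x734187010)) (.node (.leaf 0x1a88905c) (.leaf 0x91285b014)))) (.node (.node (.node (.leaf 0x5665ab01c) (.leaf 0x65d97b014)) (.node (.leaf 0x1e1a97024) (.leaf 0x49256905c))) (.node (.node (.leaf 0xed3bb0c6) (.leaf 0x3862f7000)) (.node (.leaf 0x37dc2b0d6) (.leaf 0x1e7dc7006))))) (.node (.node (.node (.node (.leaf 0x241c69042) (.leaf 0x6751b014)) (.node (.leaf 0x220f9700a) (.leaf 0x41bc8b002))) (.node (.node (.leaf 0x3199b1fe) (.leaf 0xae947024)) (.node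 (.leaf 0x3f7f0700a) (.leaf 0x25202b114)))) (.node (.node (.node (.leaf 0x67ed5b10c) (.leaf 0x29bccb0a2)) (.node (.leaf 0x1016b7024) (.leaf 0x23c0fb000))) (.node (.node (.leaf 0xb2f47004) (.leaf 0xef81b024)) (.node (.leaf 0x3d59db1fe) (.leaf 0x905eb09c))))))) (.node (.node (.node (.node (.node (.node (.leaf 0x51049b0d6) (.leaf 0x42c7905a)) (.node (.leaf 0xf627b064) (.leaf 0x36693b00c))) (.node (.node (.leaf 0x7cbcb002) (.leaf 0xb49b904e)) (.node (.leaf 0x3058490c6) (.leaf 0x1bd6905c)))) (.node (.node (.node (.leaf 0x3a2919030) (.leaf 0x45976b062)) (.node (.leaf 0x29279b0a2) (.leaf 0xe7167901c))) (.node (.node (.leaf 0xa81d9016) (.leaf 0x38fe79000)) (.node (.leaf 0x1f9c5900c) (.leaf 0x357dbb0c6))))) (.node (.node (.node (.node (.leaf 0x13fc2b05c) (.leaf 0xd3b59082)) (.node (.leaf 0x41bcb08a) (.leaf 0x7c895905a))) (.node (.node (.leaf 0x4a0b0b0ea) (.leaf 0x13eec19016)) (.node (.leaf 0x20ab97042) (.leaf 0x8cdd7b00a))))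 (.node (.node (.node (.leaf 0x27671700a) (.leaf 0xaedb49042)) (.node (.leaf 0x43d2905a) (.leaf 0xdec367004))) (.node (.node (.leaf 0x26c30b09c) (.leaf 0x2049044)) (.node (.leaf 0x953727006) (.leaf 0xb7bf901a)))))) (.node (.node (.node (.node (.node (.leaf 0x294e9b0a2) (.leaf 0x7226e7020)) (.node (.leaf 0x23c127026) (.leaf 0x14bbd9026))) (.node (.node (.leaf 0xc891b014) (.leaf 0xd8fb9024)) (.node (.leaf 0x6310d7002) (.leaf 0x1594db044)))) (.node (.node (.node (.leaf 0x9e2bb036) (.leaf 0x23989b014)) (.node (.leaf 0x4c3f905a) (.leaf 0x1f9bb10c))) (.node (.node (.leaf 0x59b2b05c) (.leaf 0x289f704e)) (.node (.leaf 0x248007034) (.leaf 0x38c7cb050))))) (.node (.node (.node (.node (.leaf 0x5ae907004) (.leaf 0x3e8197004)) (.node (.leaf 0x213dab1fe) (.leaf 0x48ba905a))) (.node (.node (.leaf 0x1c817b090) (.leaf 0x41c23b050)) (.node (.leaf 0x1fa777014) (.leaf 0x5f72c900a)))) (.node (.node (.node (.leaf 0x17dd2700a) (.leaf 0x2c550904e))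 (.node (.leaf 0x4eeeb05a) (.leaf 0x6cfefb084))) (.node (.node (.leaf 0x1eb61901c) (.leaf 0x1aaa1b062)) (.node (.leaf 0xb2fb05c) (.leaf 0x58200b0cc)))))))) (.node (.node (.node (.node (.node (.node (.node (.leaf 0x4534db194) (.leaf 0x11228901a)) (.node (.leaf 0xc551bb194) (.leaf 0x3c4c0700a))) (.node (.node (.leaf 0x5dbd9030) (.leaf 0xc5bfb06a)) (.node (.leaf 0x2ead904e) (.leaf 0x50d44b10c)))) (.node (.node (.node (.leaf 0x43304b036) (.leaf 0x1300d9044)) (.node (.leaf 0x440b17020) (.leaf 0x3802b1d6))) (.node (.node (.leaf 0x61fcb042) (.leaf 0x5e3bb1fe)) (.node (.leaf 0x40362900a) (.leaf 0x97791b050))))) (.node (.node (.node (.node (.leaf 0x3a273b1fe) (.leaf 0x4cf70b2dc)) (.node (.leaf 0x1c1f45000) (.leaf 0x8febb000))) (.node (.node (.leaf 0xacc47042) (.leaf 0xa1fccb044)) (.node (.leaf 0x760fb050) (.leaf 0xd5797024)))) (.node (.node (.node (.leaf 0xdaf11b0a6) (.leaf 0x2fb069042)) (.node (.leaf 0x460bb05a) (.leaf 0x62dd6b014)))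 (.node (.node (.leaf 0x1e2b97042) (.leaf 0x11fe4700a)) (.node (.leaf 0x28ec7b000) (.leaf 0x5e04c9000)))))) (.node (.node (.node (.node (.node (.leaf 0x675e7026) (.leaf 0xa88cab00a)) (.node (.leaf 0x6a1c9b2dc) (.leaf 0x6dfe6900e))) (.node (.node (.leaf 0x1c6e6b090) (.leaf 0xffdeb044)) (.node (.leaf 0x32a7eb084) (.leaf 0xdf739014)))) (.node (.node (.node (.leaf 0xbafa7024) (.leaf 0x4b05b08a)) (.node (.leaf 0x31f4cb14e) (.leaf 0x7c790300a))) (.node (.node (.leaf 0x9af1b084) (.leaf 0x391c79036)) (.node (.leaf 0x39fcc900e) (.leaf 0x35fe0b0d6))))) (.node (.node (.node (.node (.leaf 0x2ad2190c6) (.leaf 0x9769044)) (.node (.leaf 0x1674db194) (.leaf 0x8c925b090))) (.node (.node (.leaf 0x29cccb0a2) (.leaf 0x1c0585014)) (.node (.leaf 0xd64c7006) (.leaf 0x234c3b06a)))) (.node (.node (.node (.leaf 0x304d4704e) (.leaf 0x10fb19014)) (.node (.leaf 0xc06b1fe) (.leaf 0x1987fb0c0))) (.node (.node (.leaf 0x1f2499042) (.leaf 0x8af72b08a))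 (.node (.leaf 0x1e2d37004) (.leaf 0x743acb194))))))) (.node (.node (.node (.node (.node (.node (.leaf 0x5a7d67024) (.leaf 0x4725e905c)) (.node (.leaf 0x1b2beb184) (.leaf 0x1433a7030))) (.node (.node (.leaf 0x17b98704e) (.leaf 0xaf629024)) (.node (.leaf 0x6fefb06a) (.leaf 0x29979b0a2)))) (.node (.node (.node (.leaf 0x6b215b1fe) (.leaf 0x2f3789004)) (.node (.leaf 0x244f49004) (.leaf 0x951d37042))) (.node (.node (.leaf 0x66564b00c) (.leaf 0xe5d8b0d6)) (.node (.leaf 0x75f0e7024) (.leaf 0x5e7c47000))))) (.node (.node (.node (.node (.leaf 0x7ca94905a) (.leaf 0xc44e7026)) (.node (.leaf 0xdfe89016) (.leaf 0x8771a900e))) (.node (.node (.leaf 0x334c9905c) (.leaf 0x5b819044)) (.node (.leaf 0x44ea3002) (.leaf 0x7e81b000)))) (.node (.node (.node (.leaf 0x1906fb0c0) (.leaf 0x7a724b01c)) (.node (.leaf 0x64f8e704e) (.leaf 0x49353002))) (.node (.node (.leaf 0x5f02c90c6) (.leaf 0x738809010)) (.node (.leaf 0xa0fe900c) (.leaf 0x3f849036))))))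 (.node (.node (.node (.node (.node (.leaf 0xb0b79016) (.leaf 0x4094b08a)) (.node (.leaf 0x4b7e7b024) (.leaf 0x1163a2b184))) (.node (.node (.leaf 0x1e297900c) (.leaf 0x38ba47030)) (.node (.leaf 0xaf909082) (.leaf 0xd8b1901c)))) (.node (.node (.node (.leaf 0x20fdc7006) (.leaf 0x114b369002)) (.node (.leaf 0x4a5abb062) (.leaf 0x15dc5b114))) (.node (.node (.leaf 0x4cc6b05a) (.leaf 0x19869030)) (.node (.leaf 0x1e0659082) (.leaf 0x209a97024))))) (.node (.node (.node (.node (.leaf 0x1a086b086) (.leaf 0x30bcb10c)) (.node (.leaf 0x1060e901a) (.leaf 0x8851b014))) (.node (.node (.leaf 0x247647014) (.leaf 0x1f7a79004)) (.node (.leaf 0x863b0900e) (.leaf 0x25bd700a)))) (.node (.node (.node (.leaf 0xae21e7042) (.leaf 0x9ea4ab0c0)) (.node (.leaf 0x991a6500e) (.leaf 0x72e5f9010))) (.node (.node (.leaf 0x8e86fb00a) (.leaf 0x689069010)) (.node (.leaf 0x5e97c7010) (.leaf 0xcd3cb042))))))))) (.node (.node (.node (.node (.node (.node (.node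 (.node (.leaf 0x7a67b09a) (.leaf 0x10ad9b0ea)) (.node (.leaf 0x5d0905c) (.leaf 0x299c1b0a2))) (.node (.node (.leaf 0x4564300e) (.leaf 0xe863b0c6)) (.node (.leaf 0x81f797006) (.leaf 0x73a8c9026)))) (.node (.node (.node (.leaf 0x2cfc3900c) (.leaf 0x4482300e)) (.node (.leaf 0x16fa37024) (.leaf 0x1188b900c))) (.node (.node (.leaf 0x8e3d700e) (.leaf 0x75758b086)) (.node (.leaf 0x56de2b002) (.leaf 0x12a39bb0cc))))) (.node (.node (.node (.node (.leaf 0x1c2fc5004) (.leaf 0x56afa9000)) (.node (.leaf 0x1846db14e) (.leaf 0x118bf9024))) (.node (.node (.leaf 0x2ea9db09c) (.leaf 0x155a9044)) (.node (.leaf 0x362bb056) (.leaf 0x14fbeb144)))) (.node (.node (.node (.leaf 0x3fe8b7004) (.leaf 0x1fecc90c6)) (.node (.leaf 0x588eab00a) (.leaf 0x25653b064))) (.node (.node (.leaf 0x3a480b1d6) (.leaf 0x1763b9004)) (.node (.leaf 0x6eadb144) (.leaf 0x2b35b9026)))))) (.node (.node (.node (.node (.node (.leaf 0x28699016) (.leaf 0xda321b090))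 (.node (.leaf 0x37092b0d6) (.leaf 0x24befb0fc))) (.node (.node (.leaf 0x118609016) (.leaf 0x3a8df905c)) (.node (.leaf 0xfa16b114) (.leaf 0x2109c905c)))) (.node (.node (.node (.leaf 0x2a507042) (.leaf 0x4cda8b14e)) (.node (.leaf 0x1b3ef904e) (.leaf 0x286c9b144))) (.node (.node (.leaf 0x135379030) (.leaf 0xba7cb086)) (.node (.leaf 0x214bbb10c) (.leaf 0x47e429044))))) (.node (.node (.node (.node (.leaf 0x23a3f9046) (.leaf 0xe911b024)) (.node (.leaf 0x1a56c7034) (.leaf 0x3c69b056))) (.node (.node (.leaf 0x335ed9044) (.leaf 0x24716b194)) (.node (.leaf 0x6035b00c) (.leaf 0x2f6b6b086)))) (.node (.node (.node (.leaf 0x4f9b95000) (.leaf 0xbb27b062)) (.node (.leaf 0x1c1105010) (.leaf 0xcedae9014))) (.node (.node (.leaf 0x4acbe7024) (.leaf 0x2c97f7004)) (.node (.leaf 0x17bb37042) (.leaf 0xcf4b9046))))))) (.node (.node (.node (.node (.node (.node (.leaf 0x641c9901c) (.leaf 0x279b6900c)) (.node (.leaf 0x308537042) (.leaf 0x290a4b0a2)))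 (.node (.node (.leaf 0xaf21700a) (.leaf 0x8760d9036)) (.node (.leaf 0x60276b0fc) (.leaf 0x28f379046)))) (.node (.node (.node (.leaf 0x9be6b09c) (.leaf 0x7d2fcb036)) (.node (.leaf 0x34b7bb036) (.leaf 0x1e420901a))) (.node (.node (.leaf 0x2be60b144) (.leaf 0x11a517042)) (.node (.leaf 0x13c79905c) (.leaf 0x9199b084))))) (.node (.node (.node (.node (.leaf 0x85adb144) (.leaf 0x10d4acb084)) (.node (.leaf 0x1959eb0c0) (.leaf 0x4b177b024))) (.node (.node (.leaf 0x439d905a) (.leaf 0x7c366b05a)) (.node (.leaf 0x28d67004) (.leaf 0x2763a9024)))) (.node (.node (.node (.leaf 0x33e939044) (.leaf 0x69de8b194)) (.node (.leaf 0x2268a7004) (.leaf 0x16d36901a))) (.node (.node (.leaf 0x27a009082) (.leaf 0x2c45c9016)) (.node (.leaf 0x1ab47900a) (.leaf 0x228297006)))))) (.node (.node (.node (.node (.node (.leaf 0x2798901c) (.leaf 0x1a44790c6)) (.node (.leaf 0x38a84b09a) (.leaf 0x1063bb184))) (.node (.node (.leaf 0xb75cb194) (.leaf 0xa031904e))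 (.node (.leaf 0x162c2904e) (.leaf 0x5f2ce7006)))) (.node (.node (.node (.leaf 0x199e7b14e) (.leaf 0x1fedc704e)) (.node (.leaf 0x1a33b05c) (.leaf 0xd8dc700a))) (.node (.node (.leaf 0x3403900e) (.leaf 0x7b04b01c)) (.node (.leaf 0x11a679014) (.leaf 0x1c4f7b0cc))))) (.node (.node (.node (.node (.leaf 0xc4ba4b00a) (.leaf 0x6f8e9026)) (.node (.leaf 0x65b6cb002) (.leaf 0x780107002))) (.node (.node (.leaf 0x100f4b0fc) (.leaf 0x6080fb194)) (.node (.leaf 0x39414b1fe) (.leaf 0x211d69030)))) (.node (.node (.node (.leaf 0x58a07b00a) (.leaf 0x2a8969004)) (.node (.leaf 0x732905c) (.leaf 0x3c96d7042))) (.node (.node (.leaf 0x2c9907006) (.leaf 0x5ea79030)) (.node (.leaf 0x24255b062) (.leaf 0x4425905a)))))))) (.node (.node (.node (.node (.node (.node (.node (.leaf 0x1b42a9082) (.leaf 0x11b3d9082)) (.node (.leaf 0x10419b086) (.leaf 0x275a29014))) (.node (.node (.leaf 0x9403b036) (.leaf 0x7cdfb014)) (.node (.leaf 0x61414b00c) (.leaf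 0x63a9b500a)))) (.node (.node (.node (.leaf 0x395099036) (.leaf 0x14fb97010)) (.node (.leaf 0x35ab0b0d6) (.leaf 0x448e49010))) (.node (.node (.leaf 0x1a9d07014) (.leaf 0x603d4b062)) (.node (.leaf 0x176027006) (.leaf 0x1c446b0cc))))) (.node (.node (.node (.node (.leaf 0x302119024) (.leaf 0x17ceb7014)) (.node (.leaf 0x11aab1fe) (.leaf 0x143917000))) (.node (.node (.leaf 0xc49e9026) (.leaf 0x30e5b7014)) (.node (.leaf 0x3e747b184) (.leaf 0x33163b1fe)))) (.node (.node (.node (.leaf 0x381c7b01c) (.leaf 0x10286b062)) (.node (.leaf 0x8ac84b05a) (.leaf 0xc3bd700e))) (.node (.node (.leaf 0x4ccb3006) (.leaf 0x13067905c)) (.node (.leaf 0x163a57004) (.leaf 0x2bc969046)))))) (.node (.node (.node (.node (.node (.leaf 0x8080a7034) (.leaf 0x5aad905c)) (.node (.leaf 0x638db5006) (.leaf 0x2b3c9082))) (.node (.node (.leaf 0x1319feb1fe) (.leaf 0x14d89030)) (.node (.leaf 0x75998b0ea) (.leaf 0x835b9046)))) (.node (.node (.node (.leaf 0x56ecb1d6)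 (.leaf 0x292c1b0a2)) (.node (.leaf 0x29751b0a2) (.leaf 0x5423d9046))) (.node (.node (.leaf 0x271a17006) (.leaf 0x40ca9b184)) (.node (.leaf 0x8bfb17010) (.leaf 0x3408eb09c))))) (.node (.node (.node (.node (.leaf 0x39b71b10c) (.leaf 0x2cd4f9014)) (.node (.leaf 0x229e29024) (.leaf 0x1b92b9016))) (.node (.node (.leaf 0x25a8ab044) (.leaf 0x4241300a)) (.node (.leaf 0x78b959002) (.leaf 0xd39b1d6)))) (.node (.node (.node (.leaf 0x4046300a) (.leaf 0x22d959016)) (.node (.leaf 0x4f4a45014) (.leaf 0x11799901c))) (.node (.node (.leaf 0x226d7006) (.leaf 0x3c9d79024)) (.node (.leaf 0x2af719006) (.leaf 0x27cc47024))))))) (.node (.node (.node (.node (.node (.node (.leaf 0xb581b0fc) (.leaf 0x4377eb084)) (.node (.leaf 0x14d499000) (.leaf 0x3c2dc9016))) (.node (.node (.leaf 0x189b5b2dc) (.leaf 0x308d49006)) (.node (.leaf 0x80a277006) (.leaf 0xc02db144)))) (.node (.node (.node (.leaf 0x14d9c9046) (.leaf 0x28559700e)) (.node (.leaf 0x1b6c9044)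 (.leaf 0x22f0c7042))) (.node (.node (.leaf 0x2c9ad7042) (.leaf 0x3746db0c6)) (.node (.leaf 0x3df07b056) (.leaf 0xae55901a))))) (.node (.node (.node (.node (.leaf 0x1a0579006) (.leaf 0x2758d9016)) (.node (.leaf 0x288a900c) (.leaf 0xd6b0901a))) (.node (.node (.leaf 0x18ef5b0c0) (.leaf 0xdcba704e)) (.node (.leaf 0x657b10c) (.leaf 0x117347006)))) (.node (.node (.node (.leaf 0x2761c901c) (.leaf 0x214d5b1d6)) (.node (.leaf 0x4934905a) (.leaf 0x810a2900c))) (.node (.node (.leaf 0x5fc3c9006) (.leaf 0xa433704e)) (.node (.leaf 0xc229030) (.leaf 0x56885b050)))))) (.node (.node (.node (.node (.node (.leaf 0xaac46b0a2) (.leaf 0x60535b184)) (.node (.leaf 0xcdb5b00c) (.leaf 0x3175cb14e))) (.node (.node (.leaf 0x6477f9024) (.leaf 0x2265c7024)) (.node (.leaf 0x6ce42b084) (.leaf 0x14f219010)))) (.node (.node (.node (.leaf 0x29fa4b0a2) (.leaf 0x2b007024)) (.node (.leaf 0xe888b0d6) (.leaf 0x16f4f9082))) (.node (.node (.leaf 0x28be9024)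 (.leaf 0xb52c5b0ea)) (.node (.leaf 0x49d509030) (.leaf 0x568ab10c))))) (.node (.node (.node (.node (.leaf 0x44e3c7010) (.leaf 0x645b9046)) (.node (.leaf 0x59b7905c) (.leaf 0x17a459042))) (.node (.node (.leaf 0x23295b144) (.leaf 0x17be1900c)) (.node (.leaf 0x4ad7a9082) (.leaf 0x3a41900e)))) (.node (.node (.node (.leaf 0x28c3a9026) (.leaf 0x3ed29036)) (.node (.leaf 0x2cfc99082) (.leaf 0x102f9b194))) (.node (.node (.leaf 0x1f3fe700a) (.leaf 0x455c905a)) (.node (.leaf 0x2a669014) (.leaf 0x584a0b090)))))))))) (.node (.node (.node (.node (.node (.node (.node (.node (.node (.leaf 0x582de5010) (.leaf 0x1562900e)) (.node (.leaf 0x4fc15500a) (.leaf 0x1c27b9002))) (.node (.node (.leaf 0x407e97042) (.leaf 0x3c5f690c6)) (.node (.leaf 0xcc8a9000) (.leaf 0x1ccf7b0a6)))) (.node (.node (.node (.leaf 0xdfdbb086) (.leaf 0x288869000)) (.node (.leaf 0x21989004) (.leaf 0x1b42f7006))) (.node (.node (.leaf 0xa4bbb0fc) (.leaf 0x2d6ccb036))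 (.node (.leaf 0x2b9779000) (.leaf 0xc0b639082))))) (.node (.node (.node (.node (.leaf 0x168509006) (.leaf 0x401d3000)) (.node (.leaf 0x7a1afb144) (.leaf 0x23487014))) (.node (.node (.leaf 0x50b1b1fe) (.leaf 0xbb59900a)) (.node (.leaf 0x66597030) (.leaf 0x3561cb024)))) (.node (.node (.node (.leaf 0xa1a2b194) (.leaf 0x1ce1a9002)) (.node (.leaf 0x295f0b0a2) (.leaf 0x4120b05a))) (.node (.node (.leaf 0xfbfb1d6) (.leaf 0xc1d46704e)) (.node (.leaf 0xd51bb0ea) (.leaf 0x2f178901c)))))) (.node (.node (.node (.node (.node (.leaf 0x1cfe5b00a) (.leaf 0x774317030)) (.node (.leaf 0x47ec2b056) (.leaf 0x22a147014))) (.node (.node (.leaf 0x989ad900e) (.leaf 0x1c2ab9002)) (.node (.leaf 0x499dab056) (.leaf 0x506a79030)))) (.node (.node (.node (.leaf 0xc801b050) (.leaf 0x26390b036)) (.node (.leaf 0x1ac25904e) (.leaf 0x77b87026))) (.node (.node (.leaf 0x749fa7034) (.leaf 0x205ebb194)) (.node (.leaf 0x2d2efb084) (.leaf 0x8a537905a)))))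 (.node (.node (.node (.node (.leaf 0x2c6817034) (.leaf 0x1f07f7024)) (.node (.leaf 0x16e69900c) (.leaf 0x10bda700a))) (.node (.node (.leaf 0x3654b1d6) (.leaf 0x24592900c)) (.node (.leaf 0x4ac26901c) (.leaf 0x8d597030)))) (.node (.node (.node (.leaf 0xdf2c79024) (.leaf 0x20eb2b0fc)) (.node (.leaf 0x42123004) (.leaf 0x958b2904e))) (.node (.node (.leaf 0x6f5b87020) (.leaf 0x11b257034)) (.node (.leaf 0x3f3f2900a) (.leaf 0x179d5b194))))))) (.node (.node (.node (.node (.node (.node (.leaf 0x13f789036) (.leaf 0x17010c900a)) (.node (.leaf 0x1ce16b0a6) (.leaf 0xd74ffb042))) (.node (.node (.leaf 0x4ae269004) (.leaf 0x597cb05c)) (.node (.leaf 0x37579030) (.leaf 0x60bad901c)))) (.node (.node (.node (.leaf 0x13212b1d6) (.leaf 0x17235b0ea)) (.node (.leaf 0x2c4a690c6) (.leaf 0x3fb517034))) (.node (.node (.leaf 0x1edb2b0fc) (.leaf 0x23fce9000)) (.node (.leaf 0xd229b184) (.leaf 0x22be3900a))))) (.node (.node (.node (.node (.leaf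 0x4e99036) (.leaf 0xa88db062)) (.node (.leaf 0x1b9409042) (.leaf 0x28a4db050))) (.node (.node (.leaf 0x1047c900a) (.leaf 0x191b10c)) (.node (.leaf 0x1cb8cb00a) (.leaf 0x58d019002)))) (.node (.node (.node (.leaf 0x1bf9c900c) (.leaf 0x207a8b062)) (.node (.leaf 0x33c95900e) (.leaf 0x224e390c6))) (.node (.node (.leaf 0x1cecb056) (.leaf 0x129dcb114)) (.node (.leaf 0x70acf90c6) (.leaf 0x327f0b09c)))))) (.node (.node (.node (.node (.node (.leaf 0x8a966b05a) (.leaf 0x548c0b01c)) (.node (.leaf 0x16a027006) (.leaf 0x4f9a27002))) (.node (.node (.leaf 0x4703a900e) (.leaf 0x70877030)) (.node (.leaf 0x9a4bb9046) (.leaf 0x2f9f07042)))) (.node (.node (.node (.leaf 0x26ee9042) (.leaf 0x608377004)) (.node (.leaf 0x4a2ee7042) (.leaf 0x400239024))) (.node (.node (.leaf 0x116ef9042) (.leaf 0x4e79b05a)) (.node (.leaf 0x4dbab9082) (.leaf 0x2425e9014))))) (.node (.node (.node (.node (.leaf 0xa33397026) (.leaf 0x1ac57704e)) (.node (.leaf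 0x362bfb050) (.leaf 0x6278ab00c))) (.node (.node (.leaf 0x5e0d3b050) (.leaf 0x1134e9006)) (.node (.leaf 0x4af227034) (.leaf 0x2e4afb084)))) (.node (.node (.node (.leaf 0x15dab056) (.leaf 0x2cba6900a)) (.node (.leaf 0xc1c2b002) (.leaf 0xf554b044))) (.node (.node (.leaf 0x1613b9004) (.leaf 0x656e3b144)) (.node (.leaf 0xc5427000) (.leaf 0x533c9036)))))))) (.node (.node (.node (.node (.node (.node (.node (.leaf 0x6f41a7030) (.leaf 0x17cf3b184)) (.node (.leaf 0x9eb0b084) (.leaf 0x4f08b05a))) (.node (.node (.leaf 0x2b247034) (.leaf 0x2ba24b050)) (.node (.leaf 0xe1b87b1fe) (.leaf 0xd34b1fe)))) (.node (.node (.node (.leaf 0x1cda7b0a6) (.leaf 0x8a9713002)) (.node (.leaf 0x42b43000) (.leaf 0xce997030))) (.node (.node (.leaf 0x1a139901a) (.leaf 0x2e287b084)) (.node (.leaf 0x3d05905c) (.leaf 0xaf84b184))))) (.node (.node (.node (.node (.leaf 0x66de8b09a) (.leaf 0x282957030)) (.node (.leaf 0x7e2dfb064) (.leaf 0xda5459002))) (.node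 (.node (.leaf 0x1854900e) (.leaf 0x45a8d9024)) (.node (.leaf 0x8bc1b050) (.leaf 0x15e88b064)))) (.node (.node (.node (.leaf 0x1164d37006) (.leaf 0x111999004)) (.node (.leaf 0x3d3b6b10c) (.leaf 0x2c0359004))) (.node (.node (.leaf 0x34f40b084) (.leaf 0x6cc1b050)) (.node (.leaf 0xb62197034) (.leaf 0x209f9b184)))))) (.node (.node (.node (.node (.node (.leaf 0x586e97002) (.leaf 0x26953b084)) (.node (.leaf 0x29c4db0a2) (.leaf 0x40073004))) (.node (.node (.leaf 0x8d66a900c) (.leaf 0x5922b1d6)) (.node (.leaf 0x4a0c09042) (.leaf 0x18c70b14e)))) (.node (.node (.node (.leaf 0x1673b901c) (.leaf 0x10d2c704e)) (.node (.leaf 0x4f390500e) (.leaf 0x660f37010))) (.node (.node (.leaf 0x8924e900a) (.leaf 0x440bfb014)) (.node (.leaf 0x3c2c79042) (.leaf 0x1e70bb086))))) (.node (.node (.node (.node (.leaf 0x416349026) (.leaf 0x53949b044)) (.node (.leaf 0x18739036) (.leaf 0x1f2c19014))) (.node (.node (.leaf 0x55598b0d6) (.leaf 0x16cdd9042))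 (.node (.leaf 0x1e5cbb0ea) (.leaf 0x860bab1fe)))) (.node (.node (.node (.leaf 0x36944b002) (.leaf 0x40a8c7006)) (.node (.leaf 0x2af7bb062) (.leaf 0x8dda9000))) (.node (.node (.leaf 0x2701c9004) (.leaf 0x23cd6b002)) (.node (.leaf 0x2808eb002) (.leaf 0x16e8d9024))))))) (.node (.node (.node (.node (.node (.node (.leaf 0x1cc46b0a6) (.leaf 0x8b127000)) (.node (.leaf 0x239d17030) (.leaf 0x6d7a89044))) (.node (.node (.leaf 0x627997010) (.leaf 0x27a6b90c6)) (.node (.leaf 0xab02b0ea) (.leaf 0x79289026)))) (.node (.node (.node (.leaf 0x93b28b09c) (.leaf 0x5e44b10c)) (.node (.leaf 0x8892b002) (.leaf 0x3447905c))) (.node (.node (.leaf 0x7d497020) (.leaf 0x5eefab042)) (.node (.leaf 0x1bf36901c) (.leaf 0x1a335700a))))) (.node (.node (.node (.node (.leaf 0x2796b900a) (.leaf 0x14ba9b01c)) (.node (.leaf 0xaec2b086) (.leaf 0x62d217000))) (.node (.node (.leaf 0x373a4b0c6) (.leaf 0x6792b002)) (.node (.leaf 0x1b4109024) (.leaf 0xb38b700a))))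 (.node (.node (.node (.leaf 0x2f8f900a) (.leaf 0x3e73490c6)) (.node (.leaf 0x220f39006) (.leaf 0x602657024))) (.node (.node (.leaf 0x6c127000) (.leaf 0x39d3eb1fe)) (.node (.leaf 0x165f37042) (.leaf 0x2f1cc9082)))))) (.node (.node (.node (.node (.node (.leaf 0x49acc900e) (.leaf 0xf9dcb114)) (.node (.leaf 0x66d3b9010) (.leaf 0x82b5eb14e))) (.node (.node (.leaf 0x2830e7000) (.leaf 0x288f90c6)) (.node (.leaf 0x505ecb1d6) (.leaf 0x1e1f9b184)))) (.node (.node (.node (.leaf 0xe92eb0c6) (.leaf 0x964bb09c)) (.node (.leaf 0x206cbb0ea) (.leaf 0xa09fe9004))) (.node (.node (.leaf 0x1185e900a) (.leaf 0xfa0387034)) (.node (.leaf 0x706df9006) (.leaf 0x19c3fb2dc))))) (.node (.node (.node (.node (.leaf 0x5a9b05c) (.leaf 0x583e49002)) (.node (.leaf 0x180e8b2dc) (.leaf 0x10b7c90c6))) (.node (.node (.leaf 0x9f46b036) (.leaf 0x11f5e90c6)) (.node (.leaf 0x1b9dd9006) (.leaf 0x4e74db09c)))) (.node (.node (.node (.leaf 0x1726eb062) (.leaf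 0x112d16901a)) (.node (.leaf 0x4562b7042) (.leaf 0x45c1b05a))) (.node (.node (.leaf 0x5c854b0d6) (.leaf 0x2000bb086)) (.node (.leaf 0xd63bb194) (.leaf 0xa7264b044))))))))) (.node (.node (.node (.node (.node (.node (.node (.node (.leaf 0xdab19004) (.leaf 0x3c8b7b086)) (.node (.leaf 0x2e4d5b036) (.leaf 0xb357cb05c))) (.node (.node (.leaf 0x3ea1f7014) (.leaf 0xbf5b7006)) (.node (.leaf 0xa42390c6) (.leaf 0x179e37024)))) (.node (.node (.node (.leaf 0x1fa39b0ea) (.leaf 0xbf360b114)) (.node (.leaf 0x5701b056) (.leaf 0x345d6b036))) (.node (.node (.leaf 0x9f6b056) (.leaf 0x74bbb144)) (.node (.leaf 0x756b4900c) (.leaf 0x308e97004))))) (.node (.node (.node (.node (.leaf 0xb521f9004) (.leaf 0x118f0b062)) (.node (.leaf 0x4ee9cb09c) (.leaf 0xab23900a))) (.node (.node (.leaf 0x104a3901c) (.leaf 0x2083b9042)) (.node (.leaf 0x4130d9046) (.leaf 0x2257b0fc)))) (.node (.node (.node (.leaf 0x5f78b9082) (.leaf 0x3adcd900e)) (.node (.leaf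 0x8239b09a) (.leaf 0x46eebb000))) (.node (.node (.leaf 0x259f8b044) (.leaf 0x28e1f7020)) (.node (.leaf 0x16c4090c6) (.leaf 0x3f443b086)))))) (.node (.node (.node (.node (.node (.leaf 0x2b4dcb09a) (.leaf 0x4dbbdb194)) (.node (.leaf 0x49f44b1fe) (.leaf 0x518bb056))) (.node (.node (.leaf 0x10c399024) (.leaf 0x284b056)) (.node (.leaf 0x227eb194) (.leaf 0x22c42b086)))) (.node (.node (.node (.leaf 0x4f0885002) (.leaf 0x1ed2d7034)) (.node (.leaf 0x1a1319016) (.leaf 0x2a61e7024))) (.node (.node (.leaf 0x6c9e0b09c) (.leaf 0x2711db062)) (.node (.leaf 0x3fe83b0ea) (.leaf 0x4b1fdb0c6))))) (.node (.node (.node (.node (.leaf 0x28be6b01c) (.leaf 0xb0499006)) (.node (.leaf 0x303d99014) (.leaf 0xd6217014))) (.node (.node (.leaf 0xc9329010) (.leaf 0x64306b0fc)) (.node (.leaf 0x1739b10c) (.leaf 0x1a3e57006)))) (.node (.node (.node (.leaf 0x90d9a500a) (.leaf 0x2caedb184)) (.node (.leaf 0x5d136b064) (.leaf 0x9a23b09c))) (.node (.node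 (.leaf 0x4332b08a) (.leaf 0x2b7cf9010)) (.node (.leaf 0x5ef2cb01c) (.leaf 0x5b7b6b024))))))) (.node (.node (.node (.node (.node (.node (.leaf 0x17ec2904e) (.leaf 0x1ce3b1d6)) (.node (.leaf 0x271f3b0fc) (.leaf 0x53a3900e))) (.node (.node (.leaf 0x84945b2dc) (.leaf 0xa9e900e)) (.node (.leaf 0x3e4967006) (.leaf 0x3385db1fe)))) (.node (.node (.node (.leaf 0x52b5bb064) (.leaf 0xd2ea900a)) (.node (.leaf 0x29408b0a2) (.leaf 0x28deb0ea))) (.node (.node (.leaf 0x362d7b09a) (.leaf 0xec76b0c6)) (.node (.leaf 0x4fbd7b0a6) (.leaf 0xaf0c9004))))) (.node (.node (.node (.node (.leaf 0x7cb673004) (.leaf 0x1094a7006)) (.node (.leaf 0x2274cb184) (.leaf 0x3c017b194))) (.node (.node (.leaf 0x47b099036) (.leaf 0x4e5d3004)) (.node (.leaf 0xb162901c) (.leaf 0x13043900e)))) (.node (.node (.node (.leaf 0x29ff5b0a2) (.leaf 0xe45709000)) (.node (.leaf 0x3e3249006) (.leaf 0x4db9db0ea))) (.node (.node (.leaf 0x4064c904e) (.leaf 0x61a5e7020))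 (.node (.leaf 0xd1ea90c6) (.leaf 0x2602eb084)))))) (.node (.node (.node (.node (.node (.leaf 0x1ef3b9042) (.leaf 0x2d972b084)) (.node (.leaf 0x30e99044) (.leaf 0xc0eab01c))) (.node (.node (.leaf 0x2c58cb062) (.leaf 0x8847f7034)) (.node (.leaf 0x346b8b084) (.leaf 0x232877020)))) (.node (.node (.node (.leaf 0x65bab01c) (.leaf 0x3792b05c)) (.node (.leaf 0xbe9c9024) (.leaf 0x19edeb2dc))) (.node (.node (.leaf 0x2a3ba9082) (.leaf 0x21542900e)) (.node (.leaf 0xbeb27014) (.leaf 0x18e20b14e))))) (.node (.node (.node (.node (.leaf 0x40523000) (.leaf 0x79b097006)) (.node (.leaf 0xfb87ab084) (.leaf 0x6c0c8b09c))) (.node (.node (.leaf 0x63121b0a6) (.leaf 0x291eb086)) (.node (.leaf 0x29cd8b0a2) (.leaf 0x14b11b002)))) (.node (.node (.node (.leaf 0x48a7b08a) (.leaf 0x57749b044)) (.node (.leaf 0x1c9227002) (.leaf 0x3a735b056))) (.node (.node (.leaf 0x1a2269024) (.leaf 0xaedc7014)) (.node (.leaf 0x103299042) (.leaf 0x87ea7010))))))))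 (.node (.node (.node (.node (.node (.node (.node (.leaf 0xcc5bf900e) (.leaf 0x655cf7030)) (.node (.leaf 0x421ab08a) (.leaf 0x1c500500a))) (.node (.node (.leaf 0x2cc07b194) (.leaf 0x413607010)) (.node (.leaf 0x5a2e89042) (.leaf 0x1aa887042)))) (.node (.node (.node (.leaf 0x7f3c7000) (.leaf 0x14ecbb042)) (.node (.leaf 0xc9637020) (.leaf 0x118dfb0ea))) (.node (.node (.leaf 0x18fb8b0c0) (.leaf 0xd6fd7034)) (.node (.leaf 0x47754b1fe) (.leaf 0x31d41b2dc))))) (.node (.node (.node (.node (.leaf 0x17d1b05c) (.leaf 0x467ae7026)) (.node (.leaf 0x6f8f6b00c) (.leaf 0x13f8db056))) (.node (.node (.leaf 0x12919036) (.leaf 0x2a49c7004)) (.node (.leaf 0x66a4b7000) (.leaf 0x35c8cb024)))) (.node (.node (.node (.leaf 0x21a2ab056) (.leaf 0x5475bb050)) (.node (.leaf 0x1e6f17014) (.leaf 0x36e4db06a))) (.node (.node (.leaf 0x37613b0d6) (.leaf 0x7f147010)) (.node (.leaf 0x6939b09a) (.leaf 0x1713d7004)))))) (.node (.node (.node (.node (.node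 (.leaf 0xb4430b05c) (.leaf 0x930d1b09c)) (.node (.leaf 0x4d1a8b0fc) (.leaf 0xa8339006))) (.node (.node (.leaf 0x1c4405006) (.leaf 0xc5f9b09a)) (.node (.leaf 0x1e5619004) (.leaf 0x24b9d901a)))) (.node (.node (.node (.leaf 0x1cdb15006) (.leaf 0x5a10e901c)) (.node (.leaf 0x2bdbe7020) (.leaf 0x103c5900c))) (.node (.node (.leaf 0x24cc9700a) (.leaf 0x90726502a)) (.node (.leaf 0x6e311b036) (.leaf 0x96d6e9024))))) (.node (.node (.node (.node (.leaf 0x2e10b184) (.leaf 0x6d737020)) (.node (.leaf 0xbccc9042) (.leaf 0x96beb036))) (.node (.node (.leaf 0x6bf039044) (.leaf 0xb4aa7042)) (.node (.leaf 0x38dbb1fe) (.leaf 0x4a85d704e)))) (.node (.node (.node (.leaf 0xaa329042) (.leaf 0x16340900a)) (.node (.leaf 0x2c16eb0fc) (.leaf 0x7691bb084))) (.node (.node (.leaf 0xe80349082) (.leaf 0x14db2b050)) (.node (.leaf 0x990e0b090) (.leaf 0x8744e905c))))))) (.node (.node (.node (.node (.node (.node (.leaf 0xcdba7010) (.leaf 0x31501b0c0))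 (.node (.leaf 0x2d695b036) (.leaf 0x15f260300e))) (.node (.node (.leaf 0x9748b084) (.leaf 0x22022b194)) (.node (.leaf 0xb3629004) (.leaf 0x74b19046)))) (.node (.node (.node (.leaf 0x431fb08a) (.leaf 0x89245b184)) (.node (.leaf 0x1027b7042) (.leaf 0x1c4037002))) (.node (.node (.leaf 0xbeb8900c) (.leaf 0x72cc9010)) (.node (.leaf 0x479c3004) (.leaf 0x58203500a))))) (.node (.node (.node (.node (.leaf 0x28f9b062) (.leaf 0x1a0d87024)) (.node (.leaf 0x559f1b024) (.leaf 0xba1e7034))) (.node (.node (.leaf 0x7bf0bb064) (.leaf 0x1524fb044)) (.node (.leaf 0x12dcb1fe) (.leaf 0x2c567b0ea)))) (.node (.node (.node (.leaf 0x58f29036) (.leaf 0x1a200901c)) (.node (.leaf 0x176fe9016) (.leaf 0x1012c9006))) (.node (.node (.leaf 0xa8e007002) (.leaf 0x46fb5b014)) (.node (.leaf 0x218c8900e) (.leaf 0x8ebab01c)))))) (.node (.node (.node (.node (.node (.leaf 0x1e07a900a) (.leaf 0xbe1d6b064)) (.node (.leaf 0x68ea7010) (.leaf 0x1c2937002))) (.node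 (.node (.leaf 0x290f5b0a2) (.leaf 0x2e38ab084)) (.node (.leaf 0x5808e5006) (.leaf 0x141ecb000)))) (.node (.node (.node (.leaf 0xa5c87034) (.leaf 0x4e0b4b09c)) (.node (.leaf 0x77a49000) (.leaf 0x4cbf3000))) (.node (.node (.leaf 0x219c39036) (.leaf 0x3d8b7b1fe)) (.node (.leaf 0x5615e9026) (.leaf 0x2b2077010))))) (.node (.node (.node (.node (.leaf 0x1f1d9b194) (.leaf 0x39ce0905c)) (.node (.leaf 0x77fce7010) (.leaf 0x5069900e))) (.node (.node (.leaf 0xcac900e) (.leaf 0xacec1700a)) (.node (.leaf 0x306ae9016) (.leaf 0x91aca9010)))) (.node (.node (.node (.leaf 0x7a6b700e) (.leaf 0x4bff6b024)) (.node (.leaf 0x16f9036) (.leaf 0x23731b09a))) (.node (.node (.leaf 0x58282500e) (.leaf 0x58b67500e)) (.node (.leaf 0x6b8a59044) (.leaf 0xf632eb2dc))))))))))) (.node (.node (.node (.node (.node (.node (.node (.node (.node (.node (.leaf 0x1fc287010) (.leaf 0xe670b090)) (.node (.leaf 0x7287d901a) (.leaf 0x2803bb194))) (.node (.node (.leaf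 0xcbaf9042) (.leaf 0x1f633700e)) (.node (.leaf 0xffefb056) (.leaf 0x36aab044)))) (.node (.node (.node (.leaf 0x4f44fb0d6) (.leaf 0x147769082)) (.node (.leaf 0x7016904e) (.leaf 0x3c597b06a))) (.node (.node (.leaf 0x7c5f73004) (.leaf 0x35d15b090)) (.node (.leaf 0x215b2b064) (.leaf 0x30951b06a))))) (.node (.node (.node (.node (.leaf 0x2be75b062) (.leaf 0x1bedd7026)) (.node (.leaf 0x48c1cb1d6) (.leaf 0x5f2cbb00c))) (.node (.node (.leaf 0xbc7d7000) (.leaf 0x4d10eb042)) (.node (.leaf 0xb8857010) (.leaf 0x1ab90b014)))) (.node (.node (.node (.leaf 0x42b839030) (.leaf 0x9fea2905c)) (.node (.leaf 0x25157905c) (.leaf 0x22bf37026))) (.node (.node (.leaf 0x403ed700e) (.leaf 0x22754b014)) (.node (.leaf 0xc74e9006) (.leaf 0x1fdc59046)))))) (.node (.node (.node (.node (.node (.leaf 0x25ec0b1d6) (.leaf 0x8eff9042)) (.node (.leaf 0xa4209b01e) (.leaf 0xac22b06a))) (.node (.node (.leaf 0x7cfec3000) (.leaf 0x5b3b1500e)) (.node (.leaf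 0x4c44b08a) (.leaf 0x36526904e)))) (.node (.node (.node (.leaf 0x4c16b05a) (.leaf 0x1f0d07000)) (.node (.leaf 0x3730f9002) (.leaf 0x23559901c))) (.node (.node (.leaf 0x5a13b064) (.leaf 0xf601b056)) (.node (.leaf 0x34bfab084) (.leaf 0x3f891b144))))) (.node (.node (.node (.node (.leaf 0x208b69000) (.leaf 0x1143bb000)) (.node (.leaf 0x170c3b09a) (.leaf 0xe660b090))) (.node (.node (.leaf 0x783a901a) (.leaf 0x401d3002)) (.node (.leaf 0x8b5e9006) (.leaf 0x72509700a)))) (.node (.node (.node (.leaf 0x4cbf3002) (.leaf 0x106cab042)) (.node (.leaf 0x20e61b050) (.leaf 0x147579016))) (.node (.node (.leaf 0x24d6b9010) (.leaf 0x83e61b0a2)) (.node (.leaf 0xa7a2bb056) (.leaf 0x5e24db0ea))))))) (.node (.node (.node (.node (.node (.node (.leaf 0x3731ab0a6) (.leaf 0x816d7034)) (.node (.leaf 0x15c35b1d6) (.leaf 0x61ac700a))) (.node (.node (.leaf 0x38f3b064) (.leaf 0xd90e9010)) (.node (.leaf 0x43c97b09c) (.leaf 0x4695b08a)))) (.node (.node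 (.node (.leaf 0x20e6e7000) (.leaf 0x52e7f9030)) (.node (.leaf 0x926cb09c) (.leaf 0x2474700e))) (.node (.node (.leaf 0x2367b7004) (.leaf 0x2dcd9b084)) (.node (.leaf 0x16fa37030) (.leaf 0x1ab577026))))) (.node (.node (.node (.node (.leaf 0x113cd3b2dc) (.leaf 0x13690b044)) (.node (.leaf 0x18138b0c0) (.leaf 0x42e71905c))) (.node (.node (.leaf 0x37f1cb00a) (.leaf 0x39916b064)) (.node (.leaf 0x1cd8eb0d6) (.leaf 0x4b4a15010)))) (.node (.node (.node (.leaf 0x9ff61b1d6) (.leaf 0x12ab9900e)) (.node (.leaf 0x1104e7026) (.leaf 0x70493b002))) (.node (.node (.leaf 0x1b7ae7030) (.leaf 0xa3337026)) (.node (.leaf 0x2869bb0ea) (.leaf 0x4b652b0cc)))))) (.node (.node (.node (.node (.node (.leaf 0x5efedb194) (.leaf 0x1d00fb01e)) (.node (.leaf 0x3d638b114) (.leaf 0x442b77042))) (.node (.node (.leaf 0x83b14b0a2) (.leaf 0x5780cb056)) (.node (.leaf 0xcfed7034) (.leaf 0xa871b042)))) (.node (.node (.node (.leaf 0x2f2a29046) (.leaf 0x40bb5b00c))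 (.node (.leaf 0x148b89014) (.leaf 0xf7f517034))) (.node (.node (.leaf 0x11609b014) (.leaf 0x1a966b06a)) (.node (.leaf 0x26be2b09c) (.leaf 0x2e8abb09c))))) (.node (.node (.node (.node (.leaf 0xf617900e) (.leaf 0x1db7ab01e)) (.node (.leaf 0x524d2b10c) (.leaf 0x2be43b0fc))) (.node (.node (.leaf 0x62f967014) (.leaf 0x1d417b01e)) (.node (.leaf 0x2f4f9026) (.leaf 0x489bb05a)))) (.node (.node (.node (.leaf 0x62bc904e) (.leaf 0x1e1a97030)) (.node (.leaf 0x519ad7002) (.leaf 0x53f03b05c))) (.node (.node (.leaf 0x70877024) (.leaf 0x14ec87004)) (.node (.leaf 0x26d8fb036) (.leaf 0x55440b0a6)))))))) (.node (.node (.node (.node (.node (.node (.node (.leaf 0x24f6a7020) (.leaf 0x8d75bb01c)) (.node (.leaf 0x518b89002) (.leaf 0x234839024))) (.node (.node (.leaf 0x56d7f9042) (.leaf 0xc45e900a)) (.node (.leaf 0x76339082) (.leaf 0x45af905a)))) (.node (.node (.node (.leaf 0xdab48b024) (.leaf 0xc57b044)) (.node (.leaf 0x577f79036) (.leaf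 0xaa0eb000))) (.node (.node (.leaf 0xf386b9044) (.leaf 0x5ccb09002)) (.node (.leaf 0x5b4355006) (.leaf 0x163507026))))) (.node (.node (.node (.node (.leaf 0x12601b056) (.leaf 0x82f06b2dc)) (.node (.leaf 0x35fa6b00a) (.leaf 0x3cde3b000))) (.node (.node (.leaf 0x837f1b0a2) (.leaf 0x257cb00c)) (.node (.leaf 0x91a679042) (.leaf 0x9b94b09c)))) (.node (.node (.node (.leaf 0x4e6cb08a) (.leaf 0x2363f900c)) (.node (.leaf 0x18ba0b14e) (.leaf 0x1581c905c))) (.node (.node (.leaf 0x2ae32b144) (.leaf 0x446a905a)) (.node (.leaf 0x14e0f901a) (.leaf 0xcb5e90c6)))))) (.node (.node (.node (.node (.node (.leaf 0x804e900a) (.leaf 0xe19bb00a)) (.node (.leaf 0x516775000) (.leaf 0xb14e700e))) (.node (.node (.leaf 0xa9ea7b044) (.leaf 0x5c5209002)) (.node (.leaf 0x3784c502a) (.leaf 0x1ed6e7000)))) (.node (.node (.node (.leaf 0x4a6d99000) (.leaf 0x46d40904e)) (.node (.leaf 0x10410b002) (.leaf 0x250079030))) (.node (.node (.leaf 0x4f57905a)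 (.leaf 0xb04a7b05c)) (.node (.leaf 0x5415490c6) (.leaf 0x176abb014))))) (.node (.node (.node (.node (.leaf 0x24e4b144) (.leaf 0x31904b0c0)) (.node (.leaf 0x3ecf49026) (.leaf 0x4d3eb05a))) (.node (.node (.leaf 0xb2b89046) (.leaf 0x4302905a)) (.node (.leaf 0x2cee2b01c) (.leaf 0x874e90c6)))) (.node (.node (.node (.leaf 0x79629016) (.leaf 0x37bcbb0a6)) (.node (.leaf 0x1984eb2dc) (.leaf 0x4a45c9046))) (.node (.node (.leaf 0x28b85b184) (.leaf 0x27d2f9010)) (.node (.leaf 0x118ffb06a) (.leaf 0x7af379082))))))) (.node (.node (.node (.node (.node (.node (.leaf 0x12617900e) (.leaf 0x41e169016)) (.node (.leaf 0x785d7004) (.leaf 0x3c5d0b042))) (.node (.node (.leaf 0x5c8ab044) (.leaf 0x5296f905c)) (.node (.leaf 0x32ac4b084) (.leaf 0x514507002)))) (.node (.node (.node (.leaf 0xb14d9010) (.leaf 0xe9adb090)) (.node (.leaf 0x4a8e97010) (.leaf 0x5c5c87002))) (.node (.node (.leaf 0xfc769036) (.leaf 0x84c19004)) (.node (.leaf 0x2394b9014)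 (.leaf 0x2e676b036))))) (.node (.node (.node (.node (.leaf 0x15c1a9030) (.leaf 0x6c70901a)) (.node (.leaf 0xbff59000) (.leaf 0x1af32b000))) (.node (.node (.leaf 0x722d9014) (.leaf 0xbc46b00c)) (.node (.leaf 0x685e704e) (.leaf 0xde95b9000)))) (.node (.node (.node (.leaf 0xced17014) (.leaf 0x25c8ab10c)) (.node (.leaf 0xd9d9b09a) (.leaf 0xa89cb014))) (.node (.node (.leaf 0x26eb064) (.leaf 0x5eb5bb184)) (.node (.leaf 0x246f37010) (.leaf 0x77bb9901c)))))) (.node (.node (.node (.node (.node (.leaf 0x2c8a9046) (.leaf 0x7aabd9014)) (.node (.leaf 0x9cd669082) (.leaf 0x2a0257000))) (.node (.node (.leaf 0x7cc89b05a) (.leaf 0x35e3bb00a)) (.node (.leaf 0xfab9900e) (.leaf 0xe68eb00a)))) (.node (.node (.node (.leaf 0xcf019004) (.leaf 0x3730ab0a6)) (.node (.leaf 0x2fbc4700e) (.leaf 0x38f0a9042))) (.node (.node (.leaf 0x4e63b05a) (.leaf 0x105a3b050)) (.node (.leaf 0x48adf9030) (.leaf 0x1d647b01e))))) (.node (.node (.node (.node (.leaf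 0x81117014) (.leaf 0x35923b00a)) (.node (.leaf 0x27cf7b01c) (.leaf 0x56c157014))) (.node (.node (.leaf 0xda6f2b0c6) (.leaf 0x11bb4b042)) (.node (.leaf 0xe1bdb090) (.leaf 0xddff7020)))) (.node (.node (.node (.leaf 0x1da5fb01e) (.leaf 0x660979006)) (.node (.leaf 0x44c767006) (.leaf 0x446db08a))) (.node (.node (.leaf 0x108b5b000) (.leaf 0xe7d6b00a)) (.node (.leaf 0x453049010) (.leaf 0xbadeb144))))))))) (.node (.node (.node (.node (.node (.node (.node (.node (.leaf 0x50213b064) (.leaf 0x35475b0cc)) (.node (.leaf 0x3761c5042) (.leaf 0x1753bb050))) (.node (.node (.leaf 0x3686db086) (.leaf 0x7e705900e)) (.node (.leaf 0xab06db036) (.leaf 0x3f3e27026)))) (.node (.node (.node (.leaf 0xb93b0b090) (.leaf 0x29642b0a2)) (.node (.leaf 0x1650c7010) (.leaf 0x309cbb050))) (.node (.node (.leaf 0x2427c7030) (.leaf 0x8a96b0fc)) (.node (.leaf 0x16d0fb00c) (.leaf 0x66597024))))) (.node (.node (.node (.node (.leaf 0x469bd7042) (.leaf 0xe48437034))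 (.node (.leaf 0xe69db0a6) (.leaf 0x7eace9036))) (.node (.node (.leaf 0x8a6fb194) (.leaf 0x1e7067010)) (.node (.leaf 0x78c5b086) (.leaf 0x2b9249004)))) (.node (.node (.node (.leaf 0xe7bf0b01c) (.leaf 0x2a61e7030)) (.node (.leaf 0x104a8b01c) (.leaf 0x2f516b06a))) (.node (.node (.leaf 0x3e1287000) (.leaf 0x428c905a)) (.node (.leaf 0x85f87b06a) (.leaf 0x3e1d07010)))))) (.node (.node (.node (.node (.node (.leaf 0x667c7006) (.leaf 0x1c885b0c6)) (.node (.leaf 0xee8db0a6) (.leaf 0x151e7b05c))) (.node (.node (.leaf 0xa4fe9046) (.leaf 0x3fda3b06a)) (.node (.leaf 0x27cc47030) (.leaf 0x16c97b144)))) (.node (.node (.node (.leaf 0x376305006) (.leaf 0xc686b0fc)) (.node (.leaf 0x14a87b062) (.leaf 0x73b2b062))) (.node (.node (.leaf 0x11c8b9046) (.leaf 0x17182b042)) (.node (.leaf 0x286097034) (.leaf 0x7fd24b086))))) (.node (.node (.node (.node (.leaf 0x65bd77014) (.leaf 0x12571b1fe)) (.node (.leaf 0x1512e9044) (.leaf 0x55ee0b090)))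 (.node (.node (.leaf 0x83c7cb0a2) (.leaf 0x3b24c9044)) (.node (.leaf 0x1ab879026) (.leaf 0x368d2b062)))) (.node (.node (.node (.leaf 0x42e4905a) (.leaf 0x24bf4b050)) (.node (.leaf 0x160b47000) (.leaf 0x28feb06a))) (.node (.node (.leaf 0x2d5d6b09c) (.leaf 0x63379014)) (.node (.leaf 0x1bb297010) (.leaf 0xc03fb194))))))) (.node (.node (.node (.node (.node (.node (.leaf 0x52d9b064) (.leaf 0x16d7c9000)) (.node (.leaf 0x537a69030) (.leaf 0x288fa900a))) (.node (.node (.leaf 0x7586eb09a) (.leaf 0x6e89ab09c)) (.node (.leaf 0xc379eb14e) (.leaf 0x61e087024)))) (.node (.node (.node (.leaf 0x2bc9b90c6) (.leaf 0xc828b062)) (.node (.leaf 0x38653b0fc) (.leaf 0x2f4e8b014))) (.node (.node (.leaf 0x11b1b114) (.leaf 0x16d849010)) (.node (.leaf 0x75846b014) (.leaf 0xc01b7b09a))))) (.node (.node (.node (.node (.leaf 0x2b39b900a) (.leaf 0x1b4a19010)) (.node (.leaf 0x7d60b0fc) (.leaf 0x56f56b0fc))) (.node (.node (.leaf 0x2415bb002) (.leaf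 0x4ee52b036)) (.node (.leaf 0x4bfe3006) (.leaf 0x1d472b01e)))) (.node (.node (.node (.leaf 0x69d62b050) (.leaf 0x120bc9036)) (.node (.leaf 0x4b4f55000) (.leaf 0x46183006))) (.node (.node (.leaf 0x66389016) (.leaf 0x158c09044)) (.node (.leaf 0x1c92ab024) (.leaf 0x6cb5bb09c)))))) (.node (.node (.node (.node (.node (.leaf 0x21338b064) (.leaf 0x77872704e)) (.node (.leaf 0xff54b10c) (.leaf 0x32b52b036))) (.node (.node (.leaf 0x1b39c9046) (.leaf 0x17e11b000)) (.node (.leaf 0x61c1901c) (.leaf 0x2d2e3b036)))) (.node (.node (.node (.leaf 0x5e1b59014) (.leaf 0x481dab05c)) (.node (.leaf 0x36927b184) (.leaf 0x2a9e19026))) (.node (.node (.leaf 0x78d7b184) (.leaf 0x88b18b002)) (.node (.leaf 0x41dfbb184) (.leaf 0x8ea8b062))))) (.node (.node (.node (.node (.leaf 0x8f8eeb00a) (.leaf 0x30fa8b002)) (.node (.leaf 0x4b5f15014) (.leaf 0x4b58300a))) (.node (.node (.leaf 0x1ed2f7020) (.leaf 0x19abfb2dc)) (.node (.leaf 0x12dfcb05c) (.leaf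 0x40a0cb042)))) (.node (.node (.node (.leaf 0x255519030) (.leaf 0x35c68b0cc)) (.node (.leaf 0xbafa7030) (.leaf 0x683a8b062))) (.node (.node (.leaf 0x35c75b0a6) (.leaf 0x2608b014)) (.node (.leaf 0x60f7a7010) (.leaf 0x1ea09b09a)))))))) (.node (.node (.node (.node (.node (.node (.node (.leaf 0x25ef59044) (.leaf 0xcf89b184)) (.node (.leaf 0x2a2487020) (.leaf 0x247039000))) (.node (.node (.leaf 0xd8fb114) (.leaf 0x243ab000)) (.node (.leaf 0x656df7042) (.leaf 0x2894d9004)))) (.node (.node (.node (.leaf 0x55087b00a) (.leaf 0x23fb4904e)) (.node (.leaf 0x1189e9026) (.leaf 0x5f73c7026))) (.node (.node (.leaf 0x516ca502a) (.leaf 0x4acbe7030)) (.node (.leaf 0x22048b00c) (.leaf 0xf571b1fe))))) (.node (.node (.node (.node (.leaf 0x3482cb036) (.leaf 0x1e316b01c)) (.node (.leaf 0xbb999026) (.leaf 0x4c5f0b2dc))) (.node (.node (.leaf 0x149d0b0ea) (.leaf 0x39b1b064)) (.node (.leaf 0x279f7026) (.leaf 0x192afb2dc)))) (.node (.node (.node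 (.leaf 0x62ced90c6) (.leaf 0x2baa07034)) (.node (.leaf 0x23b12704e) (.leaf 0x3efed9046))) (.node (.node (.leaf 0x81a879026) (.leaf 0x3a302b044)) (.node (.leaf 0x1b66ab00c) (.leaf 0x4db5905a)))))) (.node (.node (.node (.node (.node (.leaf 0x11475700e) (.leaf 0x6601fb0fc)) (.node (.leaf 0x255abb1fe) (.leaf 0x955db09c))) (.node (.node (.leaf 0xa7e39026) (.leaf 0x2cabd7030)) (.node (.leaf 0xa198700e) (.leaf 0x8849b184)))) (.node (.node (.node (.leaf 0x64759b014) (.leaf 0x4638c9016)) (.node (.leaf 0xa69b69004) (.leaf 0xe150b0cc))) (.node (.node (.leaf 0x7fce4b0ea) (.leaf 0x52233b1fe)) (.node (.leaf 0x547049006) (.leaf 0x1a0829046))))) (.node (.node (.node (.node (.leaf 0x7605b0ea) (.leaf 0x91cb064)) (.node (.leaf 0x445e6700a) (.leaf 0xe140b0cc))) (.node (.node (.leaf 0x535e8905c) (.leaf 0x6f097042)) (.node (.leaf 0x4d56fb09a) (.leaf 0x410d905a)))) (.node (.node (.node (.leaf 0x5b672b0a6) (.leaf 0x2771cb050)) (.node (.leaf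 0x1b6b2b144) (.leaf 0x720f4901c))) (.node (.node (.leaf 0x3217cb084) (.leaf 0x29a3eb0a2)) (.node (.leaf 0x5bf979002) (.leaf 0x4b2a3b090))))))) (.node (.node (.node (.node (.node (.node (.leaf 0x55262b00a) (.leaf 0x292fab0a2)) (.node (.leaf 0x5b323b0a6) (.leaf 0x443a300e))) (.node (.node (.leaf 0x242db7000) (.leaf 0x37f367002)) (.node (.leaf 0x810fb086) (.leaf 0xad08b144)))) (.node (.node (.node (.leaf 0x22f239026) (.leaf 0xcb103b00a)) (.node (.leaf 0xfdfcb05c) (.leaf 0x954cc9026))) (.node (.node (.leaf 0x1da22b01e) (.leaf 0x4bbf300e)) (.node (.leaf 0xa3d0a901c) (.leaf 0xbb497026))))) (.node (.node (.node (.node (.leaf 0x12f54b10c) (.leaf 0x7c8b73000)) (.node (.leaf 0xe77dfb09a) (.leaf 0x3e353b00c))) (.node (.node (.leaf 0x4b9a45000) (.leaf 0xa761cb05c)) (.node (.leaf 0x17a1847024) (.leaf 0x5b6d1b00a)))) (.node (.node (.node (.leaf 0x25622b05c) (.leaf 0x1d39b044)) (.node (.leaf 0x10379b06a) (.leaf 0x5542ab00a))) (.node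 (.node (.leaf 0x80cfb0ea) (.leaf 0x427479044)) (.node (.leaf 0xae486b050) (.leaf 0x162699046)))))) (.node (.node (.node (.node (.node (.leaf 0xb5d07020) (.leaf 0x33738b114)) (.node (.leaf 0xcc5fb086) (.leaf 0xaad0b00c))) (.node (.node (.leaf 0x5d3659036) (.leaf 0x3ef189010)) (.node (.leaf 0xbc8e69044) (.leaf 0x1a174b00c)))) (.node (.node (.node (.leaf 0x283ea9006) (.leaf 0x7c1efb08a)) (.node (.leaf 0xf0bc9036) (.leaf 0x9775b09c))) (.node (.node (.leaf 0xe68db0cc) (.leaf 0x177ecb002)) (.node (.leaf 0x5812b114) (.leaf 0x10ecbb09a))))) (.node (.node (.node (.node (.leaf 0x4274eb05c) (.leaf 0x61ca6900c)) (.node (.leaf 0x2dedb042) (.leaf 0x1cd9eb0d6))) (.node (.node (.leaf 0x25a5b9044) (.leaf 0xc69fb0ea)) (.node (.leaf 0xd5797030) (.leaf 0x6a759082)))) (.node (.node (.node (.leaf 0x1f07f7030) (.leaf 0xee9db0cc)) (.node (.leaf 0x2b55a9042) (.leaf 0x7525b194))) (.node (.node (.leaf 0xe950b0a6) (.leaf 0x81878b00c)) (.node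 (.leaf 0x8d8b37000) (.leaf 0x34794b036)))))))))) (.node (.node (.node (.node (.node (.node (.node (.node (.node (.leaf 0xdcbbb06a) (.leaf 0x4b7e5500e)) (.node (.leaf 0x6c5e9006) (.leaf 0x680a1901c))) (.node (.node (.leaf 0xfc0d9030) (.leaf 0x2a6b7010)) (.node (.leaf 0x1290a2b042) (.leaf 0x11a02b002)))) (.node (.node (.node (.leaf 0x3bada900e) (.leaf 0x55b565014)) (.node (.leaf 0x13c05b064) (.leaf 0x1206f9044))) (.node (.node (.leaf 0xe57b500e) (.leaf 0xe16e500e)) (.node (.leaf 0x1a8cb7000) (.leaf 0x16583b09a))))) (.node (.node (.node (.node (.leaf 0x5abd99010) (.leaf 0x89877004)) (.node (.leaf 0x75e890c6) (.leaf 0x18765b0c0))) (.node (.node (.leaf 0x65ff9042) (.leaf 0x80097042)) (.node (.leaf 0x2a84fb042) (.leaf 0x52eeb900e)))) (.node (.node (.node (.leaf 0x15ff8900e) (.leaf 0x24696b06a)) (.node (.leaf 0x5b7c3b090) (.leaf 0x25323900e))) (.node (.node (.leaf 0x1e83d700e) (.leaf 0x1a300b050)) (.node (.leaf 0xc3d77004)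 (.leaf 0x3225db084)))))) (.node (.node (.node (.node (.node (.leaf 0x550125000) (.leaf 0x957f2b042)) (.node (.leaf 0x88f289010) (.leaf 0x304ad9046))) (.node (.node (.leaf 0x23c23b0ea) (.leaf 0x18b25b2dc)) (.node (.leaf 0x7d46700a) (.leaf 0x154a79036)))) (.node (.node (.node (.leaf 0xa1464b05c) (.leaf 0xe63c3b08a)) (.node (.leaf 0x2cee5b014) (.leaf 0x4849a9036))) (.node (.node (.leaf 0x8f5965004) (.leaf 0x69d949046)) (.node (.leaf 0x9937b084) (.leaf 0xf91b044))))) (.node (.node (.node (.node (.leaf 0xe1c35042) (.leaf 0xee2a500a)) (.node (.leaf 0x1312b064) (.leaf 0x2df36b036))) (.node (.node (.leaf 0x91e55901c) (.leaf 0x302d7700e)) (.node (.leaf 0x4f5f1b0c6) (.leaf 0x517dfb00a)))) (.node (.node (.node (.leaf 0x169abb014) (.leaf 0x20e25b00c)) (.node (.leaf 0x37eac5004) (.leaf 0x441a77024))) (.node (.node (.leaf 0x163e0e7042) (.leaf 0x62c0b9016)) (.node (.leaf 0xb503b700e) (.leaf 0x1b1a6b014))))))) (.node (.node (.node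 (.node (.node (.node (.leaf 0xae947030) (.leaf 0xc8f59082)) (.node (.leaf 0x6a3dcb0c0) (.leaf 0x44fb6904e))) (.node (.node (.leaf 0x777b0b062) (.leaf 0x666887024)) (.node (.leaf 0x1f7aeb042) (.leaf 0x2f8937010)))) (.node (.node (.node (.leaf 0x11b017030) (.leaf 0x3e937b09a)) (.node (.leaf 0x27d7ab06a) (.leaf 0x42fdd900e))) (.node (.node (.leaf 0xf1819044) (.leaf 0x1447d90c6)) (.node (.leaf 0x1d026b01e) (.leaf 0x49353000))))) (.node (.node (.node (.node (.leaf 0x5444b044) (.leaf 0x5a88ab144)) (.node (.leaf 0x5ea2d9024) (.leaf 0x1d97bb01e))) (.node (.node (.leaf 0x1d56eb01e) (.leaf 0x31ad1b0c0)) (.node (.leaf 0x9adc6b0fc) (.leaf 0x22e39010)))) (.node (.node (.node (.leaf 0xbd428905c) (.leaf 0x1281015006)) (.node (.leaf 0xdbba7026) (.leaf 0x70e0f9026))) (.node (.node (.leaf 0x143db700a) (.leaf 0x352425006)) (.node (.leaf 0x17dcfb00c) (.leaf 0x1a0d87030)))))) (.node (.node (.node (.node (.node (.leaf 0x19a73f9016) (.leaf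 0x198c6b14e)) (.node (.leaf 0xb448b000) (.leaf 0x524d9b056))) (.node (.node (.leaf 0xb78c7500e) (.leaf 0x56b4d7024)) (.node (.leaf 0x644eab01c) (.leaf 0x207ba9026)))) (.node (.node (.node (.leaf 0x2003d700e) (.leaf 0x11299b050)) (.node (.leaf 0x45aa3004) (.leaf 0x1087d7020))) (.node (.node (.leaf 0x56d85901c) (.leaf 0x4af0b05a)) (.node (.leaf 0x6a6d7034) (.leaf 0x8f5b900c))))) (.node (.node (.node (.node (.leaf 0x22c077000) (.leaf 0x3dbf5b064)) (.node (.leaf 0x3ebcb044) (.leaf 0xa693cb086))) (.node (.node (.leaf 0x7847cb0d6) (.leaf 0x55a649002)) (.node (.leaf 0x80af9024) (.leaf 0xc9ff9024)))) (.node (.node (.node (.leaf 0x9974b036) (.leaf 0x16f5cb01c)) (.node (.leaf 0x12e36b05c) (.leaf 0xd1ccb042))) (.node (.node (.leaf 0x76919b084) (.leaf 0x4ad26b050)) (.node (.leaf 0x3ff3eb01c) (.leaf 0x32af7b036)))))))) (.node (.node (.node (.node (.node (.node (.node (.leaf 0x3c3f5b050) (.leaf 0x15356900e)) (.node (.leaf 0x119827000)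 (.leaf 0x4b9e8500a))) (.node (.node (.leaf 0x75ddc7020) (.leaf 0x7066cb144)) (.node (.leaf 0xce997024) (.leaf 0x8fcd65000)))) (.node (.node (.node (.leaf 0x5673c9016) (.leaf 0xa5477000)) (.node (.leaf 0x443257004) (.leaf 0x8d597024))) (.node (.node (.leaf 0x304287000) (.leaf 0xb01e59036)) (.node (.leaf 0xd137b000) (.leaf 0x557cc7002))))) (.node (.node (.node (.node (.leaf 0x385327004) (.leaf 0x76e8900a)) (.node (.leaf 0x96c30700e) (.leaf 0x1715c9010))) (.node (.node (.leaf 0x389f47042) (.leaf 0x24ee2b000)) (.node (.leaf 0x72a0b900a) (.leaf 0x17687700e)))) (.node (.node (.node (.leaf 0x2bf89904e) (.leaf 0x7c04a300e)) (.node (.leaf 0x62243901a) (.leaf 0x2360b09a))) (.node (.node (.leaf 0x44f159014) (.leaf 0x372f15010)) (.node (.leaf 0x3bb1b9036) (.leaf 0xb7fdb002)))))) (.node (.node (.node (.node (.node (.leaf 0x55ecb5010) (.leaf 0x86a1bb044)) (.node (.leaf 0x28e8c901a) (.leaf 0x8b2327014))) (.node (.node (.leaf 0x684e90c6)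 (.leaf 0xe3235002)) (.node (.leaf 0x22cc4b050) (.leaf 0x8d7c7006)))) (.node (.node (.node (.leaf 0x5356cb1fe) (.leaf 0x4451b05a)) (.node (.leaf 0x2f88a7020) (.leaf 0x12edfb1fe))) (.node (.node (.leaf 0x9a3b4b062) (.leaf 0x5e7d39004)) (.node (.leaf 0x3c48a7000) (.leaf 0x1bd8eb09a))))) (.node (.node (.node (.node (.leaf 0x78b8704e) (.leaf 0xd9a60b05c)) (.node (.leaf 0xb8f945014) (.leaf 0x104bc9026))) (.node (.node (.leaf 0x12c0d9030) (.leaf 0x84379014)) (.node (.leaf 0x17aa49000) (.leaf 0x2aba5b002)))) (.node (.node (.node (.leaf 0xce679014) (.leaf 0x5d3009044)) (.node (.leaf 0x309b114) (.leaf 0xf06f9044))) (.node (.node (.leaf 0x3dc6eb114) (.leaf 0x23640b062)) (.node (.leaf 0x6f4e900a) (.leaf 0xb3dbb042))))))) (.node (.node (.node (.node (.node (.node (.leaf 0x205979046) (.leaf 0x3124b114)) (.node (.leaf 0x412f490c6) (.leaf 0xc3b89016))) (.node (.node (.leaf 0x1110a9000) (.leaf 0x6130b90c6)) (.node (.leaf 0x63c19004)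 (.leaf 0x10f065b002)))) (.node (.node (.node (.leaf 0x26344b084) (.leaf 0x25175b056)) (.node (.leaf 0x35bee502a) (.leaf 0xfe36b05c))) (.node (.node (.leaf 0x8d389016) (.leaf 0xbc5f4900e)) (.node (.leaf 0x981fb084) (.leaf 0x4d6307026))))) (.node (.node (.node (.node (.leaf 0x422ef900e) (.leaf 0x38206900c)) (.node (.leaf 0x4bbff7002) (.leaf 0x3244ab09c))) (.node (.node (.leaf 0x29d17b0a2) (.leaf 0x36c76700a)) (.node (.leaf 0x563977004) (.leaf 0x166cdb06a)))) (.node (.node (.node (.leaf 0xe6fc13004) (.leaf 0x4e0c3000)) (.node (.leaf 0xad5c2b000) (.leaf 0x2af96b050))) (.node (.node (.leaf 0xa80cb050) (.leaf 0x1d023b01e)) (.node (.leaf 0x28fea704e) (.leaf 0x29a0bb0a2)))))) (.node (.node (.node (.node (.node (.leaf 0xd361b014) (.leaf 0x14e2d704e)) (.node (.leaf 0x23dcab0fc) (.leaf 0x139a2b114))) (.node (.node (.leaf 0x2ef96b09c) (.leaf 0x4cebdb0c0)) (.node (.leaf 0x17c6c7000) (.leaf 0xbc2bf9036)))) (.node (.node (.node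 (.leaf 0x447039082) (.leaf 0x2fa80b09a)) (.node (.leaf 0x894aa9000) (.leaf 0xac8f9000))) (.node (.node (.leaf 0x17fa0fb09c) (.leaf 0x6e57ab036)) (.node (.leaf 0x25adbb056) (.leaf 0x5cdcb114))))) (.node (.node (.node (.node (.leaf 0x159bb044) (.leaf 0x175d47010)) (.node (.leaf 0x66602900c) (.leaf 0x2ce27020))) (.node (.node (.leaf 0x283bb01c) (.leaf 0xcd01901c)) (.node (.leaf 0x47d8b05a) (.leaf 0x1062c7026)))) (.node (.node (.node (.leaf 0x23e43b194) (.leaf 0x58245b0d6)) (.node (.leaf 0x2a8c0b000) (.leaf 0x4e679b084))) (.node (.node (.leaf 0x121819044) (.leaf 0x1bd79b01c)) (.node (.leaf 0x4a973004) (.leaf 0xb2ec3b01c))))))))) (.node (.node (.node (.node (.node (.node (.node (.node (.leaf 0x1e76bb06a) (.leaf 0x69aaa7030)) (.node (.leaf 0x288c57042) (.leaf 0x12f2cb1d6))) (.node (.node (.leaf 0x237599004) (.leaf 0x1a4b8b09a)) (.node (.leaf 0x365e67006) (.leaf 0x298efb0a2)))) (.node (.node (.node (.leaf 0x354565004) (.leaf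 0x4838cb05c)) (.node (.leaf 0x10c907000) (.leaf 0x44ea3000))) (.node (.node (.leaf 0xc248b5006) (.leaf 0x2d270b084)) (.node (.leaf 0x2298b050) (.leaf 0xa0efb01c))))) (.node (.node (.node (.node (.leaf 0x356cb5004) (.leaf 0x1255d905c)) (.node (.leaf 0x7ff449024) (.leaf 0xb7a917002))) (.node (.node (.leaf 0x4595bb09a) (.leaf 0x599bbb114)) (.node (.leaf 0x352b17002) (.leaf 0x9a12b084)))) (.node (.node (.node (.leaf 0x1623bb050) (.leaf 0x3d9b6b044)) (.node (.leaf 0x2bae59016) (.leaf 0x1a2737010))) (.node (.node (.leaf 0x78f59042) (.leaf 0x24fa79026)) (.node (.leaf 0x375385014) (.leaf 0x17dc97020)))))) (.node (.node (.node (.node (.node (.leaf 0x108b87010) (.leaf 0x2092a7026)) (.node (.leaf 0x4fcd3004) (.leaf 0x305449026))) (.node (.node (.leaf 0x2005cb042) (.leaf 0x70b1900c)) (.node (.leaf 0x408be9000) (.leaf 0x2e599b084)))) (.node (.node (.node (.leaf 0x17c489026) (.leaf 0xfc053b0c0)) (.node (.leaf 0x4637b08a) (.leaf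 0xe9549002))) (.node (.node (.leaf 0x57b3a9030) (.leaf 0x9d3db036)) (.node (.leaf 0x26a87b09c) (.leaf 0x2ef2eb09c))))) (.node (.node (.node (.node (.leaf 0x107c59046) (.leaf 0x60cae7026)) (.node (.leaf 0x7fa927034) (.leaf 0x5cd49b0cc))) (.node (.node (.leaf 0x1447e7034) (.leaf 0xdfed700e)) (.node (.leaf 0x237c97014) (.leaf 0x225d67020)))) (.node (.node (.node (.leaf 0x6749b184) (.leaf 0x60e2bb000)) (.node (.leaf 0x250f2b1d6) (.leaf 0xd52a9026))) (.node (.node (.leaf 0xf84cb7006) (.leaf 0x35a617002)) (.node (.leaf 0xb18e4b114) (.leaf 0x14c2a7042))))))) (.node (.node (.node (.node (.node (.node (.leaf 0xe62a5014) (.leaf 0x2b8ac7042)) (.node (.leaf 0xdef5b00c) (.leaf 0x6a0fb086))) (.node (.node (.leaf 0x14cb2901c) (.leaf 0x26f42b036)) (.node (.leaf 0x4be2b08a) (.leaf 0x1980eb0c0)))) (.node (.node (.node (.leaf 0x95aab084) (.leaf 0x10f6fb144)) (.node (.leaf 0x29c9bb0a2) (.leaf 0x4457db0ea))) (.node (.node (.leaf 0x3c03a9010)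 (.leaf 0xf25b9030)) (.node (.leaf 0x4dc63b144) (.leaf 0x1d726b01e))))) (.node (.node (.node (.node (.leaf 0x6c603b036) (.leaf 0xead97002)) (.node (.leaf 0x1da7bb01e) (.leaf 0xca6c700a))) (.node (.node (.leaf 0x6fcfb0ea) (.leaf 0xa9379010)) (.node (.leaf 0x1270b905c) (.leaf 0x24fc0b144)))) (.node (.node (.node (.leaf 0x25310b05c) (.leaf 0x38881904e)) (.node (.leaf 0xe30f5014) (.leaf 0x6aa54b14e))) (.node (.node (.leaf 0x6f5b69082) (.leaf 0x8aac700a)) (.node (.leaf 0x71725b064) (.leaf 0x121deb10c)))))) (.node (.node (.node (.node (.node (.leaf 0x1db33b01e) (.leaf 0x9df2db14e)) (.node (.leaf 0x2b5d29014) (.leaf 0x7422db002))) (.node (.node (.leaf 0xde3db144) (.leaf 0x2394290c6)) (.node (.leaf 0x275b9000) (.leaf 0x89bc904e)))) (.node (.node (.node (.leaf 0x535439036) (.leaf 0x229bf7010)) (.node (.leaf 0x29f87b0a2) (.leaf 0xe67e5000))) (.node (.node (.leaf 0x51b04b0cc) (.leaf 0x6ddb7b114)) (.node (.leaf 0x77d67006) (.leaf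 0x10ca7b00c))))) (.node (.node (.node (.node (.leaf 0x368d9900c) (.leaf 0xa5a1f7034)) (.node (.leaf 0x1a023b01c) (.leaf 0x4b154b00a))) (.node (.node (.leaf 0x2ddceb036) (.leaf 0x224efb01c)) (.node (.leaf 0x49552b064) (.leaf 0x1e85cb042)))) (.node (.node (.node (.leaf 0x55d3a502a) (.leaf 0x112f29010)) (.node (.leaf 0xee097002) (.leaf 0x28f4d901c))) (.node (.node (.leaf 0xe7335000) (.leaf 0x1d13b114)) (.node (.leaf 0x62eceb184) (.leaf 0x23a42900a)))))))) (.node (.node (.node (.node (.node (.node (.node (.leaf 0xb76975000) (.leaf 0x7fe59024)) (.node (.leaf 0xe0a19002) (.leaf 0x1fc59b06a))) (.node (.node (.leaf 0x2c3c39046) (.leaf 0xb8e0bb0cc)) (.node (.leaf 0x5782a905c) (.leaf 0xb1d5b01c)))) (.node (.node (.node (.leaf 0x223779010) (.leaf 0x142227014)) (.node (.leaf 0x28e119082) (.leaf 0x413b37014))) (.node (.node (.leaf 0x358947002) (.leaf 0xbc76cb1fe)) (.node (.leaf 0x4bd879002) (.leaf 0x1901eb0c0))))) (.node (.node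 (.node (.node (.leaf 0x412f3000) (.leaf 0x61883b0fc)) (.node (.leaf 0x4b805b00a) (.leaf 0x4dfb99046))) (.node (.node (.leaf 0x11c3a7010) (.leaf 0x2ffe39000)) (.node (.leaf 0x294f3b0a2) (.leaf 0x1b8afb042)))) (.node (.node (.node (.leaf 0x268fcb084) (.leaf 0x4e8fb08a)) (.node (.leaf 0xa3023904e) (.leaf 0x7b0f901c))) (.node (.node (.leaf 0x19b67b14e) (.leaf 0x1c23fb0d6)) (.node (.leaf 0x7cb89006) (.leaf 0x461efb086)))))) (.node (.node (.node (.node (.node (.leaf 0xb97c2500e) (.leaf 0x3578b5000)) (.node (.leaf 0x3f3c5b050) (.leaf 0xf55d905c))) (.node (.node (.leaf 0x259509036) (.leaf 0xe1319002)) (.node (.leaf 0x29963b0a2) (.leaf 0xb3104b044)))) (.node (.node (.node (.leaf 0x2293cb09a) (.leaf 0x6f4ec9014)) (.node (.leaf 0x4b7179002) (.leaf 0x400f97030))) (.node (.node (.leaf 0x4e372b09c) (.leaf 0x3af30b114)) (.node (.leaf 0x616fb194) (.leaf 0xbbbe97000))))) (.node (.node (.node (.node (.leaf 0xb4f2b014) (.leaf 0x2a246b014))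 (.node (.leaf 0x4b5969002) (.leaf 0x153a59036))) (.node (.node (.leaf 0x1f55fb09a) (.leaf 0x29937000)) (.node (.leaf 0x50b44b044) (.leaf 0x6196b0fc)))) (.node (.node (.node (.leaf 0x1ba36b050) (.leaf 0x1166ab01c)) (.node (.leaf 0x16582b042) (.leaf 0x40243004))) (.node (.node (.leaf 0xff2cb1d6) (.leaf 0x479e1b044)) (.node (.leaf 0x4f82ab024) (.leaf 0x688a2704e))))))) (.node (.node (.node (.node (.node (.node (.leaf 0x14c209042) (.leaf 0x62330b194)) (.node (.leaf 0x3c86b7020) (.leaf 0xa1d67020))) (.node (.node (.leaf 0x1fb37b014) (.leaf 0x9a1dd9004)) (.node (.leaf 0xe32c7002) (.leaf 0x1336ab044)))) (.node (.node (.node (.leaf 0x1c8dbb024) (.leaf 0x756dab00c)) (.node (.leaf 0x1764b064) (.leaf 0x11ce37020))) (.node (.node (.leaf 0x32635b084) (.leaf 0x548a2904e)) (.node (.leaf 0xed5f5010) (.leaf 0x65a8b062))))) (.node (.node (.node (.node (.leaf 0x36e1d9042) (.leaf 0xbde26b1fe)) (.node (.leaf 0x56b70700a) (.leaf 0x57ba1b1d6)))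 (.node (.node (.leaf 0x81f3cb09a) (.leaf 0xe44ca9016)) (.node (.leaf 0x777b7034) (.leaf 0xe87a5010)))) (.node (.node (.node (.leaf 0x728e5b062) (.leaf 0x54e66901a)) (.node (.leaf 0x2b007030) (.leaf 0xbdf389030))) (.node (.node (.leaf 0x1499c900c) (.leaf 0x34b05b09c)) (.node (.leaf 0x370fbb090) (.leaf 0x2a13b002)))))) (.node (.node (.node (.node (.node (.leaf 0x30f437030) (.leaf 0x875e704e)) (.node (.leaf 0x18335b2dc) (.leaf 0xe0fc7002))) (.node (.node (.leaf 0x8b70901a) (.leaf 0x9955b036)) (.node (.leaf 0x367bf901c) (.leaf 0x750f9004)))) (.node (.node (.node (.leaf 0x7dc27b09c) (.leaf 0x28e639014)) (.node (.leaf 0x4b642b0a6) (.leaf 0x5de9c905c))) (.node (.node (.leaf 0xf1deb10c) (.leaf 0x354199002)) (.node (.leaf 0xb6dcb06a) (.leaf 0x1e0b1b014))))) (.node (.node (.node (.node (.leaf 0x282957024) (.leaf 0x1db36b01e)) (.node (.leaf 0xe03e5004) (.leaf 0x380b5901a))) (.node (.node (.leaf 0x1aaaa7020) (.leaf 0x77977042))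 (.node (.leaf 0x9c4427014) (.leaf 0x49cab08a)))) (.node (.node (.node (.leaf 0x2e98bb036) (.leaf 0x4aeb6b014)) (.node (.leaf 0xa5f4b09a) (.leaf 0x2aa24b06a))) (.node (.node (.leaf 0xc02f99046) (.leaf 0x1534db10c)) (.node (.leaf 0x233939042) (.leaf 0x13f73b064))))))))))))

theorem cert12_0 : chunkB 12 cert12 0 = true := by decide +kernel

theorem cert12_1 : chunkB 12 cert12 1 = true := by decide +kernel

theorem cert12_2 : chunkB 12 cert12 2 = true := by decide +kernel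

theorem cert12_3 : chunkB 12 cert12 3 = true := by decide +kernel

theorem cert12_4 : chunkB 12 cert12 4 = true := by decide +kernel

theorem cert12_5 : chunkB 12 cert12 5 = true := by decide +kernel

theorem cert12_6 : chunkB 12 cert12 6 = true := by decide +kernel

theorem cert12_7 : chunkB 12 cert12 7 = true := by decide +kernel

theorem cert12_ok : ∀ k < 2048, itemB 12 cert12 k = true :=
  of_chunks cert12_0 cert12_1 cert12_2 cert12_3 cert12_4 cert12_5 cert12_6 cert12_7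

end Cfsg.Agent.F4Square.Two
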