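import Cfsg.Agent.F4Square.Two.Setup

/-!
Certificates for the coset of the Weyl element number 13.
-/

set_option autoImplicit false
set_option maxRecDepth 100000
set_option maxHeartbeats 0
set_option Elab.async false

namespace Cfsg.Agent.F4Square.Two

/-- The certificates. -/
noncomputable def cert13 : Tree :=
  (.node (.node (.node (.node (.node (.node (.node (.node (.node (.node (.node (.leaf 0x1635f9046) (.leaf 0x3aac4700a)) (.node (.leaf 0x3d243b194) (.leaf 0x135f0901a))) (.node (.node (.leaf 0x33ef97042) (.leaf 0x520d7024)) (.node (.leaf 0x3b114b000) (.leaf 0x1b8c4700e)))) (.node (.node (.node (.leaf 0x31fd7014) (.leaf 0xc79fb184)) (.node (.leaf 0x18d25b0d6) (.leaf 0x234a1b194))) (.node (.node (.leaf 0x5a85901c) (.leaf 0xbe169046)) (.node (.leaf 0x2c85d905c) (.leaf 0xd3deb10c))))) (.node (.node (.node (.node (.leaf 0x73e88b114) (.leaf 0x3a6d9004)) (.node (.leaf 0x15e9c87014) (.leaf 0x19307b090))) (.node (.node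 (.leaf 0x22f169044) (.leaf 0x155ed7000)) (.node (.leaf 0x155157010) (.leaf 0x13ef8fb05c)))) (.node (.node (.node (.leaf 0x3beb9b002) (.leaf 0x344c3b036)) (.node (.leaf 0x7693e905a) (.leaf 0x6699016))) (.node (.node (.leaf 0x28be9030) (.leaf 0x10acd700e)) (.node (.leaf 0xc364b0fc) (.leaf 0x562f9014)))))) (.node (.node (.node (.node (.node (.leaf 0x1dc5700a) (.leaf 0x3abd8901a)) (.node (.leaf 0x35f20b0c0) (.leaf 0x9af177014))) (.node (.node (.leaf 0x26997b05a) (.leaf 0x2a73b10c)) (.node (.leaf 0x69006b000) (.leaf 0x76e73905a)))) (.node (.node (.node (.leaf 0x27eaeb1fe) (.leaf 0x43cd13000)) (.node (.leaf 0x6ba4b0fc) (.leaf 0x86fd790c6))) (.node (.node (.leaf 0xec2edb1d6) (.leaf 0x48b2f7030)) (.node (.leaf 0x39dd3b0fc) (.leaf 0x4207042))))) (.node (.node (.node (.node (.leaf 0xae32905c) (.leaf 0x25c17b09a)) (.node (.leaf 0x525e87026) (.leaf 0x9b4939006))) (.node (.node (.leaf 0x92fb67042) (.leaf 0x28b279082)) (.node (.leaf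 0x12263b014) (.leaf 0x2200fb05c)))) (.node (.node (.node (.leaf 0x3e2bdb00c) (.leaf 0xaff2c9010)) (.node (.leaf 0x32830b05a) (.leaf 0x83e9b194))) (.node (.node (.leaf 0x6acfb184) (.leaf 0x74692b000)) (.node (.leaf 0x3246e3004) (.leaf 0x78b559002))))))) (.node (.node (.node (.node (.node (.node (.leaf 0x55e99082) (.leaf 0x111859044)) (.node (.leaf 0x1001db144) (.leaf 0x1cd46b14e))) (.node (.node (.leaf 0x29ea9b0a2) (.leaf 0x265b2b05a)) (.node (.leaf 0x91ceb09c) (.leaf 0x45821b144)))) (.node (.node (.node (.leaf 0x74284b014) (.leaf 0x511d7042)) (.node (.leaf 0x21bc9700a) (.leaf 0x26364b08a))) (.node (.node (.leaf 0xa6a7b10c) (.leaf 0x1e02b9030)) (.node (.leaf 0xa23f39014) (.leaf 0x2a9f3b002))))) (.node (.node (.node (.node (.leaf 0x2b291b0fc) (.leaf 0x1e628b1d6)) (.node (.leaf 0x46afe7006) (.leaf 0x569e090c6))) (.node (.node (.leaf 0x2395eb062) (.leaf 0x90c7eb00a)) (.node (.leaf 0x38f41900a) (.leaf 0x228e6b1fe)))) (.node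 (.node (.node (.leaf 0x191e6b090) (.leaf 0x26f143002)) (.node (.leaf 0x66913b062) (.leaf 0x30479042))) (.node (.node (.leaf 0x336159082) (.leaf 0x11393b1fe)) (.node (.leaf 0x3ca8cb1d6) (.leaf 0x990cf5006)))))) (.node (.node (.node (.node (.node (.leaf 0x2df88905a) (.leaf 0x72f729004)) (.node (.leaf 0x9a7004) (.leaf 0x196555000))) (.node (.node (.leaf 0x107d5b00c) (.leaf 0x716439014)) (.node (.leaf 0x38669006) (.leaf 0x4b8901c)))) (.node (.node (.node (.leaf 0x7ad1b064) (.leaf 0x287cd7004)) (.node (.leaf 0x348e6b09c) (.leaf 0x8b89b086))) (.node (.node (.leaf 0x455b9b00c) (.leaf 0x6649b0ea)) (.node (.leaf 0x2579b1d6) (.leaf 0x7b3b3700e))))) (.node (.node (.node (.node (.leaf 0xee2591002) (.leaf 0x3e5f5700e)) (.node (.leaf 0x8a0ab062) (.leaf 0x27bb49030))) (.node (.node (.leaf 0x2fa99b05c) (.leaf 0x1f1929010)) (.node (.leaf 0x8a1c2b084) (.leaf 0x1b19901a)))) (.node (.node (.node (.leaf 0x4e6763004) (.leaf 0x4cff0b0d6))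 (.node (.leaf 0x12b5cb01c) (.leaf 0x72c4e7034))) (.node (.node (.leaf 0x3957ab0ea) (.leaf 0x14e29b114)) (.node (.leaf 0x2817d9014) (.leaf 0xd3eb905c)))))))) (.node (.node (.node (.node (.node (.node (.node (.leaf 0x5ea79024) (.leaf 0x1e24eb10c)) (.node (.leaf 0x49e0b09c) (.leaf 0x16f71700e))) (.node (.node (.leaf 0x1b83a9046) (.leaf 0x602fcb10c)) (.node (.leaf 0x39710b184) (.leaf 0x58b57b00a)))) (.node (.node (.node (.leaf 0xe618b0c0) (.leaf 0xf6e27b090)) (.node (.leaf 0x6edc6905a) (.leaf 0x15d9e700e))) (.node (.node (.leaf 0x64e9b194) (.leaf 0x26b3db08a)) (.node (.leaf 0x3f7b3905c) (.leaf 0x320bc3000))))) (.node (.node (.node (.node (.leaf 0x2e7d9905a) (.leaf 0x6ad59b0d6)) (.node (.leaf 0x1177704e) (.leaf 0x3d897034))) (.node (.node (.leaf 0x62c9082) (.leaf 0x1c46fb0c0)) (.node (.leaf 0x161c29026) (.leaf 0x2b2a7b062)))) (.node (.node (.node (.leaf 0x1f91a7010) (.leaf 0x40f75900e)) (.node (.leaf 0x429737030) (.leaf 0x432a03000)))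 (.node (.node (.leaf 0x5ff52b002) (.leaf 0xc829b194)) (.node (.leaf 0x17f05b09a) (.leaf 0xa5184b044)))))) (.node (.node (.node (.node (.node (.leaf 0x235bcb0fc) (.leaf 0x117719030)) (.node (.leaf 0x25211b06a) (.leaf 0x81cfb184))) (.node (.node (.leaf 0x6e0ccb08a) (.leaf 0x2d17b300a)) (.node (.leaf 0x133fc904e) (.leaf 0x63d2e5006)))) (.node (.node (.node (.leaf 0xbb9b9026) (.leaf 0x68b537042)) (.node (.leaf 0x247c8900e) (.leaf 0x87eff90c6))) (.node (.node (.leaf 0x1a6b4900e) (.leaf 0x28cce901a)) (.node (.leaf 0xa50db1d6) (.leaf 0x778a1b086))))) (.node (.node (.node (.node (.leaf 0x2252c9030) (.leaf 0x91ce29016)) (.node (.leaf 0x6b2afb086) (.leaf 0x5373900c))) (.node (.node (.leaf 0x4644d9042) (.leaf 0x94d7006)) (.node (.leaf 0xdb99905c) (.leaf 0x50b859004)))) (.node (.node (.node (.leaf 0x8ca4b0fc) (.leaf 0x2aee905c)) (.node (.leaf 0x2072b9030) (.leaf 0x6709ab194))) (.node (.node (.leaf 0x13f96eb184) (.leaf 0x37feeb024))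 (.node (.leaf 0x61b979016) (.leaf 0x3aabe704e))))))) (.node (.node (.node (.node (.node (.node (.leaf 0x1baccb00c) (.leaf 0x96d30b1fe)) (.node (.leaf 0x5abc9016) (.leaf 0x20f49905c))) (.node (.node (.leaf 0x90915b090) (.leaf 0x6c89b086)) (.node (.leaf 0x40c8b09c) (.leaf 0xbfe8b00c)))) (.node (.node (.node (.leaf 0xeea9014) (.leaf 0x192c05014)) (.node (.leaf 0x6e63fb05a) (.leaf 0x722a27014))) (.node (.node (.leaf 0x584f2b00a) (.leaf 0xc449b086)) (.node (.leaf 0x4e975b05a) (.leaf 0x643a39044))))) (.node (.node (.node (.node (.leaf 0xd7b8b1d6) (.leaf 0xb307024)) (.node (.leaf 0x1ed5904e) (.leaf 0x2be0cb194))) (.node (.node (.leaf 0x1510eb144) (.leaf 0x1f709b09a)) (.node (.leaf 0x3e3690c6) (.leaf 0x2715e9044)))) (.node (.node (.node (.leaf 0x94e900c) (.leaf 0xcc5ab062)) (.node (.leaf 0x5d92d7000) (.leaf 0x17b9eb01c))) (.node (.node (.leaf 0x9ecb3b090) (.leaf 0x15d659000)) (.node (.leaf 0x610ab062) (.leaf 0x6e56db08a))))))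 (.node (.node (.node (.node (.node (.leaf 0x19c745000) (.leaf 0x4eed83000)) (.node (.leaf 0x249e0b056) (.leaf 0xb170b144))) (.node (.node (.leaf 0xc229024) (.leaf 0x2620905c)) (.node (.leaf 0x712737004) (.leaf 0x140f1b044)))) (.node (.node (.node (.leaf 0x37365b0c6) (.leaf 0x260c3905a)) (.node (.leaf 0x1b354b144) (.leaf 0x3d36900a))) (.node (.node (.leaf 0x1c47fb0c0) (.leaf 0x3d2e3b086)) (.node (.leaf 0x78d407002) (.leaf 0x40e5db056))))) (.node (.node (.node (.node (.leaf 0x26bfe905a) (.leaf 0x25f3fb014)) (.node (.leaf 0x471dd904e) (.leaf 0x9921b084))) (.node (.node (.leaf 0x16a43d9030) (.leaf 0x3df23b0ea)) (.node (.leaf 0x71e197042) (.leaf 0x486507026)))) (.node (.node (.node (.leaf 0xfb5cb01c) (.leaf 0x2690ab05a)) (.node (.leaf 0x21137704e) (.leaf 0x335989016))) (.node (.node (.leaf 0x2868b7024) (.leaf 0x3f6dcb1d6)) (.node (.leaf 0x15f96b00c) (.leaf 0x2ffd99036))))))))) (.node (.node (.node (.node (.node (.node (.node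 (.node (.leaf 0x2ab127020) (.leaf 0x39b187014)) (.node (.leaf 0x28045b086) (.leaf 0x48ec3700e))) (.node (.node (.leaf 0x7903b064) (.leaf 0x4501b09c)) (.node (.leaf 0x135d3900c) (.leaf 0xeea581000)))) (.node (.node (.node (.leaf 0x37a12b0d6) (.leaf 0x6841c900a)) (.node (.leaf 0x30a4eb01c) (.leaf 0x2ab34b09a))) (.node (.node (.leaf 0x3997b194) (.leaf 0xda55ab00a)) (.node (.leaf 0x773937024) (.leaf 0x6cf08b05a))))) (.node (.node (.node (.node (.leaf 0x43d43b08a) (.leaf 0x2776a905c)) (.node (.leaf 0x135379024) (.leaf 0xd0899030))) (.node (.node (.leaf 0x6098b900e) (.leaf 0x4e7983004)) (.node (.leaf 0x971901a) (.leaf 0x1aef1b05c)))) (.node (.node (.node (.leaf 0x2cffb9044) (.leaf 0x81a25b1d6)) (.node (.leaf 0x38e949024) (.leaf 0x3797eb024))) (.node (.node (.leaf 0x1430901c) (.leaf 0x9e49b084)) (.node (.leaf 0xb9a6b000) (.leaf 0x2df3eb05a)))))) (.node (.node (.node (.node (.node (.leaf 0x254edb000) (.leaf 0x178bdb050)) (.node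 (.leaf 0x688e904e) (.leaf 0x16bc0b042))) (.node (.node (.leaf 0xc35b9082) (.leaf 0x29b81b0a2)) (.node (.leaf 0xd9a6b05c) (.leaf 0x2e839b08a)))) (.node (.node (.node (.leaf 0x19e87024) (.leaf 0x2e4d3b05a)) (.node (.leaf 0x84d2901a) (.leaf 0x5816704e))) (.node (.node (.leaf 0x7ee709010) (.leaf 0x5f57ab01c)) (.node (.leaf 0x1a7b19036) (.leaf 0x35cf8b14e))))) (.node (.node (.node (.node (.leaf 0x1e1e9014) (.leaf 0x662967024)) (.node (.leaf 0x878e904e) (.leaf 0x103dbb06a))) (.node (.node (.leaf 0x63d2901a) (.leaf 0x2e7473002)) (.node (.leaf 0xfa5ab042) (.leaf 0x2195e9014)))) (.node (.node (.node (.leaf 0x2eaa13002) (.leaf 0x1efef9044)) (.node (.leaf 0x46d80900a) (.leaf 0x26014300e))) (.node (.node (.leaf 0xcb574b2dc) (.leaf 0x9176b09c)) (.node (.leaf 0xc7ca9016) (.leaf 0x28056b062))))))) (.node (.node (.node (.node (.node (.node (.leaf 0x6bf19014) (.leaf 0x2c882b05c)) (.node (.leaf 0x16fefb000) (.leaf 0x97ca77034))) (.node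 (.node (.leaf 0x34f7b0ea) (.leaf 0x1371f7004)) (.node (.leaf 0x300677020) (.leaf 0x1ab3cb1fe)))) (.node (.node (.node (.leaf 0x10cfcb042) (.leaf 0x6747c9004)) (.node (.leaf 0x2dc7f905a) (.leaf 0x19f395010))) (.node (.node (.leaf 0x134097042) (.leaf 0x63704e)) (.node (.leaf 0x20c599030) (.leaf 0x29d34b0a2))))) (.node (.node (.node (.node (.leaf 0x21e92900c) (.leaf 0x1dd49082)) (.node (.leaf 0x2d9a2905a) (.leaf 0x50f47b0ea))) (.node (.node (.leaf 0x972bb9004) (.leaf 0x25229044)) (.node (.leaf 0x4bc27b024) (.leaf 0x24f45b05c)))) (.node (.node (.node (.leaf 0x260b5905a) (.leaf 0xaeafb9000)) (.node (.leaf 0x19216b0cc) (.leaf 0xf78ea904e))) (.node (.node (.leaf 0x8ddcc900e) (.leaf 0x5340eb050)) (.node (.leaf 0x20736b05c) (.leaf 0x272bfb10c)))))) (.node (.node (.node (.node (.node (.leaf 0x1bdcab000) (.leaf 0x2392b1fe)) (.node (.leaf 0xab169044) (.leaf 0xec6d29044))) (.node (.node (.leaf 0xb4e4b014) (.leaf 0x1ed0d9044)) (.node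 (.leaf 0x210859016) (.leaf 0x43326b08a)))) (.node (.node (.node (.leaf 0xe448b0c0) (.leaf 0x1bb87042)) (.node (.leaf 0x5220904e) (.leaf 0x64071905c))) (.node (.node (.leaf 0x7743e9016) (.leaf 0x18364b024)) (.node (.leaf 0x102af6704e) (.leaf 0xc68f7024))))) (.node (.node (.node (.node (.leaf 0x11aef905c) (.leaf 0x85c5bb056)) (.node (.leaf 0x2fc4c900e) (.leaf 0x3d0919004))) (.node (.node (.leaf 0x230a99014) (.leaf 0x2de1a905a)) (.node (.leaf 0x7b51c9026) (.leaf 0x8e417004)))) (.node (.node (.node (.leaf 0xbb4b7026) (.leaf 0xf974b002)) (.node (.leaf 0x1592a7030) (.leaf 0x3537b086))) (.node (.node (.leaf 0x65417004) (.leaf 0xfed9b000)) (.node (.leaf 0x2f2239036) (.leaf 0x6981b9026)))))))) (.node (.node (.node (.node (.node (.node (.node (.leaf 0x1e036b05c) (.leaf 0x27c9db1d6)) (.node (.leaf 0x78533500e) (.leaf 0xc982901a))) (.node (.node (.leaf 0xd98b8b002) (.leaf 0xabe6b1fe)) (.node (.leaf 0x262303006) (.leaf 0x32f76b08a))))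 (.node (.node (.node (.leaf 0x11621905c) (.leaf 0x1bf2900c)) (.node (.leaf 0x43afbb08a) (.leaf 0x261093006))) (.node (.node (.leaf 0x23c6f9082) (.leaf 0x96f12b056)) (.node (.leaf 0x2bdbb05c) (.leaf 0x8f4b9082))))) (.node (.node (.node (.node (.leaf 0x21849044) (.leaf 0xbf8ab06a)) (.node (.leaf 0x558d5b0c0) (.leaf 0x2ed3f905a))) (.node (.node (.leaf 0x11a62b10c) (.leaf 0xcb9e904e)) (.node (.leaf 0x2e7bbb05a) (.leaf 0x706e29044)))) (.node (.node (.node (.leaf 0x38aa0900c) (.leaf 0x58d904e)) (.node (.leaf 0x8e9a9016) (.leaf 0x3fb5b184))) (.node (.node (.leaf 0x1e4599030) (.leaf 0x2166e7004)) (.node (.leaf 0x1f322b002) (.leaf 0x61198b086)))))) (.node (.node (.node (.node (.node (.leaf 0x998eb5004) (.leaf 0x56ecf7042)) (.node (.leaf 0x190e7b0cc) (.leaf 0x659a9016))) (.node (.node (.leaf 0x4770e9024) (.leaf 0x49ede9014)) (.node (.leaf 0x249059036) (.leaf 0x663d07004)))) (.node (.node (.node (.leaf 0x2c34d9030) (.leaf 0x3ffb19044))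 (.node (.leaf 0x463d0704e) (.leaf 0x4e2f93004))) (.node (.node (.leaf 0x165b5b014) (.leaf 0x2618a300a)) (.node (.leaf 0xb338d7024) (.leaf 0x2b63a7024))))) (.node (.node (.node (.node (.leaf 0x34129b084) (.leaf 0x5770700a)) (.node (.leaf 0x66e609014) (.leaf 0x219597006))) (.node (.node (.leaf 0xd73f9044) (.leaf 0x604b9082)) (.node (.leaf 0x19869024) (.leaf 0x40eedb1fe)))) (.node (.node (.node (.leaf 0x15a099026) (.leaf 0x12a5ab042)) (.node (.leaf 0x2df10b08a) (.leaf 0x13781901c))) (.node (.node (.leaf 0x7fdb3b044) (.leaf 0x16ee7004)) (.node (.leaf 0x2e451b08a) (.leaf 0x2207c905c))))))) (.node (.node (.node (.node (.node (.node (.leaf 0x48ad47000) (.leaf 0x18da2b0c6)) (.node (.leaf 0x69d369046) (.leaf 0x1c0ceb0c0))) (.node (.node (.leaf 0x25c98b002) (.leaf 0x5036cb062)) (.node (.leaf 0x166127026) (.leaf 0x211f4901c)))) (.node (.node (.node (.leaf 0x172257030) (.leaf 0x1f26a9000)) (.node (.leaf 0x136af9014) (.leaf 0x88df7024)))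 (.node (.node (.leaf 0x74bb0b144) (.leaf 0x29de4b0a2)) (.node (.leaf 0x35570b0c0) (.leaf 0xab0fb05c))))) (.node (.node (.node (.node (.leaf 0x4b4bcb0c6) (.leaf 0x3388c904e)) (.node (.leaf 0x35130b2dc) (.leaf 0x3fd4b062))) (.node (.node (.leaf 0x38c519006) (.leaf 0x2dd93b05a)) (.node (.leaf 0xbdd700a) (.leaf 0x16157006)))) (.node (.node (.node (.leaf 0x171b6b002) (.leaf 0x5251c9010)) (.node (.leaf 0x8c468b090) (.leaf 0x4ab9b09c))) (.node (.node (.leaf 0x28325b194) (.leaf 0xce817004)) (.node (.leaf 0x10291b014) (.leaf 0x23a737024)))))) (.node (.node (.node (.node (.node (.leaf 0x5ab6c700e) (.leaf 0x15e007020)) (.node (.leaf 0xc8319014) (.leaf 0x4549a7026))) (.node (.node (.leaf 0x53e47b042) (.leaf 0xd6dd9044)) (.node (.leaf 0x15dd97026) (.leaf 0x208ef9044)))) (.node (.node (.node (.leaf 0x27709030) (.leaf 0x56a4901a)) (.node (.leaf 0x30c41b09a) (.leaf 0x2423db10c))) (.node (.node (.leaf 0xe5fbeb000) (.leaf 0xa1e49030))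 (.node (.leaf 0x54140b114) (.leaf 0x196345004))))) (.node (.node (.node (.node (.leaf 0x19846b0cc) (.leaf 0x169d3b06a)) (.node (.leaf 0x521349000) (.leaf 0x266bc905a))) (.node (.node (.leaf 0x139597024) (.leaf 0x1b119016)) (.node (.leaf 0x1cdf7b14e) (.leaf 0xa7c69b000)))) (.node (.node (.node (.leaf 0x39b1b90c6) (.leaf 0x42c487000)) (.node (.leaf 0x12974b002) (.leaf 0x5f6b37020))) (.node (.node (.leaf 0x2b9379016) (.leaf 0x1f0b1b050)) (.node (.leaf 0xb3d9b042) (.leaf 0x9bd3b036)))))))))) (.node (.node (.node (.node (.node (.node (.node (.node (.node (.leaf 0x8b799042) (.leaf 0x18291b024)) (.node (.leaf 0x3203c905a) (.leaf 0x71818b062))) (.node (.node (.leaf 0x359f9014) (.leaf 0x231619024)) (.node (.leaf 0xc4df7042) (.leaf 0xf8c49010)))) (.node (.node (.node (.leaf 0xf27c9000) (.leaf 0x47e5e9042)) (.node (.leaf 0x2e2b194) (.leaf 0x33f9fb194))) (.node (.node (.leaf 0x271c7b1d6) (.leaf 0x37579024)) (.node (.leaf 0x5e87b086)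 (.leaf 0x123df700e))))) (.node (.node (.node (.node (.leaf 0x16b4e7010) (.leaf 0x3be57024)) (.node (.leaf 0x615f5704e) (.leaf 0xd8bfb056))) (.node (.node (.leaf 0x4d7f1700e) (.leaf 0x23f6b7014)) (.node (.leaf 0x2b0cc9024) (.leaf 0x178c7034)))) (.node (.node (.node (.leaf 0x618a590c6) (.leaf 0x16a9db09a)) (.node (.leaf 0x354f5b14e) (.leaf 0x9bb6a7004))) (.node (.node (.leaf 0x2950db0a2) (.leaf 0x33ba6b0fc)) (.node (.leaf 0xa9a2d7006) (.leaf 0x6e0be3004)))))) (.node (.node (.node (.node (.node (.leaf 0x8775e9024) (.leaf 0x221a900e)) (.node (.leaf 0x1981c502a) (.leaf 0x50b5f7004))) (.node (.node (.leaf 0x6a65900c) (.leaf 0x29c60b0a2)) (.node (.leaf 0x1b21b7010) (.leaf 0x136ad7034)))) (.node (.node (.node (.leaf 0x3b0259026) (.leaf 0x32884905a)) (.node (.leaf 0x2b9a2901c) (.leaf 0x43482300a))) (.node (.node (.leaf 0xa72db700e) (.leaf 0x18f5fb0c6)) (.node (.leaf 0x2979db0a2) (.leaf 0x45dd67010))))) (.node (.node (.node (.node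 (.leaf 0x1054f7020) (.leaf 0x30d3900c)) (.node (.leaf 0x5747b0ea) (.leaf 0xea1db14e))) (.node (.node (.leaf 0xbfbb0fc) (.leaf 0xa0e0a7020)) (.node (.leaf 0x20247900e) (.leaf 0x1a86a9044)))) (.node (.node (.node (.leaf 0x4a05bb01c) (.leaf 0x844e7006)) (.node (.leaf 0x232fb901c) (.leaf 0x2b6727014))) (.node (.node (.leaf 0x24c8c9030) (.leaf 0x12f299046)) (.node (.leaf 0x4bc0b036) (.leaf 0x80990b00c))))))) (.node (.node (.node (.node (.node (.node (.leaf 0x265033004) (.leaf 0xcc77ab0fc)) (.node (.leaf 0xc8e5900c) (.leaf 0x5ff6d700e))) (.node (.node (.leaf 0x23d249006) (.leaf 0xaa6e900e)) (.node (.leaf 0x84079004) (.leaf 0x3eda27010)))) (.node (.node (.node (.leaf 0x590167004) (.leaf 0x116790c6)) (.node (.leaf 0x172c317042) (.leaf 0x2b79b7006))) (.node (.node (.leaf 0x215379006) (.leaf 0x7e1e9b06a)) (.node (.leaf 0x25a2b056) (.leaf 0x5f10e9026))))) (.node (.node (.node (.node (.leaf 0x19a16b0a6) (.leaf 0x32987006)) (.node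 (.leaf 0x5767b194) (.leaf 0x8f537034))) (.node (.node (.leaf 0x402b086) (.leaf 0x21ac69042)) (.node (.leaf 0x3c1e1b056) (.leaf 0xfaf47000)))) (.node (.node (.node (.leaf 0x656c9006) (.leaf 0x2e8313004)) (.node (.leaf 0x104d645042) (.leaf 0x30c19082))) (.node (.node (.leaf 0x5884b5006) (.leaf 0x4212bb014)) (.node (.leaf 0x71792b0fc) (.leaf 0x9320b084)))))) (.node (.node (.node (.node (.node (.leaf 0x67fb5901a) (.leaf 0xeb65c9016)) (.node (.leaf 0x538eb0fc) (.leaf 0x133969006))) (.node (.node (.leaf 0x30935b144) (.leaf 0xac2b0ea)) (.node (.leaf 0x2604b056) (.leaf 0x3593db2dc)))) (.node (.node (.node (.leaf 0x599ca900c) (.leaf 0xe4318b044)) (.node (.leaf 0x23e427006) (.leaf 0xd8e69036))) (.node (.node (.leaf 0x1a3c3b05c) (.leaf 0xfdd7b00c)) (.node (.leaf 0x118a0b05c) (.leaf 0x3fb31b056))))) (.node (.node (.node (.node (.leaf 0xd535900e) (.leaf 0x2f0c0905c)) (.node (.leaf 0x42630b01c) (.leaf 0x17a127026))) (.node (.node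 (.leaf 0x36dbab044) (.leaf 0x13c679042)) (.node (.leaf 0x2d2d73000) (.leaf 0x1772fb000)))) (.node (.node (.node (.leaf 0x109e67010) (.leaf 0x2ea3ab08a)) (.node (.leaf 0x1267900a) (.leaf 0x28aa8704e))) (.node (.node (.leaf 0x1e147900e) (.leaf 0x164c69010)) (.node (.leaf 0x1723217024) (.leaf 0x1c83fb2dc)))))))) (.node (.node (.node (.node (.node (.node (.node (.leaf 0x65299024) (.leaf 0x32775905a)) (.node (.leaf 0x6e358b05a) (.leaf 0x1732db014))) (.node (.node (.leaf 0x2deb7b08a) (.leaf 0x218647014)) (.node (.leaf 0x20de5900e) (.leaf 0x1b800b09a)))) (.node (.node (.node (.leaf 0x14777b114) (.leaf 0x6dd927004)) (.node (.leaf 0x19bfb9002) (.leaf 0x1ed8db056))) (.node (.node (.leaf 0x131819004) (.leaf 0x10a7e9010)) (.node (.leaf 0xac96b056) (.leaf 0x386d901c))))) (.node (.node (.node (.node (.leaf 0x3029f9046) (.leaf 0x62e81b044)) (.node (.leaf 0x195da9002) (.leaf 0x426d3b09a))) (.node (.node (.leaf 0x2b9a8900c) (.leaf 0xff299046))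 (.node (.leaf 0x7015b9036) (.leaf 0xee7b01002)))) (.node (.node (.node (.leaf 0x6ba7e704e) (.leaf 0x2c313900e)) (.node (.leaf 0x5164cb2dc) (.leaf 0x11575b1fe))) (.node (.node (.leaf 0x5d81bb042) (.leaf 0x2abc900e)) (.node (.leaf 0x331b9b184) (.leaf 0xc60b184)))))) (.node (.node (.node (.node (.node (.leaf 0x63079004) (.leaf 0x128c49010)) (.node (.leaf 0x3a9ae900a) (.leaf 0x68f119014))) (.node (.node (.leaf 0xb1d7b01c) (.leaf 0x5c6cb062)) (.node (.leaf 0x198e7b0a6) (.leaf 0x8dcc0905c)))) (.node (.node (.node (.leaf 0x1a6dab1fe) (.leaf 0x1ce07014)) (.node (.leaf 0x97189b086) (.leaf 0xa6a8b056))) (.node (.node (.leaf 0x1227c9000) (.leaf 0x3aaf7004)) (.node (.leaf 0x828f7042) (.leaf 0x59a987042))))) (.node (.node (.node (.node (.leaf 0x26cc9b05a) (.leaf 0x133517014)) (.node (.leaf 0x6107901c) (.leaf 0x3fb89900e))) (.node (.node (.leaf 0x1990a9002) (.leaf 0x25f187000)) (.node (.leaf 0x73706b114) (.leaf 0x4e17b084)))) (.node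 (.node (.node (.leaf 0x9b13c7042) (.leaf 0x24b83b05c)) (.node (.leaf 0x60537034) (.leaf 0x2a1b8700e))) (.node (.node (.leaf 0x6c1bcb08a) (.leaf 0x23cfb9004)) (.node (.leaf 0x1524bb042) (.leaf 0x16309004))))))) (.node (.node (.node (.node (.node (.node (.leaf 0x37fb4b0c6) (.leaf 0xc1e99024)) (.node (.leaf 0x1e5e5900e) (.leaf 0x2046fb056))) (.node (.node (.leaf 0x12dd7b00c) (.leaf 0x17d69042)) (.node (.leaf 0x13f8690c6) (.leaf 0x173977b000)))) (.node (.node (.node (.leaf 0x515db184) (.leaf 0x2cb7bb056)) (.node (.leaf 0x232719042) (.leaf 0x3cf57042))) (.node (.node (.leaf 0x87a817006) (.leaf 0x10df6b01c)) (.node (.leaf 0xd597900e) (.leaf 0x157b2b050))))) (.node (.node (.node (.node (.leaf 0x32f25300e) (.leaf 0x2b36a7042)) (.node (.leaf 0xa110900e) (.leaf 0x43708905a))) (.node (.node (.leaf 0x39049016) (.leaf 0x26b353000)) (.node (.leaf 0x1ee769036) (.leaf 0x46a3e904e)))) (.node (.node (.node (.leaf 0xbf3e7020) (.leaf 0x227fdb10c))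 (.node (.leaf 0x3a0e97014) (.leaf 0x6c799042))) (.node (.node (.leaf 0x492b79006) (.leaf 0x13886900a)) (.node (.leaf 0x53912b00c) (.leaf 0x32694300e)))))) (.node (.node (.node (.node (.node (.leaf 0x2cb61b056) (.leaf 0x5cbd4b2dc)) (.node (.leaf 0x406099030) (.leaf 0xbcd88b06a))) (.node (.node (.leaf 0x4fefb084) (.leaf 0x2058db056)) (.node (.leaf 0x339bfb086) (.leaf 0x8165900c)))) (.node (.node (.node (.leaf 0xab44eb09c) (.leaf 0x2176790c6)) (.node (.leaf 0x2eb083004) (.leaf 0x535117010))) (.node (.node (.leaf 0x2d59a3000) (.leaf 0x634e7006)) (.node (.leaf 0xc5579004) (.leaf 0x2f849b1d6))))) (.node (.node (.node (.node (.leaf 0x12af47000) (.leaf 0x74f54b050)) (.node (.leaf 0x2a5e0b00c) (.leaf 0xcb57901c))) (.node (.node (.leaf 0x93acc905a) (.leaf 0xe095b0c0)) (.node (.leaf 0x15779006) (.leaf 0x11f48b10c)))) (.node (.node (.node (.leaf 0x43920905a) (.leaf 0x19046b0a6)) (.node (.leaf 0x5308ab144) (.leaf 0x4fa8b036))) (.node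 (.node (.leaf 0x91d20704e) (.leaf 0xb9b062)) (.node (.leaf 0xe7d5b2dc) (.leaf 0x21067900a))))))))) (.node (.node (.node (.node (.node (.node (.node (.node (.leaf 0x22488900e) (.leaf 0x16625b050)) (.node (.leaf 0xb395fb086) (.leaf 0x2f41b10c))) (.node (.node (.leaf 0x31222b0c6) (.leaf 0x6b0c09016)) (.node (.leaf 0x276579036) (.leaf 0x4e38fb05a)))) (.node (.node (.node (.leaf 0x2f8749044) (.leaf 0x5546900a)) (.node (.leaf 0x1789f9046) (.leaf 0x268c63000))) (.node (.node (.leaf 0x47feeb086) (.leaf 0x305efb000)) (.node (.leaf 0x3327e900a) (.leaf 0x210b6b086))))) (.node (.node (.node (.node (.leaf 0x13657b0ea) (.leaf 0xa4ddb05c)) (.node (.leaf 0x3860b904e) (.leaf 0x11abd900e))) (.node (.node (.leaf 0x10b897030) (.leaf 0x92d8b084)) (.node (.leaf 0x492ab084) (.leaf 0x3708700a)))) (.node (.node (.node (.leaf 0x3b812700e) (.leaf 0x1e7c0b10c)) (.node (.leaf 0x1bca37000) (.leaf 0x3ec929000))) (.node (.node (.leaf 0x4977fb0fc) (.leaf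 0x42cfbb050)) (.node (.leaf 0x1cf8b184) (.leaf 0x5d732b014)))))) (.node (.node (.node (.node (.node (.leaf 0x10023fb0ea) (.leaf 0x3d5189016)) (.node (.leaf 0x12c417020) (.leaf 0x19305500e))) (.node (.node (.leaf 0x747037010) (.leaf 0x324063002)) (.node (.leaf 0xcabc90c6) (.leaf 0x26f23b08a)))) (.node (.node (.node (.leaf 0x2bb4b700a) (.leaf 0xa287014)) (.node (.leaf 0x897c900a) (.leaf 0x2aaeeb06a))) (.node (.node (.leaf 0x19924500e) (.leaf 0x19cac59042)) (.node (.leaf 0x113ca9036) (.leaf 0xf76b7030))))) (.node (.node (.node (.node (.leaf 0xb7ffb002) (.leaf 0x40333905c)) (.node (.leaf 0x6f9e700a) (.leaf 0x484e7b050))) (.node (.node (.leaf 0xba7cb700e) (.leaf 0x968a2b1fe)) (.node (.leaf 0x2e1483000) (.leaf 0x25e99036)))) (.node (.node (.node (.leaf 0x2d775b05a) (.leaf 0xdea2db10c)) (.node (.leaf 0x564690c6) (.leaf 0x80d01b042))) (.node (.node (.leaf 0x28cfa7006) (.leaf 0x2ddbf3004)) (.node (.leaf 0x6b89004) (.leaf 0xd328b05c)))))))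 (.node (.node (.node (.node (.node (.node (.leaf 0xb2a86905c) (.leaf 0x5ac7b9010)) (.node (.leaf 0xa6dfb1d6) (.leaf 0x2ca91b1fe))) (.node (.node (.leaf 0x4b4b5b0c6) (.leaf 0x47d27b0fc)) (.node (.leaf 0x433c6905a) (.leaf 0x8e8387002)))) (.node (.node (.node (.leaf 0x338e17014) (.leaf 0x3d5ec7006)) (.node (.leaf 0x9c2eb036) (.leaf 0xca1c8b2dc))) (.node (.node (.leaf 0x64e4a9036) (.leaf 0x7dd08300e)) (.node (.leaf 0x1500ab09a) (.leaf 0xcaac704e))))) (.node (.node (.node (.node (.leaf 0xa59d9036) (.leaf 0x571ce700e)) (.node (.leaf 0x3c411b1fe) (.leaf 0x22430b056))) (.node (.node (.leaf 0x505a4901a) (.leaf 0x627c900a)) (.node (.leaf 0x1a2269030) (.leaf 0x3de197024)))) (.node (.node (.node (.leaf 0xd9689036) (.leaf 0x34b28b084)) (.node (.leaf 0x13c49b184) (.leaf 0x4a938b050))) (.node (.node (.leaf 0x264deb08a) (.leaf 0xd936b1d6)) (.node (.leaf 0x3329042) (.leaf 0x29d98b0a2)))))) (.node (.node (.node (.node (.node (.leaf 0x4639006)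 (.leaf 0x260bb1d6)) (.node (.leaf 0x1e93db1fe) (.leaf 0xa4286b17a))) (.node (.node (.leaf 0x930acb08a) (.leaf 0x11605b056)) (.node (.leaf 0x1381b062) (.leaf 0x29725b0a2)))) (.node (.node (.node (.leaf 0x2d614b05a) (.leaf 0x1fbee9026)) (.node (.leaf 0x243d5b1d6) (.leaf 0x195327002))) (.node (.node (.leaf 0x3abafb0ea) (.leaf 0x29248b0a2)) (.node (.leaf 0x6a145b024) (.leaf 0x127907026))))) (.node (.node (.node (.node (.leaf 0x18b68b0d6) (.leaf 0x16bbd7030)) (.node (.leaf 0x706cbb1d6) (.leaf 0x288b59042))) (.node (.node (.leaf 0x3e71a7000) (.leaf 0x3a26fb086)) (.node (.leaf 0x475ceb194) (.leaf 0x20fc0b10c)))) (.node (.node (.node (.leaf 0x43f9b905a) (.leaf 0x22096b056)) (.node (.leaf 0x250847026) (.leaf 0x7984b114))) (.node (.node (.leaf 0x809e700a) (.leaf 0x3e58904e)) (.node (.leaf 0x1b423b002) (.leaf 0x54a17034)))))))) (.node (.node (.node (.node (.node (.node (.node (.leaf 0x2a7dab000) (.leaf 0x4ebb6905a)) (.node (.leaf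 0x3466704e) (.leaf 0x39c407024))) (.node (.node (.leaf 0xfc417020) (.leaf 0x9f9349046)) (.node (.leaf 0x4619b036) (.leaf 0x13268b062)))) (.node (.node (.node (.leaf 0x19dd85006) (.leaf 0x1121b900e)) (.node (.leaf 0x1276b7030) (.leaf 0x2c1e4b10c))) (.node (.node (.leaf 0x4237db000) (.leaf 0x616c704e)) (.node (.leaf 0xa87ed7002) (.leaf 0x63dc1b090))))) (.node (.node (.node (.node (.leaf 0x5cc4cb14e) (.leaf 0x581825000)) (.node (.leaf 0x638bfb00a) (.leaf 0x285539004))) (.node (.node (.leaf 0x24f9c905c) (.leaf 0x2272e900e)) (.node (.leaf 0x3ed417030) (.leaf 0x3d0bf900c)))) (.node (.node (.node (.leaf 0x10b169000) (.leaf 0x66bf5900a)) (.node (.leaf 0x78274b0cc) (.leaf 0x50016704e))) (.node (.node (.leaf 0x1affb0fc) (.leaf 0x243bbb10c)) (.node (.leaf 0x55b79042) (.leaf 0x1bfb8b050)))))) (.node (.node (.node (.node (.node (.leaf 0x5c169006) (.leaf 0xa975b10c)) (.node (.leaf 0x15f45b01c) (.leaf 0x27426900e))) (.node (.node (.leaf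 0x2d4da3004) (.leaf 0x588b97002)) (.node (.leaf 0x18941b024) (.leaf 0x1cb8eb2dc)))) (.node (.node (.node (.leaf 0x28a9b05c) (.leaf 0xde50b10c)) (.node (.leaf 0x4ea9e905a) (.leaf 0x203a6b1d6))) (.node (.node (.leaf 0x1c46b194) (.leaf 0x3251ab05a)) (.node (.leaf 0x80eecb014) (.leaf 0x175f9700e))))) (.node (.node (.node (.node (.leaf 0x820c45010) (.leaf 0x2650bb08a)) (.node (.leaf 0x3356e9006) (.leaf 0x2bf59704e))) (.node (.node (.leaf 0x7d1c1905a) (.leaf 0x7141d7034)) (.node (.leaf 0x26f2b3000) (.leaf 0x230d2700a)))) (.node (.node (.node (.leaf 0x380a79016) (.leaf 0x98b997014)) (.node (.leaf 0x672f47042) (.leaf 0x76e53b08a))) (.node (.node (.leaf 0x4ec3b905a) (.leaf 0x9247034)) (.node (.leaf 0x12f409026) (.leaf 0x15422b014))))))) (.node (.node (.node (.node (.node (.node (.leaf 0x3f50eb1d6) (.leaf 0x430c9b08a)) (.node (.leaf 0x1673e9000) (.leaf 0x6100b7006))) (.node (.node (.leaf 0x21cefb0fc) (.leaf 0x9b4bd901a)) (.node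 (.leaf 0xf7907026) (.leaf 0x3b91ab00c)))) (.node (.node (.node (.leaf 0x26526b08a) (.leaf 0x16676b002)) (.node (.leaf 0x14346b064) (.leaf 0xa1d5ab042))) (.node (.node (.leaf 0x134f7b194) (.leaf 0x360f9b064)) (.node (.leaf 0x898e49036) (.leaf 0x4dc7fb06a))))) (.node (.node (.node (.node (.leaf 0x23390c6) (.leaf 0x28b53901c)) (.node (.leaf 0x29948b0a2) (.leaf 0xdaedb1fe))) (.node (.node (.leaf 0x2c712b1d6) (.leaf 0x17a6b0ea)) (.node (.leaf 0x617c90c6) (.leaf 0x50120904e)))) (.node (.node (.node (.leaf 0x72f37b062) (.leaf 0xcc8e700a)) (.node (.leaf 0x7d49c3006) (.leaf 0x1ab76905c))) (.node (.node (.leaf 0xab013b036) (.leaf 0x5d41ab09a)) (.node (.leaf 0x21816b194) (.leaf 0xe20db14e)))))) (.node (.node (.node (.node (.node (.leaf 0x721cb044) (.leaf 0x10ece7000)) (.node (.leaf 0x584f49002) (.leaf 0x476a0b184))) (.node (.node (.leaf 0x1e66b086) (.leaf 0xcaa88b0c0)) (.node (.leaf 0x3b2397000) (.leaf 0x57157014)))) (.node (.node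 (.node (.leaf 0x1fd6b9046) (.leaf 0xac98b1fe)) (.node (.leaf 0x99f3b09c) (.leaf 0x6c482300e))) (.node (.node (.leaf 0x40119905c) (.leaf 0x1eca6b1d6)) (.node (.leaf 0x133900a) (.leaf 0x2e8ecb05a))))) (.node (.node (.node (.node (.leaf 0x37bacb0c6) (.leaf 0x361c901a)) (.node (.leaf 0x10d4eb002) (.leaf 0x54859004))) (.node (.node (.leaf 0x4e42b084) (.leaf 0xeebfc1000)) (.node (.leaf 0x5f16fb06a) (.leaf 0x1cb9eb2dc)))) (.node (.node (.node (.leaf 0x30a04b042) (.leaf 0x439413002)) (.node (.leaf 0x4caadb0d6) (.leaf 0x2574b1fe))) (.node (.node (.leaf 0x47e1b036) (.leaf 0x2d1acb05a)) (.node (.leaf 0x6b4677004) (.leaf 0x32fafb05a))))))))))) (.node (.node (.node (.node (.node (.node (.node (.node (.node (.node (.leaf 0x16fb3b0ea) (.leaf 0x4cb565000)) (.node (.leaf 0x6e009b05a) (.leaf 0x5777b7006))) (.node (.node (.leaf 0xc657b050) (.leaf 0xc0f0690c6)) (.node (.leaf 0x7fe59030) (.leaf 0x31409b0a6)))) (.node (.node (.node (.leaf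 0xb2e27004) (.leaf 0x28c297020)) (.node (.leaf 0x10bd9b184) (.leaf 0xf3237014))) (.node (.node (.leaf 0x28a789026) (.leaf 0xc215b000)) (.node (.leaf 0x362b06a) (.leaf 0x4350b905a))))) (.node (.node (.node (.node (.leaf 0x35dedb2dc) (.leaf 0x36e21b056)) (.node (.leaf 0x679db7026) (.leaf 0x1bc5eb194))) (.node (.node (.leaf 0xbf597006) (.leaf 0x1223b7042)) (.node (.leaf 0x1d33eb01e) (.leaf 0x15c37010)))) (.node (.node (.node (.leaf 0x3b60bb062) (.leaf 0x5f1de9006)) (.node (.leaf 0x43e3e905a) (.leaf 0xafb08704e))) (.node (.node (.leaf 0x18aa0b0a6) (.leaf 0xa37b2905c)) (.node (.leaf 0x1cd96b14e) (.leaf 0x297d2b0a2)))))) (.node (.node (.node (.node (.node (.leaf 0x1fb39b184) (.leaf 0x36ca7000)) (.node (.leaf 0x3271eb08a) (.leaf 0x187f0b0a6))) (.node (.node (.leaf 0xf23b7042) (.leaf 0x25f84704e)) (.node (.leaf 0x6fabeb1fe) (.leaf 0x41c969036)))) (.node (.node (.node (.leaf 0x18abdb0cc) (.leaf 0x5b4e45006)) (.node (.leaf 0x20f4eb044)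 (.leaf 0x437f3905a))) (.node (.node (.leaf 0x1bef7b0fc) (.leaf 0x2166b9010)) (.node (.leaf 0x4501b9042) (.leaf 0x43dafb05a))))) (.node (.node (.node (.node (.leaf 0x1a659b044) (.leaf 0x31c09b0cc)) (.node (.leaf 0x151247004) (.leaf 0x13e77b06a))) (.node (.node (.leaf 0x123237014) (.leaf 0x201b7b064)) (.node (.leaf 0x4b5bb09c) (.leaf 0xd785b064)))) (.node (.node (.node (.leaf 0x5143b000) (.leaf 0x3cc39b064)) (.node (.leaf 0xa775b044) (.leaf 0x10c8b09a))) (.node (.node (.leaf 0x2db08300e) (.leaf 0x30b4b7004)) (.node (.leaf 0x187edb0cc) (.leaf 0x6c7d8b05a))))))) (.node (.node (.node (.node (.node (.node (.leaf 0x66789000) (.leaf 0x1f06fb0ea)) (.node (.leaf 0x76e66b08a) (.leaf 0xb70a5b14e))) (.node (.node (.leaf 0x1520b904e) (.leaf 0x88ceb042)) (.node (.leaf 0x1e84eb044) (.leaf 0x768b014)))) (.node (.node (.node (.leaf 0x12bf3901c) (.leaf 0x182a0b0cc)) (.node (.leaf 0x974afb00c) (.leaf 0x1669ab0fc))) (.node (.node (.leaf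 0x4c9599002) (.leaf 0x14ac9b05c)) (.node (.leaf 0x2e5983004) (.leaf 0x1493b01c))))) (.node (.node (.node (.node (.leaf 0x8673b7000) (.leaf 0xb6afcb044)) (.node (.leaf 0x4b803b0a6) (.leaf 0x130b9010))) (.node (.node (.leaf 0xf91349026) (.leaf 0x1be7eb086)) (.node (.leaf 0x1fdafb086) (.leaf 0x46e147000)))) (.node (.node (.node (.leaf 0x22f35b114) (.leaf 0x1215d9042)) (.node (.leaf 0x4e589b08a) (.leaf 0x3dd669010))) (.node (.node (.leaf 0x42982904e) (.leaf 0x5bfae7002)) (.node (.leaf 0x138bcb042) (.leaf 0x12c0d9024)))))) (.node (.node (.node (.node (.node (.leaf 0x2d2a0905a) (.leaf 0xfc0d9024)) (.node (.leaf 0x373f67002) (.leaf 0x30dfd9082))) (.node (.node (.leaf 0x3be57030) (.leaf 0xf15d9042)) (.node (.leaf 0xb6a89082) (.leaf 0x2e7473000)))) (.node (.node (.node (.leaf 0xe255b2dc) (.leaf 0x5260b042)) (.node (.leaf 0xcdb0b002) (.leaf 0x146b889046))) (.node (.node (.leaf 0xea15b0c0) (.leaf 0x35d65b14e)) (.node (.leaf 0x4bb6b036)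 (.leaf 0x2ee52b08a))))) (.node (.node (.node (.node (.leaf 0x1968bb024) (.leaf 0x314dcb0a6)) (.node (.leaf 0x2a98eb086) (.leaf 0x73899044))) (.node (.node (.leaf 0x9cf6c9030) (.leaf 0xa40c6b17a)) (.node (.leaf 0xb174901c) (.leaf 0x4a0547034)))) (.node (.node (.node (.leaf 0x354ab002) (.leaf 0x3311fb06a)) (.node (.leaf 0xa6af0b056) (.leaf 0xfbf3901c))) (.node (.node (.leaf 0xcbba4b0c0) (.leaf 0x30069901c)) (.node (.leaf 0x66809010) (.leaf 0x17174b062)))))))) (.node (.node (.node (.node (.node (.node (.node (.leaf 0xb9fc7042) (.leaf 0x374b15006)) (.node (.leaf 0x6e659046) (.leaf 0x4c1cb084))) (.node (.node (.leaf 0x6e087010) (.leaf 0x9ba5b09c)) (.node (.leaf 0xb9129014) (.leaf 0x270b0b064)))) (.node (.node (.node (.leaf 0x12b8f7034) (.leaf 0x26ce53000)) (.node (.leaf 0x4c0f17002) (.leaf 0x7b8bf7024))) (.node (.node (.leaf 0x2ddab300a) (.leaf 0x396db050)) (.node (.leaf 0x2ec27b08a) (.leaf 0x57167026))))) (.node (.node (.node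 (.node (.leaf 0x3e4347006) (.leaf 0x212ab064)) (.node (.leaf 0x2c37cb114) (.leaf 0x43757b05a))) (.node (.node (.leaf 0x4feaeb0c0) (.leaf 0x6b03700e)) (.node (.leaf 0xfada7006) (.leaf 0x25be6700a)))) (.node (.node (.node (.leaf 0x662967030) (.leaf 0x30e3b9014)) (.node (.leaf 0x1de66b01e) (.leaf 0x2977eb0a2))) (.node (.node (.leaf 0xf637026) (.leaf 0x4d2059004)) (.node (.leaf 0x177dab0fc) (.leaf 0xadbdb114)))))) (.node (.node (.node (.node (.node (.leaf 0x45b8a90c6) (.leaf 0x55398b2dc)) (.node (.leaf 0x6fb07000) (.leaf 0x8b07b050))) (.node (.node (.leaf 0x7b6bb1fe) (.leaf 0x1592a7024)) (.node (.leaf 0x356adb0c0) (.leaf 0x8795b000)))) (.node (.node (.node (.leaf 0x2d9443006) (.leaf 0x4837e700a)) (.node (.leaf 0x37120500a) (.leaf 0x491c37010))) (.node (.node (.leaf 0x56e7b06a) (.leaf 0x4c3217002)) (.node (.leaf 0x10382b0fc) (.leaf 0x17213b194))))) (.node (.node (.node (.node (.leaf 0x39c407030) (.leaf 0x16eacb062)) (.node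 (.leaf 0xd3eb000) (.leaf 0x4a56f9006))) (.node (.node (.leaf 0x2ab6eb194) (.leaf 0x884d1b184)) (.node (.leaf 0xfb8f7034) (.leaf 0x5a675904e)))) (.node (.node (.node (.leaf 0x705b9044) (.leaf 0xbbac7024)) (.node (.leaf 0xbf39e901a) (.leaf 0x1055bb194))) (.node (.node (.leaf 0x4cd5a5010) (.leaf 0x3431fb084)) (.node (.leaf 0x15a1c29016) (.leaf 0x234487000))))))) (.node (.node (.node (.node (.node (.node (.leaf 0x47b5ab000) (.leaf 0x43c50b08a)) (.node (.leaf 0x5655b014) (.leaf 0x1768e1b090))) (.node (.node (.leaf 0xc71257006) (.leaf 0x80411700a)) (.node (.leaf 0x4a8e87014) (.leaf 0x4e5ab905a)))) (.node (.node (.node (.leaf 0x660bb00c) (.leaf 0x16eadb184)) (.node (.leaf 0x6cdb042) (.leaf 0x2dd49905a))) (.node (.node (.leaf 0x25f9490c6) (.leaf 0x522e89006)) (.node (.leaf 0xfc909006) (.leaf 0x104d8b062))))) (.node (.node (.node (.node (.leaf 0x2073b044) (.leaf 0x3f15fb064)) (.node (.leaf 0x12b29900c) (.leaf 0x3dbf9b09a))) (.node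 (.node (.leaf 0x22dfdb044) (.leaf 0x1f6c8b062)) (.node (.leaf 0x17333b086) (.leaf 0x18fedb0a6)))) (.node (.node (.node (.leaf 0x33129000) (.leaf 0x2e14a3000)) (.node (.leaf 0x74e54901c) (.leaf 0x4bbc69002))) (.node (.node (.leaf 0x331cbb000) (.leaf 0xbbca9024)) (.node (.leaf 0x62b4a900e) (.leaf 0x143899036)))))) (.node (.node (.node (.node (.node (.leaf 0xd806b114) (.leaf 0x30ff09016)) (.node (.leaf 0xccdeb042) (.leaf 0x314ccb0cc))) (.node (.node (.leaf 0x14af1b10c) (.leaf 0x2b732b014)) (.node (.leaf 0x171f3b0ea) (.leaf 0x5e324b10c)))) (.node (.node (.node (.leaf 0x9a8db09c) (.leaf 0x143a35b05a)) (.node (.leaf 0x4caec9002) (.leaf 0x29bbab0a2))) (.node (.node (.leaf 0x26c19b05a) (.leaf 0xfb29900c)) (.node (.leaf 0xa110890c6) (.leaf 0x6b93b144))))) (.node (.node (.node (.node (.leaf 0x2efe13004) (.leaf 0x3846a7030)) (.node (.leaf 0x588c5b0d6) (.leaf 0x7d9933004))) (.node (.node (.leaf 0x109a7020) (.leaf 0x2b085b01c)) (.node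 (.leaf 0x281a87026) (.leaf 0x152d69082)))) (.node (.node (.node (.leaf 0x6eec8b05a) (.leaf 0x321c33000)) (.node (.leaf 0x6824c7026) (.leaf 0x878937000))) (.node (.node (.leaf 0x12c909006) (.leaf 0x4b6569002)) (.node (.leaf 0x2a86db062) (.leaf 0x30bf39024))))))))) (.node (.node (.node (.node (.node (.node (.node (.node (.leaf 0x94fcb09c) (.leaf 0x163b7000)) (.node (.leaf 0x37044502a) (.leaf 0xcda9b06a))) (.node (.node (.leaf 0x1d33bb01e) (.leaf 0x674f0b00c)) (.node (.leaf 0x139d39046) (.leaf 0x329a0b05a)))) (.node (.node (.node (.leaf 0x75a75904e) (.leaf 0x6211bb1d6)) (.node (.leaf 0x238b49026) (.leaf 0x240a5b114))) (.node (.node (.leaf 0x4d446b0fc) (.leaf 0x2624eb08a)) (.node (.leaf 0x38ea09046) (.leaf 0x255519024))))) (.node (.node (.node (.node (.leaf 0x1ec55b064) (.leaf 0x2daaeb05a)) (.node (.leaf 0x16fc39042) (.leaf 0x5b600b00a))) (.node (.node (.leaf 0x3445b09a) (.leaf 0x6c9cab08a)) (.node (.leaf 0x340ddb036) (.leaf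 0x766783000)))) (.node (.node (.node (.leaf 0x1dd66b01e) (.leaf 0x7c6b3b036)) (.node (.leaf 0x47654700e) (.leaf 0xc2280b0c0))) (.node (.node (.leaf 0x155b7b062) (.leaf 0x464b17020)) (.node (.leaf 0x3fdbeb114) (.leaf 0x25e7f7014)))))) (.node (.node (.node (.node (.node (.leaf 0x80ab47024) (.leaf 0x67668b144)) (.node (.leaf 0x1530b050) (.leaf 0x7cf5905c))) (.node (.node (.leaf 0x4ecb9300e) (.leaf 0x11548b044)) (.node (.leaf 0x5bb469002) (.leaf 0x5aab57006)))) (.node (.node (.node (.leaf 0x1963fb0d6) (.leaf 0x43dc1905a)) (.node (.leaf 0x1064a90c6) (.leaf 0x1f43e9006))) (.node (.node (.leaf 0xcdefb09a) (.leaf 0x3101fb00a)) (.node (.leaf 0x42941b086) (.leaf 0x29702b0a2))))) (.node (.node (.node (.node (.leaf 0x5c004b2dc) (.leaf 0x9411fb00a)) (.node (.leaf 0x1fc1f9042) (.leaf 0x7e8bb901c))) (.node (.node (.leaf 0x4f5dfb0c0) (.leaf 0x37cddb00a)) (.node (.leaf 0x5b4f2b0a6) (.leaf 0x3416ab084)))) (.node (.node (.node (.leaf 0xf4e2f9024)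 (.leaf 0x1d273b01e)) (.node (.leaf 0x42a5eb062) (.leaf 0x3754bb0a6))) (.node (.node (.leaf 0x5b8879002) (.leaf 0x1054a900a)) (.node (.leaf 0x45b6bb0ea) (.leaf 0x4d1ffb194))))))) (.node (.node (.node (.node (.node (.node (.leaf 0x3639c9036) (.leaf 0xb7bd901a)) (.node (.leaf 0x3de197030) (.leaf 0x15c8cb194))) (.node (.node (.leaf 0xaea047042) (.leaf 0xcdc7b014)) (.node (.leaf 0xd9deb044) (.leaf 0x2de87905a)))) (.node (.node (.node (.leaf 0x4508bb194) (.leaf 0x56869026)) (.node (.leaf 0x1facd7034) (.leaf 0x50692b01c))) (.node (.node (.leaf 0x3c6b7020) (.leaf 0x219db7000)) (.node (.leaf 0x4aa3b09c) (.leaf 0x2d52bb05a))))) (.node (.node (.node (.node (.leaf 0x52b1e700a) (.leaf 0x19e87030)) (.node (.leaf 0x55b1700e) (.leaf 0x694e27004))) (.node (.node (.leaf 0x8f58b01c) (.leaf 0x650d7020)) (.node (.leaf 0xef39026) (.leaf 0xd8ec7b084)))) (.node (.node (.node (.leaf 0x5794590c6) (.leaf 0x12f80900a)) (.node (.leaf 0x262ee3000)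 (.leaf 0x20455b064))) (.node (.node (.leaf 0x1b72f90c6) (.leaf 0x1290a700a)) (.node (.leaf 0x108419004) (.leaf 0x6ce8fb08a)))))) (.node (.node (.node (.node (.node (.leaf 0x35bfdb0c0) (.leaf 0x687c7b144)) (.node (.leaf 0x9f5509014) (.leaf 0x2b5adb002))) (.node (.node (.leaf 0x301e2704e) (.leaf 0x3bf309014)) (.node (.leaf 0x8e0f4b0d6) (.leaf 0x4b6f85006)))) (.node (.node (.node (.leaf 0xc34700e) (.leaf 0xff80900a)) (.node (.leaf 0x37a8ab0a6) (.leaf 0x2b81bb042))) (.node (.node (.leaf 0x4c74b084) (.leaf 0xf90a700a)) (.node (.leaf 0xef8db14e) (.leaf 0x108d17014))))) (.node (.node (.node (.node (.leaf 0x32199b05a) (.leaf 0x163f57014)) (.node (.leaf 0x232247026) (.leaf 0x842ac7002))) (.node (.node (.leaf 0x1972cb0c6) (.leaf 0x2d832905a)) (.node (.leaf 0x8c6a7b0c6) (.leaf 0x8414f5010)))) (.node (.node (.node (.leaf 0xb389700a) (.leaf 0x548d8b10c)) (.node (.leaf 0x14ed79036) (.leaf 0x285bfb144))) (.node (.node (.leaf 0x4c97b5042)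 (.leaf 0x26da53004)) (.node (.leaf 0x7b27905c) (.leaf 0xde67b064)))))))) (.node (.node (.node (.node (.node (.node (.node (.leaf 0x29baeb0a2) (.leaf 0x1b8b89004)) (.node (.leaf 0x5f61b144) (.leaf 0xe045b0c0))) (.node (.node (.leaf 0x53bc39016) (.leaf 0x8cbfb09a)) (.node (.leaf 0x138469026) (.leaf 0x92569b01c)))) (.node (.node (.node (.leaf 0x136fd700e) (.leaf 0x9e6c9b0c6)) (.node (.leaf 0x2dd16b05a) (.leaf 0x75ee9901a))) (.node (.node (.leaf 0x14bdeb056) (.leaf 0x37fcf9002)) (.node (.leaf 0x1726d7014) (.leaf 0x48deb036))))) (.node (.node (.node (.node (.leaf 0x9e4b144) (.leaf 0x1ca5eb0c0)) (.node (.leaf 0x37d5bb0a6) (.leaf 0x5c2ccb14e))) (.node (.node (.leaf 0x3d156b002) (.leaf 0x1dc3eb01e)) (.node (.leaf 0x1b1687014) (.leaf 0x17fbd9004)))) (.node (.node (.node (.leaf 0x37f1e9002) (.leaf 0x5661eb042)) (.node (.leaf 0x1ff2e900a) (.leaf 0x28e2f700e))) (.node (.node (.leaf 0x31e27010) (.leaf 0x1650290c6)) (.node (.leaf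 0x32e18b05a) (.leaf 0x2e1073004)))))) (.node (.node (.node (.node (.node (.leaf 0x847d49002) (.leaf 0xe405b2dc)) (.node (.leaf 0x2483db044) (.leaf 0x2b058b000))) (.node (.node (.leaf 0x25b5d900c) (.leaf 0x61bc9026)) (.node (.leaf 0x8569b06a) (.leaf 0x36552b1d6)))) (.node (.node (.node (.leaf 0x889db9042) (.leaf 0x5ca9b00c)) (.node (.leaf 0x10c1a9006) (.leaf 0x43fd8905a))) (.node (.node (.leaf 0x16602900a) (.leaf 0x28d3c9010)) (.node (.leaf 0x1586cb0ea) (.leaf 0x103082b1d6))))) (.node (.node (.node (.node (.leaf 0x18c0db090) (.leaf 0x324833004)) (.node (.leaf 0x4ef5a300a) (.leaf 0x9ff63904e))) (.node (.node (.leaf 0x2197c7030) (.leaf 0x3bc4f904e)) (.node (.leaf 0x182cab00a) (.leaf 0x86cb00c)))) (.node (.node (.node (.leaf 0x6e8f53004) (.leaf 0x5da9c9042)) (.node (.leaf 0x657ccb10c) (.leaf 0x33855b00c))) (.node (.node (.leaf 0x2e9e5b05a) (.leaf 0x1048b9042)) (.node (.leaf 0x71a9a9026) (.leaf 0x31f39b090))))))) (.node (.node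 (.node (.node (.node (.node (.leaf 0xf88090c6) (.leaf 0x27d56b064)) (.node (.leaf 0x37a9ab0a6) (.leaf 0x265543004))) (.node (.node (.leaf 0x278bfb044) (.leaf 0x7cdab10c)) (.node (.leaf 0x1b33f9006) (.leaf 0x7456d901a)))) (.node (.node (.node (.leaf 0x1062089036) (.leaf 0x31ffcb090)) (.node (.leaf 0x36ba4b10c) (.leaf 0x266dbb08a))) (.node (.node (.leaf 0x280f47010) (.leaf 0x258019042)) (.node (.leaf 0x12bbb002) (.leaf 0xd4e9046))))) (.node (.node (.node (.node (.leaf 0x25b677042) (.leaf 0xf890704e)) (.node (.leaf 0x71315b00c) (.leaf 0x9a6289026))) (.node (.node (.leaf 0x2da43b05a) (.leaf 0x951639042)) (.node (.leaf 0x1843fb00a) (.leaf 0x30f14700a)))) (.node (.node (.node (.leaf 0x78379030) (.leaf 0x580d5b0d6)) (.node (.leaf 0x2976ab0a2) (.leaf 0x28a4c7000))) (.node (.node (.leaf 0x176839042) (.leaf 0x10fdd7034)) (.node (.leaf 0xfb27c3004) (.leaf 0x23a737030)))))) (.node (.node (.node (.node (.node (.leaf 0x43469300e)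 (.leaf 0x12890704e)) (.node (.leaf 0x175129006) (.leaf 0x2d8313002))) (.node (.node (.leaf 0xb499904e) (.leaf 0x327a9010)) (.node (.leaf 0x15311b0fc) (.leaf 0x318dab00a)))) (.node (.node (.node (.leaf 0x67df7030) (.leaf 0x3d70e9000)) (.node (.leaf 0x131b5b00c) (.leaf 0x382459010))) (.node (.node (.leaf 0x8b13cb056) (.leaf 0x8397b014)) (.node (.leaf 0x1ab39000) (.leaf 0x439a0300e))))) (.node (.node (.node (.node (.leaf 0xb04ecb086) (.leaf 0x331be9026)) (.node (.leaf 0x396a0b09a) (.leaf 0x1543ab184))) (.node (.node (.leaf 0x80b12900c) (.leaf 0x2edc4b05a)) (.node (.leaf 0x57739046) (.leaf 0x2ebbb114)))) (.node (.node (.node (.leaf 0x6a6c7026) (.leaf 0x5e909900e)) (.node (.leaf 0x3d791b050) (.leaf 0x572eb700a))) (.node (.node (.leaf 0xc5d8b01c) (.leaf 0x40f46b044)) (.node (.leaf 0x42e23b184) (.leaf 0x2bccb064)))))))))) (.node (.node (.node (.node (.node (.node (.node (.node (.node (.leaf 0x42074900a) (.leaf 0x2a7e5901a))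 (.node (.leaf 0x49842b000) (.leaf 0x1ba0d904e))) (.node (.node (.leaf 0xc4c23b14e) (.leaf 0x17458700a)) (.node (.leaf 0xc1ac7026) (.leaf 0x32f8ab05a)))) (.node (.node (.node (.leaf 0x495b77026) (.leaf 0x1c6afb2dc)) (.node (.leaf 0xf4959014) (.leaf 0x120657004))) (.node (.node (.leaf 0x205c0b044) (.leaf 0x32786905a)) (.node (.leaf 0x18f549002) (.leaf 0x1e02b000))))) (.node (.node (.node (.node (.leaf 0x3bcb89042) (.leaf 0x377fc5000)) (.node (.leaf 0xf0657004) (.leaf 0x124959014))) (.node (.node (.leaf 0x3252b905a) (.leaf 0x34d39046)) (.node (.leaf 0x43e703000) (.leaf 0x25ab1b086)))) (.node (.node (.node (.leaf 0x155c9900a) (.leaf 0x11bdb2b064)) (.node (.leaf 0x1ff10901a) (.leaf 0x5d02cb086))) (.node (.node (.leaf 0x4565b084) (.leaf 0xc07a99082)) (.node (.leaf 0x3aaa9b014) (.leaf 0x3e4e7b194)))))) (.node (.node (.node (.node (.node (.leaf 0x26a84300e) (.leaf 0x1dd4fb01e)) (.node (.leaf 0x5b8b050) (.leaf 0x67ceb042))) (.node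 (.node (.leaf 0x48c7fb184) (.leaf 0x16d12704e)) (.node (.leaf 0x7a32b1d6) (.leaf 0x56f7c9000)))) (.node (.node (.node (.leaf 0x29323b0a2) (.leaf 0x5f8259082)) (.node (.leaf 0x188849002) (.leaf 0xb583b0fc))) (.node (.node (.leaf 0x2ad9f704e) (.leaf 0x57b109014)) (.node (.leaf 0x4dec77004) (.leaf 0x2677e300e))))) (.node (.node (.node (.node (.leaf 0x1d53ab01e) (.leaf 0x239c2b042)) (.node (.leaf 0x6d910b00c) (.leaf 0x34dfdb09c))) (.node (.node (.leaf 0x5fa2f9024) (.leaf 0x148afb10c)) (.node (.leaf 0x379205014) (.leaf 0x9d1a6502a)))) (.node (.node (.node (.leaf 0x43eb5b05a) (.leaf 0x2da0fb08a)) (.node (.leaf 0x76830b08a) (.leaf 0xa96fb114))) (.node (.node (.leaf 0xb10ab194) (.leaf 0x37eaab090)) (.node (.leaf 0xb7bb8b14e) (.leaf 0x11062b044))))))) (.node (.node (.node (.node (.node (.node (.leaf 0x1081a704e) (.leaf 0x249bbb044)) (.node (.leaf 0x84e4db0cc) (.leaf 0x197ac3b024))) (.node (.node (.leaf 0x189497002) (.leaf 0x4a5999016))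 (.node (.leaf 0x67ca47030) (.leaf 0x741cb10c)))) (.node (.node (.node (.leaf 0x3149b144) (.leaf 0x1a6a3b114)) (.node (.leaf 0x16095db01c) (.leaf 0x31d4d9002))) (.node (.node (.leaf 0x156d9704e) (.leaf 0x129f69016)) (.node (.leaf 0x3202db08a) (.leaf 0x4603b036))))) (.node (.node (.node (.node (.leaf 0x10750901a) (.leaf 0x6d32b9026)) (.node (.leaf 0x1e418b114) (.leaf 0x53ec77006))) (.node (.node (.leaf 0x7da88905a) (.leaf 0x2d012b08a)) (.node (.leaf 0x233fbb050) (.leaf 0x3142a5000)))) (.node (.node (.node (.leaf 0xf9f69016) (.leaf 0x76649036)) (.node (.leaf 0x4d4fc9016) (.leaf 0x182bb5014))) (.node (.node (.leaf 0x2e8e9b08a) (.leaf 0x84990b0a6)) (.node (.leaf 0x2da073000) (.leaf 0x68d98b01c)))))) (.node (.node (.node (.node (.node (.leaf 0x2541b044) (.leaf 0x3581b00c)) (.node (.leaf 0x36fcbb1fe) (.leaf 0x2bfce700e))) (.node (.node (.leaf 0x2ec973002) (.leaf 0xfc979082)) (.node (.leaf 0x3de8fb000) (.leaf 0x182fa5000))))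 (.node (.node (.node (.leaf 0x16c80904e) (.leaf 0x26b0d905a)) (.node (.leaf 0xca7c9026) (.leaf 0xb55297034))) (.node (.node (.leaf 0x522ab002) (.leaf 0x1195b042)) (.node (.leaf 0x49d4db042) (.leaf 0x343d5b09c))))) (.node (.node (.node (.node (.leaf 0x548459044) (.leaf 0x3ab9bb000)) (.node (.leaf 0x5e329000) (.leaf 0x6ee65300e))) (.node (.node (.leaf 0x4bd6b09c) (.leaf 0x503a9b00c)) (.node (.leaf 0x6fbcdb05c) (.leaf 0xc6947b194)))) (.node (.node (.node (.leaf 0xbb25b062) (.leaf 0xcaf9000)) (.node (.leaf 0x6a14d7002) (.leaf 0x2d3d83004))) (.node (.node (.leaf 0x186475000) (.leaf 0x314065014)) (.node (.leaf 0x9dedb036) (.leaf 0x12c979082)))))))) (.node (.node (.node (.node (.node (.node (.node (.leaf 0x6730b002) (.leaf 0x1df6ab01e)) (.node (.leaf 0x3af69026) (.leaf 0x5390e901c))) (.node (.node (.leaf 0x2d167b08a) (.leaf 0xf76b7024)) (.node (.leaf 0x1112bb064) (.leaf 0x68199b06a)))) (.node (.node (.node (.leaf 0x73236b1d6)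 (.leaf 0x1df07b01e)) (.node (.leaf 0x3e851b184) (.leaf 0x51aa7000))) (.node (.node (.leaf 0xcc8d7020) (.leaf 0x2c2b9b064)) (.node (.leaf 0x5fa289016) (.leaf 0xe688b2dc))))) (.node (.node (.node (.node (.leaf 0x8723f9026) (.leaf 0x2903fb0a2)) (.node (.leaf 0x1d31fb01e) (.leaf 0x9d85b036))) (.node (.node (.leaf 0x4b9a55004) (.leaf 0x5b85b050)) (.node (.leaf 0x16b90700a) (.leaf 0x2f58bb044)))) (.node (.node (.node (.leaf 0x7f19db1d6) (.leaf 0x3de527026)) (.node (.leaf 0x22bb8b064) (.leaf 0x156c990c6))) (.node (.node (.leaf 0x2665a3006) (.leaf 0x32074b08a)) (.node (.leaf 0x1276b7024) (.leaf 0x566a3700e)))))) (.node (.node (.node (.node (.node (.leaf 0x1a777026) (.leaf 0x816c7026)) (.node (.leaf 0x21124b014) (.leaf 0x4cb45b090))) (.node (.node (.leaf 0x326963002) (.leaf 0xbebcb184)) (.node (.leaf 0x14dda905c) (.leaf 0x2e8eeb05a)))) (.node (.node (.node (.leaf 0xa777000) (.leaf 0x180e19002)) (.node (.leaf 0x31c487002) (.leaf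 0x1b011901a))) (.node (.node (.leaf 0x531e89042) (.leaf 0x652aab05c)) (.node (.leaf 0x3a694b042) (.leaf 0x94f599002))))) (.node (.node (.node (.node (.leaf 0x4bdf15010) (.leaf 0x2ea38b08a)) (.node (.leaf 0xbc8ce9082) (.leaf 0x11c6b06a))) (.node (.node (.leaf 0x266c7300a) (.leaf 0x282a5b06a)) (.node (.leaf 0x30620b062) (.leaf 0x4a56a900c)))) (.node (.node (.node (.leaf 0x3f96cb114) (.leaf 0x26658300a)) (.node (.leaf 0x13e0ab002) (.leaf 0x2a4b1700a))) (.node (.node (.leaf 0x3099700e) (.leaf 0x4881db194)) (.node (.leaf 0x13d8a7000) (.leaf 0x1d532b01e))))))) (.node (.node (.node (.node (.node (.node (.leaf 0x16b74901a) (.leaf 0x32257b05a)) (.node (.leaf 0x1bf3f704e) (.leaf 0x8abc9026))) (.node (.node (.leaf 0x33fb27000) (.leaf 0x2e881b08a)) (.node (.leaf 0x760e3905a) (.leaf 0x93e33905a)))) (.node (.node (.node (.leaf 0x24eb2b064) (.leaf 0x25727b184)) (.node (.leaf 0xa220b064) (.leaf 0xb307030))) (.node (.node (.leaf 0x22d6fb114)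 (.leaf 0x2eeef905a)) (.node (.leaf 0x4365cb05a) (.leaf 0x180075004))))) (.node (.node (.node (.node (.leaf 0x3717bb090) (.leaf 0x2530cb0fc)) (.node (.leaf 0x184bc7002) (.leaf 0xccece9000))) (.node (.node (.leaf 0x6cbfe3006) (.leaf 0xfbbe901a)) (.node (.leaf 0x13281b050) (.leaf 0x11ced79042)))) (.node (.node (.node (.leaf 0x2ee72905a) (.leaf 0x6c6183006)) (.node (.leaf 0x7d6a9905a) (.leaf 0x6895b000))) (.node (.node (.leaf 0x6c07b050) (.leaf 0x61f717010)) (.node (.leaf 0x9a387b050) (.leaf 0x5c049b14e)))))) (.node (.node (.node (.node (.node (.leaf 0x7b83e700a) (.leaf 0xb2eab0ea)) (.node (.leaf 0x2e36bb05a) (.leaf 0x16a0b014))) (.node (.node (.leaf 0x6ef47300a) (.leaf 0x8a761b084)) (.node (.leaf 0x215e2b000) (.leaf 0x18eab5010)))) (.node (.node (.node (.leaf 0xfa1a904e) (.leaf 0x29dc7b0a2)) (.node (.leaf 0x2632c905a) (.leaf 0x520d7030))) (.node (.node (.leaf 0x7824b05c) (.leaf 0x177ac901a)) (.node (.leaf 0x61b597000) (.leaf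 0x6fc25b10c))))) (.node (.node (.node (.node (.leaf 0x12a1a904e) (.leaf 0x19aeab024)) (.node (.leaf 0x86f70b00c) (.leaf 0x6f7b002))) (.node (.node (.leaf 0x190deb0d6) (.leaf 0x455007006)) (.node (.leaf 0x13b429000) (.leaf 0xbc2ab086)))) (.node (.node (.node (.leaf 0x1852c7002) (.leaf 0x14020905c)) (.node (.leaf 0x5b012b090) (.leaf 0x2c89b114))) (.node (.node (.leaf 0x181765010) (.leaf 0x1c6bfb2dc)) (.node (.leaf 0x109ec700a) (.leaf 0x2e5ca905a))))))))) (.node (.node (.node (.node (.node (.node (.node (.node (.leaf 0x185e25002) (.leaf 0x183da502a)) (.node (.leaf 0x122cdb194) (.leaf 0xc9f61901a))) (.node (.node (.leaf 0x54f91905c) (.leaf 0x2a2ea900c)) (.node (.leaf 0xb59a9042) (.leaf 0x1749f900c)))) (.node (.node (.node (.leaf 0x1f96b900c) (.leaf 0x144cb144)) (.node (.leaf 0x61f659026) (.leaf 0x7fdbb056))) (.node (.node (.leaf 0x1b6599016) (.leaf 0x7424790c6)) (.node (.leaf 0x161939024) (.leaf 0x2a4a09082))))) (.node (.node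 (.node (.node (.leaf 0x2a2ae9024) (.leaf 0x3924b7026)) (.node (.leaf 0x7b7199042) (.leaf 0x40a88b114))) (.node (.node (.leaf 0xc4f89000) (.leaf 0x2322bb014)) (.node (.leaf 0x3eb869006) (.leaf 0xa71eb064)))) (.node (.node (.node (.leaf 0x26e47b05a) (.leaf 0x19f45b0c6)) (.node (.leaf 0x6a016502a) (.leaf 0x4b0e55000))) (.node (.node (.leaf 0x1b0707042) (.leaf 0xb04b9006)) (.node (.leaf 0x5ca91b2dc) (.leaf 0x8d0bb00c)))))) (.node (.node (.node (.node (.node (.leaf 0x1494b00c) (.leaf 0xe450b14e)) (.node (.leaf 0x6497b014) (.leaf 0x299afb0a2))) (.node (.node (.leaf 0x3dd4db144) (.leaf 0x10c139014)) (.node (.leaf 0x94e4b036) (.leaf 0x286ccb002)))) (.node (.node (.node (.leaf 0x172257024) (.leaf 0x50edb09a)) (.node (.leaf 0x323a5905a) (.leaf 0x367bab10c))) (.node (.node (.leaf 0x7e3c2904e) (.leaf 0x1087c7006)) (.node (.leaf 0x1de4fb01e) (.leaf 0x152cb7006))))) (.node (.node (.node (.node (.leaf 0x15ad99006) (.leaf 0x3bbf5704e))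 (.node (.leaf 0x16f5f900c) (.leaf 0x444d9900e))) (.node (.node (.leaf 0x2d3a5b05a) (.leaf 0x29f3fb0a2)) (.node (.leaf 0xaca7b044) (.leaf 0x3218b042)))) (.node (.node (.node (.leaf 0x174d39024) (.leaf 0x69453b0fc)) (.node (.leaf 0x50555b014) (.leaf 0x37d385010))) (.node (.node (.leaf 0x1f1d59082) (.leaf 0xb1f7010)) (.node (.leaf 0x113eab114) (.leaf 0x1d63ab01e))))))) (.node (.node (.node (.node (.node (.node (.leaf 0x3305ab01c) (.leaf 0x5f5a9010)) (.node (.leaf 0x16d3c9016) (.leaf 0x268c63002))) (.node (.node (.leaf 0x31d335006) (.leaf 0x31b0e5006)) (.node (.leaf 0x3624cb1d6) (.leaf 0x167407006)))) (.node (.node (.node (.leaf 0x57c38b0ea) (.leaf 0x80b07000)) (.node (.leaf 0x33667026) (.leaf 0x2295eb064))) (.node (.node (.leaf 0x25cf6904e) (.leaf 0x1beb8901c)) (.node (.leaf 0x1ff29046) (.leaf 0x3ca3b000))))) (.node (.node (.node (.node (.leaf 0x9c8d79036) (.leaf 0x50f167026)) (.node (.leaf 0x1f9277004) (.leaf 0x2772db114)))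 (.node (.node (.leaf 0xbdb07034) (.leaf 0x7bfe37034)) (.node (.leaf 0x496679026) (.leaf 0x29457b0a2)))) (.node (.node (.node (.leaf 0x4dddb084) (.leaf 0x1406eb1fe)) (.node (.leaf 0x5d8869082) (.leaf 0x100c11b09a))) (.node (.node (.leaf 0x2984bb0a2) (.leaf 0x1c61eb2dc)) (.node (.leaf 0x3aa6e9026) (.leaf 0x10e089016)))))) (.node (.node (.node (.node (.node (.leaf 0x159627014) (.leaf 0x1a22bb044)) (.node (.leaf 0x135fa9010) (.leaf 0x14c5e9044))) (.node (.node (.leaf 0x2e458905a) (.leaf 0x7cb3900e)) (.node (.leaf 0x8f8b4b14e) (.leaf 0x2a5c47042)))) (.node (.node (.node (.leaf 0x4bc33b090) (.leaf 0x170887006)) (.node (.leaf 0x6baf17030) (.leaf 0x85659046))) (.node (.node (.leaf 0x212929046) (.leaf 0xf879010)) (.node (.leaf 0x51609b0c0) (.leaf 0x5e92b01c))))) (.node (.node (.node (.node (.leaf 0x487db9082) (.leaf 0x1953ab024)) (.node (.leaf 0x8c03700e) (.leaf 0x66a4eb050))) (.node (.node (.leaf 0x6bbfb09a) (.leaf 0x3a305700e))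 (.node (.leaf 0x26c22b05a) (.leaf 0xd450b044)))) (.node (.node (.node (.leaf 0x26ef4b08a) (.leaf 0xa0268b184)) (.node (.leaf 0x2c7e3b064) (.leaf 0x985cb036))) (.node (.node (.leaf 0x156b2901c) (.leaf 0x9ae7b084)) (.node (.leaf 0x10e41901c) (.leaf 0x3435cb09c)))))))) (.node (.node (.node (.node (.node (.node (.node (.leaf 0x107237004) (.leaf 0x24438b064)) (.node (.leaf 0x52bbab062) (.leaf 0x8d809010))) (.node (.node (.leaf 0x1d807b01e) (.leaf 0x4990cb00c)) (.node (.leaf 0x6e4d3905a) (.leaf 0xbb5b900a)))) (.node (.node (.node (.leaf 0x94d2a502a) (.leaf 0x67ac7b01c)) (.node (.leaf 0x25e377024) (.leaf 0x79b6bb114))) (.node (.node (.leaf 0x13d727010) (.leaf 0x84993b00a)) (.node (.leaf 0x18317500e) (.leaf 0x12258b0fc))))) (.node (.node (.node (.node (.leaf 0x6b9227000) (.leaf 0x10c997042)) (.node (.leaf 0xc883b144) (.leaf 0x1587a7042))) (.node (.node (.leaf 0x74a669042) (.leaf 0x4539a704e)) (.node (.leaf 0x17cbb7004) (.leaf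 0x2b0597026)))) (.node (.node (.node (.leaf 0x210c0b144) (.leaf 0x1fd589016)) (.node (.leaf 0xf258b0fc) (.leaf 0x188fb5006))) (.node (.node (.leaf 0x790b09a) (.leaf 0x286b1b000)) (.node (.leaf 0x2b9c07020) (.leaf 0x69fc8b184)))))) (.node (.node (.node (.node (.node (.leaf 0x1bacd7006) (.leaf 0x1644b9014)) (.node (.leaf 0x4a16f704e) (.leaf 0x63e5fb0c6))) (.node (.node (.leaf 0x45feb09c) (.leaf 0x140e49044)) (.node (.leaf 0x610bc7020) (.leaf 0x1bf8c9082)))) (.node (.node (.node (.leaf 0x16b25901c) (.leaf 0x2aebd9016)) (.node (.leaf 0xf27bb184) (.leaf 0x57cdab184))) (.node (.node (.leaf 0x1ae22b064) (.leaf 0x536b590c6)) (.node (.leaf 0x49dd4b144) (.leaf 0x2f47cb064))))) (.node (.node (.node (.node (.leaf 0x1d632b01e) (.leaf 0x6058b01c)) (.node (.leaf 0x1227bb184) (.leaf 0x1541c9042))) (.node (.node (.leaf 0x2ef253006) (.leaf 0x375e95010)) (.node (.leaf 0x98cfb084) (.leaf 0x4b7f2b090)))) (.node (.node (.node (.leaf 0x1f5b1901c)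 (.leaf 0xc11bb00c)) (.node (.leaf 0x16bbd7024) (.leaf 0x33bdb014))) (.node (.node (.leaf 0x181825042) (.leaf 0x8d789000)) (.node (.leaf 0x3919ab06a) (.leaf 0x263edb08a))))))) (.node (.node (.node (.node (.node (.node (.leaf 0x7182e9010) (.leaf 0x3864bb042)) (.node (.leaf 0x225e7b044) (.leaf 0x472cb7010))) (.node (.node (.leaf 0x6eabdb08a) (.leaf 0xc4887010)) (.node (.leaf 0x4b67020) (.leaf 0x32ad7300a)))) (.node (.node (.node (.leaf 0x21a10700e) (.leaf 0x3174f502a)) (.node (.leaf 0x150b29004) (.leaf 0x26b9ab05a))) (.node (.node (.leaf 0x17dc700e) (.leaf 0xcce59046)) (.node (.leaf 0x2ef09905a) (.leaf 0x58cb7020))))) (.node (.node (.node (.node (.leaf 0x1f2d79014) (.leaf 0x3ed999004)) (.node (.leaf 0x10e959082) (.leaf 0x1430473002))) (.node (.node (.leaf 0x2687b905a) (.leaf 0x7fe29036)) (.node (.leaf 0x11fac0b10c) (.leaf 0x11a79026)))) (.node (.node (.node (.leaf 0x13539b09a) (.leaf 0xc013700e)) (.node (.leaf 0x7d3bb3002)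 (.leaf 0x1b43a900c))) (.node (.node (.leaf 0xfd66b062) (.leaf 0x270a5b044)) (.node (.leaf 0x303b2900a) (.leaf 0x33e0a7010)))))) (.node (.node (.node (.node (.node (.leaf 0x90a0cb024) (.leaf 0x1fa297024)) (.node (.leaf 0x323593006) (.leaf 0xc1307000))) (.node (.node (.leaf 0x72a16b00c) (.leaf 0x24c63b114)) (.node (.leaf 0x2e121905a) (.leaf 0xec98b0c0)))) (.node (.node (.node (.leaf 0x15168900c) (.leaf 0x4ee8bb08a)) (.node (.leaf 0x108b7900c) (.leaf 0x166799082))) (.node (.node (.leaf 0xf3edb086) (.leaf 0x4a3d1901a)) (.node (.leaf 0x26c0cb08a) (.leaf 0xa184d9014))))) (.node (.node (.node (.node (.leaf 0xf0fb01c) (.leaf 0x26813905a)) (.node (.leaf 0x1039b9024) (.leaf 0xb3749004))) (.node (.node (.leaf 0x57ba7b062) (.leaf 0x1b1207024)) (.node (.leaf 0x169ed7042) (.leaf 0x16d1e07002)))) (.node (.node (.node (.leaf 0x123edb086) (.leaf 0x13cfb7020)) (.node (.leaf 0xd588b114) (.leaf 0x198ceb0d6))) (.node (.node (.leaf 0x3417b06a)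 (.leaf 0x77280b01c)) (.node (.leaf 0x28b7ab042) (.leaf 0x252a39082))))))))))))

theorem cert13_0 : chunkB 13 cert13 0 = true := by decide +kernel

theorem cert13_1 : chunkB 13 cert13 1 = true := by decide +kernel

theorem cert13_2 : chunkB 13 cert13 2 = true := by decide +kernel

theorem cert13_3 : chunkB 13 cert13 3 = true := by decide +kernel

theorem cert13_4 : chunkB 13 cert13 4 = true := by decide +kernel

theorem cert13_5 : chunkB 13 cert13 5 = true := by decide +kernel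

theorem cert13_6 : chunkB 13 cert13 6 = true := by decide +kernel

theorem cert13_7 : chunkB 13 cert13 7 = true := by decide +kernel

theorem cert13_ok : ∀ k < 2048, itemB 13 cert13 k = true :=
  of_chunks cert13_0 cert13_1 cert13_2 cert13_3 cert13_4 cert13_5 cert13_6 cert13_7

end Cfsg.Agent.F4Square.Two
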