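import Cfsg.Agent.F4Square.Two.Setup

/-!
Certificates for the coset of the Weyl element number 14.
-/

set_option autoImplicit false
set_option maxRecDepth 100000
set_option maxHeartbeats 0
set_option Elab.async false

namespace Cfsg.Agent.F4Square.Two

/-- The certificates. -/
noncomputable def cert14 : Tree :=
  (.node (.node (.node (.node (.node (.node (.node (.node (.node (.node (.node (.leaf 0x16275b2dc) (.leaf 0x113b0b06a)) (.node (.leaf 0x99a07026) (.leaf 0x273f23006))) (.node (.node (.leaf 0x79c62b042) (.leaf 0x36872b09c)) (.node (.leaf 0x5ce6db024) (.leaf 0x1e6db2dc)))) (.node (.node (.node (.leaf 0x11c3449044) (.leaf 0xcc13b044)) (.node (.leaf 0x7c1b39042) (.leaf 0x3b26e7026))) (.node (.node (.leaf 0x987069044) (.leaf 0x108e3b05c)) (.node (.leaf 0x1abceb036) (.leaf 0x21a4f9082))))) (.node (.node (.node (.node (.leaf 0x2f8dc905a) (.leaf 0x30b7034)) (.node (.leaf 0x10f4a9044) (.leaf 0x3f9883004))) (.node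 (.node (.leaf 0x1eb59b062) (.leaf 0xa92709030)) (.node (.leaf 0x1fac67034) (.leaf 0x2116e9016)))) (.node (.node (.node (.leaf 0xa5a92b08a) (.leaf 0x22c7e9006)) (.node (.leaf 0x5f6b9900a) (.leaf 0x4505d90c6))) (.node (.node (.leaf 0x3eaf7024) (.leaf 0x442eab050)) (.node (.leaf 0xb03db056) (.leaf 0x11e29b01c)))))) (.node (.node (.node (.node (.node (.leaf 0x248efb08a) (.leaf 0xe6f9004)) (.node (.leaf 0x6efe4b036) (.leaf 0x30d69b0c0))) (.node (.node (.leaf 0x823cb064) (.leaf 0x18deeb05c)) (.node (.leaf 0x4838901c) (.leaf 0xa65a9042)))) (.node (.node (.node (.leaf 0x19d94b064) (.leaf 0x2d151b0a2)) (.node (.leaf 0x5c5d4b0d6) (.leaf 0x332f59036))) (.node (.node (.leaf 0x657979042) (.leaf 0xee3bb0c6)) (.node (.leaf 0x4f01fb17a) (.leaf 0xe0d6b9002))))) (.node (.node (.node (.node (.leaf 0x2a8809036) (.leaf 0xb1066905c)) (.node (.leaf 0x5db4a9026) (.leaf 0x177b4b05c))) (.node (.node (.leaf 0x75935905c) (.leaf 0x1bc76b05c))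 (.node (.leaf 0x82cbb114) (.leaf 0xf7b3b0d6)))) (.node (.node (.node (.leaf 0x148bfb09a) (.leaf 0x410bfb0fc)) (.node (.leaf 0x15eda7026) (.leaf 0x82841700e))) (.node (.node (.leaf 0xaf8b9006) (.leaf 0xb767006)) (.node (.leaf 0x154e7b000) (.leaf 0x2533cb0c6))))))) (.node (.node (.node (.node (.node (.node (.leaf 0x24362b08a) (.leaf 0x12b053905a)) (.node (.leaf 0x29408b036) (.leaf 0x2a7b8b10c))) (.node (.node (.leaf 0x17777a900a) (.leaf 0x10b5b14e)) (.node (.leaf 0x239f9b114) (.leaf 0x259ffb0d6)))) (.node (.node (.node (.leaf 0x8f237b0c6) (.leaf 0x3cfe1700a)) (.node (.leaf 0x2991fb084) (.leaf 0x4ef07042))) (.node (.node (.leaf 0x9d10a9036) (.leaf 0x5a8e700a)) (.node (.leaf 0x3335db10c) (.leaf 0x35ee904e))))) (.node (.node (.node (.node (.leaf 0x397227024) (.leaf 0x47b36b184)) (.node (.leaf 0x46fda9000) (.leaf 0xf09900c))) (.node (.node (.leaf 0x2f6813006) (.leaf 0x45999016)) (.node (.leaf 0x31693b10c) (.leaf 0xa6023b194))))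 (.node (.node (.node (.leaf 0xb47a9036) (.leaf 0x94217020)) (.node (.leaf 0x8814e901c) (.leaf 0x305a1b14e))) (.node (.node (.leaf 0x75d9b084) (.leaf 0x27a71905a)) (.node (.leaf 0x1ebe0b184) (.leaf 0x60ff09082)))))) (.node (.node (.node (.node (.node (.leaf 0x10c7ab1fe) (.leaf 0x7ae40300e)) (.node (.leaf 0xa2a07034) (.leaf 0x241823000))) (.node (.node (.leaf 0x3ad36502a) (.leaf 0x3ac065002)) (.node (.leaf 0x7f7ab09c) (.leaf 0x4da779030)))) (.node (.node (.node (.leaf 0x402c09016) (.leaf 0x3c8f1904e)) (.node (.leaf 0x2df34b0a2) (.leaf 0xaac26b0a2))) (.node (.node (.leaf 0x312bc905c) (.leaf 0xc98ab064)) (.node (.leaf 0x15a48b042) (.leaf 0xaac92b0a2))))) (.node (.node (.node (.node (.leaf 0xda24b084) (.leaf 0x188a79044)) (.node (.leaf 0x136339044) (.leaf 0x109006))) (.node (.node (.leaf 0x2dc37030) (.leaf 0x1ba2f9044)) (.node (.leaf 0x3b91fb06a) (.leaf 0x5ef0900a)))) (.node (.node (.node (.leaf 0x27b89905a) (.leaf 0x4f827b17a))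 (.node (.leaf 0xaa102b0a2) (.leaf 0x2e0e4b036))) (.node (.node (.leaf 0x3c42901a) (.leaf 0x6f35f7030)) (.node (.leaf 0x101c09044) (.leaf 0x522ebb114)))))))) (.node (.node (.node (.node (.node (.node (.node (.leaf 0x995a5b0fc) (.leaf 0xac9b900a)) (.node (.leaf 0x1550bb06a) (.leaf 0x6373c7004))) (.node (.node (.leaf 0x401637004) (.leaf 0x875b67042)) (.node (.leaf 0x31c65b1d6) (.leaf 0x12723b2dc)))) (.node (.node (.node (.leaf 0xb0169b0c6) (.leaf 0x25bdbb024)) (.node (.leaf 0x3327fb1d6) (.leaf 0xdff7014))) (.node (.node (.leaf 0x13c83b1fe) (.leaf 0x2ba5e9010)) (.node (.leaf 0x1e46eb0ea) (.leaf 0x21036901a))))) (.node (.node (.node (.node (.leaf 0x22549026) (.leaf 0x1f1aa901c)) (.node (.leaf 0x24887b08a) (.leaf 0x54cd97000))) (.node (.node (.leaf 0x456a900c) (.leaf 0x91607b14e)) (.node (.leaf 0xa39b90c6) (.leaf 0x21132904e)))) (.node (.node (.node (.leaf 0x61076b114) (.leaf 0x1b7c19044)) (.node (.leaf 0x2049d904e) (.leaf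 0x7eb7b036))) (.node (.node (.leaf 0x73b98901a) (.leaf 0x28013b0d6)) (.node (.leaf 0x6c4e5b09c) (.leaf 0xe6f7bb144)))))) (.node (.node (.node (.node (.node (.leaf 0x18f019044) (.leaf 0x1fb1c9024)) (.node (.leaf 0x867249030) (.leaf 0x4e526b084))) (.node (.node (.leaf 0x458e9024) (.leaf 0x1fe7a7014)) (.node (.leaf 0x472f0b0ea) (.leaf 0x88af19006)))) (.node (.node (.node (.leaf 0x318fe905c) (.leaf 0x9b77042)) (.node (.leaf 0x2d581b0a2) (.leaf 0x4f6b7b17a))) (.node (.node (.leaf 0x4c0549036) (.leaf 0xd25eb036)) (.node (.leaf 0x31bd7004) (.leaf 0x40569014))))) (.node (.node (.node (.node (.leaf 0x162db0c0) (.leaf 0x78df97004)) (.node (.leaf 0x27061300e) (.leaf 0x601e47024))) (.node (.node (.leaf 0x65ae6900a) (.leaf 0x104fc9030)) (.node (.leaf 0x40a07024) (.leaf 0x1037c03006)))) (.node (.node (.node (.leaf 0x29e20b036) (.leaf 0x17ef49036)) (.node (.leaf 0x3e8d9014) (.leaf 0x41b20b184))) (.node (.node (.leaf 0x27340300e)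 (.leaf 0x142b1b06a)) (.node (.leaf 0x2292e900a) (.leaf 0x624d9b184))))))) (.node (.node (.node (.node (.node (.node (.leaf 0x3c315901a) (.leaf 0x359b9082)) (.node (.leaf 0x18d4d9030) (.leaf 0xe8e789016))) (.node (.node (.leaf 0x214217004) (.leaf 0x3ebed900e)) (.node (.leaf 0x1e78eb194) (.leaf 0x2ce73700e)))) (.node (.node (.node (.leaf 0x3462db002) (.leaf 0xbed84b0c6)) (.node (.leaf 0x5ddb9b00c) (.leaf 0x51d7bb0c6))) (.node (.node (.leaf 0xedd8b0d6) (.leaf 0x2038d700a)) (.node (.leaf 0x2faa4300e) (.leaf 0x1d926b0c6))))) (.node (.node (.node (.node (.leaf 0x434d7006) (.leaf 0x27f78905a)) (.node (.leaf 0x3cbeb704e) (.leaf 0xe8461901c))) (.node (.node (.leaf 0x2a5c0b05c) (.leaf 0x37cc7b01c)) (.node (.leaf 0x194d39b2dc) (.leaf 0xfa60b0c6)))) (.node (.node (.node (.leaf 0x2b69db09a) (.leaf 0xbe6b900e)) (.node (.leaf 0x404c9082) (.leaf 0x548a99010))) (.node (.node (.leaf 0x60efd9016) (.leaf 0x5df090c6)) (.node (.leaf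 0x1f3899006) (.leaf 0x1064147006)))))) (.node (.node (.node (.node (.node (.leaf 0x75b26b10c) (.leaf 0xc6f901c)) (.node (.leaf 0x42a61b044) (.leaf 0x398587004))) (.node (.node (.leaf 0x20c47026) (.leaf 0x1cea1b01e)) (.node (.leaf 0x2d034b0a2) (.leaf 0x1145145014)))) (.node (.node (.node (.leaf 0x2e657b084) (.leaf 0x3af6e5042)) (.node (.leaf 0x4dd67905c) (.leaf 0x14ac0b01c))) (.node (.node (.leaf 0x1abb4b084) (.leaf 0x2c057020)) (.node (.leaf 0x5683c7030) (.leaf 0xa1249004))))) (.node (.node (.node (.node (.leaf 0x5af8bb1d6) (.leaf 0x24d9ab08a)) (.node (.leaf 0x50a0704e) (.leaf 0x311a9016))) (.node (.node (.leaf 0x14dd7b014) (.leaf 0x22f197034)) (.node (.leaf 0xedd9024) (.leaf 0xb5547b062)))) (.node (.node (.node (.leaf 0x2c4619046) (.leaf 0x392289014)) (.node (.leaf 0xd2356b09c) (.leaf 0x92709026))) (.node (.node (.leaf 0x12733b2dc) (.leaf 0x13f799030)) (.node (.leaf 0xdcd9042) (.leaf 0x3a76b500e))))))))) (.node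 (.node (.node (.node (.node (.node (.node (.node (.leaf 0x10dfe79006) (.leaf 0x2fb1eb05a)) (.node (.leaf 0x8cf789030) (.leaf 0x2a23f900e))) (.node (.node (.leaf 0xef63b0c6) (.leaf 0x196ebb044)) (.node (.leaf 0x59e137014) (.leaf 0x1e2bf900a)))) (.node (.node (.node (.leaf 0x31f62b1fe) (.leaf 0xafecb184)) (.node (.leaf 0x1363f905c) (.leaf 0xdd4cb084))) (.node (.node (.leaf 0x416f704e) (.leaf 0xfaefb024)) (.node (.leaf 0xcff973000) (.leaf 0x94b99b10c))))) (.node (.node (.node (.node (.leaf 0x6629b044) (.leaf 0x62e4a90c6)) (.node (.leaf 0x11291b002) (.leaf 0x20f5d7006))) (.node (.node (.leaf 0x1c4acb01e) (.leaf 0x15e5b14e)) (.node (.leaf 0xeadf2b1d6) (.leaf 0x26787000)))) (.node (.node (.node (.leaf 0x36ffb184) (.leaf 0x2e21ab084)) (.node (.leaf 0x1bb1b9030) (.leaf 0x3fc2cb05a))) (.node (.node (.leaf 0xf7a3b0d6) (.leaf 0x3cb147024)) (.node (.leaf 0xaed719042) (.leaf 0x398c0b086)))))) (.node (.node (.node (.node (.node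 (.leaf 0x3acc07002) (.leaf 0x504f7042)) (.node (.leaf 0x3ca729014) (.leaf 0x37ff8b050))) (.node (.node (.leaf 0x18906b10c) (.leaf 0x2407a3004)) (.node (.leaf 0x3c7317006) (.leaf 0x846e1b1fe)))) (.node (.node (.node (.leaf 0x3b40b0fc) (.leaf 0x1a8dcb084)) (.node (.leaf 0x25974b0c6) (.leaf 0x7091ab042))) (.node (.node (.leaf 0x27532b05a) (.leaf 0x3e4b0b05c)) (.node (.leaf 0x4c991900e) (.leaf 0x18993905c))))) (.node (.node (.node (.node (.leaf 0xe111b024) (.leaf 0x50077014)) (.node (.leaf 0x5a274900e) (.leaf 0x2cfa87026))) (.node (.node (.leaf 0x156a9b144) (.leaf 0x298cab084)) (.node (.leaf 0x7d52b09c) (.leaf 0x5c4fdb024)))) (.node (.node (.node (.leaf 0x169fdb14e) (.leaf 0x1e1bf90c6)) (.node (.leaf 0x14647b050) (.leaf 0x25f0bb024))) (.node (.node (.leaf 0x1c6fcb01e) (.leaf 0x35645b0d6)) (.node (.leaf 0x411047034) (.leaf 0x315109044))))))) (.node (.node (.node (.node (.node (.node (.leaf 0x605d1700a) (.leaf 0x1841d905c))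 (.node (.leaf 0x40f64904e) (.leaf 0x3abf89002))) (.node (.node (.leaf 0x83743b0a2) (.leaf 0x74e2a900e)) (.node (.leaf 0x2bb6e7000) (.leaf 0x3cecc901c)))) (.node (.node (.node (.leaf 0x3465b086) (.leaf 0x12732b2dc)) (.node (.leaf 0x92ff700e) (.leaf 0x4467ab014))) (.node (.node (.leaf 0x2bf65b050) (.leaf 0x15f579046)) (.node (.leaf 0x39072b184) (.leaf 0xa7eab086))))) (.node (.node (.node (.node (.leaf 0x27b2b905a) (.leaf 0x774fb036)) (.node (.leaf 0x4577e9004) (.leaf 0x4d722b05c))) (.node (.node (.leaf 0x20d4e9024) (.leaf 0x1e7db2dc)) (.node (.leaf 0x140900a) (.leaf 0x318ebb05c)))) (.node (.node (.node (.leaf 0x43d1901a) (.leaf 0x458b67042)) (.node (.leaf 0x178ffb056) (.leaf 0xad2ab0ea))) (.node (.node (.leaf 0x2f093b05a) (.leaf 0x69a44900c)) (.node (.leaf 0xee6700a) (.leaf 0x5ebd9042)))))) (.node (.node (.node (.node (.node (.leaf 0x2f705b08a) (.leaf 0x27466905a)) (.node (.leaf 0x809b1b14e) (.leaf 0x13972b10c)))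 (.node (.node (.leaf 0x203ea900c) (.leaf 0x21bbeb062)) (.node (.leaf 0x55ad9024) (.leaf 0x1dc7eb0c6)))) (.node (.node (.node (.leaf 0x90f279016) (.leaf 0x27e1fb05a)) (.node (.leaf 0x10ff6905c) (.leaf 0x8442c9036))) (.node (.node (.leaf 0x3a3e75014) (.leaf 0x561f27020)) (.node (.leaf 0x8228fb06a) (.leaf 0x10af5b1d6))))) (.node (.node (.node (.node (.leaf 0x22fa5b184) (.leaf 0x214b9b086)) (.node (.leaf 0x3d86ab1fe) (.leaf 0x28910b0c6))) (.node (.node (.leaf 0x2d5e9b0a2) (.leaf 0x92099046)) (.node (.leaf 0x20f969014) (.leaf 0x37cab062)))) (.node (.node (.node (.leaf 0x3f4ddb05a) (.leaf 0x1ff9990c6)) (.node (.leaf 0x27c93905a) (.leaf 0x6c924b09c))) (.node (.node (.leaf 0x5997901c) (.leaf 0x17759b056)) (.node (.leaf 0x85f68901c) (.leaf 0x1c8f9b01e)))))))) (.node (.node (.node (.node (.node (.node (.node (.leaf 0xc75e2500a) (.leaf 0x3fc5b194)) (.node (.leaf 0x9e6fb144) (.leaf 0x332a8900e))) (.node (.node (.leaf 0x2617700e)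 (.leaf 0x18bc39030)) (.node (.leaf 0x43be5b09c) (.leaf 0x5584ab0c6)))) (.node (.node (.node (.leaf 0x6fe1b114) (.leaf 0x21813b184)) (.node (.leaf 0x50d62901a) (.leaf 0x1e5af9006))) (.node (.node (.leaf 0x1cbacb01e) (.leaf 0xaa3fab0a2)) (.node (.leaf 0x4a528b0c0) (.leaf 0xd86c0901c))))) (.node (.node (.node (.node (.leaf 0x9eac7010) (.leaf 0x216d4b0fc)) (.node (.leaf 0xd83ee9014) (.leaf 0x17be1900e))) (.node (.node (.leaf 0x294e9b036) (.leaf 0x3818db044)) (.node (.leaf 0x200c99016) (.leaf 0x1be4b905c)))) (.node (.node (.node (.leaf 0x12722b2dc) (.leaf 0x7d61b084)) (.node (.leaf 0x58bdc9036) (.leaf 0x4f9d700a))) (.node (.node (.leaf 0x5f1e7006) (.leaf 0x8803b044)) (.node (.leaf 0x28bd9046) (.leaf 0x1a04bb09c)))))) (.node (.node (.node (.node (.node (.leaf 0x3c8c27004) (.leaf 0x62c8b9042)) (.node (.leaf 0xad43b0fc) (.leaf 0x90147000))) (.node (.node (.leaf 0x2a39e9036) (.leaf 0x1136cb000)) (.node (.leaf 0x1069bb10c)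 (.leaf 0x645889016)))) (.node (.node (.node (.leaf 0x9cf7b00c) (.leaf 0x13d78b1d6)) (.node (.leaf 0x1c5fcb01e) (.leaf 0x97799b050))) (.node (.node (.leaf 0x1ff89704e) (.leaf 0xc6dbb114)) (.node (.leaf 0x204a07042) (.leaf 0x9ab49b064))))) (.node (.node (.node (.node (.leaf 0x5f0ac9042) (.leaf 0xd39bb09c)) (.node (.leaf 0x30779b2dc) (.leaf 0x5b979004))) (.node (.node (.leaf 0x8ac55901c) (.leaf 0x1376f9030)) (.node (.leaf 0x4e1fcb036) (.leaf 0x22bffb0ea)))) (.node (.node (.node (.leaf 0xadcab194) (.leaf 0x39600b0ea)) (.node (.leaf 0x57a02b0d6) (.leaf 0xad96c7034))) (.node (.node (.leaf 0x1411db000) (.leaf 0x246cf3004)) (.node (.leaf 0x3ca447042) (.leaf 0x6df789044))))))) (.node (.node (.node (.node (.node (.node (.leaf 0x111a2b050) (.leaf 0x2ec05b036)) (.node (.leaf 0x4df519044) (.leaf 0x24504b05a))) (.node (.node (.leaf 0x163db0c0) (.leaf 0x1afa6b036)) (.node (.leaf 0x2af17b056) (.leaf 0x11f055b08a)))) (.node (.node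 (.node (.leaf 0x6952a901c) (.leaf 0x16a65b2dc)) (.node (.leaf 0xc10704e) (.leaf 0x681a9b050))) (.node (.node (.leaf 0x32c44b09c) (.leaf 0x4ea94b036)) (.node (.leaf 0x3c1d09082) (.leaf 0x22a9fb194))))) (.node (.node (.node (.node (.leaf 0x274403002) (.leaf 0x4bf96b044)) (.node (.leaf 0xb0eab1d6) (.leaf 0x2dee9b0a2))) (.node (.node (.leaf 0xfa68b0c6) (.leaf 0x939c9000)) (.node (.leaf 0x90649010) (.leaf 0x488d904e)))) (.node (.node (.node (.leaf 0x735bb7004) (.leaf 0x24090c6)) (.node (.leaf 0x224fb00c) (.leaf 0x47f489014))) (.node (.node (.leaf 0x2c1389026) (.leaf 0x412779006)) (.node (.leaf 0x6f8b19046) (.leaf 0x273363002)))))) (.node (.node (.node (.node (.node (.leaf 0xe16897002) (.leaf 0x9d11cb05c)) (.node (.leaf 0x2a065b056) (.leaf 0x24889010))) (.node (.node (.leaf 0xa675b062) (.leaf 0x5069900c)) (.node (.leaf 0x6a755b056) (.leaf 0x1c4e9b01e)))) (.node (.node (.node (.leaf 0x7d485b0a2) (.leaf 0x29ae2b084)) (.node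 (.leaf 0x15d39700e) (.leaf 0xe088b0d6))) (.node (.node (.leaf 0x4996db0cc) (.leaf 0x3ea5b0ea)) (.node (.leaf 0x3cdea9024) (.leaf 0x315ac9030))))) (.node (.node (.node (.node (.leaf 0x6fae49000) (.leaf 0x58ad1b1fe)) (.node (.leaf 0x24c7b144) (.leaf 0x10ce69030))) (.node (.node (.leaf 0x59c759024) (.leaf 0x54a09006)) (.node (.leaf 0x33cf6b056) (.leaf 0x25e09000)))) (.node (.node (.node (.leaf 0x29851b036) (.leaf 0x204667004)) (.node (.leaf 0x84dab064) (.leaf 0x11c9bb042))) (.node (.node (.leaf 0x20168901c) (.leaf 0x1b66cb1d6)) (.node (.leaf 0x16225b0c0) (.leaf 0x16acf9700a)))))))))) (.node (.node (.node (.node (.node (.node (.node (.node (.node (.leaf 0x8037cb2dc) (.leaf 0xb63ab05c)) (.node (.leaf 0x2af539030) (.leaf 0x4191d904e))) (.node (.node (.leaf 0x7a632b08a) (.leaf 0x11b0a49010)) (.node (.leaf 0x11c3e700e) (.leaf 0xb6899030)))) (.node (.node (.node (.leaf 0x1bfbcb05c) (.leaf 0x2dd95b0a2)) (.node (.leaf 0x1d218b0d6)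 (.leaf 0x83372b0a2))) (.node (.node (.leaf 0x2d838b0a2) (.leaf 0x202bf90c6)) (.node (.leaf 0xae227004) (.leaf 0x277133000))))) (.node (.node (.node (.node (.leaf 0x95e429082) (.leaf 0x2fd1c3004)) (.node (.leaf 0xe605b0d6) (.leaf 0x7f135b062))) (.node (.node (.leaf 0x54459b002) (.leaf 0x2f7d7b08a)) (.node (.leaf 0xcd4f7b002) (.leaf 0x475be901c)))) (.node (.node (.node (.leaf 0x115a19010) (.leaf 0x229a77004)) (.node (.leaf 0x3fcabb05a) (.leaf 0x24a02905a))) (.node (.node (.leaf 0x2223d901c) (.leaf 0xb6904e)) (.node (.leaf 0x253bab024) (.leaf 0x586db194)))))) (.node (.node (.node (.node (.node (.leaf 0x50ba09006) (.leaf 0x3c7ba9042)) (.node (.leaf 0x7c3309016) (.leaf 0x8a901a))) (.node (.node (.leaf 0xd751a900a) (.leaf 0x4109b062)) (.node (.leaf 0x127abb14e) (.leaf 0x9fbbb09a)))) (.node (.node (.node (.leaf 0x168b55b0cc) (.leaf 0x1b6fc9036)) (.node (.leaf 0x66a7fb2dc) (.leaf 0x7857b09c))) (.node (.node (.leaf 0x43eb3b084)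 (.leaf 0x24501b08a)) (.node (.leaf 0x4785d9006) (.leaf 0x1c685b01e))))) (.node (.node (.node (.node (.leaf 0x3fb91b08a) (.leaf 0xb1f8cb056)) (.node (.leaf 0x11cc99000) (.leaf 0x7a1773000))) (.node (.node (.leaf 0x1171c9046) (.leaf 0x21062700a)) (.node (.leaf 0xa4497006) (.leaf 0x10f259036)))) (.node (.node (.node (.leaf 0x3fd47905a) (.leaf 0x174db905c)) (.node (.leaf 0x2fc773000) (.leaf 0x3077cb2dc))) (.node (.node (.leaf 0x13740b10c) (.leaf 0x106f0b1fe)) (.node (.leaf 0x201bf900a) (.leaf 0x319ab9036))))))) (.node (.node (.node (.node (.node (.node (.leaf 0xaa77024) (.leaf 0xa724901c)) (.node (.leaf 0xdcc59700e) (.leaf 0xd87eb09c))) (.node (.node (.leaf 0x112397010) (.leaf 0x33ccc905c)) (.node (.leaf 0xf694bb044) (.leaf 0x3def2900e)))) (.node (.node (.node (.leaf 0x854a3900a) (.leaf 0x43404b036)) (.node (.leaf 0x2aaa1905c) (.leaf 0xbaa3b1fe))) (.node (.node (.leaf 0x22ce57042) (.leaf 0x38136b064)) (.node (.leaf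 0x2ee4db09c) (.leaf 0x1853c9036))))) (.node (.node (.node (.node (.leaf 0x1342db1fe) (.leaf 0xeda4b024)) (.node (.leaf 0x65375901c) (.leaf 0x15e669000))) (.node (.node (.leaf 0x17815905c) (.leaf 0x45340b194)) (.node (.leaf 0xc739b114) (.leaf 0x1ba8b14e)))) (.node (.node (.node (.leaf 0x7ce617024) (.leaf 0x8e61e905c)) (.node (.leaf 0x8b9b59046) (.leaf 0xfa69b0c6))) (.node (.node (.leaf 0x97fcb01c) (.leaf 0x116117000)) (.node (.leaf 0x833a6b0a2) (.leaf 0x3fbe700a)))))) (.node (.node (.node (.node (.node (.leaf 0x3f528b08a) (.leaf 0x4073bb0ea)) (.node (.leaf 0xd09837026) (.leaf 0x32945b036))) (.node (.node (.leaf 0x24378b08a) (.leaf 0x3abe1b0cc)) (.node (.leaf 0x73a8290c6) (.leaf 0x584db0ea)))) (.node (.node (.node (.leaf 0x5f85cb086) (.leaf 0x1389f8704e)) (.node (.leaf 0x50b737034) (.leaf 0x276f3b08a))) (.node (.node (.leaf 0x18b7cb05c) (.leaf 0x31cd2b056)) (.node (.leaf 0x41b0b184) (.leaf 0x59715b0ea))))) (.node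 (.node (.node (.node (.leaf 0x33507b10c) (.leaf 0x2c23b09a)) (.node (.leaf 0x3d8890c6) (.leaf 0x7b5a7b2dc))) (.node (.node (.leaf 0x664ab064) (.leaf 0x147907010)) (.node (.leaf 0x22dd49016) (.leaf 0xf53eb024)))) (.node (.node (.node (.leaf 0xa1b89082) (.leaf 0x25c55b0c6)) (.node (.leaf 0x2bff5b014) (.leaf 0x1f203904e))) (.node (.node (.leaf 0x3cac87034) (.leaf 0x1b031b1fe)) (.node (.leaf 0x6570f9014) (.leaf 0x7028d9046)))))))) (.node (.node (.node (.node (.node (.node (.node (.leaf 0x416eb086) (.leaf 0x130a8b05c)) (.node (.leaf 0x1148279002) (.leaf 0x2b967b000))) (.node (.node (.leaf 0x224cb900c) (.leaf 0x1ba14b10c)) (.node (.leaf 0x14f53b144) (.leaf 0xa0ac7042)))) (.node (.node (.node (.leaf 0x2124c704e) (.leaf 0xe7de79016)) (.node (.leaf 0xbe539044) (.leaf 0xc929016))) (.node (.node (.leaf 0x50197901c) (.leaf 0x6e925b09c)) (.node (.leaf 0x140e09000) (.leaf 0x22bf57024))))) (.node (.node (.node (.node (.leaf 0x3a0e4b0cc)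 (.leaf 0x24f29b08a)) (.node (.leaf 0x1c7d5b01e) (.leaf 0x5bd86b044))) (.node (.node (.leaf 0x144189010) (.leaf 0x274b13004)) (.node (.leaf 0x32b6db036) (.leaf 0x226979014)))) (.node (.node (.node (.leaf 0x1fe327024) (.leaf 0xaefc7024)) (.node (.leaf 0x294f1b09c) (.leaf 0xb5804900c))) (.node (.node (.leaf 0x2459bb05a) (.leaf 0x5f38b0fc)) (.node (.leaf 0x33a65b1d6) (.leaf 0x4d0d1b056)))))) (.node (.node (.node (.node (.node (.leaf 0x5fa21b0fc) (.leaf 0x1c585b01e)) (.node (.leaf 0x3ba31b050) (.leaf 0x1478bb00c))) (.node (.node (.leaf 0xa6d29014) (.leaf 0x3f8c3b05a)) (.node (.leaf 0x248993002) (.leaf 0x259bb014)))) (.node (.node (.node (.leaf 0x5a9fe9030) (.leaf 0x156ee7000)) (.node (.leaf 0x2daa8b0a2) (.leaf 0x24f123002))) (.node (.node (.leaf 0x5c0fb184) (.leaf 0x27beeb08a)) (.node (.leaf 0x1130b0c0) (.leaf 0x3a9b4b0cc))))) (.node (.node (.node (.node (.leaf 0x3d3dab056) (.leaf 0x6f644b01c)) (.node (.leaf 0x1970b2dc)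 (.leaf 0x18f3eb1d6))) (.node (.node (.leaf 0x6bd3b044) (.leaf 0x17a8b9030)) (.node (.leaf 0x2a40b01c) (.leaf 0x190ecfb1fe)))) (.node (.node (.node (.leaf 0x8039082) (.leaf 0x3f2e03002)) (.node (.leaf 0x4e59cb09c) (.leaf 0x12372b0c0))) (.node (.node (.leaf 0x25c0eb0d6) (.leaf 0x1a9eeb09c)) (.node (.leaf 0x172ceb10c) (.leaf 0x274e63000))))))) (.node (.node (.node (.node (.node (.node (.leaf 0x94fdb06a) (.leaf 0x16c38b2dc)) (.node (.leaf 0x12362b0c0) (.leaf 0xaf0a9024))) (.node (.node (.leaf 0x474f77006) (.leaf 0x70dc87000)) (.node (.leaf 0x3cd8704e) (.leaf 0x340a97026)))) (.node (.node (.node (.leaf 0x1f1de9082) (.leaf 0x17e64b1d6)) (.node (.leaf 0x4ba7b0fc) (.leaf 0x2f0fab08a))) (.node (.node (.leaf 0x324e2b084) (.leaf 0x571ecb0c6)) (.node (.leaf 0x1b1a6b1d6) (.leaf 0x4afbdb14e))))) (.node (.node (.node (.node (.leaf 0x1e1af704e) (.leaf 0x650879024)) (.node (.leaf 0x2801b06a) (.leaf 0x224119082))) (.node (.node (.leaf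 0x3c8cc9004) (.leaf 0x96643b09a)) (.node (.leaf 0x2396cb064) (.leaf 0x244c0b08a)))) (.node (.node (.node (.leaf 0x5caab062) (.leaf 0xaf96900c)) (.node (.leaf 0x450c5b0fc) (.leaf 0x11866b00c))) (.node (.node (.leaf 0x78354900a) (.leaf 0x1d101b024)) (.node (.leaf 0x118ad5904e) (.leaf 0x2ba80b042)))))) (.node (.node (.node (.node (.node (.leaf 0x20eb87014) (.leaf 0x4cde2b10c)) (.node (.leaf 0xc5633b036) (.leaf 0x59ad5b086))) (.node (.node (.leaf 0x3bf32b002) (.leaf 0x41e77704e)) (.node (.leaf 0xbad38b050) (.leaf 0x73bd29006)))) (.node (.node (.node (.leaf 0x159014) (.leaf 0x558db086)) (.node (.leaf 0x4f6c6b17a) (.leaf 0x71e8b084))) (.node (.node (.leaf 0x156257030) (.leaf 0x6626fb2dc)) (.node (.leaf 0x44b727030) (.leaf 0xd17bb036))))) (.node (.node (.node (.node (.leaf 0x4374bb084) (.leaf 0x991fe7034)) (.node (.leaf 0x1556eb002) (.leaf 0x5da5e9010))) (.node (.node (.leaf 0x21c1c90c6) (.leaf 0x126fbb14e)) (.node (.leaf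 0x1350ab1d6) (.leaf 0x203689004)))) (.node (.node (.node (.leaf 0x484eb194) (.leaf 0x6daae900e)) (.node (.leaf 0x6f5bfb09a) (.leaf 0xa2e59016))) (.node (.node (.leaf 0x119eeb144) (.leaf 0xaf5f3b002)) (.node (.leaf 0x3e88900a) (.leaf 0x4257004))))))))) (.node (.node (.node (.node (.node (.node (.node (.node (.leaf 0x3a426b00a) (.leaf 0x53b72b064)) (.node (.leaf 0x54557004) (.leaf 0xac47d901c))) (.node (.node (.leaf 0x34b77014) (.leaf 0x12f8b14e)) (.node (.leaf 0x4915f5004) (.leaf 0x1305db056)))) (.node (.node (.node (.leaf 0x900c590c6) (.leaf 0x202aeb086)) (.node (.leaf 0x9ce257000) (.leaf 0x3736b9026))) (.node (.node (.leaf 0x1c840b01e) (.leaf 0x21c1b7014)) (.node (.leaf 0x72e5e9010) (.leaf 0x31eb59036))))) (.node (.node (.node (.node (.leaf 0xf7a2b0d6) (.leaf 0xab9649004)) (.node (.leaf 0x83fa2b0a2) (.leaf 0x3dea5b05c))) (.node (.node (.leaf 0x4592b901a) (.leaf 0x9543b050)) (.node (.leaf 0x36da7b09c) (.leaf 0x32a3fb084))))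 (.node (.node (.node (.leaf 0x5d259014) (.leaf 0xafe527020)) (.node (.leaf 0xe7db0ea) (.leaf 0x3e93f9030))) (.node (.node (.leaf 0x427f900a) (.leaf 0x11c7d9026)) (.node (.leaf 0x3235cb036) (.leaf 0x645bb114)))))) (.node (.node (.node (.node (.node (.leaf 0x9922d900a) (.leaf 0x1a4e5b084)) (.node (.leaf 0xde56b09c) (.leaf 0x6abd59044))) (.node (.node (.leaf 0x24a18905a) (.leaf 0x117348b194)) (.node (.leaf 0x73fe3b0ea) (.leaf 0x62d41901c)))) (.node (.node (.node (.leaf 0x2c7d4b01c) (.leaf 0x2fb41b05a)) (.node (.leaf 0x26662b084) (.leaf 0x9bd5f905c))) (.node (.node (.leaf 0x417f90c6) (.leaf 0xb8d9905c)) (.node (.leaf 0x1cccdb01e) (.leaf 0x1e45c9082))))) (.node (.node (.node (.node (.leaf 0x11ca47020) (.leaf 0x4eeb5b09c)) (.node (.leaf 0x54331b01c) (.leaf 0x56624b014))) (.node (.node (.leaf 0x1698c9b0c0) (.leaf 0x390aa901c)) (.node (.leaf 0x2cbb5b06a) (.leaf 0x20b6eb0ea)))) (.node (.node (.node (.leaf 0x141a47026) (.leaf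 0x1ca9db01e)) (.node (.leaf 0x345ad7000) (.leaf 0x63640900c))) (.node (.node (.leaf 0x3d2e7006) (.leaf 0x156167010)) (.node (.leaf 0x3ce04b184) (.leaf 0x1b457900e))))))) (.node (.node (.node (.node (.node (.node (.leaf 0x40ec99004) (.leaf 0x84f9b114)) (.node (.leaf 0x6a9e39044) (.leaf 0x2d8bdb0a2))) (.node (.node (.leaf 0x589339030) (.leaf 0x5a7a9016)) (.node (.leaf 0x446b59000) (.leaf 0x17dcfb1fe)))) (.node (.node (.node (.leaf 0x1a0c6b09c) (.leaf 0x275a63004)) (.node (.leaf 0xd19069006) (.leaf 0x15bde9010))) (.node (.node (.leaf 0xe376b0c6) (.leaf 0x19a49b044)) (.node (.leaf 0x69c7e9082) (.leaf 0x1359a9036))))) (.node (.node (.node (.node (.leaf 0xd435b084) (.leaf 0x1b341b056)) (.node (.leaf 0x350efb0c6) (.leaf 0x12373b0c0))) (.node (.node (.leaf 0x7d2fcb0a2) (.leaf 0x134e5900e)) (.node (.leaf 0x85d29b062) (.leaf 0x27e6db05a)))) (.node (.node (.node (.leaf 0xab8b704e) (.leaf 0x6f5deb042)) (.node (.leaf 0x2b2d79046)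 (.leaf 0x20b67b0fc))) (.node (.node (.leaf 0x39c767034) (.leaf 0xb1db194)) (.node (.leaf 0x2164c9006) (.leaf 0x16cb0b14e)))))) (.node (.node (.node (.node (.node (.leaf 0x278093000) (.leaf 0x3329c9030)) (.node (.leaf 0x73291b184) (.leaf 0xb798b1d6))) (.node (.node (.leaf 0x3f6543006) (.leaf 0x44846b144)) (.node (.leaf 0xb3df9030) (.leaf 0x1e2f07024)))) (.node (.node (.node (.leaf 0xa716fb0c0) (.leaf 0xfa61b0c6)) (.node (.leaf 0x40547034) (.leaf 0x2008eb194))) (.node (.node (.leaf 0x392aa9004) (.leaf 0x2adb19030)) (.node (.leaf 0x1ecea900c) (.leaf 0x83f76b0a2))))) (.node (.node (.node (.node (.leaf 0x398327042) (.leaf 0x1f9dcb194)) (.node (.leaf 0x21c537042) (.leaf 0x39159042))) (.node (.node (.leaf 0x2dc50b0a2) (.leaf 0x24008300e)) (.node (.leaf 0x587b9082) (.leaf 0x25e1db0c6)))) (.node (.node (.node (.leaf 0x24012300e) (.leaf 0xa789904e)) (.node (.leaf 0x218db000) (.leaf 0x5c5eab0c6))) (.node (.node (.leaf 0x14a749026)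 (.leaf 0x40a597014)) (.node (.leaf 0x329a4b036) (.leaf 0x1a913b036)))))))) (.node (.node (.node (.node (.node (.node (.node (.leaf 0x26b2b042) (.leaf 0x143df7030)) (.node (.leaf 0x34562700e) (.leaf 0xb9d2b10c))) (.node (.node (.leaf 0x1c3cdb01e) (.leaf 0x9e2ab042)) (.node (.leaf 0x126fab14e) (.leaf 0x436bdb036)))) (.node (.node (.node (.leaf 0x77c0b084) (.leaf 0x5db6e7000)) (.node (.leaf 0x22f8b002) (.leaf 0x27d44b05a))) (.node (.node (.leaf 0x5f97e9082) (.leaf 0xd42b062)) (.node (.leaf 0x46fdfb06a) (.leaf 0x1b0f9900e))))) (.node (.node (.node (.node (.leaf 0x594ed9014) (.leaf 0x54898b06a)) (.node (.leaf 0x456f9006) (.leaf 0x30d37034))) (.node (.node (.leaf 0xa7516b14e) (.leaf 0x1172a7030)) (.node (.leaf 0x1eca07042) (.leaf 0x4387eb084)))) (.node (.node (.node (.leaf 0x2541eb0d6) (.leaf 0x58cad905c)) (.node (.leaf 0x1c450b01e) (.leaf 0x575f7024))) (.node (.node (.leaf 0x1c99db01e) (.leaf 0x10928900e)) (.node (.leaf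 0x1f23cb0ea) (.leaf 0x67d10b1d6)))))) (.node (.node (.node (.node (.node (.leaf 0x109a39036) (.leaf 0x3bd89b09a)) (.node (.leaf 0x4bde9042) (.leaf 0x28582b0d6))) (.node (.node (.leaf 0x1cf40b01e) (.leaf 0x35bf7042)) (.node (.leaf 0x49c197002) (.leaf 0x21f8b9004)))) (.node (.node (.node (.leaf 0x4ccc3b1fe) (.leaf 0xaf8839010)) (.node (.leaf 0x2a4e59044) (.leaf 0x240c9905a))) (.node (.node (.leaf 0x34279004) (.leaf 0x18427b056)) (.node (.leaf 0x81678904e) (.leaf 0x5c350b024))))) (.node (.node (.node (.node (.leaf 0x4bdb086) (.leaf 0x17b66b05c)) (.node (.leaf 0x4f53eb17a) (.leaf 0x2f2b9b05a))) (.node (.node (.leaf 0x15405b09a) (.leaf 0x58c4cb1d6)) (.node (.leaf 0x25b6ab024) (.leaf 0x87c74b086)))) (.node (.node (.node (.leaf 0x2287e704e) (.leaf 0xec55b0d6)) (.node (.leaf 0x71c6bb1d6) (.leaf 0xaadf3b0a2))) (.node (.node (.leaf 0x21f077034) (.leaf 0x3cf63b0fc)) (.node (.leaf 0x16068b0c0) (.leaf 0x100c5d900c))))))) (.node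 (.node (.node (.node (.node (.node (.leaf 0x2feda3004) (.leaf 0x1de33b0c6)) (.node (.leaf 0x2ccd7b014) (.leaf 0x10640b056))) (.node (.node (.leaf 0xaf7b184) (.leaf 0x95713b062)) (.node (.leaf 0x2a3979044) (.leaf 0x2db50b0a2)))) (.node (.node (.node (.leaf 0x58c63905c) (.leaf 0x5562901a)) (.node (.leaf 0x3b60a7010) (.leaf 0x5a1e89030))) (.node (.node (.leaf 0x2aadeb05c) (.leaf 0xd9568b050)) (.node (.leaf 0x1374b900e) (.leaf 0x9eb9b000))))) (.node (.node (.node (.node (.leaf 0x3a343b00a) (.leaf 0x73efb09c)) (.node (.leaf 0x27f903000) (.leaf 0x1e968901c))) (.node (.node (.leaf 0x3af01b090) (.leaf 0x1eb667004)) (.node (.leaf 0x7da2cb0a2) (.leaf 0x1920b0c0)))) (.node (.node (.node (.leaf 0x19ec1b114) (.leaf 0x244bb050)) (.node (.leaf 0x3d930b1fe) (.leaf 0xb18f905c))) (.node (.node (.leaf 0x76418b036) (.leaf 0x21dc99042)) (.node (.leaf 0x43556b084) (.leaf 0x34fb2b144)))))) (.node (.node (.node (.node (.node (.leaf 0xfaeeb024)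 (.leaf 0x3a27901c)) (.node (.leaf 0x1533f7020) (.leaf 0x3cb8db062))) (.node (.node (.leaf 0x100cab056) (.leaf 0x27895b05a)) (.node (.leaf 0x34c5d9010) (.leaf 0x2fa5d3000)))) (.node (.node (.node (.leaf 0x4a389004) (.leaf 0x635377006)) (.node (.leaf 0xa099700a) (.leaf 0x2bb4a9026))) (.node (.node (.leaf 0x2f620b05a) (.leaf 0x1160b2dc)) (.node (.leaf 0x24c333006) (.leaf 0x7fcd7900a))))) (.node (.node (.node (.node (.leaf 0x48e87014) (.leaf 0x715ab036)) (.node (.leaf 0x14a866905a) (.leaf 0x8131b044))) (.node (.node (.leaf 0x22c8c901a) (.leaf 0x9b94b002)) (.node (.leaf 0x455e87004) (.leaf 0x1d791b024)))) (.node (.node (.node (.leaf 0x272eb3004) (.leaf 0x4dbecb05c)) (.node (.leaf 0x3a059024) (.leaf 0x6c8b0fc))) (.node (.node (.leaf 0x29a28b09c) (.leaf 0x595b79082)) (.node (.leaf 0x58ce6b10c) (.leaf 0x30d89006))))))))))) (.node (.node (.node (.node (.node (.node (.node (.node (.node (.node (.leaf 0xc5cc900e) (.leaf 0x2fa95b08a))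 (.node (.leaf 0xb66c27006) (.leaf 0xb76ac7002))) (.node (.node (.leaf 0x3388fb114) (.leaf 0x11597b062)) (.node (.leaf 0x2ec13b09c) (.leaf 0x621e67010)))) (.node (.node (.node (.leaf 0x2da33b0a2) (.leaf 0x3e31b000)) (.node (.leaf 0x42a8b014) (.leaf 0x42030905c))) (.node (.node (.leaf 0xc4bb9036) (.leaf 0x7c01eb01c)) (.node (.leaf 0xb2b59b0ea) (.leaf 0x733db09c))))) (.node (.node (.node (.node (.leaf 0x7ac73b05a) (.leaf 0x2d2e3b0a2)) (.node (.leaf 0x345f9900a) (.leaf 0x323e0b084))) (.node (.node (.leaf 0x198e4900e) (.leaf 0x2b09a9006)) (.node (.leaf 0x357125004) (.leaf 0x647c9044)))) (.node (.node (.node (.leaf 0x273363000) (.leaf 0x6ed5bb036)) (.node (.leaf 0x49474b024) (.leaf 0x97f33b0ea))) (.node (.node (.leaf 0x6178b905c) (.leaf 0x1aac1b09c)) (.node (.leaf 0x5e7f8700e) (.leaf 0xd55675014)))))) (.node (.node (.node (.node (.node (.leaf 0x90259014) (.leaf 0xa1dd7900c)) (.node (.leaf 0x3531c7002) (.leaf 0x2c3637034)))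 (.node (.node (.leaf 0x3af69b0d6) (.leaf 0x14acb9082)) (.node (.leaf 0x2a4fdb064) (.leaf 0x4195db042)))) (.node (.node (.node (.leaf 0xf4a77002) (.leaf 0x1cbdb0c0)) (.node (.leaf 0x539eb042) (.leaf 0x152237004))) (.node (.node (.leaf 0x25886b0cc) (.leaf 0x2733eb08a)) (.node (.leaf 0x285cb0fc) (.leaf 0x55c9db0a6))))) (.node (.node (.node (.node (.leaf 0x89aa900e) (.leaf 0x1425a9016)) (.node (.leaf 0xa8c9b042) (.leaf 0x245483004))) (.node (.node (.leaf 0x8f6309002) (.leaf 0x1ea337000)) (.node (.leaf 0x96957004) (.leaf 0x2193b184)))) (.node (.node (.node (.leaf 0x873c17026) (.leaf 0x39c01b002)) (.node (.leaf 0x3a688b024) (.leaf 0x20ddbb01c))) (.node (.node (.leaf 0x19d439036) (.leaf 0xb107026)) (.node (.leaf 0x3ce98700e) (.leaf 0x254805010))))))) (.node (.node (.node (.node (.node (.node (.leaf 0x231c29030) (.leaf 0x5b5beb1d6)) (.node (.leaf 0x9181fb2dc) (.leaf 0x2c4a89006))) (.node (.node (.leaf 0x46e579014) (.leaf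 0x7c85b09c)) (.node (.leaf 0x1d55f5006) (.leaf 0xf620500e)))) (.node (.node (.node (.leaf 0x8b52b056) (.leaf 0x2fbceb05a)) (.node (.leaf 0x107c5b114) (.leaf 0xf621500e))) (.node (.node (.leaf 0x415777026) (.leaf 0x64f2b1fe)) (.node (.leaf 0x2946cb084) (.leaf 0xfb17020))))) (.node (.node (.node (.node (.leaf 0x5058cb01c) (.leaf 0x468e57024)) (.node (.leaf 0x15e249016) (.leaf 0x1d03e500e))) (.node (.node (.leaf 0x25c27b0cc) (.leaf 0x5074b002)) (.node (.leaf 0xddeab084) (.leaf 0x3f322905a)))) (.node (.node (.node (.leaf 0x447ea901c) (.leaf 0x2fc773002)) (.node (.leaf 0x1e2f07030) (.leaf 0x2277e7026))) (.node (.node (.leaf 0x1f108b000) (.leaf 0x26b86b09c)) (.node (.leaf 0x371e47034) (.leaf 0x67089030)))))) (.node (.node (.node (.node (.node (.leaf 0x143df7024) (.leaf 0x8bf4b056)) (.node (.leaf 0x4473a7014) (.leaf 0x16b60b14e))) (.node (.node (.leaf 0x42dd2905c) (.leaf 0x4dceb06a)) (.node (.leaf 0x27e1b0ea) (.leaf 0x3fa97905a))))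 (.node (.node (.node (.leaf 0x28278b00a) (.leaf 0x58234b044)) (.node (.leaf 0x1107ab184) (.leaf 0x306b9b0c0))) (.node (.node (.leaf 0x5559b000) (.leaf 0x1d23a500a)) (.node (.leaf 0x28b68502a) (.leaf 0xa84ab06a))))) (.node (.node (.node (.node (.leaf 0x513ecb0cc) (.leaf 0x2759bb08a)) (.node (.leaf 0x3aaeb042) (.leaf 0x493a5b0d6))) (.node (.node (.leaf 0x4fbaeb17a) (.leaf 0x68603b0ea)) (.node (.leaf 0x227bbb000) (.leaf 0x3c890b00c)))) (.node (.node (.node (.leaf 0x3a90eb0c6) (.leaf 0x3b27b050)) (.node (.leaf 0xa3d1bb084) (.leaf 0x210cd7020))) (.node (.node (.leaf 0x5e628b144) (.leaf 0x95569016)) (.node (.leaf 0x2ae3eb114) (.leaf 0x9f3339030)))))))) (.node (.node (.node (.node (.node (.node (.node (.leaf 0x1b589b064) (.leaf 0x4a4e5b2dc)) (.node (.leaf 0x3cccb002) (.leaf 0x207039010))) (.node (.node (.leaf 0x5b22cb05c) (.leaf 0x28721b00a)) (.node (.leaf 0x24ef2b08a) (.leaf 0x47cdb042)))) (.node (.node (.node (.leaf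 0x60d3cb050) (.leaf 0x25dd6b0cc)) (.node (.leaf 0x15a4b9024) (.leaf 0x2d81b194))) (.node (.node (.leaf 0xdbf1b036) (.leaf 0x42189b1d6)) (.node (.leaf 0xa9b4b014) (.leaf 0x276003004))))) (.node (.node (.node (.node (.leaf 0x346f990c6) (.leaf 0x46ff57042)) (.node (.leaf 0x11610b0ea) (.leaf 0x281cbb0a6))) (.node (.node (.leaf 0x156257024) (.leaf 0x570685006)) (.node (.leaf 0x9f556b10c) (.leaf 0x93623b09c)))) (.node (.node (.node (.leaf 0xcbfa900e) (.leaf 0x55440b0cc)) (.node (.leaf 0x253055004) (.leaf 0xf4a67002))) (.node (.node (.leaf 0x88132b00c) (.leaf 0x722257042)) (.node (.leaf 0x6f7bb05c) (.leaf 0x499bab0c6)))))) (.node (.node (.node (.node (.node (.leaf 0xe29bb00a) (.leaf 0xdd82b084)) (.node (.leaf 0xc6d3c9046) (.leaf 0x9cdb7024))) (.node (.node (.leaf 0x14252901a) (.leaf 0x6c460b084)) (.node (.leaf 0x35d165014) (.leaf 0x810c900e)))) (.node (.node (.node (.leaf 0x249b13004) (.leaf 0x8fab9036)) (.node (.leaf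 0x2f8fbb05a) (.leaf 0x375fb9006))) (.node (.node (.leaf 0x12cea6700a) (.leaf 0x7ff60b144)) (.node (.leaf 0x21fdc9026) (.leaf 0x23830905c))))) (.node (.node (.node (.node (.leaf 0x14ace904e) (.leaf 0x222edb014)) (.node (.leaf 0x3db42b064) (.leaf 0xbace79006))) (.node (.node (.leaf 0x13fdb2dc) (.leaf 0xb41bb064)) (.node (.leaf 0xac8b7026) (.leaf 0x290c6b036)))) (.node (.node (.node (.leaf 0x4e87ab036) (.leaf 0x9bdb8b114)) (.node (.leaf 0x44e227042) (.leaf 0x5497b050))) (.node (.node (.leaf 0x258315010) (.leaf 0xb7d2b044)) (.node (.leaf 0x17b01b900c) (.leaf 0x44b0c9042))))))) (.node (.node (.node (.node (.node (.node (.leaf 0xaa77030) (.leaf 0x9a6a904e)) (.node (.leaf 0x705619024) (.leaf 0x1aa79b09c))) (.node (.node (.leaf 0xcf34b056) (.leaf 0xab26b000)) (.node (.leaf 0xd909b036) (.leaf 0x11195b900e)))) (.node (.node (.node (.leaf 0xe1adb090) (.leaf 0xfe405042)) (.node (.leaf 0x579b77002) (.leaf 0x2943bb09c))) (.node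 (.node (.leaf 0x53d93b05c) (.leaf 0x2221b086)) (.node (.leaf 0x26f71b084) (.leaf 0x23ed2905c))))) (.node (.node (.node (.node (.leaf 0x3425f700a) (.leaf 0x28bff9002)) (.node (.leaf 0x2f5e6b05a) (.leaf 0x1951cb056))) (.node (.node (.leaf 0x2ffca905a) (.leaf 0x15ac87006)) (.node (.leaf 0xfbfe7b036) (.leaf 0x1fcaab050)))) (.node (.node (.node (.leaf 0x2fbeb062) (.leaf 0x8599e9046)) (.node (.leaf 0xb57717010) (.leaf 0xa5eda905a))) (.node (.node (.leaf 0x14a997004) (.leaf 0x378f89004)) (.node (.leaf 0x152719082) (.leaf 0x1765b14e)))))) (.node (.node (.node (.node (.node (.leaf 0x64029044) (.leaf 0xf2655006)) (.node (.leaf 0x86845b044) (.leaf 0x38d25b05c))) (.node (.node (.leaf 0x2f567905a) (.leaf 0x9e853b086)) (.node (.leaf 0xe58eb00a) (.leaf 0x1e3fb9000)))) (.node (.node (.node (.leaf 0x422c29030) (.leaf 0x7cdd69010)) (.node (.leaf 0x3f6c73002) (.leaf 0x7a418b08a))) (.node (.node (.leaf 0x14b299014) (.leaf 0xbfd6ab0ea))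 (.node (.leaf 0x6ea49b084) (.leaf 0xc102b056))))) (.node (.node (.node (.node (.leaf 0x2194c7026) (.leaf 0x55c40b0a6)) (.node (.leaf 0x971e901a) (.leaf 0x4ba63905c))) (.node (.node (.leaf 0x19b2ab056) (.leaf 0x1ded6502a)) (.node (.leaf 0x42de7b10c) (.leaf 0xe9bdb090)))) (.node (.node (.node (.leaf 0x2809026) (.leaf 0x41f86b06a)) (.node (.leaf 0x2f7ecb08a) (.leaf 0x395c3b042))) (.node (.node (.leaf 0xe0d6b00a) (.leaf 0x25277b0cc)) (.node (.leaf 0x11530b194) (.leaf 0x2f3a2905a))))))))) (.node (.node (.node (.node (.node (.node (.node (.node (.leaf 0x42536b1fe) (.leaf 0x1efd0b09a)) (.node (.leaf 0x4b04700e) (.leaf 0x34ccf7006))) (.node (.node (.leaf 0x30be9b0c0) (.leaf 0x8599b05c)) (.node (.leaf 0xff2bb0a6) (.leaf 0x57f0bb0a6)))) (.node (.node (.node (.leaf 0xcff1b10c) (.leaf 0x226ee9026)) (.node (.leaf 0x3a558b024) (.leaf 0x1d6575014))) (.node (.node (.leaf 0x2d6e9016) (.leaf 0x2e218b084)) (.node (.leaf 0x1d4597002)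 (.leaf 0x5e29ab000))))) (.node (.node (.node (.node (.leaf 0x53c7010) (.leaf 0x3f184300a)) (.node (.leaf 0x37c79b062) (.leaf 0xee9db0a6))) (.node (.node (.leaf 0xa43b00c) (.leaf 0x766f6b036)) (.node (.leaf 0x69861b01c) (.leaf 0x1191f901a)))) (.node (.node (.node (.leaf 0x200f9082) (.leaf 0xda6fb084)) (.node (.leaf 0x369d5b09c) (.leaf 0x44ed9900a))) (.node (.node (.leaf 0x569beb0ea) (.leaf 0x1da325014)) (.node (.leaf 0x3f7fb300a) (.leaf 0x14331b194)))))) (.node (.node (.node (.node (.node (.leaf 0x78d4b09c) (.leaf 0x675a0b114)) (.node (.leaf 0x547000) (.leaf 0xe68db0a6))) (.node (.node (.leaf 0x8be1e904e) (.leaf 0x5c7275000)) (.node (.leaf 0x117db904e) (.leaf 0x285577002)))) (.node (.node (.node (.leaf 0x4025a7026) (.leaf 0x75324b114)) (.node (.leaf 0x9e7db194) (.leaf 0x1db897002))) (.node (.node (.leaf 0x97b097014) (.leaf 0x88df17026)) (.node (.leaf 0xdcb8b036) (.leaf 0x41a54700e))))) (.node (.node (.node (.node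 (.leaf 0x83f08b0a2) (.leaf 0xccbb144)) (.node (.leaf 0x533b0905c) (.leaf 0xaf03d901a))) (.node (.node (.leaf 0x7f5877026) (.leaf 0x343a99006)) (.node (.leaf 0x29a44b084) (.leaf 0x4b6679044)))) (.node (.node (.node (.leaf 0x1d6765000) (.leaf 0x22209700e)) (.node (.leaf 0x3c396b000) (.leaf 0xf749b00a))) (.node (.node (.leaf 0x41bf9026) (.leaf 0x2d227b0a2)) (.node (.leaf 0x250645000) (.leaf 0x19ca19036))))))) (.node (.node (.node (.node (.node (.node (.leaf 0x52533b10c) (.leaf 0x779b69044)) (.node (.leaf 0xcc9000) (.leaf 0x72508700a))) (.node (.node (.leaf 0x59174b01c) (.leaf 0xe538c7000)) (.node (.leaf 0x51abeb00a) (.leaf 0x3144ab064)))) (.node (.node (.node (.leaf 0x2dc37024) (.leaf 0x18f5cb114)) (.node (.leaf 0x115186700a) (.leaf 0x216389000))) (.node (.node (.leaf 0xb6f5b064) (.leaf 0x735a4b042)) (.node (.leaf 0x7e49010) (.leaf 0x89c4b1fe))))) (.node (.node (.node (.node (.leaf 0x1d8d49002) (.leaf 0x24f083000))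 (.node (.leaf 0x23ddfb05c) (.leaf 0x50774b002))) (.node (.node (.leaf 0x37f60b184) (.leaf 0xff2ab0a6)) (.node (.leaf 0xa3969046) (.leaf 0x3b73b900c)))) (.node (.node (.node (.leaf 0x47b2eb014) (.leaf 0x7bc0eb14e)) (.node (.leaf 0xf748b00a) (.leaf 0x1e6c27020))) (.node (.node (.leaf 0x15e2c901a) (.leaf 0x93ddb0ea)) (.node (.leaf 0x1cadb0c0) (.leaf 0x5523db090)))))) (.node (.node (.node (.node (.node (.leaf 0x3af46b0c6) (.leaf 0x28150500e)) (.node (.leaf 0x817d9700e) (.leaf 0xf5285002))) (.node (.node (.leaf 0x2cef8900a) (.leaf 0x939c6b036)) (.node (.leaf 0x232749044) (.leaf 0x90da97000)))) (.node (.node (.node (.leaf 0x34f067014) (.leaf 0xb08715000)) (.node (.leaf 0x1966cb1fe) (.leaf 0x5170cb090))) (.node (.node (.leaf 0xfa50502a) (.leaf 0x5dedb06a)) (.node (.leaf 0x4a4f5b2dc) (.leaf 0x28701500e))))) (.node (.node (.node (.node (.leaf 0x4abb5b0c0) (.leaf 0x20c68b050)) (.node (.leaf 0x39482b09a) (.leaf 0x3af7b014)))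 (.node (.node (.leaf 0x278c33004) (.leaf 0x4e427b09c)) (.node (.leaf 0x217509010) (.leaf 0xe0a05b0c6)))) (.node (.node (.node (.leaf 0xd497b084) (.leaf 0x4b817b1fe)) (.node (.leaf 0x1172a7024) (.leaf 0x1d1449002))) (.node (.node (.leaf 0xcb2bb1d6) (.leaf 0x1fc12b09a)) (.node (.leaf 0x30721b14e) (.leaf 0x2a1a6b044)))))))) (.node (.node (.node (.node (.node (.node (.node (.leaf 0xca5d8b17a) (.leaf 0x57bce9002)) (.node (.leaf 0x1935b14e) (.leaf 0x5547b014))) (.node (.node (.leaf 0x12da3b2dc) (.leaf 0xc659b05c)) (.node (.leaf 0xa4f8b00c) (.leaf 0x3145b06a)))) (.node (.node (.node (.leaf 0x8b31b10c) (.leaf 0x454c6b09a)) (.node (.leaf 0x52bfb09a) (.leaf 0x3f7c8300e))) (.node (.node (.leaf 0x48253b1fe) (.leaf 0x47c39b01c)) (.node (.leaf 0x20af07030) (.leaf 0x212887010))))) (.node (.node (.node (.node (.leaf 0x27bbcb05a) (.leaf 0x83db5b0a2)) (.node (.leaf 0x1da4f5010) (.leaf 0x1f6d5b01c))) (.node (.node (.leaf 0x6f44f7042)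 (.leaf 0x1d9ac7002)) (.node (.leaf 0x43b60b084) (.leaf 0x255795014)))) (.node (.node (.node (.leaf 0x3393eb064) (.leaf 0x9dcbb184)) (.node (.leaf 0x5731f9002) (.leaf 0x659e905c))) (.node (.node (.leaf 0x1436cb0fc) (.leaf 0xb503a7030)) (.node (.leaf 0xa5006300a) (.leaf 0x6dd3b10c)))))) (.node (.node (.node (.node (.node (.leaf 0x21f759046) (.leaf 0x3d313b114)) (.node (.leaf 0xa660b144) (.leaf 0x25d26b090))) (.node (.node (.leaf 0x23636b1fe) (.leaf 0xb9da17002)) (.node (.leaf 0x496a9046) (.leaf 0x3874b01c)))) (.node (.node (.node (.leaf 0x21f2904e) (.leaf 0x1ff3ab014)) (.node (.leaf 0xe950b0cc) (.leaf 0x46c18904e))) (.node (.node (.leaf 0x1d16e5004) (.leaf 0x2f674300e)) (.node (.leaf 0x1e38b7010) (.leaf 0xf57bb0a6))))) (.node (.node (.node (.node (.leaf 0x288067002) (.leaf 0x2276901a)) (.node (.leaf 0xe940b0cc) (.leaf 0xb21ab114))) (.node (.node (.leaf 0x1d3235004) (.leaf 0x49ff2b0c6)) (.node (.leaf 0x205b3b002) (.leaf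 0x5db8a900a)))) (.node (.node (.node (.leaf 0x4a86db14e) (.leaf 0xf741b00a)) (.node (.leaf 0x15918700a) (.leaf 0x21217700e))) (.node (.node (.leaf 0x1ab60b09c) (.leaf 0x251455000)) (.node (.leaf 0x1d17c7002) (.leaf 0x5c8c65010))))))) (.node (.node (.node (.node (.node (.node (.leaf 0x32758b084) (.leaf 0x3f960905a)) (.node (.leaf 0x14a91b0ea) (.leaf 0x258c7b090))) (.node (.node (.leaf 0x3b6989016) (.leaf 0x279763004)) (.node (.leaf 0x248993000) (.leaf 0xf90e9002)))) (.node (.node (.node (.leaf 0x17f46b114) (.leaf 0x1bc67b064)) (.node (.leaf 0xe1b700e) (.leaf 0x288955006))) (.node (.node (.leaf 0x42a749044) (.leaf 0x411c4b144)) (.node (.leaf 0x6751b1d6) (.leaf 0x218c7b144))))) (.node (.node (.node (.node (.leaf 0x9e1db086) (.leaf 0x15a08904e)) (.node (.leaf 0x4b94b144) (.leaf 0x118789014))) (.node (.node (.leaf 0x3cbb1b042) (.leaf 0x162a8b2dc)) (.node (.leaf 0x22651b00c) (.leaf 0xac5b9026)))) (.node (.node (.node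 (.leaf 0x73699b014) (.leaf 0xf740b00a)) (.node (.leaf 0x35083500a) (.leaf 0x2b78bb194))) (.node (.node (.leaf 0x2db97004) (.leaf 0x6258905c)) (.node (.leaf 0x308a9b2dc) (.leaf 0x18194b044)))))) (.node (.node (.node (.node (.node (.leaf 0x96f5090c6) (.leaf 0x9ec6b062)) (.node (.leaf 0xf5de9002) (.leaf 0x29899014))) (.node (.node (.leaf 0x26d9bb036) (.leaf 0x13edb2dc)) (.node (.leaf 0x2cdf890c6) (.leaf 0x35c02500e)))) (.node (.node (.node (.leaf 0x7679bb09c) (.leaf 0x60b87b01c)) (.node (.leaf 0x2100fb00c) (.leaf 0x5e4df7026))) (.node (.node (.leaf 0x28ac4500a) (.leaf 0x3e0fb09a)) (.node (.leaf 0x272993000) (.leaf 0x5ece1b042))))) (.node (.node (.node (.node (.leaf 0xaaf0700e) (.leaf 0x568cb01c)) (.node (.leaf 0x7cbcb09c) (.leaf 0xd7d0b036))) (.node (.node (.leaf 0x1d9219002) (.leaf 0x460cb00c)) (.node (.leaf 0x1f45cb06a) (.leaf 0x3dc58b064)))) (.node (.node (.node (.leaf 0x3099046) (.leaf 0x452c0b06a)) (.node (.leaf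 0x1a248b09c) (.leaf 0x76194b084))) (.node (.node (.leaf 0x1e0039010) (.leaf 0x803bb1d6)) (.node (.leaf 0x12db3b2dc) (.leaf 0x17991b064)))))))))) (.node (.node (.node (.node (.node (.node (.node (.node (.node (.leaf 0xc3b49044) (.leaf 0x364ebb084)) (.node (.leaf 0x27203905a) (.leaf 0x1fad07020))) (.node (.node (.leaf 0xdcd8b09c) (.leaf 0x2c572901a)) (.node (.leaf 0x1aad9b036) (.leaf 0x81bd57030)))) (.node (.node (.node (.leaf 0xa9db06a) (.leaf 0x38e9c905c)) (.node (.leaf 0x91b0900a) (.leaf 0x4b6e7b056))) (.node (.node (.leaf 0x4733b002) (.leaf 0xe323500e)) (.node (.leaf 0x23db7014) (.leaf 0xcbea1b090))))) (.node (.node (.node (.node (.leaf 0x17a0b0c0) (.leaf 0x40a07030)) (.node (.leaf 0x51309026) (.leaf 0x1131c900c))) (.node (.node (.leaf 0xe14f5006) (.leaf 0xec625006)) (.node (.leaf 0x22f827000) (.leaf 0x508b3b144)))) (.node (.node (.node (.leaf 0x204f8b014) (.leaf 0x44137901a)) (.node (.leaf 0x575f7030) (.leaf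 0xac5539046))) (.node (.node (.leaf 0x267d3b09c) (.leaf 0x294b901c)) (.node (.leaf 0x4683fb0ea) (.leaf 0xd57eeb00a)))))) (.node (.node (.node (.node (.node (.leaf 0x60728b144) (.leaf 0x241a6b05a)) (.node (.leaf 0x21698b01c) (.leaf 0x356f0b090))) (.node (.node (.leaf 0x7b886b2dc) (.leaf 0x1929c9044)) (.node (.leaf 0x14ab490c6) (.leaf 0x9b525b064)))) (.node (.node (.node (.leaf 0xb2705900c) (.leaf 0x5683c7024)) (.node (.leaf 0x10e0b2dc) (.leaf 0x958c99026))) (.node (.node (.leaf 0x2b419024) (.leaf 0x10498b064)) (.node (.leaf 0x1f0897026) (.leaf 0x4fd8fb17a))))) (.node (.node (.node (.node (.leaf 0xed2a500a) (.leaf 0xedd65042)) (.node (.leaf 0x17b94b114) (.leaf 0x997a700a))) (.node (.node (.leaf 0x1dd4db0a6) (.leaf 0x2708fb05a)) (.node (.leaf 0x61ccb1fe) (.leaf 0x2f7a73004)))) (.node (.node (.node (.leaf 0x3bb97020) (.leaf 0x24ee8b08a)) (.node (.leaf 0x2c40e904e) (.leaf 0x4f70fb17a))) (.node (.node (.leaf 0x2fe98b05a)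 (.leaf 0x52c859036)) (.node (.leaf 0xa2ff7000) (.leaf 0x4cbe2b044))))))) (.node (.node (.node (.node (.node (.node (.leaf 0x3e02ab114) (.leaf 0x6be4fb044)) (.node (.leaf 0xf7795000) (.leaf 0x29327006))) (.node (.node (.leaf 0x32309b084) (.leaf 0x22bf57030)) (.node (.leaf 0x18706b044) (.leaf 0x7265b036)))) (.node (.node (.node (.leaf 0xa55fdb05a) (.leaf 0xaa779000)) (.node (.leaf 0xeeda1b01e) (.leaf 0x516235004))) (.node (.node (.leaf 0x42af4b056) (.leaf 0x2c08f7024)) (.node (.leaf 0x27608b08a) (.leaf 0x8822b1fe))))) (.node (.node (.node (.node (.leaf 0xd68917024) (.leaf 0x56e059016)) (.node (.leaf 0x51a725010) (.leaf 0x23c49006))) (.node (.node (.leaf 0x4fb37000) (.leaf 0x246d1b08a)) (.node (.leaf 0x4b4ee9036) (.leaf 0x6181b05c)))) (.node (.node (.node (.leaf 0x1f8599026) (.leaf 0x2d6ceb0a2)) (.node (.leaf 0x28ac55010) (.leaf 0x25f1c5042))) (.node (.node (.leaf 0x5bf039030) (.leaf 0x91397b14e)) (.node (.leaf 0x26ab0b084)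 (.leaf 0x2b8bd7024)))))) (.node (.node (.node (.node (.node (.leaf 0x55ec19002) (.leaf 0xf4cbb090)) (.node (.leaf 0x19cb89030) (.leaf 0x4d5d4b044))) (.node (.node (.leaf 0x4f4dfb17a) (.leaf 0x2d45eb0a2)) (.node (.leaf 0x4615fb194) (.leaf 0x12a2ab14e)))) (.node (.node (.node (.leaf 0xf3255014) (.leaf 0x37ef8901c)) (.node (.leaf 0x8b6f99024) (.leaf 0x3f2613000))) (.node (.node (.leaf 0x2432a905a) (.leaf 0x44c849014)) (.node (.leaf 0x8fd29044) (.leaf 0xca909030))))) (.node (.node (.node (.node (.leaf 0x22702b002) (.leaf 0x1181b7006)) (.node (.leaf 0x251615006) (.leaf 0x4ace8b2dc))) (.node (.node (.leaf 0x16fe5b2dc) (.leaf 0x11e327014)) (.node (.leaf 0x822599082) (.leaf 0x60c19036)))) (.node (.node (.node (.leaf 0xb9e0b044) (.leaf 0x24af7905a)) (.node (.leaf 0x9306bb036) (.leaf 0x417339000))) (.node (.node (.leaf 0x24d23b05a) (.leaf 0x141de700a)) (.node (.leaf 0x56e1e9024) (.leaf 0xdef0b09c)))))))) (.node (.node (.node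 (.node (.node (.node (.node (.leaf 0x35dc7b00a) (.leaf 0x7c9db036)) (.node (.leaf 0x92a0704e) (.leaf 0x116ed9006))) (.node (.node (.leaf 0xb28bf7034) (.leaf 0xb65059014)) (.node (.leaf 0x5229bb1d6) (.leaf 0x2d9a6b0a2)))) (.node (.node (.node (.leaf 0x24bd900c) (.leaf 0x78d6b084)) (.node (.leaf 0x27c79b08a) (.leaf 0x2f6353000))) (.node (.node (.leaf 0x13f900b10c) (.leaf 0x45be47020)) (.node (.leaf 0x92cb01c) (.leaf 0x39d347020))))) (.node (.node (.node (.node (.leaf 0x3d405b114) (.leaf 0x3cf377010)) (.node (.leaf 0xe5af4b01c) (.leaf 0xa17fb002))) (.node (.node (.leaf 0xcf7e93002) (.leaf 0x653c9b00c)) (.node (.leaf 0x28e1ab0cc) (.leaf 0x2115bb014)))) (.node (.node (.node (.leaf 0x1fe327030) (.leaf 0x1e0ea9046)) (.node (.leaf 0x415fb7000) (.leaf 0x8c749044))) (.node (.node (.leaf 0x3eaf7030) (.leaf 0x86ebb05c)) (.node (.leaf 0x23bae900e) (.leaf 0x9c5d1900a)))))) (.node (.node (.node (.node (.node (.leaf 0x467b9000)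 (.leaf 0x558b75000)) (.node (.leaf 0x74fdbb114) (.leaf 0xde17cb09c))) (.node (.node (.leaf 0x2b4b9004) (.leaf 0xedde502a)) (.node (.leaf 0x2db52b0a2) (.leaf 0xb29b99024)))) (.node (.node (.node (.leaf 0x274e63002) (.leaf 0x6fdc5b0ea)) (.node (.leaf 0x1da80b0cc) (.leaf 0x83c91b0a2))) (.node (.node (.leaf 0x2fe0a3004) (.leaf 0x46f14b062)) (.node (.leaf 0x92b090c6) (.leaf 0x530b9b05c))))) (.node (.node (.node (.node (.leaf 0x2b077034) (.leaf 0x29a05b084)) (.node (.leaf 0x1da90b0cc) (.leaf 0x7e38fb05c))) (.node (.node (.leaf 0x2df36b0a2) (.leaf 0x2461eb05a)) (.node (.leaf 0x2233db050) (.leaf 0x25cb27002)))) (.node (.node (.node (.leaf 0x5941b7030) (.leaf 0x9aaac9036)) (.node (.leaf 0x11ff09024) (.leaf 0x514b57002))) (.node (.node (.leaf 0x5cd17020) (.leaf 0x2bdfc9016)) (.node (.leaf 0x203ddb042) (.leaf 0x3201bb036))))))) (.node (.node (.node (.node (.node (.node (.leaf 0x232f4b056) (.leaf 0x7d652b0a2)) (.node (.leaf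 0x51f5d9002) (.leaf 0x5fa07026))) (.node (.node (.leaf 0x2d83ab0a2) (.leaf 0x655839046)) (.node (.leaf 0x34e8cb086) (.leaf 0x3516ab00a)))) (.node (.node (.node (.leaf 0x1ea1cb00c) (.leaf 0x81e4db050)) (.node (.leaf 0x107b09a) (.leaf 0xbc3639006))) (.node (.node (.leaf 0x124af3b024) (.leaf 0x9f6f5900e)) (.node (.leaf 0x48801900e) (.leaf 0xf7705000))))) (.node (.node (.node (.node (.leaf 0x3f365b05a) (.leaf 0x2c519042)) (.node (.leaf 0x34afbb062) (.leaf 0x35b22b00a))) (.node (.node (.leaf 0x4167bb002) (.leaf 0x25534500e)) (.node (.leaf 0xc172b1fe) (.leaf 0x37d96900c)))) (.node (.node (.node (.leaf 0x286d45010) (.leaf 0x7bbeb084)) (.node (.leaf 0x1d280b0a6) (.leaf 0x546fb901a))) (.node (.node (.leaf 0x2e9beb09c) (.leaf 0xbb28b114)) (.node (.leaf 0x112a29004) (.leaf 0x2f729b05a)))))) (.node (.node (.node (.node (.node (.leaf 0x6fee5b194) (.leaf 0xaefc7030)) (.node (.leaf 0x28c9bb0cc) (.leaf 0x3bd87026))) (.node (.node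 (.leaf 0xe3edab17a) (.leaf 0x3895a905c)) (.node (.leaf 0x1c78b14e) (.leaf 0x15f35b184)))) (.node (.node (.node (.leaf 0x2424bb05a) (.leaf 0x14aa4704e)) (.node (.leaf 0xf3245014) (.leaf 0x1183a7042))) (.node (.node (.leaf 0x122f3b0c0) (.leaf 0xfd9bb090)) (.node (.leaf 0x1192e7034) (.leaf 0xc326b9036))))) (.node (.node (.node (.node (.leaf 0x2e149b084) (.leaf 0x5def4901a)) (.node (.leaf 0x2c20d7004) (.leaf 0x6829b10c))) (.node (.node (.leaf 0x4938b050) (.leaf 0x516625014)) (.node (.leaf 0x84109030) (.leaf 0xce829044)))) (.node (.node (.node (.leaf 0x1d54db0cc) (.leaf 0x248603002)) (.node (.leaf 0x7aed13000) (.leaf 0x3c374b09a))) (.node (.node (.leaf 0x6c6a9b084) (.leaf 0x2ed37042)) (.node (.leaf 0x286485004) (.leaf 0xfbfb014))))))))) (.node (.node (.node (.node (.node (.node (.node (.node (.leaf 0x14ea49006) (.leaf 0x405bb01c)) (.node (.leaf 0x2c0d5b086) (.leaf 0x19fa69030))) (.node (.node (.leaf 0x5f636700e) (.leaf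 0x2fc4704e)) (.node (.leaf 0x234599036) (.leaf 0x6f8e2901a)))) (.node (.node (.node (.leaf 0x2adb8b044) (.leaf 0x6ee1eb036)) (.node (.leaf 0x9aed9042) (.leaf 0xc613b10c))) (.node (.node (.leaf 0x15b1b9042) (.leaf 0x93f03b036)) (.node (.leaf 0x2408f300e) (.leaf 0xe8c49002))))) (.node (.node (.node (.node (.leaf 0x4f427020) (.leaf 0x207ea9046)) (.node (.leaf 0x83c0cb0a2) (.leaf 0x3477a9082))) (.node (.node (.leaf 0x2dec2b0a2) (.leaf 0x51049010)) (.node (.leaf 0x31c3700e) (.leaf 0x562c9000)))) (.node (.node (.node (.leaf 0x37bf1901a) (.leaf 0x2b5c0904e)) (.node (.leaf 0x23461b10c) (.leaf 0x89d4eb084))) (.node (.node (.leaf 0x1420e7006) (.leaf 0x1f206b144)) (.node (.leaf 0x45b8c9046) (.leaf 0x32949000)))))) (.node (.node (.node (.node (.node (.leaf 0x2d2a6b0a2) (.leaf 0x75ee1b064)) (.node (.leaf 0x1b014b044) (.leaf 0x3837e9044))) (.node (.node (.leaf 0x80b31b14e) (.leaf 0x29b9bb036)) (.node (.leaf 0x25086b0a6) (.leaf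 0xc58e9030)))) (.node (.node (.node (.leaf 0x9443901c) (.leaf 0x1f80d9010)) (.node (.leaf 0x3e419046) (.leaf 0x113bd90c6))) (.node (.node (.leaf 0x4c161b064) (.leaf 0x3b2b9b184)) (.node (.leaf 0x74903b044) (.leaf 0x4507a700e))))) (.node (.node (.node (.node (.leaf 0x159da9006) (.leaf 0x26e08b084)) (.node (.leaf 0xfd7ab0cc) (.leaf 0x1fbf59000))) (.node (.node (.leaf 0x1f89eb00c) (.leaf 0x61b889036)) (.node (.leaf 0x1ecf8b014) (.leaf 0x21a20b002)))) (.node (.node (.node (.leaf 0x66377b14e) (.leaf 0x38fc9010)) (.node (.leaf 0x5e4b3b002) (.leaf 0x1198b700a))) (.node (.node (.leaf 0x5b9279044) (.leaf 0x542a6b184)) (.node (.leaf 0x94bd9024) (.leaf 0x3548db0a6))))))) (.node (.node (.node (.node (.node (.node (.leaf 0x371fb704e) (.leaf 0xe52a5014)) (.node (.leaf 0xacdcb09a) (.leaf 0x34647010))) (.node (.node (.leaf 0x38aceb1fe) (.leaf 0x2cf30b0fc)) (.node (.leaf 0x4e80b09a) (.leaf 0x28a3bb090)))) (.node (.node (.node (.leaf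 0x71b3b084) (.leaf 0x21945b000)) (.node (.leaf 0x48afcb10c) (.leaf 0xfd7bb0cc))) (.node (.node (.leaf 0xf9315004) (.leaf 0x2575a9002)) (.node (.leaf 0x6f35f7024) (.leaf 0x56caf704e))))) (.node (.node (.node (.node (.leaf 0xe2d97002) (.leaf 0x1a128b036)) (.node (.leaf 0xd6fb050) (.leaf 0xd211b09c))) (.node (.node (.leaf 0x383009044) (.leaf 0xcc89b1d6)) (.node (.leaf 0x3f4c7000) (.leaf 0x282595000)))) (.node (.node (.node (.leaf 0x2567b9002) (.leaf 0xf18d9b00c)) (.node (.leaf 0x93966b09c) (.leaf 0xec0f5014))) (.node (.node (.leaf 0x693b9036) (.leaf 0x2194900a)) (.node (.leaf 0x275f73006) (.leaf 0x9e8b7042)))))) (.node (.node (.node (.node (.node (.leaf 0x6434b7020) (.leaf 0x15afd9004)) (.node (.leaf 0x833f9b0a2) (.leaf 0x26966b036))) (.node (.node (.leaf 0x2508a9002) (.leaf 0x1fe96700e)) (.node (.leaf 0x1fb0b0c0) (.leaf 0x2188bb050)))) (.node (.node (.node (.leaf 0x50b3b144) (.leaf 0xff355010)) (.node (.leaf 0xec265000)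 (.leaf 0x6bb87b114))) (.node (.node (.leaf 0x1207bb14e) (.leaf 0x14f977014)) (.node (.leaf 0xaae41b0a2) (.leaf 0x69e449046))))) (.node (.node (.node (.node (.leaf 0x25eab9002) (.leaf 0x5b86eb05c)) (.node (.leaf 0xd40f9b1d6) (.leaf 0x18b09b064))) (.node (.node (.leaf 0x4fce7b17a) (.leaf 0x2d1aab0a2)) (.node (.leaf 0x529c7010) (.leaf 0x27162300a)))) (.node (.node (.node (.leaf 0x55c56500a) (.leaf 0x18f0b2dc)) (.node (.leaf 0x1582d7014) (.leaf 0x6904900e))) (.node (.node (.leaf 0x435a9b084) (.leaf 0xe0335000)) (.node (.leaf 0x1f3f89046) (.leaf 0x122e2b0c0)))))))) (.node (.node (.node (.node (.node (.node (.node (.leaf 0x390319010) (.leaf 0x6bc10b064)) (.node (.leaf 0x255d6b0a6) (.leaf 0xe8a19002))) (.node (.node (.leaf 0x2a220b114) (.leaf 0x393cc9046)) (.node (.leaf 0xaacf4b0a2) (.leaf 0x708a1b194)))) (.node (.node (.node (.leaf 0x5e63700e) (.leaf 0xa357b01c)) (.node (.leaf 0x6f5ba9016) (.leaf 0x22455b09a))) (.node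 (.node (.leaf 0x973b47006) (.leaf 0x9fda8b05c)) (.node (.leaf 0x4be60b05c) (.leaf 0x2e606b09c))))) (.node (.node (.node (.node (.leaf 0xccce4b114) (.leaf 0x40d017030)) (.node (.leaf 0x1b39cb114) (.leaf 0xa9c69b114))) (.node (.node (.leaf 0xf72ab0cc) (.leaf 0x24a543006)) (.node (.leaf 0x63fcb056) (.leaf 0x5de65901c)))) (.node (.node (.node (.leaf 0x249dd3006) (.leaf 0xcf291905a)) (.node (.leaf 0x899e9030) (.leaf 0x47f9c9046))) (.node (.node (.leaf 0x595149000) (.leaf 0x198ebb10c)) (.node (.leaf 0x3f4213004) (.leaf 0xad7eeb06a)))))) (.node (.node (.node (.node (.node (.leaf 0x1d293b00a) (.leaf 0x814977020)) (.node (.leaf 0x3ade5b024) (.leaf 0x3430f904e))) (.node (.node (.leaf 0xbd4b002) (.leaf 0x750bb084)) (.node (.leaf 0x41b437010) (.leaf 0xce7e1b036)))) (.node (.node (.node (.leaf 0x53342900e) (.leaf 0x11cbd900a)) (.node (.leaf 0xd0319b062) (.leaf 0xa1077010))) (.node (.node (.leaf 0x879b000) (.leaf 0x112ed704e))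 (.node (.leaf 0x96a09006) (.leaf 0x2027f9026))))) (.node (.node (.node (.node (.leaf 0x7489ab064) (.leaf 0x245ec300a)) (.node (.leaf 0x90e29b002) (.leaf 0x6382b056))) (.node (.node (.leaf 0x23a2700a) (.leaf 0x769cb036)) (.node (.leaf 0x1e28b14e) (.leaf 0x46839010)))) (.node (.node (.node (.leaf 0x34e73901a) (.leaf 0x4acf8b2dc)) (.node (.leaf 0x54699046) (.leaf 0x1ebddb042))) (.node (.node (.leaf 0x21172b042) (.leaf 0x9e09900c)) (.node (.leaf 0x156ca900a) (.leaf 0x167f5b2dc))))))) (.node (.node (.node (.node (.node (.node (.leaf 0x96439004) (.leaf 0x77b4b036)) (.node (.leaf 0x19331b1d6) (.leaf 0x36e8eb084))) (.node (.node (.leaf 0x2806bb090) (.leaf 0x145b64b1d6)) (.node (.leaf 0x5c8cfb00a) (.leaf 0xeb2c7002)))) (.node (.node (.node (.leaf 0x306bcb0c0) (.leaf 0x3f13b144)) (.node (.leaf 0x551425002) (.leaf 0x55e3a502a))) (.node (.node (.leaf 0xbf5429014) (.leaf 0x359ddb0cc)) (.node (.leaf 0x4e0b7010) (.leaf 0xee5f5010)))))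 (.node (.node (.node (.node (.leaf 0x1d16db090) (.leaf 0x5e7947030)) (.node (.leaf 0x35c50b0a6) (.leaf 0x23b04b1fe))) (.node (.node (.leaf 0x220bab01c) (.leaf 0x280005000)) (.node (.leaf 0xef7a5010) (.leaf 0x3108db044)))) (.node (.node (.node (.leaf 0xff6b042) (.leaf 0x5d8f99082)) (.node (.leaf 0x96273b184) (.leaf 0x637c19026))) (.node (.node (.leaf 0x1fb857010) (.leaf 0x395e97010)) (.node (.leaf 0x229490c6) (.leaf 0x1f23d7000)))))) (.node (.node (.node (.node (.node (.leaf 0x38dbb00c) (.leaf 0xb32fab014)) (.node (.leaf 0xe8fc7002) (.leaf 0x273e6300e))) (.node (.node (.leaf 0x3e7a2b044) (.leaf 0xdb3529036)) (.node (.leaf 0xe6735004) (.leaf 0xff345010)))) (.node (.node (.node (.leaf 0x699a99010) (.leaf 0x8349b1d6)) (.node (.leaf 0x2f4753004) (.leaf 0x26bbbb09c))) (.node (.node (.leaf 0x9eaa7006) (.leaf 0x633a900e)) (.node (.leaf 0x196e8905c) (.leaf 0x36c8db036))))) (.node (.node (.node (.node (.leaf 0x256345002)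 (.leaf 0x10052b064)) (.node (.leaf 0x5129e500e) (.leaf 0xe73e5004))) (.node (.node (.leaf 0x24819905a) (.leaf 0x25e7db00a)) (.node (.leaf 0x144937034) (.leaf 0x25a77b0a6)))) (.node (.node (.node (.leaf 0x62e8a9026) (.leaf 0x810b5b09a)) (.node (.leaf 0x629cd700e) (.leaf 0x4672d9004))) (.node (.node (.leaf 0x1d7deb00a) (.leaf 0x9aaf7034)) (.node (.leaf 0x25944502a) (.leaf 0x282c45014))))))))))))

theorem cert14_0 : chunkB 14 cert14 0 = true := by decide +kernel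

theorem cert14_1 : chunkB 14 cert14 1 = true := by decide +kernel

theorem cert14_2 : chunkB 14 cert14 2 = true := by decide +kernel

theorem cert14_3 : chunkB 14 cert14 3 = true := by decide +kernel

theorem cert14_4 : chunkB 14 cert14 4 = true := by decide +kernel

theorem cert14_5 : chunkB 14 cert14 5 = true := by decide +kernel

theorem cert14_6 : chunkB 14 cert14 6 = true := by decide +kernel

theorem cert14_7 : chunkB 14 cert14 7 = true := by decide +kernel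

theorem cert14_ok : ∀ k < 2048, itemB 14 cert14 k = true :=
  of_chunks cert14_0 cert14_1 cert14_2 cert14_3 cert14_4 cert14_5 cert14_6 cert14_7

end Cfsg.Agent.F4Square.Two
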