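import Cfsg.Agent.F4Square.Two.Setup

/-!
Certificates for the coset of the Weyl element number 15.
-/

set_option autoImplicit false
set_option maxRecDepth 100000
set_option maxHeartbeats 0
set_option Elab.async false

namespace Cfsg.Agent.F4Square.Two

/-- The certificates. -/
noncomputable def cert15 : Tree :=
  (.node (.node (.node (.node (.node (.node (.node (.node (.node (.node (.node (.leaf 0x88afb042) (.leaf 0x3da44901c)) (.node (.leaf 0xdcf3b09c) (.leaf 0x21b3d700e))) (.node (.node (.leaf 0x52df6b014) (.leaf 0x1cfbcb01e)) (.node (.leaf 0x37bbb000) (.leaf 0x169f5b0d6)))) (.node (.node (.node (.leaf 0x32587905a) (.leaf 0xb3d8f9000)) (.node (.leaf 0x1480db064) (.leaf 0x2a151b184))) (.node (.node (.leaf 0x233b47020) (.leaf 0xe658b2dc)) (.node (.leaf 0x3a0bd7002) (.leaf 0x212329026))))) (.node (.node (.node (.node (.leaf 0x126aab0a6) (.leaf 0xbbf17014)) (.node (.leaf 0x6f3c4b114) (.leaf 0x1837d7024))) (.node (.node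 (.leaf 0x24705b036) (.leaf 0x1a41eb036)) (.node (.leaf 0x15edb0d6) (.leaf 0x47eccb00c)))) (.node (.node (.node (.leaf 0x15f7b7024) (.leaf 0xc2d0b06a)) (.node (.leaf 0xf9ffb024) (.leaf 0x136ac904e))) (.node (.node (.leaf 0x31d167004) (.leaf 0xc5b9b01c)) (.node (.leaf 0x55937020) (.leaf 0x32f8a905a)))))) (.node (.node (.node (.node (.node (.leaf 0x1b22d7042) (.leaf 0x5af009004)) (.node (.leaf 0x205d9b1d6) (.leaf 0x8a36b050))) (.node (.node (.leaf 0x41fbb05c) (.leaf 0x377e7026)) (.node (.leaf 0x1ffe67020) (.leaf 0x32ec1b08a)))) (.node (.node (.node (.leaf 0x43564300a) (.leaf 0x4ccad7014)) (.node (.leaf 0x26b19905a) (.leaf 0x380597026))) (.node (.node (.leaf 0x43b49044) (.leaf 0x5fc14b050)) (.node (.leaf 0xbd219004) (.leaf 0x10939700a))))) (.node (.node (.node (.node (.leaf 0x4cc3d9004) (.leaf 0x7427b036)) (.node (.leaf 0x1ba799082) (.leaf 0x51ce4b2dc))) (.node (.node (.leaf 0x3d0689082) (.leaf 0x6c9c7b05a)) (.node (.leaf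 0x9a7cb114) (.leaf 0x5e0ee9030)))) (.node (.node (.node (.leaf 0x25724b0c6) (.leaf 0x4dc34901a)) (.node (.leaf 0x6c8c9b08a) (.leaf 0x32732905a))) (.node (.node (.leaf 0x6aa01b184) (.leaf 0x5b79fb00c)) (.node (.leaf 0x7dac5b0a2) (.leaf 0x82d7030))))))) (.node (.node (.node (.node (.node (.node (.leaf 0x1b6a5901c) (.leaf 0x3abe75010)) (.node (.leaf 0x18bf99082) (.leaf 0x37b0d900a))) (.node (.node (.leaf 0x3ae159002) (.leaf 0x69f2700e)) (.node (.leaf 0x15a0a904e) (.leaf 0xa106900e)))) (.node (.node (.node (.leaf 0x2682b300a) (.leaf 0x45e90b09a)) (.node (.leaf 0x44657b044) (.leaf 0x7be2eb090))) (.node (.node (.leaf 0xf030b0c6) (.leaf 0x333e5b062)) (.node (.leaf 0xd0243700a) (.leaf 0x5abae9042))))) (.node (.node (.node (.node (.leaf 0x4cc7e9006) (.leaf 0x670c79042)) (.node (.leaf 0x1b77d7024) (.leaf 0x50b79b00c))) (.node (.node (.leaf 0xe9113b0cc) (.leaf 0x5fe17b002)) (.node (.leaf 0x4ed16b08a) (.leaf 0x4bb23b09a)))) (.node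 (.node (.node (.leaf 0x12e19b00a) (.leaf 0x3208b042)) (.node (.leaf 0x3a2465004) (.leaf 0x4a909030))) (.node (.node (.leaf 0x5d8adb0ea) (.leaf 0x1862d7042)) (.node (.leaf 0x1c6a9b01e) (.leaf 0x802b8b024)))))) (.node (.node (.node (.node (.node (.leaf 0x267163006) (.leaf 0x1d415b2dc)) (.node (.leaf 0x8b2cb000) (.leaf 0x57ffeb024))) (.node (.node (.leaf 0xaa5b050) (.leaf 0x1f61fb01c)) (.node (.leaf 0x3a0635004) (.leaf 0xe2d0b14e)))) (.node (.node (.node (.leaf 0xc19eb09a) (.leaf 0x2ad33b086)) (.node (.leaf 0x412a2900e) (.leaf 0x3ca7eb1fe))) (.node (.node (.leaf 0x34a7000) (.leaf 0xbe50fb024)) (.node (.leaf 0x161e4b024) (.leaf 0x265033006))))) (.node (.node (.node (.node (.leaf 0x2acf3b0ea) (.leaf 0xaea469000)) (.node (.leaf 0x2e3d83000) (.leaf 0x29fec3004))) (.node (.node (.leaf 0x2b35a700a) (.leaf 0x15e2e901a)) (.node (.leaf 0x62af0b10c) (.leaf 0x6b949046)))) (.node (.node (.node (.leaf 0x4e0013004) (.leaf 0x2e2e5b05a))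 (.node (.leaf 0x3616fb036) (.leaf 0x1e63b9036))) (.node (.node (.leaf 0x19c0eb050) (.leaf 0x7ce95b056)) (.node (.leaf 0x8437fb194) (.leaf 0xb7fe90c6)))))))) (.node (.node (.node (.node (.node (.node (.node (.leaf 0x22e4ab1d6) (.leaf 0x492a0b0a6)) (.node (.leaf 0xbd29000) (.leaf 0x1720a90c6))) (.node (.node (.leaf 0x329d73002) (.leaf 0x640bd9044)) (.node (.leaf 0xa8d9b7010) (.leaf 0x55d4db14e)))) (.node (.node (.node (.leaf 0x182eb7004) (.leaf 0xcab002)) (.node (.leaf 0x717769014) (.leaf 0x6e67cb05a))) (.node (.node (.leaf 0x3b294b0fc) (.leaf 0x12a1e9002)) (.node (.leaf 0x605cfb10c) (.leaf 0x2181f9046))))) (.node (.node (.node (.node (.leaf 0x3863a7030) (.leaf 0x5f529010)) (.node (.leaf 0x1c2ecb01e) (.leaf 0x19569b002))) (.node (.node (.leaf 0x6d5a17006) (.leaf 0x1844f900c)) (.node (.leaf 0x6562b144) (.leaf 0x88fc37010)))) (.node (.node (.node (.leaf 0x36b99b084) (.leaf 0x5e9ab01c)) (.node (.leaf 0x4cf197034) (.leaf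 0x10869904e))) (.node (.node (.leaf 0x1d6ddb14e) (.leaf 0x742feb194)) (.node (.leaf 0x65fd1b1fe) (.leaf 0x12e10b00a)))))) (.node (.node (.node (.node (.node (.leaf 0x339bcb184) (.leaf 0x9d46fb086)) (.node (.leaf 0x36ca2b09c) (.leaf 0x3fd55b036))) (.node (.node (.leaf 0xac80b056) (.leaf 0x908ab9026)) (.node (.leaf 0x19084b000) (.leaf 0xbbf309004)))) (.node (.node (.node (.leaf 0xd6ffcb0fc) (.leaf 0x126ce9002)) (.node (.leaf 0x15b7d7004) (.leaf 0x62806b1d6))) (.node (.node (.leaf 0xf933b0d6) (.leaf 0xbf5d7034)) (.node (.leaf 0x2ac5ab0fc) (.leaf 0x661f6b090))))) (.node (.node (.node (.node (.leaf 0x1e782b056) (.leaf 0x13a20901a)) (.node (.leaf 0x1f2879010) (.leaf 0x6bfab00c))) (.node (.node (.leaf 0x484d5b06a) (.leaf 0x60317010)) (.node (.leaf 0x24e6ab084) (.leaf 0x2a193b194)))) (.node (.node (.node (.leaf 0x623889036) (.leaf 0x3b1fb06a)) (.node (.leaf 0x460e79004) (.leaf 0x1c8bcb01e))) (.node (.node (.leaf 0x20990905c)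 (.leaf 0x1588d9014)) (.node (.leaf 0x12a1f9002) (.leaf 0x1bf7c9016))))))) (.node (.node (.node (.node (.node (.node (.leaf 0x5a8a7010) (.leaf 0x16fcb024)) (.node (.leaf 0x67b99010) (.leaf 0x294f23000))) (.node (.node (.leaf 0x47584700e) (.leaf 0x2ba10704e)) (.node (.leaf 0x3c2289044) (.leaf 0x28e4fb024)))) (.node (.node (.node (.leaf 0x2486db036) (.leaf 0x3753b700a)) (.node (.leaf 0x18e2b0c6) (.leaf 0x153479082))) (.node (.node (.leaf 0x161b2b0c6) (.leaf 0x12bfbb0a6)) (.node (.leaf 0x28593b0d6) (.leaf 0x66019000))))) (.node (.node (.node (.node (.leaf 0xac38900e) (.leaf 0x3901eb000)) (.node (.leaf 0x71b7a900c) (.leaf 0x3e2ce9006))) (.node (.node (.leaf 0x246d2b084) (.leaf 0x32edb014)) (.node (.leaf 0x56409704e) (.leaf 0xd68eb036)))) (.node (.node (.node (.leaf 0x74475b062) (.leaf 0x497f0b0cc)) (.node (.leaf 0x615cbb09a) (.leaf 0x12e11b00a))) (.node (.node (.leaf 0x29e57b08a) (.leaf 0x2041e905c)) (.node (.leaf 0xb43e17042)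 (.leaf 0x5d56db086)))))) (.node (.node (.node (.node (.node (.leaf 0x188807006) (.leaf 0x691ff7010)) (.node (.leaf 0x19647b042) (.leaf 0xa8b79036))) (.node (.node (.leaf 0xa9c8a9024) (.leaf 0xbd8f9042)) (.node (.leaf 0x8751b002) (.leaf 0x4e829044)))) (.node (.node (.node (.leaf 0x296853004) (.leaf 0x73aab09c)) (.node (.leaf 0x3740d90c6) (.leaf 0x18bbc9016))) (.node (.node (.leaf 0x175797034) (.leaf 0x983e1700a)) (.node (.leaf 0x1b1337004) (.leaf 0x1ee7a900e))))) (.node (.node (.node (.node (.leaf 0x1ab23b09c) (.leaf 0x6c8e8b08a)) (.node (.leaf 0x4462eb064) (.leaf 0x3decc7024))) (.node (.node (.leaf 0xaccabb056) (.leaf 0x26558300e)) (.node (.leaf 0x7c49b084) (.leaf 0x58fdb09a)))) (.node (.node (.node (.leaf 0xceb6b014) (.leaf 0x4d186704e)) (.node (.leaf 0x5c804b2dc) (.leaf 0x43220905a))) (.node (.node (.leaf 0x2de74b0a2) (.leaf 0x2fe79b09c)) (.node (.leaf 0xbbee9006) (.leaf 0x1b1c7900c))))))))) (.node (.node (.node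 (.node (.node (.node (.node (.node (.leaf 0x5ce54b2dc) (.leaf 0x825a57004)) (.node (.leaf 0x2a2829006) (.leaf 0x12071500e))) (.node (.node (.leaf 0x1cdf4b01e) (.leaf 0x1e9abb1d6)) (.node (.leaf 0x10fc4901c) (.leaf 0x2364c9046)))) (.node (.node (.node (.leaf 0x4fde905c) (.leaf 0x3bf2b9082)) (.node (.leaf 0x93c82905a) (.leaf 0x17d6bb086))) (.node (.node (.leaf 0x12070500e) (.leaf 0xbaffb0ea)) (.node (.leaf 0x33493900a) (.leaf 0x3651b00c))))) (.node (.node (.node (.node (.leaf 0x8d8eb09a) (.leaf 0x5d5159014)) (.node (.leaf 0x29f843000) (.leaf 0x58f817034))) (.node (.node (.leaf 0xc0ecb000) (.leaf 0x3d7d7704e)) (.node (.leaf 0x1a80cb084) (.leaf 0x3019ab0c6)))) (.node (.node (.node (.leaf 0xb43fb086) (.leaf 0x377ab7006)) (.node (.leaf 0x3f6b4b036) (.leaf 0x3fa9010))) (.node (.node (.leaf 0x2b8337014) (.leaf 0x19841b01c)) (.node (.leaf 0x4e275b05a) (.leaf 0x39f84700e)))))) (.node (.node (.node (.node (.node (.leaf 0x161e5b0d6)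 (.leaf 0x532b01c)) (.node (.leaf 0x6a2ce9006) (.leaf 0x28340b0c6))) (.node (.node (.leaf 0x594de7000) (.leaf 0x7b57fb0cc)) (.node (.leaf 0x6c120905a) (.leaf 0x38d9b144)))) (.node (.node (.node (.leaf 0x849af9042) (.leaf 0xfe7dd9004)) (.node (.leaf 0x26e173002) (.leaf 0x1f22c7030))) (.node (.node (.leaf 0x32649905a) (.leaf 0x3e15fb0ea)) (.node (.leaf 0x6b0429014) (.leaf 0x1f8b4b050))))) (.node (.node (.node (.node (.leaf 0x2b52b7042) (.leaf 0x107a89082)) (.node (.leaf 0x76334b08a) (.leaf 0x66b215010))) (.node (.node (.leaf 0x4df2c9016) (.leaf 0x23b36700e)) (.node (.leaf 0x7cab09036) (.leaf 0x15a6bb184)))) (.node (.node (.node (.leaf 0x67090b062) (.leaf 0x2758b044)) (.node (.leaf 0x5a1d7030) (.leaf 0xa38db10c))) (.node (.node (.leaf 0x7ff1b084) (.leaf 0x130689016)) (.node (.leaf 0x18c50700a) (.leaf 0x478e77026))))))) (.node (.node (.node (.node (.node (.node (.leaf 0x13a6c7006) (.leaf 0x8d79b01c)) (.node (.leaf 0x31239904e)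 (.leaf 0x468d890c6))) (.node (.node (.leaf 0x14c72b044) (.leaf 0x5ad5b050)) (.node (.leaf 0x235017000) (.leaf 0x741947014)))) (.node (.node (.node (.leaf 0x3199f704e) (.leaf 0x3a22e502a)) (.node (.leaf 0x1feab0c6) (.leaf 0x5b7509026))) (.node (.node (.leaf 0x6dfe7030) (.leaf 0x103a97006)) (.node (.leaf 0x389d57010) (.leaf 0x6e74fb08a))))) (.node (.node (.node (.node (.leaf 0x4309b905a) (.leaf 0x5a821b062)) (.node (.leaf 0x11c3cb064) (.leaf 0x38cb9046))) (.node (.node (.leaf 0x1734bb194) (.leaf 0x7dd90b0a2)) (.node (.leaf 0x1fc37b002) (.leaf 0x38db09a)))) (.node (.node (.node (.leaf 0x11367b114) (.leaf 0xabf0b1fe)) (.node (.leaf 0x44c0905c) (.leaf 0x1eda1b10c))) (.node (.node (.leaf 0xab659036) (.leaf 0x9227010)) (.node (.leaf 0x330e47014) (.leaf 0xb6a9b184)))))) (.node (.node (.node (.node (.node (.leaf 0x2b8e3901c) (.leaf 0x332349004)) (.node (.leaf 0x2eb27b08a) (.leaf 0x16e34b024))) (.node (.node (.leaf 0x189f4901a)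 (.leaf 0x19bb6b09a)) (.node (.leaf 0x192cb024) (.leaf 0x150f5b086)))) (.node (.node (.node (.leaf 0xa7cf37002) (.leaf 0xec48b0c0)) (.node (.leaf 0x22991900e) (.leaf 0x7e1e0b06a))) (.node (.node (.leaf 0x12af77002) (.leaf 0x52026b050)) (.node (.leaf 0x617b5b000) (.leaf 0x1949eb014))))) (.node (.node (.node (.node (.leaf 0x57082b0d6) (.leaf 0x2b8dd9042)) (.node (.leaf 0x2c08cb044) (.leaf 0x322443006))) (.node (.node (.leaf 0x137f79014) (.leaf 0x4ba8db000)) (.node (.leaf 0x7f9a3b05c) (.leaf 0x62059026)))) (.node (.node (.node (.leaf 0x5f72f7010) (.leaf 0x69f977000)) (.node (.leaf 0x2b28d9024) (.leaf 0x10e1e7004))) (.node (.node (.leaf 0xcd26b050) (.leaf 0x325653006)) (.node (.leaf 0xc1a77b1d6) (.leaf 0x51a27000)))))))) (.node (.node (.node (.node (.node (.node (.node (.leaf 0x18202704e) (.leaf 0x12b115042)) (.node (.leaf 0x2fee0b09c) (.leaf 0x6c451905a))) (.node (.node (.leaf 0xf923b0d6) (.leaf 0x5cadcb14e)) (.node (.leaf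 0x1376f9024) (.leaf 0x3871d9010)))) (.node (.node (.node (.leaf 0x2ee203004) (.leaf 0x4b9f8b002)) (.node (.leaf 0x26491b08a) (.leaf 0x1a1dbb09c))) (.node (.node (.leaf 0x7432e9042) (.leaf 0x81a6b014)) (.node (.leaf 0x9ebad9024) (.leaf 0x4613b10c))))) (.node (.node (.node (.node (.leaf 0x214b3b06a) (.leaf 0x2bae39004)) (.node (.leaf 0x136db900c) (.leaf 0x633c6b06a))) (.node (.node (.leaf 0x13e659082) (.leaf 0x6e14a3000)) (.node (.leaf 0x5222b002) (.leaf 0x15fdb0d6)))) (.node (.node (.node (.leaf 0x65d57026) (.leaf 0x8dde69030)) (.node (.leaf 0x2620a905a) (.leaf 0x106a59016))) (.node (.node (.leaf 0x1cca4b01e) (.leaf 0xc791b002)) (.node (.leaf 0x69717b002) (.leaf 0x1cef4b01e)))))) (.node (.node (.node (.node (.node (.leaf 0x458e9030) (.leaf 0x10ce69024)) (.node (.leaf 0xe2c0b14e) (.leaf 0x15ed5b194))) (.node (.node (.leaf 0x20f029044) (.leaf 0x2a3d290c6)) (.node (.leaf 0x126745006) (.leaf 0x2676f905a)))) (.node (.node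 (.node (.leaf 0x2e552b08a) (.leaf 0x6c0e9905a)) (.node (.leaf 0x126755006) (.leaf 0x4ed763004))) (.node (.node (.leaf 0xa70805042) (.leaf 0x4e38db05a)) (.node (.leaf 0xa525b05c) (.leaf 0x5e3a9000))))) (.node (.node (.node (.node (.leaf 0x1bf74901a) (.leaf 0x2459fb084)) (.node (.leaf 0xb618b062) (.leaf 0x49b82b00a))) (.node (.node (.leaf 0x8cf90901c) (.leaf 0x27c0b114)) (.node (.leaf 0x4dd399082) (.leaf 0x10d32900c)))) (.node (.node (.node (.leaf 0x5eec89044) (.leaf 0x2df8cb0a2)) (.node (.leaf 0x1ea14b1fe) (.leaf 0x3ece0b062))) (.node (.node (.leaf 0xab7020) (.leaf 0x5bf807026)) (.node (.leaf 0x6efe13004) (.leaf 0x2acd2900a))))))) (.node (.node (.node (.node (.node (.node (.leaf 0x2ca54b114) (.leaf 0x232e6b144)) (.node (.leaf 0x4a641b024) (.leaf 0x66bc7020))) (.node (.node (.leaf 0x3a3225006) (.leaf 0x3adaf5006)) (.node (.leaf 0x2a7197014) (.leaf 0xd90bb09c)))) (.node (.node (.node (.leaf 0x981cc901c) (.leaf 0xe16719002))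 (.node (.leaf 0x36ee9026) (.leaf 0x4c89b1d6))) (.node (.node (.leaf 0x72aabb184) (.leaf 0x1decdb14e)) (.node (.leaf 0x18b40904e) (.leaf 0x17965b184))))) (.node (.node (.node (.node (.leaf 0x432413002) (.leaf 0xfe5a2900a)) (.node (.leaf 0x566527034) (.leaf 0x1f4b77000))) (.node (.node (.leaf 0x132597042) (.leaf 0xa727b1d6)) (.node (.leaf 0x10f5c7042) (.leaf 0x27aadb09c)))) (.node (.node (.node (.leaf 0x71fed901a) (.leaf 0x1792fdb044)) (.node (.leaf 0x2696eb05a) (.leaf 0x1b110700a))) (.node (.node (.leaf 0x1c7f1b01e) (.leaf 0x374d2901c)) (.node (.leaf 0x3cbba905c) (.leaf 0x12af67002)))))) (.node (.node (.node (.node (.node (.leaf 0x3a4765042) (.leaf 0x3af3a500a)) (.node (.leaf 0x38da89046) (.leaf 0x9e0d37042))) (.node (.node (.leaf 0x39bdcb00c) (.leaf 0x28583b0d6)) (.node (.leaf 0x167fab0c6) (.leaf 0x677e1b184)))) (.node (.node (.node (.leaf 0x7d690b0a2) (.leaf 0x10b5a79002)) (.node (.leaf 0x2376eb00c) (.leaf 0x3e946b0fc)))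 (.node (.node (.leaf 0x291c9b05a) (.leaf 0xb91fb194)) (.node (.leaf 0x2db79b0a2) (.leaf 0x718a9700a))))) (.node (.node (.node (.node (.leaf 0xb307f7010) (.leaf 0x3bc419014)) (.node (.leaf 0x5106cb14e) (.leaf 0x3e8ffb194))) (.node (.node (.leaf 0x1036e9014) (.leaf 0x79dfb036)) (.node (.leaf 0x9448f900a) (.leaf 0x1cce1b01e)))) (.node (.node (.node (.leaf 0x6c2ff3006) (.leaf 0x1a476b036)) (.node (.leaf 0x3209700e) (.leaf 0x12c667002))) (.node (.node (.leaf 0xad2f1b05c) (.leaf 0x4cbffb0ea)) (.node (.leaf 0x21b9cb042) (.leaf 0x1437bb064)))))))))) (.node (.node (.node (.node (.node (.node (.node (.node (.node (.leaf 0x41bb3b05c) (.leaf 0x6349b002)) (.node (.leaf 0x3964f9000) (.leaf 0x13b417014))) (.node (.node (.leaf 0x123615004) (.leaf 0x43f4eb08a)) (.node (.leaf 0x2096b044) (.leaf 0x1b9dbb194)))) (.node (.node (.node (.leaf 0x6324b000) (.leaf 0x2ea21905a)) (.node (.leaf 0x890d9026) (.leaf 0x2403cb09c))) (.node (.node (.leaf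 0x49dab5010) (.leaf 0x64aa0b10c)) (.node (.leaf 0x4aa7ab0c6) (.leaf 0x66c4cb00a))))) (.node (.node (.node (.node (.leaf 0x295cf905a) (.leaf 0x75562900a)) (.node (.leaf 0x1eff2b1fe) (.leaf 0x3cf98b1fe))) (.node (.node (.leaf 0x20d7a900e) (.leaf 0xa8cc9030)) (.node (.leaf 0x4659b05c) (.leaf 0x6e0bc3006)))) (.node (.node (.node (.leaf 0x29d9eb05a) (.leaf 0x492765010)) (.node (.leaf 0x333db050) (.leaf 0x1e8029044))) (.node (.node (.leaf 0x16447b0c6) (.leaf 0x571bb000)) (.node (.leaf 0x26592b08a) (.leaf 0x49d2c7002)))))) (.node (.node (.node (.node (.node (.leaf 0xb2889016) (.leaf 0xcb3ab00c)) (.node (.leaf 0x45496b06a) (.leaf 0x5d8dd9042))) (.node (.node (.leaf 0xb321901c) (.leaf 0x1866db184)) (.node (.leaf 0x324a5b05a) (.leaf 0x43f463000)))) (.node (.node (.node (.leaf 0x77fd0b06a) (.leaf 0x307fcb0d6)) (.node (.leaf 0x4bee09000) (.leaf 0x10ae07034))) (.node (.node (.leaf 0x196a57026) (.leaf 0x4c2887006)) (.node (.leaf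 0x501700e) (.leaf 0x29472905a))))) (.node (.node (.node (.node (.leaf 0x177749016) (.leaf 0xaba139036)) (.node (.leaf 0xe21db14e) (.leaf 0x22de2b10c))) (.node (.node (.leaf 0x7b69026) (.leaf 0x678a17042)) (.node (.leaf 0x1ac3bb036) (.leaf 0x29e77905a)))) (.node (.node (.node (.leaf 0x23892b09a) (.leaf 0x3e6417042)) (.node (.leaf 0x75e2b036) (.leaf 0x2205f9030))) (.node (.node (.leaf 0x26ec73000) (.leaf 0x2988cb08a)) (.node (.leaf 0x8eb47020) (.leaf 0x1ae0b0d6))))))) (.node (.node (.node (.node (.node (.node (.leaf 0x1ca00b01e) (.leaf 0x4d9679042)) (.node (.leaf 0x5270b042) (.leaf 0x7238b084))) (.node (.node (.leaf 0x20424b056) (.leaf 0x3d456b0ea)) (.node (.leaf 0x100c79006) (.leaf 0x3638fb09c)))) (.node (.node (.node (.leaf 0x25caab024) (.leaf 0x23460b06a)) (.node (.leaf 0x4604b1fe) (.leaf 0x4eb3b905a))) (.node (.node (.leaf 0x2599eb0d6) (.leaf 0x42379b01c)) (.node (.leaf 0x7b6adb00a) (.leaf 0xb3b97024))))) (.node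 (.node (.node (.node (.leaf 0xb91c7006) (.leaf 0x2b56db086)) (.node (.leaf 0x1935c7020) (.leaf 0x10bf69042))) (.node (.node (.leaf 0x3ad76b00a) (.leaf 0x2ed65300a)) (.node (.leaf 0x26dcfb08a) (.leaf 0x1591a700a)))) (.node (.node (.node (.leaf 0x2eb6e300a) (.leaf 0x3ef4b900c)) (.node (.leaf 0x1189b024) (.leaf 0x6effb042))) (.node (.node (.leaf 0x2929db08a) (.leaf 0x22d84b1d6)) (.node (.leaf 0x69bd0b014) (.leaf 0x82b677014)))))) (.node (.node (.node (.node (.node (.leaf 0x53d19b01c) (.leaf 0x175e37004)) (.node (.leaf 0x7b6245002) (.leaf 0x1cd8db01e))) (.node (.node (.leaf 0x34f8db044) (.leaf 0x17dad901c)) (.node (.leaf 0x564beb184) (.leaf 0x2ac74700a)))) (.node (.node (.node (.leaf 0x9bf6b114) (.leaf 0x212069010)) (.node (.leaf 0x3848cb06a) (.leaf 0x315a9000))) (.node (.node (.leaf 0x64a0db1fe) (.leaf 0x1388e900a)) (.node (.leaf 0x2a518901a) (.leaf 0x20082b056))))) (.node (.node (.node (.node (.leaf 0x1c510b01e) (.leaf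 0x11ba9b114)) (.node (.leaf 0x98a1c7014) (.leaf 0x62b9b9030))) (.node (.node (.leaf 0x4854bb00c) (.leaf 0x13ccf9b084)) (.node (.leaf 0x1cfddb01e) (.leaf 0x54312b064)))) (.node (.node (.node (.leaf 0xda1db084) (.leaf 0x30597b0c6)) (.node (.leaf 0x123fab0cc) (.leaf 0x58560700a))) (.node (.node (.leaf 0xb7479014) (.leaf 0x33383704e)) (.node (.leaf 0x23b79b01c) (.leaf 0x4c4cb900c)))))))) (.node (.node (.node (.node (.node (.node (.node (.leaf 0x514e7026) (.leaf 0x296f6b05a)) (.node (.leaf 0xc8e97010) (.leaf 0x1d600b14e))) (.node (.node (.leaf 0x7cf919030) (.leaf 0x75e239042)) (.node (.leaf 0x123605004) (.leaf 0x57afb06a)))) (.node (.node (.node (.leaf 0x2119e7010) (.leaf 0x4ef90b08a)) (.node (.leaf 0x4a124b024) (.leaf 0x2e358905a))) (.node (.node (.leaf 0x26cf13004) (.leaf 0x628aeb10c)) (.node (.leaf 0x201dc900e) (.leaf 0x12eabb0cc))))) (.node (.node (.node (.node (.leaf 0x3a213b00a) (.leaf 0x4cce57042)) (.node (.leaf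 0x1f6d37026) (.leaf 0x3f827000))) (.node (.node (.leaf 0x2c61bb064) (.leaf 0x43b1b3000)) (.node (.leaf 0x3110eb0ea) (.leaf 0xcc117000)))) (.node (.node (.node (.leaf 0x3a581b090) (.leaf 0xa488eb17a)) (.node (.leaf 0x1367d7034) (.leaf 0x2d0e8b0a2))) (.node (.node (.leaf 0x48199036) (.leaf 0x133994b01e)) (.node (.leaf 0x22b4f905c) (.leaf 0x175d87006)))))) (.node (.node (.node (.node (.node (.leaf 0x3ea647006) (.leaf 0x293223002)) (.node (.leaf 0x48d449000) (.leaf 0x564acb086))) (.node (.node (.leaf 0x3ca9d9036) (.leaf 0x2d678b0a2)) (.node (.leaf 0x1898ab0fc) (.leaf 0x3b9b7901c)))) (.node (.node (.node (.leaf 0x2698a3000) (.leaf 0x79c7b09c)) (.node (.leaf 0xb3df9024) (.leaf 0x2bb4db194))) (.node (.node (.leaf 0xa539046) (.leaf 0x12e7c5010)) (.node (.leaf 0x297ad3002) (.leaf 0xa5f7b05c))))) (.node (.node (.node (.node (.leaf 0xac7e9044) (.leaf 0x87ae7030)) (.node (.leaf 0x3e2577004) (.leaf 0x4ff1b10c))) (.node (.node (.leaf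 0x2584db0c6) (.leaf 0x5ae987024)) (.node (.leaf 0x3b7337034) (.leaf 0x5e312b056)))) (.node (.node (.node (.leaf 0xdcaeb09c) (.leaf 0x2d405b0a2)) (.node (.leaf 0xf932b0d6) (.leaf 0x27b43b084))) (.node (.node (.leaf 0x2e7fb064) (.leaf 0x5ad00901c)) (.node (.leaf 0x1aa3eb09c) (.leaf 0x45c277026))))))) (.node (.node (.node (.node (.node (.node (.leaf 0x2e148300e) (.leaf 0x9a2b47000)) (.node (.leaf 0x164a8b0d6) (.leaf 0x33ec9700a))) (.node (.node (.leaf 0x527d89046) (.leaf 0x1e0a49044)) (.node (.leaf 0x10d9790c6) (.leaf 0xc6d99000)))) (.node (.node (.node (.leaf 0xf23df9042) (.leaf 0x6642db00a)) (.node (.leaf 0x660f7b0a6) (.leaf 0x1323f9042))) (.node (.node (.leaf 0x319b00c) (.leaf 0x155d8704e)) (.node (.leaf 0xbe562b0d6) (.leaf 0xa9ceb1fe))))) (.node (.node (.node (.node (.leaf 0x6126b050) (.leaf 0x1397b0c6)) (.node (.leaf 0x2996bb05a) (.leaf 0x10e97900a))) (.node (.node (.leaf 0x117ccc700e) (.leaf 0x8edd7026)) (.node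 (.leaf 0x3bf57030) (.leaf 0x3b7c99042)))) (.node (.node (.node (.leaf 0x618c59046) (.leaf 0x2ae82704e)) (.node (.leaf 0x490849002) (.leaf 0x172d7900c))) (.node (.node (.leaf 0x50ffdb09a) (.leaf 0x4b2bb1d6)) (.node (.leaf 0xae2e79046) (.leaf 0x156c8900a)))))) (.node (.node (.node (.node (.node (.leaf 0x3702b002) (.leaf 0x29925b08a)) (.node (.leaf 0xb1e97042) (.leaf 0xf9feb024))) (.node (.node (.leaf 0xbd1b144) (.leaf 0x4839c7000)) (.node (.leaf 0x17a8b9024) (.leaf 0x107101b062)))) (.node (.node (.node (.leaf 0xc072700e) (.leaf 0x5805b014)) (.node (.leaf 0x1e47bb05c) (.leaf 0x466ad7004))) (.node (.node (.leaf 0x37af7b062) (.leaf 0x1ce8db01e)) (.node (.leaf 0x93a9b064) (.leaf 0xc3619010))))) (.node (.node (.node (.node (.leaf 0x21ba77020) (.leaf 0x1d3c8b2dc)) (.node (.leaf 0x4629d9014) (.leaf 0x497549002))) (.node (.node (.leaf 0xe895b0c0) (.leaf 0x5df8a7006)) (.node (.leaf 0xca8afb01e) (.leaf 0x1028ab704e)))) (.node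 (.node (.node (.leaf 0x18c23b086) (.leaf 0x447ddb044)) (.node (.leaf 0x21389b09a) (.leaf 0x1c8ddb01e))) (.node (.node (.leaf 0x7558d9004) (.leaf 0x48fb47010)) (.node (.leaf 0x366eab036) (.leaf 0xefd5b2dc))))))))) (.node (.node (.node (.node (.node (.node (.node (.node (.leaf 0x7ee8c9046) (.leaf 0x5fa39b042)) (.node (.leaf 0x14440b114) (.leaf 0xc75b014))) (.node (.node (.leaf 0x3caa7010) (.leaf 0x127355014)) (.node (.leaf 0x29b45905a) (.leaf 0xa7f87b090)))) (.node (.node (.node (.leaf 0x26494b05a) (.leaf 0xb8c0901a)) (.node (.leaf 0x2a1117042) (.leaf 0x240eb114))) (.node (.node (.leaf 0x46775b086) (.leaf 0x1d9d8b0c0)) (.node (.leaf 0x899afb036) (.leaf 0x5af35700a))))) (.node (.node (.node (.node (.leaf 0xea85b2dc) (.leaf 0x668137002)) (.node (.leaf 0x585d99082) (.leaf 0x130f8b062))) (.node (.node (.leaf 0xa69c905c) (.leaf 0x2855eb024)) (.node (.leaf 0x4e1f7300a) (.leaf 0x12f0b0d6)))) (.node (.node (.node (.leaf 0x1ba617034)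 (.leaf 0x73c6f900e)) (.node (.leaf 0x302acb0d6) (.leaf 0x4e1dc300a))) (.node (.node (.leaf 0x37b5a7024) (.leaf 0x25a05b0c6)) (.node (.leaf 0x9bd7e704e) (.leaf 0x2760db036)))))) (.node (.node (.node (.node (.node (.leaf 0x4833f7030) (.leaf 0x28919b0c6)) (.node (.leaf 0x1a275b084) (.leaf 0x292bd905a))) (.node (.node (.leaf 0x4cc8c901a) (.leaf 0x7d704b0a2)) (.node (.leaf 0x3b9ae700a) (.leaf 0x151737014)))) (.node (.node (.node (.leaf 0x6261b01c) (.leaf 0x7bd4b7002)) (.node (.leaf 0x3cc50900e) (.leaf 0x1254bb090))) (.node (.node (.leaf 0x7710b084) (.leaf 0x715149004)) (.node (.leaf 0x43ae4b05a) (.leaf 0x125215000))))) (.node (.node (.node (.node (.leaf 0x2719eb084) (.leaf 0xedc5b0c0)) (.node (.leaf 0x1652989000) (.leaf 0xb7ee704e))) (.node (.node (.leaf 0x44bb9036) (.leaf 0x5091d7030)) (.node (.leaf 0x66e837002) (.leaf 0x31d447014)))) (.node (.node (.node (.leaf 0x2bc7b7024) (.leaf 0x15aca7006)) (.node (.leaf 0x45cc900e)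 (.leaf 0x528ee7030))) (.node (.node (.leaf 0x32a67b08a) (.leaf 0x4edb43006)) (.node (.leaf 0x566449014) (.leaf 0x3cfc79036))))))) (.node (.node (.node (.node (.node (.node (.leaf 0x43c25b05a) (.leaf 0x1901a700e)) (.node (.leaf 0x666715006) (.leaf 0x5b35db06a))) (.node (.node (.leaf 0x308cfb0c6) (.leaf 0x390bf7010)) (.node (.leaf 0x509d5b050) (.leaf 0x1b89a900a)))) (.node (.node (.node (.leaf 0x63deb09a) (.leaf 0x439a03000)) (.node (.leaf 0x2d510b0a2) (.leaf 0xcd747020))) (.node (.node (.leaf 0x591c1b00c) (.leaf 0x13156b0fc)) (.node (.leaf 0x20214b1fe) (.leaf 0x2d52db0a2))))) (.node (.node (.node (.node (.leaf 0x26fc83000) (.leaf 0x2e138b08a)) (.node (.leaf 0xaf0a9030) (.leaf 0x22cc3b1fe))) (.node (.node (.leaf 0x139afb194) (.leaf 0x1a59b024)) (.node (.leaf 0xd5d21b14e) (.leaf 0x29354300e)))) (.node (.node (.node (.leaf 0x866ab00c) (.leaf 0x72e0a7006)) (.node (.leaf 0x226b39044) (.leaf 0x758ab036))) (.node (.node (.leaf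 0x797fb09c) (.leaf 0x6fecbb064)) (.node (.leaf 0x17b06a) (.leaf 0x3e6a4904e)))))) (.node (.node (.node (.node (.node (.leaf 0x4e2c1905a) (.leaf 0x57de9026)) (.node (.leaf 0x25ddb064) (.leaf 0x1a016b09c))) (.node (.node (.leaf 0x16cb8b0d6) (.leaf 0x9267026)) (.node (.leaf 0x10a26b194) (.leaf 0x2b8ae901a)))) (.node (.node (.node (.leaf 0x6e8e9b08a) (.leaf 0x923eb044)) (.node (.leaf 0x55608b2dc) (.leaf 0x1721a704e))) (.node (.node (.leaf 0x1254ab090) (.leaf 0xa204b5006)) (.node (.leaf 0x1eb1e905c) (.leaf 0x430a33004))))) (.node (.node (.node (.node (.leaf 0xa1c5a700a) (.leaf 0x2a5ef900c)) (.node (.leaf 0x34329010) (.leaf 0x260b5b05a))) (.node (.node (.leaf 0x2430db09c) (.leaf 0x5021700e)) (.node (.leaf 0x3ac34b0cc) (.leaf 0x333289082)))) (.node (.node (.node (.leaf 0x1bf9a90c6) (.leaf 0xf62eb024)) (.node (.leaf 0x267873004) (.leaf 0x4693fb184))) (.node (.node (.leaf 0xcf8d9026) (.leaf 0x6ab6b014)) (.node (.leaf 0x2defdb0a2)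 (.leaf 0x86b2b144)))))))) (.node (.node (.node (.node (.node (.node (.node (.leaf 0x202499036) (.leaf 0x65e0d9030)) (.node (.leaf 0x5479b00c) (.leaf 0x4ee08300e))) (.node (.node (.leaf 0x372787004) (.leaf 0x1330fb0ea)) (.node (.leaf 0xb1dc904e) (.leaf 0x4bfa900e)))) (.node (.node (.node (.leaf 0x839c9046) (.leaf 0x1fd70b144)) (.node (.leaf 0x19112b00c) (.leaf 0x104c6b086))) (.node (.node (.leaf 0x582b07006) (.leaf 0x2c0b042)) (.node (.leaf 0x196e97000) (.leaf 0x1b9757014))))) (.node (.node (.node (.node (.leaf 0x6d9a390c6) (.leaf 0x1edd9b1d6)) (.node (.leaf 0x43a8cb05a) (.leaf 0x126657b0cc))) (.node (.node (.leaf 0x2e303b05a) (.leaf 0xffb387004)) (.node (.leaf 0x21776b002) (.leaf 0x4d91eb0fc)))) (.node (.node (.node (.leaf 0x22edab05c) (.leaf 0x8a199000)) (.node (.leaf 0x1b0a59004) (.leaf 0x16411b024))) (.node (.node (.leaf 0x10206b0ea) (.leaf 0x2632cb05a)) (.node (.leaf 0x136cfb086) (.leaf 0x35408b0c0)))))) (.node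 (.node (.node (.node (.node (.leaf 0x15a2b7042) (.leaf 0x29f04905a)) (.node (.leaf 0x189e59004) (.leaf 0x125285000))) (.node (.node (.leaf 0xd5a5b084) (.leaf 0x1271bb090)) (.node (.leaf 0x9d47b064) (.leaf 0x94bb19016)))) (.node (.node (.node (.leaf 0x385adb002) (.leaf 0x55f1b144)) (.node (.leaf 0x3455b09a) (.leaf 0x2f7c0b036))) (.node (.node (.leaf 0x6048b06a) (.leaf 0xf922b0d6)) (.node (.leaf 0x336fc7042) (.leaf 0x1fea8b00c))))) (.node (.node (.node (.node (.leaf 0x7378e9036) (.leaf 0x196117010)) (.node (.leaf 0x8d96ab056) (.leaf 0xe2cd49042))) (.node (.node (.leaf 0x1644fb0c6) (.leaf 0x74c3e9024)) (.node (.leaf 0x8d22700e) (.leaf 0x2a5e47006)))) (.node (.node (.node (.leaf 0x22a799044) (.leaf 0x42dbab050)) (.node (.leaf 0x21ff67000) (.leaf 0x39cafb01c))) (.node (.node (.leaf 0x452dcb00c) (.leaf 0x84a19010)) (.node (.leaf 0x1551f7034) (.leaf 0x3ccf6900e))))))) (.node (.node (.node (.node (.node (.node (.leaf 0x36f00b084)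 (.leaf 0x13619b184)) (.node (.leaf 0x29af13006) (.leaf 0x186029006))) (.node (.node (.leaf 0x652a19044) (.leaf 0x384a2b050)) (.node (.leaf 0xccbe7030) (.leaf 0xaa5a905c)))) (.node (.node (.node (.leaf 0x52a999026) (.leaf 0x1cbc5b01e)) (.node (.leaf 0x459629046) (.leaf 0x2e7c0b08a))) (.node (.node (.leaf 0x294403006) (.leaf 0x4f34b056)) (.node (.leaf 0xa7f5b1d6) (.leaf 0x916855006))))) (.node (.node (.node (.node (.leaf 0x19bd99010) (.leaf 0x5e2b9046)) (.node (.leaf 0x19e619000) (.leaf 0x4da57b086))) (.node (.node (.leaf 0x613bc9026) (.leaf 0x6d31c9004)) (.node (.leaf 0x2bec79082) (.leaf 0x37737020)))) (.node (.node (.node (.leaf 0x760543000) (.leaf 0xd186b09c)) (.node (.leaf 0xf031b0c6) (.leaf 0x37cc69082))) (.node (.node (.leaf 0x1ba4b9042) (.leaf 0xa995b9006)) (.node (.leaf 0xea0db14e) (.leaf 0x99458b050)))))) (.node (.node (.node (.node (.node (.leaf 0x923b000) (.leaf 0x1ee4e9030)) (.node (.leaf 0x2363cb000) (.leaf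 0x463d5b194))) (.node (.node (.leaf 0x291eb300a) (.leaf 0x4102b056)) (.node (.leaf 0x272b5b036) (.leaf 0x22a059030)))) (.node (.node (.node (.leaf 0x26bddb05a) (.leaf 0x29500300a)) (.node (.leaf 0x15ea3901c) (.leaf 0x1cc58b01e))) (.node (.node (.leaf 0xd053b036) (.leaf 0x30bab01c)) (.node (.leaf 0x1271ab090) (.leaf 0x8fd17000))))) (.node (.node (.node (.node (.leaf 0x185939042) (.leaf 0x10b1cb184)) (.node (.leaf 0x3309e900c) (.leaf 0x158159024))) (.node (.node (.leaf 0x19dfb0c6) (.leaf 0x33b759016)) (.node (.leaf 0x7239f7034) (.leaf 0x2eb56b05a)))) (.node (.node (.node (.leaf 0x434693000) (.leaf 0x8b297010)) (.node (.leaf 0x47febb002) (.leaf 0x6ecc7905a))) (.node (.node (.leaf 0x2de2db0a2) (.leaf 0x20aabb1d6)) (.node (.leaf 0x17e08700a) (.leaf 0x1f1039026))))))))))) (.node (.node (.node (.node (.node (.node (.node (.node (.node (.node (.leaf 0x474b07042) (.leaf 0x5bcfb086)) (.node (.leaf 0x115da9030) (.leaf 0x12ae5010)))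 (.node (.node (.leaf 0x258f7b0a6) (.leaf 0x781157034)) (.node (.leaf 0x25b2db00a) (.leaf 0x1d84db14e)))) (.node (.node (.node (.leaf 0x95fc9904e) (.leaf 0x1b531700e)) (.node (.leaf 0x26841b08a) (.leaf 0x9851b1fe))) (.node (.node (.leaf 0x6794900c) (.leaf 0xfaf77002)) (.node (.leaf 0x2b419030) (.leaf 0x263bf905a))))) (.node (.node (.node (.node (.leaf 0x67a29b050) (.leaf 0xd54a1b14e)) (.node (.leaf 0x1b85a9026) (.leaf 0x3579024))) (.node (.node (.leaf 0x28e205042) (.leaf 0x6e6713000)) (.node (.leaf 0x3dc6bb002) (.leaf 0x344ee9030)))) (.node (.node (.node (.leaf 0x17ce69000) (.leaf 0x16b35010)) (.node (.leaf 0x18b4eb01c) (.leaf 0x7eadb09c))) (.node (.node (.leaf 0x80a0a5000) (.leaf 0x85dd704e)) (.node (.leaf 0x39a77004) (.leaf 0x14117002)))))) (.node (.node (.node (.node (.node (.leaf 0x53ace7014) (.leaf 0x50130904e)) (.node (.leaf 0x653900c) (.leaf 0x12038b0c6))) (.node (.node (.leaf 0x250645002) (.leaf 0x451a0b184))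 (.node (.leaf 0xa4b17b17a) (.leaf 0x44ed6b1fe)))) (.node (.node (.node (.leaf 0x25814502a) (.leaf 0x10b25004)) (.node (.leaf 0x26297905a) (.leaf 0x1316bb000))) (.node (.node (.leaf 0xc67f7006) (.leaf 0x181969010)) (.node (.leaf 0x2687bb05a) (.leaf 0x3f3bbb09c))))) (.node (.node (.node (.node (.leaf 0x28c855006) (.leaf 0x10429b042)) (.node (.leaf 0xc01bdb09a) (.leaf 0x318fcb09a))) (.node (.node (.leaf 0x2734fb09c) (.leaf 0x5f0dc7042)) (.node (.leaf 0x11cbfb10c) (.leaf 0x12817002)))) (.node (.node (.node (.leaf 0x35c55b2dc) (.leaf 0x73838b044)) (.node (.leaf 0x7482cb09a) (.leaf 0x6c8d3b08a))) (.node (.node (.leaf 0x510fb0ea) (.leaf 0x35c15b0c0)) (.node (.leaf 0x118f5004) (.leaf 0x4ef7004))))))) (.node (.node (.node (.node (.node (.node (.leaf 0xd768b036) (.leaf 0x7869f9042)) (.node (.leaf 0xa94cb9026) (.leaf 0x517bcb14e))) (.node (.node (.leaf 0x16980b090) (.leaf 0x70fafb1fe)) (.node (.leaf 0x925c9036) (.leaf 0xf071500e))))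 (.node (.node (.node (.leaf 0xa5a78b084) (.leaf 0x7cac8b044)) (.node (.leaf 0x1f2fd901a) (.leaf 0xf070500e))) (.node (.node (.leaf 0x1e1c9002) (.leaf 0x61a27034)) (.node (.leaf 0x4f6b9b01e) (.leaf 0x178adb050))))) (.node (.node (.node (.node (.leaf 0x4d3b1b144) (.leaf 0x7a15b09c)) (.node (.leaf 0x3effa7010) (.leaf 0x64728b114))) (.node (.node (.leaf 0x329d73000) (.leaf 0x9449f7026)) (.node (.leaf 0x23183700a) (.leaf 0x965379044)))) (.node (.node (.node (.leaf 0x5407006) (.leaf 0x754b69010)) (.node (.leaf 0x52959900a) (.leaf 0xb50bb000))) (.node (.node (.leaf 0x56c9d7000) (.leaf 0x592fb194)) (.node (.leaf 0x5fb059016) (.leaf 0xf8c9016)))))) (.node (.node (.node (.node (.node (.leaf 0xabb22b064) (.leaf 0xa86317006)) (.node (.leaf 0x1895db09a) (.leaf 0x5a5f8b09a))) (.node (.node (.leaf 0x1891e7010) (.leaf 0x20a69b114)) (.node (.leaf 0x3dd49016) (.leaf 0x7dfaeb0a2)))) (.node (.node (.node (.leaf 0x12cc9002) (.leaf 0xea55b2dc))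 (.node (.leaf 0x1910e901c) (.leaf 0x24d66b09c))) (.node (.node (.leaf 0x2346d90c6) (.leaf 0x5ed6b0fc)) (.node (.leaf 0x29a3fb08a) (.leaf 0x4c13b044))))) (.node (.node (.node (.node (.leaf 0x321483004) (.leaf 0xc05c900c)) (.node (.leaf 0x19cb89024) (.leaf 0x117d9b1d6))) (.node (.node (.leaf 0x100a6b06a) (.leaf 0xa236b064)) (.node (.leaf 0x4abefb00a) (.leaf 0x168d0b090)))) (.node (.node (.node (.leaf 0x44effb05c) (.leaf 0x32282b08a)) (.node (.leaf 0x62e28b114) (.leaf 0x946beb06a))) (.node (.node (.leaf 0x53fb09042) (.leaf 0x29b673000)) (.node (.leaf 0x30e21b0cc) (.leaf 0x62269004)))))))) (.node (.node (.node (.node (.node (.node (.node (.leaf 0x1930e9004) (.leaf 0x1342fb06a)) (.node (.leaf 0x18cf5000) (.leaf 0x33299b042))) (.node (.node (.leaf 0x37a80b06a) (.leaf 0x218dc904e)) (.node (.leaf 0x19247002) (.leaf 0x16792b00a)))) (.node (.node (.node (.leaf 0x30e24b0cc) (.leaf 0x5fab97006)) (.node (.leaf 0xb69cb042) (.leaf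 0x251a7b0a6))) (.node (.node (.leaf 0xcf227034) (.leaf 0x14db5b1fe)) (.node (.leaf 0x26fc83002) (.leaf 0x433733000))))) (.node (.node (.node (.node (.leaf 0xc2ee7042) (.leaf 0x9321f3004)) (.node (.leaf 0x10bc77026) (.leaf 0x174eeb002))) (.node (.node (.leaf 0xb8ee7026) (.leaf 0x4fafcb01e)) (.node (.leaf 0x2128c700a) (.leaf 0x28700500e)))) (.node (.node (.node (.leaf 0x16fa5000) (.leaf 0x85ebeb064)) (.node (.leaf 0x305f9024) (.leaf 0x28151500e))) (.node (.node (.leaf 0x368bcb09c) (.leaf 0x7643c300e)) (.node (.leaf 0x2a9ef9046) (.leaf 0x4738c9082)))))) (.node (.node (.node (.node (.node (.leaf 0x14dbc2b10c) (.leaf 0x84ff700a)) (.node (.leaf 0x10b47002) (.leaf 0x3e871b09a))) (.node (.node (.leaf 0x10814b014) (.leaf 0x37549b01c)) (.node (.leaf 0x67089024) (.leaf 0x2d679044)))) (.node (.node (.node (.leaf 0x1bfb5014) (.leaf 0x54bcb062)) (.node (.leaf 0x69d907014) (.leaf 0x82d7024))) (.node (.node (.leaf 0x1b5c79046) (.leaf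 0x4882d7004)) (.node (.leaf 0x25165b00a) (.leaf 0x6e589042))))) (.node (.node (.node (.node (.leaf 0xce269004) (.leaf 0x59cdd9004)) (.node (.leaf 0x8df9014) (.leaf 0x19b4a7034))) (.node (.node (.leaf 0x26813b05a) (.leaf 0x9c46b1d6)) (.node (.leaf 0xd800b036) (.leaf 0x30e34b0cc)))) (.node (.node (.node (.leaf 0x2eaeb05c) (.leaf 0x36979014)) (.node (.leaf 0x56f1ab00c) (.leaf 0xfa5901c))) (.node (.node (.leaf 0x6026901c) (.leaf 0x49368b0d6)) (.node (.leaf 0x2579a9002) (.leaf 0x17e65014))))))) (.node (.node (.node (.node (.node (.node (.leaf 0x2bacdb06a) (.leaf 0x1fdd3704e)) (.node (.leaf 0x877b4b184) (.leaf 0xad5fb044))) (.node (.node (.leaf 0x38f59704e) (.leaf 0x594db184)) (.node (.leaf 0x32887006) (.leaf 0x1776e7000)))) (.node (.node (.node (.leaf 0x39b6d904e) (.leaf 0xff34500a)) (.node (.leaf 0xec847b1fe) (.leaf 0x2e351b08a))) (.node (.node (.leaf 0x25206b0a6) (.leaf 0xc64729014)) (.node (.leaf 0x17f99002) (.leaf 0x44a5c9030)))))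 (.node (.node (.node (.node (.leaf 0xcc5d9006) (.leaf 0x288077002)) (.node (.leaf 0x33c52b06a) (.leaf 0x456f6b0ea))) (.node (.node (.leaf 0x52a5990c6) (.leaf 0x94f4b10c)) (.node (.leaf 0xb79fb06a) (.leaf 0x6aa19b014)))) (.node (.node (.node (.leaf 0x203a1b044) (.leaf 0x9086b900a)) (.node (.leaf 0x4f5b9b01e) (.leaf 0x60f67014))) (.node (.node (.leaf 0x298c7b08a) (.leaf 0x9f41c9006)) (.node (.leaf 0x31bcbb01c) (.leaf 0x1d7c5b2dc)))))) (.node (.node (.node (.node (.node (.leaf 0x3277ab08a) (.leaf 0xf6745006)) (.node (.leaf 0x191a59006) (.leaf 0x2dc59044))) (.node (.node (.leaf 0x193229b064) (.leaf 0x463ec9010)) (.node (.leaf 0x73d7042) (.leaf 0x1309e7026)))) (.node (.node (.node (.leaf 0x34119082) (.leaf 0x16827b00a)) (.node (.leaf 0xcc26901c) (.leaf 0x14299002))) (.node (.node (.leaf 0x14088b10c) (.leaf 0xafcb97026)) (.node (.leaf 0x2e8bbb05a) (.leaf 0xf6755006))))) (.node (.node (.node (.node (.leaf 0x482ca9016) (.leaf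 0x2717b1fe)) (.node (.leaf 0x26140b08a) (.leaf 0x2efe2905a))) (.node (.node (.leaf 0x67ae7042) (.leaf 0x88007900a)) (.node (.leaf 0x620f0b044) (.leaf 0x1262fb024)))) (.node (.node (.node (.leaf 0x5599082) (.leaf 0x10b02b000)) (.node (.leaf 0x4ebb9300e) (.leaf 0x11ce0905c))) (.node (.node (.leaf 0xca909024) (.leaf 0x430d3b08a)) (.node (.leaf 0x1682fb00a) (.leaf 0x1d085b0c0))))))))) (.node (.node (.node (.node (.node (.node (.node (.node (.leaf 0x421267034) (.leaf 0xc9cf2b00a)) (.node (.leaf 0x255715006) (.leaf 0x89409042))) (.node (.node (.leaf 0x5b1e900a) (.leaf 0x1837d7030)) (.node (.leaf 0x2eaa1300e) (.leaf 0x102e8b00c)))) (.node (.node (.node (.leaf 0x12030b0c6) (.leaf 0x8f9c900c)) (.node (.leaf 0x69f4bb0fc) (.leaf 0x2e747300e))) (.node (.node (.leaf 0x37fb1b002) (.leaf 0x252c05006)) (.node (.leaf 0x28cef9002) (.leaf 0x1f22c7024))))) (.node (.node (.node (.node (.leaf 0x226704e) (.leaf 0xfe19b00a)) (.node (.leaf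 0x1384e9026) (.leaf 0xf6b88b194))) (.node (.node (.leaf 0x677ca9010) (.leaf 0x2272cb044)) (.node (.leaf 0x948fb056) (.leaf 0x5e045b044)))) (.node (.node (.node (.leaf 0x27a50b084) (.leaf 0x4f7a4b01e)) (.node (.leaf 0x34e109044) (.leaf 0x28bfe9002))) (.node (.node (.leaf 0x230137006) (.leaf 0xc3e867014)) (.node (.leaf 0x7804b09c) (.leaf 0x1392d700e)))))) (.node (.node (.node (.node (.node (.leaf 0x16430b0a6) (.leaf 0x52fb67014)) (.node (.leaf 0xf6abb0a6) (.leaf 0x6dc5900a))) (.node (.node (.leaf 0x2b9e3b050) (.leaf 0x254045042)) (.node (.leaf 0x1627db0cc) (.leaf 0x2051905c)))) (.node (.node (.node (.leaf 0x4af30b0a6) (.leaf 0x1755e9010)) (.node (.leaf 0x66af700a) (.leaf 0x48090b0fc))) (.node (.node (.leaf 0x21d259082) (.leaf 0x42c227042)) (.node (.leaf 0x1417d900e) (.leaf 0x957189082))))) (.node (.node (.node (.node (.leaf 0x2abdfb000) (.leaf 0x760e3b05a)) (.node (.leaf 0x387e704e) (.leaf 0x15f55b06a))) (.node (.node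 (.leaf 0x28720b00a) (.leaf 0x294543000)) (.node (.leaf 0x15844b01c) (.leaf 0x2a96b10c)))) (.node (.node (.node (.leaf 0xba1b2b00c) (.leaf 0x4da85b014)) (.node (.leaf 0x33d68b00c) (.leaf 0x1f77c7042))) (.node (.node (.leaf 0x1fdda9014) (.leaf 0x4b4c49006)) (.node (.leaf 0x562207020) (.leaf 0x549869030))))))) (.node (.node (.node (.node (.node (.node (.leaf 0x4a730b0cc) (.leaf 0xc85d704e)) (.node (.leaf 0x311b37000) (.leaf 0x2110b7004))) (.node (.node (.leaf 0x380cc9024) (.leaf 0x53347700a)) (.node (.leaf 0x57e14502a) (.leaf 0x34c529044)))) (.node (.node (.node (.leaf 0x26739030) (.leaf 0x7693eb05a)) (.node (.leaf 0x256837002) (.leaf 0x16260b0cc))) (.node (.node (.leaf 0x42cba901c) (.leaf 0x45b3790c6)) (.node (.leaf 0x169f500e) (.leaf 0x13a2500e))))) (.node (.node (.node (.node (.leaf 0xb0fb9046) (.leaf 0x18ae5b050)) (.node (.leaf 0x44857b10c) (.leaf 0x1027ab7026))) (.node (.node (.leaf 0x49a91b024) (.leaf 0x18ba67000))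 (.node (.leaf 0x19a65006) (.leaf 0x10e35006)))) (.node (.node (.node (.leaf 0x19d17700a) (.leaf 0x1d05db14e)) (.node (.leaf 0x142c5b056) (.leaf 0x30351b090))) (.node (.node (.leaf 0x16c30b0cc) (.leaf 0xcf4d900a)) (.node (.leaf 0x1e2ecb064) (.leaf 0x180904e)))))) (.node (.node (.node (.node (.node (.leaf 0x46dbb114) (.leaf 0x8fe67014)) (.node (.leaf 0x1fcb59016) (.leaf 0xff00502a))) (.node (.node (.leaf 0x35c45b2dc) (.leaf 0x10bf0700e)) (.node (.leaf 0x1e85bb114) (.leaf 0x3c8c901a)))) (.node (.node (.node (.leaf 0x44f0c905c) (.leaf 0x69772b086)) (.node (.leaf 0x1f9ce900c) (.leaf 0x2eec8905a))) (.node (.node (.leaf 0xf7705002) (.leaf 0x234309042)) (.node (.leaf 0xa6f76b044) (.leaf 0xe78db14e))))) (.node (.node (.node (.node (.leaf 0x55317034) (.leaf 0xf6aab0a6)) (.node (.leaf 0x1fe6500a) (.leaf 0x1cbf5042))) (.node (.node (.leaf 0x27f02b036) (.leaf 0x26c99300e)) (.node (.leaf 0x4985fb0c6) (.leaf 0x2c4e5905c)))) (.node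 (.node (.node (.leaf 0x9437900e) (.leaf 0x6e8313004)) (.node (.leaf 0x5d98f700e) (.leaf 0x129ffb024))) (.node (.node (.leaf 0xfe18b00a) (.leaf 0x13425b00c)) (.node (.leaf 0x45437900a) (.leaf 0x4dfcb064)))))))) (.node (.node (.node (.node (.node (.node (.node (.leaf 0xbc9db144) (.leaf 0xa548b064)) (.node (.leaf 0xe845b0c0) (.leaf 0x171bf7020))) (.node (.node (.leaf 0x233227042) (.leaf 0x43d5cb05a)) (.node (.leaf 0x1d5d5b0c0) (.leaf 0x84109024)))) (.node (.node (.node (.leaf 0x5715ab0a6) (.leaf 0xfbfbb0a6)) (.node (.leaf 0x5ae987030) (.leaf 0x1fc997006))) (.node (.node (.leaf 0x22ef4b114) (.leaf 0x1d295b2dc)) (.node (.leaf 0xc0b95b050) (.leaf 0x1b435b014))))) (.node (.node (.node (.node (.leaf 0x40b38b044) (.leaf 0x54ff9042)) (.node (.leaf 0x8f36901c) (.leaf 0x5ba357004))) (.node (.node (.leaf 0x23dba9004) (.leaf 0x21fa1901c)) (.node (.leaf 0x28230502a) (.leaf 0x78840b062)))) (.node (.node (.node (.leaf 0x4222a7014)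 (.leaf 0x1f52a7004)) (.node (.leaf 0x280005002) (.leaf 0x29d50b05a))) (.node (.node (.leaf 0x526527034) (.leaf 0x11487b05c)) (.node (.leaf 0x2ec3b300a) (.leaf 0x5c411b2dc)))))) (.node (.node (.node (.node (.node (.leaf 0xec05b2dc) (.leaf 0x37bccb000)) (.node (.leaf 0xfd0700a) (.leaf 0x24edeb09c))) (.node (.node (.leaf 0xafea2700e) (.leaf 0x6710b7020)) (.node (.leaf 0xbd05b00c) (.leaf 0x8f911b0c0)))) (.node (.node (.node (.leaf 0x3718700a) (.leaf 0x2d3b7b0a2)) (.node (.leaf 0x4faf4b01e) (.leaf 0x89dd9006))) (.node (.node (.leaf 0x2f6c3b09c) (.leaf 0x5016c9016)) (.node (.leaf 0x6ec590c6) (.leaf 0x5e4e9006))))) (.node (.node (.node (.node (.leaf 0x39f1a9014) (.leaf 0x90cb8b184)) (.node (.leaf 0x4e5d83002) (.leaf 0x95012900c))) (.node (.node (.leaf 0x2dba3b0a2) (.leaf 0x459b87014)) (.node (.leaf 0x2e6943006) (.leaf 0x3a333b0c6)))) (.node (.node (.node (.leaf 0x14b4b900e) (.leaf 0x19229e5006)) (.node (.leaf 0x28728b00a)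 (.leaf 0x17dc6b01c))) (.node (.node (.leaf 0x18326b002) (.leaf 0x31ad4b050)) (.node (.leaf 0x6ed5704e) (.leaf 0x4bb519042))))))) (.node (.node (.node (.node (.node (.node (.leaf 0x1ca25002) (.leaf 0x1fd2502a)) (.node (.leaf 0x2e8d9905a) (.leaf 0x2861bb0a6))) (.node (.node (.leaf 0x32d14b05a) (.leaf 0xda61b036)) (.node (.leaf 0x24aebb036) (.leaf 0x389a8900c)))) (.node (.node (.node (.leaf 0x15c33b014) (.leaf 0x9c99900e)) (.node (.leaf 0xf6ce9002) (.leaf 0x195b590c6))) (.node (.node (.leaf 0x763c2905a) (.leaf 0x8dfe7042)) (.node (.leaf 0x2177b9014) (.leaf 0x12933b0d6))))) (.node (.node (.node (.node (.leaf 0x54a88905c) (.leaf 0x7d712b0a2)) (.node (.leaf 0x82727034) (.leaf 0x5022b900c))) (.node (.node (.leaf 0x2af0b1d6) (.leaf 0x5db049010)) (.node (.leaf 0xdd5e4b09a) (.leaf 0x7e5367034)))) (.node (.node (.node (.leaf 0x4c6ee9026) (.leaf 0x1642db0a6)) (.node (.leaf 0xfbfab0a6) (.leaf 0x2cc64b1d6))) (.node (.node (.leaf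 0xfa1f9002) (.leaf 0x47b9d700a)) (.node (.leaf 0x254727002) (.leaf 0x2163905c)))))) (.node (.node (.node (.node (.node (.leaf 0x260c43006) (.leaf 0x1ffe89082)) (.node (.leaf 0x8e5ff7026) (.leaf 0x29859b05a))) (.node (.node (.leaf 0x5f163704e) (.leaf 0x3349e9046)) (.node (.leaf 0x67c52b01c) (.leaf 0x4390db05a)))) (.node (.node (.node (.leaf 0xa1d7b114) (.leaf 0x3e48904e)) (.node (.leaf 0x101329046) (.leaf 0x5d457014))) (.node (.node (.leaf 0x89369004) (.leaf 0x57fdf9002)) (.node (.leaf 0x2323d9006) (.leaf 0x26da53006))))) (.node (.node (.node (.node (.leaf 0x45f279006) (.leaf 0x4feb1b01e)) (.node (.leaf 0x23b209024) (.leaf 0x218297024))) (.node (.node (.leaf 0x463189026) (.leaf 0x851ccb064)) (.node (.leaf 0x1165c5b050) (.leaf 0x2171c7006)))) (.node (.node (.node (.leaf 0xb94901a) (.leaf 0xbc0d700e)) (.node (.leaf 0xc84d90c6) (.leaf 0xb43e9026))) (.node (.node (.leaf 0x59d59004) (.leaf 0x1b08a7026)) (.node (.leaf 0xfe10b00a)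 (.leaf 0xc1af700a)))))))))) (.node (.node (.node (.node (.node (.node (.node (.node (.node (.leaf 0x161765006) (.leaf 0x16dab5006)) (.node (.leaf 0x2eb54b05a) (.leaf 0x382a7b062))) (.node (.node (.leaf 0xebeb0fc) (.leaf 0x43d59b08a)) (.node (.leaf 0x80ef7b00a) (.leaf 0x493b4b024)))) (.node (.node (.node (.leaf 0x298a2905a) (.leaf 0x144af9030)) (.node (.leaf 0x24358b084) (.leaf 0x3a35eb0c6))) (.node (.node (.leaf 0x1ffb49004) (.leaf 0x13a927000)) (.node (.leaf 0x1b7ef7020) (.leaf 0x3bffb0ea))))) (.node (.node (.node (.node (.leaf 0x4fa4db01e) (.leaf 0x148f46904e)) (.node (.leaf 0x179b9b144) (.leaf 0x943eb10c))) (.node (.node (.leaf 0xb3f2b002) (.leaf 0x7eb40b0ea)) (.node (.leaf 0x11ca6900e) (.leaf 0x16af2500e)))) (.node (.node (.node (.leaf 0x2bce99046) (.leaf 0x11b20cb1d6)) (.node (.leaf 0x32886b05a) (.leaf 0x2f209036))) (.node (.node (.leaf 0x18700b042) (.leaf 0x21f5b1fe)) (.node (.leaf 0x28ed45014) (.leaf 0x2122d7034))))))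 (.node (.node (.node (.node (.node (.leaf 0x13912b002) (.leaf 0x3f0b3b036)) (.node (.leaf 0x308f07002) (.leaf 0xe1c8b0c0))) (.node (.node (.leaf 0x2b98f700e) (.leaf 0x9dfb905c)) (.node (.leaf 0xc3489014) (.leaf 0xd481b09c)))) (.node (.node (.node (.leaf 0x3c460b064) (.leaf 0xf54ab090)) (.node (.leaf 0x164da5042) (.leaf 0x16436500a))) (.node (.node (.leaf 0x139ca590c6) (.leaf 0xb8727000)) (.node (.leaf 0x2f823b036) (.leaf 0x27731b084))))) (.node (.node (.node (.node (.leaf 0x19e907004) (.leaf 0x1262eb024)) (.node (.leaf 0x4482fb1d6) (.leaf 0x104639000))) (.node (.node (.leaf 0xa98db044) (.leaf 0x6dfe7024)) (.node (.leaf 0x2d576b0a2) (.leaf 0x282585000)))) (.node (.node (.node (.leaf 0x231c0b0ea) (.leaf 0x803afb00a)) (.node (.leaf 0x597b194) (.leaf 0x72ac87026))) (.node (.node (.leaf 0x610569016) (.leaf 0x363fb086)) (.node (.leaf 0x2d782b0a2) (.leaf 0x6929a9014))))))) (.node (.node (.node (.node (.node (.node (.leaf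 0x8c15b0fc) (.leaf 0x5dacdb06a)) (.node (.leaf 0x26c65b05a) (.leaf 0x3171ab000))) (.node (.node (.leaf 0x787b17042) (.leaf 0x5760700a)) (.node (.leaf 0x6e0be3006) (.leaf 0x26e583000)))) (.node (.node (.node (.leaf 0x1305a9000) (.leaf 0xf54bb090)) (.node (.leaf 0x2806ab090) (.leaf 0x1fec3900a))) (.node (.node (.leaf 0x14ca1905c) (.leaf 0xf5215000)) (.node (.leaf 0x20f5bb114) (.leaf 0x13a91b050))))) (.node (.node (.node (.node (.leaf 0x32d79b08a) (.leaf 0x22be2b044)) (.node (.leaf 0xc63b9016) (.leaf 0x1fdc390c6))) (.node (.node (.leaf 0x239e0b194) (.leaf 0x1ac2fb084)) (.node (.leaf 0xa37b086) (.leaf 0x21ba29006)))) (.node (.node (.node (.leaf 0x4a402502a) (.leaf 0x4a3725002)) (.node (.leaf 0x1bd5b090) (.leaf 0x68b3901a))) (.node (.node (.leaf 0x3ea6b0fc) (.leaf 0x111e4b056)) (.node (.leaf 0x9eed905c) (.leaf 0x5b9d27006)))))) (.node (.node (.node (.node (.node (.leaf 0x915cfb0d6) (.leaf 0xbe21b050)) (.node (.leaf 0x3a9fb194)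 (.leaf 0x467e7b050))) (.node (.node (.leaf 0xf7355014) (.leaf 0x1d818b2dc)) (.node (.leaf 0xff7b0ea) (.leaf 0x1e85b090)))) (.node (.node (.node (.leaf 0x176d79046) (.leaf 0x6a1427000)) (.node (.leaf 0x37ec19010) (.leaf 0x6dbf904e))) (.node (.node (.leaf 0x338ac7030) (.leaf 0x6eb3b300a)) (.node (.leaf 0x2e935b05a) (.leaf 0x301c75000))))) (.node (.node (.node (.node (.leaf 0x92bb45042) (.leaf 0x95ccb1d6)) (.node (.leaf 0x5fff2b194) (.leaf 0x58bfe7010))) (.node (.node (.leaf 0x4cf827000) (.leaf 0x45f1b044)) (.node (.leaf 0x2ceb49036) (.leaf 0x44635b05c)))) (.node (.node (.node (.leaf 0x1128eb056) (.leaf 0x73f5b036)) (.node (.leaf 0x161d60b024) (.leaf 0x20aecb064))) (.node (.node (.leaf 0x2958b10c) (.leaf 0x82beb184)) (.node (.leaf 0x18bffb000) (.leaf 0x42aa5b0fc)))))))) (.node (.node (.node (.node (.node (.node (.node (.leaf 0x27b0ab09c) (.leaf 0x1b80e9010)) (.node (.leaf 0x28fbbb090) (.leaf 0x2f526b09c))) (.node (.node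 (.leaf 0x66207004) (.leaf 0x295f73002)) (.node (.leaf 0xf7db184) (.leaf 0x2bb049010)))) (.node (.node (.node (.leaf 0x29e3d3002) (.leaf 0x35998b0c0)) (.node (.leaf 0x2c129b1fe) (.leaf 0x54ce3b1d6))) (.node (.node (.leaf 0x15bfb00a) (.leaf 0x29834b08a)) (.node (.leaf 0xee88b2dc) (.leaf 0x29526b05a))))) (.node (.node (.node (.node (.leaf 0x6ed09014) (.leaf 0x585077020)) (.node (.leaf 0x282c55014) (.leaf 0x263eb1d6))) (.node (.node (.leaf 0x146b0b1d6) (.leaf 0x3b04b062)) (.node (.leaf 0x393139006) (.leaf 0x250f7b0cc)))) (.node (.node (.node (.leaf 0x1bf7b00a) (.leaf 0x4578d700a)) (.node (.leaf 0x16bba5002) (.leaf 0x16a82502a))) (.node (.node (.leaf 0x17c8b090) (.leaf 0x362f4b036)) (.node (.leaf 0x5230904e) (.leaf 0x10ac4b050)))))) (.node (.node (.node (.node (.node (.leaf 0x230cfb062) (.leaf 0x77f95b0fc)) (.node (.leaf 0x4f01db01e) (.leaf 0xbc81d7026))) (.node (.node (.leaf 0x9dd3a7010) (.leaf 0x1a290b036)) (.node (.leaf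 0x15d097020) (.leaf 0x396c29042)))) (.node (.node (.node (.leaf 0xccbe7024) (.leaf 0x9bab9030)) (.node (.leaf 0x111c79036) (.leaf 0xf71ab090))) (.node (.node (.leaf 0x1298b090) (.leaf 0x5f892b086)) (.node (.leaf 0x6c838b08a) (.leaf 0x266bcb05a))))) (.node (.node (.node (.node (.leaf 0x8c42eb06a) (.leaf 0x2a5769010)) (.node (.leaf 0x6ae89b050) (.leaf 0x2e7ecb05a))) (.node (.node (.leaf 0x280015000) (.leaf 0x5641db002)) (.node (.leaf 0x30b8d7002) (.leaf 0x1b6d6b01c)))) (.node (.node (.node (.leaf 0x8130b0ea) (.leaf 0x532c29082)) (.node (.leaf 0x4d9ca9010) (.leaf 0x31279b042))) (.node (.node (.leaf 0x710db036) (.leaf 0x321e8b08a)) (.node (.leaf 0x7604ab08a) (.leaf 0x4dc02b01c))))))) (.node (.node (.node (.node (.node (.node (.leaf 0x62ba9082) (.leaf 0xf5285000)) (.node (.leaf 0xec40b14e) (.leaf 0x776eb084))) (.node (.node (.leaf 0x1d458b0c0) (.leaf 0x16c2b00a)) (.node (.leaf 0xf71bb090) (.leaf 0x3d628b00c)))) (.node (.node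 (.node (.leaf 0x3e5e4b042) (.leaf 0x245e3b09c)) (.node (.leaf 0xc2bf904e) (.leaf 0xdb39b09c))) (.node (.node (.leaf 0x8ad0b194) (.leaf 0x254215010)) (.node (.leaf 0x12922b0d6) (.leaf 0x17a29700e))))) (.node (.node (.node (.node (.leaf 0x19ccb901a) (.leaf 0x261613000)) (.node (.leaf 0x1bb867010) (.leaf 0x25056b0cc))) (.node (.node (.leaf 0x12283c7020) (.leaf 0x25cb062)) (.node (.leaf 0x1b65db09a) (.leaf 0x26b0db05a)))) (.node (.node (.node (.leaf 0x530c87004) (.leaf 0x309259002)) (.node (.leaf 0x4b8e1b0ea) (.leaf 0x2ee9a3004))) (.node (.node (.leaf 0x5a4e704e) (.leaf 0x71e5f9026)) (.node (.leaf 0x15cab00a) (.leaf 0x66f4db0c6)))))) (.node (.node (.node (.node (.node (.leaf 0x308035010) (.leaf 0x133097030)) (.node (.leaf 0x2bb87b00c) (.leaf 0x5bc637042))) (.node (.node (.leaf 0x2bdcc7010) (.leaf 0x255555004)) (.node (.leaf 0xf7345014) (.leaf 0x2560b05c)))) (.node (.node (.node (.leaf 0x5c44cb14e) (.leaf 0x317aeb06a))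 (.node (.leaf 0x21df2900a) (.leaf 0x2d61eb0a2))) (.node (.node (.leaf 0x1fd529042) (.leaf 0x4739b114)) (.node (.leaf 0x744e9b042) (.leaf 0x19607904e))))) (.node (.node (.node (.node (.leaf 0x59e557042) (.leaf 0x4509d904e)) (.node (.leaf 0x50cff9042) (.leaf 0x322a2905a))) (.node (.node (.leaf 0xcc73901a) (.leaf 0x4e0e63000)) (.node (.leaf 0x262e23004) (.leaf 0x3fa5b184)))) (.node (.node (.node (.leaf 0x399487014) (.leaf 0x1f1d39006)) (.node (.leaf 0x716a0700e) (.leaf 0x7d057b0a2))) (.node (.node (.leaf 0x6fbb9016) (.leaf 0x1023bb002)) (.node (.leaf 0x17eca9026) (.leaf 0xb3b97030))))))))) (.node (.node (.node (.node (.node (.node (.node (.node (.leaf 0xbf9ab01c) (.leaf 0x1835b0a6)) (.node (.leaf 0x65c8b194) (.leaf 0x2e13ab08a))) (.node (.node (.leaf 0x35d50b14e) (.leaf 0xa3f8bb084)) (.node (.leaf 0x32fe1300e) (.leaf 0x3f559b084)))) (.node (.node (.node (.leaf 0xe260db01c) (.leaf 0x2e3da3000)) (.node (.leaf 0x3c7e9006)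 (.leaf 0x1978b0cc))) (.node (.node (.leaf 0x48efe7006) (.leaf 0x26e173000)) (.node (.leaf 0x25947b090) (.leaf 0x258f900e))))) (.node (.node (.node (.node (.leaf 0x4a8bc7002) (.leaf 0x473e87014)) (.node (.leaf 0xc195b0fc) (.leaf 0x1b28b0cc))) (.node (.node (.leaf 0x36ea5b036) (.leaf 0x162619002)) (.node (.leaf 0x41093b114) (.leaf 0x6a871b09a)))) (.node (.node (.node (.leaf 0xae3ca704e) (.leaf 0x42c47901a)) (.node (.leaf 0x2321f9016) (.leaf 0xf3fab0cc))) (.node (.node (.leaf 0xa841f9006) (.leaf 0x1a049b036)) (.node (.leaf 0x1791a7026) (.leaf 0x28c105004)))))) (.node (.node (.node (.node (.node (.leaf 0xec50b14e) (.leaf 0x456fe7004)) (.node (.leaf 0x1ff25b062) (.leaf 0x5b09090c6))) (.node (.node (.leaf 0x21d13b0ea) (.leaf 0x45668901c)) (.node (.leaf 0x9a59004) (.leaf 0x1b77d7030)))) (.node (.node (.node (.leaf 0x428d3904e) (.leaf 0x4a27b5010)) (.node (.leaf 0x95e19044) (.leaf 0x23d2e9082))) (.node (.node (.leaf 0xc5aeb184)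 (.leaf 0x296d5905a)) (.node (.leaf 0x2bc817020) (.leaf 0x19678b194))))) (.node (.node (.node (.node (.leaf 0x842a9082) (.leaf 0x4a4e65010)) (.node (.leaf 0x6f461900e) (.leaf 0x5357014))) (.node (.node (.leaf 0x6e839b08a) (.leaf 0x374f9042)) (.node (.leaf 0x528ee7024) (.leaf 0x11b71b10c)))) (.node (.node (.node (.leaf 0x719b9b042) (.leaf 0x1de48b2dc)) (.node (.leaf 0x28ac45010) (.leaf 0x4a12c7002))) (.node (.node (.leaf 0x1884f9046) (.leaf 0x3b6b8b01c)) (.node (.leaf 0x4baf2904e) (.leaf 0x1098a7020))))))) (.node (.node (.node (.node (.node (.node (.leaf 0x46e37b014) (.leaf 0x2f79bb036)) (.node (.leaf 0xcd70b086) (.leaf 0x1e65b0cc))) (.node (.node (.leaf 0x45ee07042) (.leaf 0x6528b0ea)) (.node (.leaf 0x6269006) (.leaf 0x133f37020)))) (.node (.node (.node (.leaf 0x82387004) (.leaf 0x4d755b050)) (.node (.leaf 0x5a2b900c) (.leaf 0xb3292b194))) (.node (.node (.leaf 0x1f41bb0fc) (.leaf 0xbe429010)) (.node (.leaf 0x10bc3b01c)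 (.leaf 0x250315014))))) (.node (.node (.node (.node (.leaf 0x89c89014) (.leaf 0x432a0300e)) (.node (.leaf 0x18ab9b00c) (.leaf 0x4027db064))) (.node (.node (.leaf 0x3c3d9004) (.leaf 0x1035b0cc)) (.node (.leaf 0x11b17b1d6) (.leaf 0x3d2a9b042)))) (.node (.node (.node (.leaf 0x7a59bb09c) (.leaf 0x39700b184)) (.node (.leaf 0x92b8b9002) (.leaf 0x16ffb5010))) (.node (.node (.leaf 0x53396b184) (.leaf 0x25ca6b090)) (.node (.leaf 0x2c8b1900e) (.leaf 0x94bd9030)))))) (.node (.node (.node (.node (.node (.leaf 0x21f79b184) (.leaf 0x1d380b14e)) (.node (.leaf 0xf3fbb0cc) (.leaf 0x2b1107026))) (.node (.node (.leaf 0x30ec2500e) (.leaf 0xfe7d5010)) (.node (.leaf 0xbb98e9046) (.leaf 0x16de25004)))) (.node (.node (.node (.leaf 0x5d177004) (.leaf 0x3418db10c)) (.node (.leaf 0x1b7a5b050) (.leaf 0x1adb1b036))) (.node (.node (.leaf 0x1124d4b0a6) (.leaf 0x335b67020)) (.node (.leaf 0xebd8b2dc) (.leaf 0x1b23e7000))))) (.node (.node (.node (.node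 (.leaf 0x93ffb1fe) (.leaf 0xc5abb062)) (.node (.leaf 0xd408b09c) (.leaf 0x275c9b084))) (.node (.node (.leaf 0x53ef9024) (.leaf 0x4479042)) (.node (.leaf 0x7823b084) (.leaf 0xbcb419010)))) (.node (.node (.node (.leaf 0x2f40eb09c) (.leaf 0x54854900e)) (.node (.leaf 0x2293ab114) (.leaf 0x28c9ab0cc))) (.node (.node (.leaf 0x29084300e) (.leaf 0x16b1f5004)) (.node (.leaf 0x30a5b500a) (.leaf 0x305775042)))))))) (.node (.node (.node (.node (.node (.node (.node (.leaf 0xcbb91b14e) (.leaf 0x28c4bb0cc)) (.node (.leaf 0x10f4b9010) (.leaf 0x4117034))) (.node (.node (.leaf 0x48e437034) (.leaf 0x12039b0c6)) (.node (.leaf 0x3d012b000) (.leaf 0x392e900a)))) (.node (.node (.node (.leaf 0x5b790900a) (.leaf 0x1f8e2b086)) (.node (.leaf 0x45e0e9014) (.leaf 0x4f015b01e))) (.node (.node (.leaf 0x172cbb06a) (.leaf 0x2ad5e9000)) (.node (.leaf 0x7c506b044) (.leaf 0x9cb02905c))))) (.node (.node (.node (.node (.leaf 0x11b49b05c) (.leaf 0x156619046))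 (.node (.leaf 0x109acb09a) (.leaf 0x286415004))) (.node (.node (.leaf 0x83ef904e) (.leaf 0x246d900e)) (.node (.leaf 0x68eeb184) (.leaf 0x2671a3000)))) (.node (.node (.node (.leaf 0x436c1905a) (.leaf 0x4e1933004)) (.node (.leaf 0x714cf7026) (.leaf 0x2c599b056))) (.node (.node (.leaf 0x526449014) (.leaf 0x19ac6b184)) (.node (.leaf 0xb2ca7010) (.leaf 0x3487bb1d6)))))) (.node (.node (.node (.node (.node (.leaf 0x90405904e) (.leaf 0x29afc905a)) (.node (.leaf 0x447bf9036) (.leaf 0x724cb036))) (.node (.node (.leaf 0x53980b0ea) (.leaf 0x25317b090)) (.node (.leaf 0x18ed29026) (.leaf 0x23fd3904e)))) (.node (.node (.node (.leaf 0x8763901a) (.leaf 0x24e8bb09c)) (.node (.leaf 0x4c7737020) (.leaf 0x23ee9036))) (.node (.node (.leaf 0x522747004) (.leaf 0x142459044)) (.node (.leaf 0x61ff4b0fc) (.leaf 0x1564f700e))))) (.node (.node (.node (.node (.leaf 0x9d8527000) (.leaf 0x4e5083000)) (.node (.leaf 0xe1864b024) (.leaf 0x1bbf69000)))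 (.node (.node (.leaf 0x46555b06a) (.leaf 0x1bebeb002)) (.node (.leaf 0x52399082) (.leaf 0x266fab08a)))) (.node (.node (.node (.leaf 0x3a2e90c6) (.leaf 0x286d55010)) (.node (.leaf 0x9696b05c) (.leaf 0x329463006))) (.node (.node (.leaf 0x16ed49002) (.leaf 0x26b213004)) (.node (.leaf 0x14dc3b1fe) (.leaf 0xfeaab0cc))))))) (.node (.node (.node (.node (.node (.node (.leaf 0xc0b0b0ea) (.leaf 0x11414b1fe)) (.node (.leaf 0x147739044) (.leaf 0x8cf9f9026))) (.node (.node (.leaf 0x156ec7000) (.leaf 0x427987004)) (.node (.leaf 0x484959024) (.leaf 0x2c8ab900e)))) (.node (.node (.node (.leaf 0x930f9044) (.leaf 0x2de7b056)) (.node (.leaf 0x43052300a) (.leaf 0x776900a))) (.node (.node (.leaf 0x299b8300a) (.leaf 0x19053b062)) (.node (.leaf 0x5c679014) (.leaf 0x7194ab000))))) (.node (.node (.node (.node (.leaf 0x1419ab05c) (.leaf 0x16a597002)) (.node (.leaf 0x131e29010) (.leaf 0x289cab0cc))) (.node (.node (.leaf 0x344f5b05c) (.leaf 0xb081bb090))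 (.node (.leaf 0x3aef9b0d6) (.leaf 0x3f197034)))) (.node (.node (.node (.leaf 0x3067f502a) (.leaf 0x30dc25002)) (.node (.leaf 0x249a0b084) (.leaf 0x5a1d7024))) (.node (.node (.leaf 0x6c2bb062) (.leaf 0x45b5d7006)) (.node (.leaf 0x189424b090) (.leaf 0x1328b0a6)))))) (.node (.node (.node (.node (.node (.leaf 0x1733db014) (.leaf 0x724349000)) (.node (.leaf 0x6fe8b086) (.leaf 0x3ad98b024))) (.node (.node (.leaf 0x293e63006) (.leaf 0x25dd85014)) (.node (.leaf 0xe498b0c0) (.leaf 0x16beb5014)))) (.node (.node (.node (.leaf 0x20193b044) (.leaf 0x299833006)) (.node (.leaf 0x3d694b014) (.leaf 0xfe7c5010))) (.node (.node (.leaf 0x2183ab0fc) (.leaf 0x43ff43006)) (.node (.leaf 0x54562900e) (.leaf 0x1178b0a6))))) (.node (.node (.node (.node (.leaf 0x12932b0d6) (.leaf 0x877d2900c)) (.node (.leaf 0x4aac49002) (.leaf 0x4e0a4b05a))) (.node (.node (.leaf 0x8dca2b064) (.leaf 0x335979010)) (.node (.leaf 0x259f6b090) (.leaf 0x5915c901a))))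 (.node (.node (.node (.leaf 0x7690c6) (.leaf 0x462cfb09a)) (.node (.leaf 0x23c327024) (.leaf 0x5fd5901c))) (.node (.node (.leaf 0x35988b0c0) (.leaf 0x16c365014)) (.node (.leaf 0xbf937020) (.leaf 0x3eb2db00c))))))))))))

theorem cert15_0 : chunkB 15 cert15 0 = true := by decide +kernel

theorem cert15_1 : chunkB 15 cert15 1 = true := by decide +kernel

theorem cert15_2 : chunkB 15 cert15 2 = true := by decide +kernel

theorem cert15_3 : chunkB 15 cert15 3 = true := by decide +kernel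

theorem cert15_4 : chunkB 15 cert15 4 = true := by decide +kernel

theorem cert15_5 : chunkB 15 cert15 5 = true := by decide +kernel

theorem cert15_6 : chunkB 15 cert15 6 = true := by decide +kernel

theorem cert15_7 : chunkB 15 cert15 7 = true := by decide +kernel

theorem cert15_ok : ∀ k < 2048, itemB 15 cert15 k = true :=
  of_chunks cert15_0 cert15_1 cert15_2 cert15_3 cert15_4 cert15_5 cert15_6 cert15_7

end Cfsg.Agent.F4Square.Two
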