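import Cfsg.Agent.F4Square.Two.Setup

/-!
Certificates for the coset of the Weyl element number 2.
-/

set_option autoImplicit false
set_option maxRecDepth 100000
set_option maxHeartbeats 0
set_option Elab.async false

namespace Cfsg.Agent.F4Square.Two

/-- The certificates. -/
noncomputable def cert2 : Tree :=
  (.node (.node (.node (.node (.node (.node (.node (.node (.node (.node (.node (.leaf 0x2572b9026) (.leaf 0xbeae300a)) (.node (.leaf 0x72cd99046) (.leaf 0x30acab050))) (.node (.node (.leaf 0x5c6d57020) (.leaf 0x156e29082)) (.node (.leaf 0x20888901a) (.leaf 0x7c479042)))) (.node (.node (.node (.leaf 0x4af2b00a) (.leaf 0x6ee1fb00c)) (.node (.leaf 0x9786fb17a) (.leaf 0x5a3b1b0d6))) (.node (.node (.leaf 0x79c9004) (.leaf 0x3b2c0900c)) (.node (.leaf 0xb900300a) (.leaf 0x37bf7010))))) (.node (.node (.node (.node (.leaf 0xe352b17a) (.leaf 0x124eb0c6)) (.node (.leaf 0x94330b0a6) (.leaf 0x6fb47901a))) (.node (.node (.leaf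 0x16098b08a) (.leaf 0x2071b2dc)) (.node (.leaf 0x66feb09c) (.leaf 0x64bb9b06a)))) (.node (.node (.node (.leaf 0x9b6517006) (.leaf 0xa10c704e)) (.node (.leaf 0x8252890c6) (.leaf 0xe5fab17a))) (.node (.node (.leaf 0x2da825000) (.leaf 0x3f6adb0ea)) (.node (.leaf 0x153e39016) (.leaf 0xd9eb9014)))))) (.node (.node (.node (.node (.node (.leaf 0x7bd8eb00a) (.leaf 0xdab97024)) (.node (.leaf 0x140e47034) (.leaf 0x30f23b042))) (.node (.node (.leaf 0x820bb184) (.leaf 0x5eaab194)) (.node (.leaf 0xbcee3006) (.leaf 0x13839b17a)))) (.node (.node (.node (.leaf 0x1e9e79044) (.leaf 0x283cdb0fc)) (.node (.leaf 0x4a8deb05a) (.leaf 0xb8403006))) (.node (.node (.leaf 0x19e71b1fe) (.leaf 0x912c9016)) (.node (.leaf 0x3a12e9010) (.leaf 0xe9d2b17a))))) (.node (.node (.node (.node (.leaf 0x40c7014) (.leaf 0xda5b99044)) (.node (.leaf 0xa03547014) (.leaf 0x1a6d49004))) (.node (.node (.leaf 0x7e269006) (.leaf 0x93517b09c)) (.node (.leaf 0x46eab00a)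 (.leaf 0x4a6a23002)))) (.node (.node (.node (.leaf 0x2d1de5014) (.leaf 0x23326700e)) (.node (.leaf 0x4ac9c3002) (.leaf 0x26b9b14e))) (.node (.node (.leaf 0xe99b77002) (.leaf 0xaff91904e)) (.node (.leaf 0x49b269024) (.leaf 0x13ea9b17a))))))) (.node (.node (.node (.node (.node (.node (.leaf 0x87f82b05a) (.leaf 0x2e828900a)) (.node (.leaf 0x1d423b05a) (.leaf 0x1030eb194))) (.node (.node (.leaf 0x25f40b144) (.leaf 0xf43b9000)) (.node (.leaf 0x618c1b2dc) (.leaf 0x64463b014)))) (.node (.node (.node (.leaf 0x37fb4700a) (.leaf 0xd631901c)) (.node (.leaf 0x66ed1b05c) (.leaf 0x103c349006))) (.node (.node (.leaf 0x2031b0c0) (.leaf 0x80da3900c)) (.node (.leaf 0x14adf90c6) (.leaf 0x31be25010))))) (.node (.node (.node (.node (.leaf 0x1519569002) (.leaf 0x27efb9046)) (.node (.leaf 0x297a0b01e) (.leaf 0x19fbc9036))) (.node (.node (.leaf 0x584d0905a) (.leaf 0x103e7b0fc)) (.node (.leaf 0x47d1fb06a) (.leaf 0x22d9ab062)))) (.node (.node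 (.node (.leaf 0x3bf219006) (.leaf 0x21264b144)) (.node (.leaf 0x504869016) (.leaf 0x31efb5004))) (.node (.node (.leaf 0x16c5fb05a) (.leaf 0x37279010)) (.node (.leaf 0x8dc11700e) (.leaf 0x8f46b062)))))) (.node (.node (.node (.node (.node (.leaf 0x185a29000) (.leaf 0x5c45b062)) (.node (.leaf 0xed0919044) (.leaf 0x9b139024))) (.node (.node (.leaf 0x913b7004) (.leaf 0x7aa59004)) (.node (.leaf 0x328ab700a) (.leaf 0x3a4e67010)))) (.node (.node (.node (.leaf 0x16a6b905a) (.leaf 0x1fdeeb06a)) (.node (.leaf 0xf333b002) (.leaf 0x1c2fd901c))) (.node (.node (.leaf 0x32e9d90c6) (.leaf 0x70790c6)) (.node (.leaf 0x8f4db086) (.leaf 0x8e078b01c))))) (.node (.node (.node (.node (.leaf 0x76357014) (.leaf 0x1694e905a)) (.node (.leaf 0xbf1107004) (.leaf 0x15b567024))) (.node (.node (.leaf 0x552a4900a) (.leaf 0x4a113b05a)) (.node (.leaf 0x2ae57b042) (.leaf 0x81413b194)))) (.node (.node (.node (.leaf 0x3882db000) (.leaf 0x7900a)) (.node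 (.leaf 0xb7c4905a) (.leaf 0x3620f9030))) (.node (.node (.leaf 0xa11c90c6) (.leaf 0x149df900a)) (.node (.leaf 0x196fcb05c) (.leaf 0x587b8905a)))))))) (.node (.node (.node (.node (.node (.node (.node (.leaf 0x2f82fb09a) (.leaf 0x1d002905a)) (.node (.leaf 0x695389042) (.leaf 0xa7064b08a))) (.node (.node (.leaf 0x1f544b014) (.leaf 0x9c299082)) (.node (.leaf 0x2d1d65010) (.leaf 0x216c79026)))) (.node (.node (.node (.leaf 0x4e0409026) (.leaf 0x38358b002)) (.node (.leaf 0xf0b0b050) (.leaf 0x39dd2b0c0))) (.node (.node (.leaf 0x5216a9010) (.leaf 0x1ce519082)) (.node (.leaf 0x3a9b6b01c) (.leaf 0x4ec4b090))))) (.node (.node (.node (.node (.leaf 0x122adb0c0) (.leaf 0x8f6ad5042)) (.node (.leaf 0x22945b194) (.leaf 0x7f76900a))) (.node (.node (.leaf 0x1afb07034) (.leaf 0xb094300e)) (.node (.leaf 0x46d4b090) (.leaf 0x842db194)))) (.node (.node (.node (.leaf 0xb555300e) (.leaf 0x1695ab05a)) (.node (.leaf 0x4ac2cb08a) (.leaf 0x6b44ab17a)))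 (.node (.node (.leaf 0x2d61b5010) (.leaf 0xc211b044)) (.node (.leaf 0x15c17904e) (.leaf 0x8f019500a)))))) (.node (.node (.node (.node (.node (.leaf 0x3a10f7020) (.leaf 0x4a2cf905a)) (.node (.leaf 0x2ffd7b014) (.leaf 0x36d8cb1d6))) (.node (.node (.leaf 0x6ec447010) (.leaf 0x23a819000)) (.node (.leaf 0x9e87034) (.leaf 0xa9a6700a)))) (.node (.node (.node (.leaf 0x914f27024) (.leaf 0x136b9b17a)) (.node (.leaf 0xb4a7e90c6) (.leaf 0x342d4b050))) (.node (.node (.leaf 0x3c116901c) (.leaf 0x787690c6)) (.node (.leaf 0x10caeb086) (.leaf 0x2ba54b042))))) (.node (.node (.node (.node (.leaf 0x2d4cc7002) (.leaf 0x95fd7042)) (.node (.leaf 0x538cb184) (.leaf 0x1454b024))) (.node (.node (.leaf 0x61bbb036) (.leaf 0x3ca309024)) (.node (.leaf 0x1066eb0ea) (.leaf 0x3b9429004)))) (.node (.node (.node (.leaf 0x2d52f5004) (.leaf 0x3eb0b09a)) (.node (.leaf 0x14ac87014) (.leaf 0x17312b184))) (.node (.node (.leaf 0x3bf42901c) (.leaf 0x4981c901c))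 (.node (.leaf 0x5f9be300e) (.leaf 0x38ae6b042))))))) (.node (.node (.node (.node (.node (.node (.leaf 0x149fe9042) (.leaf 0x17b70b086)) (.node (.leaf 0x98c80b084) (.leaf 0x16fc33002))) (.node (.node (.leaf 0x10ef64b0a2) (.leaf 0x9735901c)) (.node (.leaf 0x1b5ceb050) (.leaf 0x28fb8b0ea)))) (.node (.node (.node (.leaf 0x168e7b05a) (.leaf 0x231197000)) (.node (.leaf 0x2c4c5b144) (.leaf 0x1579006))) (.node (.node (.leaf 0x45e0eb144) (.leaf 0x16e003002)) (.node (.leaf 0xe9c2b17a) (.leaf 0x12a5b0d6))))) (.node (.node (.node (.node (.leaf 0xb75577014) (.leaf 0x8570cb0a2)) (.node (.leaf 0x5669042) (.leaf 0x8d43f9046))) (.node (.node (.leaf 0x151fc9014) (.leaf 0x33afb01c)) (.node (.leaf 0x10bbcb184) (.leaf 0x31fbb5000)))) (.node (.node (.node (.leaf 0x495ee9014) (.leaf 0x4effb00a)) (.node (.leaf 0x587f1905a) (.leaf 0x634dcb050))) (.node (.node (.leaf 0x37d4a704e) (.leaf 0x4f91b090)) (.node (.leaf 0x3651f905c) (.leaf 0xe4087b014))))))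 (.node (.node (.node (.node (.node (.leaf 0x1a0369042) (.leaf 0x3302ab056)) (.node (.leaf 0x818db0ea) (.leaf 0x52cab086))) (.node (.node (.leaf 0x43a7b00a) (.leaf 0x1548c7004)) (.node (.leaf 0x3195e5000) (.leaf 0x7b117034)))) (.node (.node (.node (.leaf 0x1d30db08a) (.leaf 0x22025b0ea)) (.node (.leaf 0x2313eb00c) (.leaf 0x65ddb084))) (.node (.node (.leaf 0x2dd119002) (.leaf 0xd5639024)) (.node (.leaf 0x69c967014) (.leaf 0x183617030))))) (.node (.node (.node (.node (.leaf 0x3c0de7042) (.leaf 0xa21c900a)) (.node (.leaf 0x146cf9006) (.leaf 0x294edb01e))) (.node (.node (.leaf 0x4b1f5b14e) (.leaf 0x5f0ab0ea)) (.node (.leaf 0xfa287030) (.leaf 0x1ca757024)))) (.node (.node (.node (.leaf 0xc9fe2b044) (.leaf 0x35967020)) (.node (.leaf 0x1a4079006) (.leaf 0x46c6fb05c))) (.node (.node (.leaf 0x9fad7024) (.leaf 0xe342b17a)) (.node (.leaf 0x24494b144) (.leaf 0x18bb9b050))))))))) (.node (.node (.node (.node (.node (.node (.node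 (.node (.leaf 0xe92ab17a) (.leaf 0x3a9deb002)) (.node (.leaf 0x720109026) (.leaf 0xf634fb0a2))) (.node (.node (.leaf 0xb84bb05a) (.leaf 0x5c0089010)) (.node (.leaf 0x36d8b050) (.leaf 0x234a59026)))) (.node (.node (.node (.leaf 0xaeef9004) (.leaf 0x8f13e9002)) (.node (.leaf 0x20a5d9082) (.leaf 0x2e61b0c0))) (.node (.node (.leaf 0xa6d8ab08a) (.leaf 0x2200d9014)) (.node (.leaf 0x190efb056) (.leaf 0x21108b014))))) (.node (.node (.node (.node (.leaf 0x48ff2905c) (.leaf 0xa68d23000)) (.node (.leaf 0x871b7024) (.leaf 0xbbddb08a))) (.node (.node (.leaf 0xf6ddfb0a2) (.leaf 0x48257b10c)) (.node (.leaf 0xa8c99024) (.leaf 0x85764b0a2)))) (.node (.node (.node (.leaf 0x58a22b05a) (.leaf 0x2243d7004)) (.node (.leaf 0x14390b184) (.leaf 0x7b59db0cc))) (.node (.node (.leaf 0x5533d900c) (.leaf 0x348439010)) (.node (.leaf 0xa03b7034) (.leaf 0x419c0b194)))))) (.node (.node (.node (.node (.node (.leaf 0x1e964b1d6) (.leaf 0x4f2e37000))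 (.node (.leaf 0xe2db062) (.leaf 0x56a2ab042))) (.node (.node (.leaf 0x719cab0a2) (.leaf 0x3cf2d900a)) (.node (.leaf 0x274de7026) (.leaf 0x19d01b056)))) (.node (.node (.node (.leaf 0x1911bd7020) (.leaf 0x354189044)) (.node (.leaf 0x715cb062) (.leaf 0x84c84b05a))) (.node (.node (.leaf 0x18882b01c) (.leaf 0x370337004)) (.node (.leaf 0x2c18fb000) (.leaf 0x5d3a9042))))) (.node (.node (.node (.node (.leaf 0x56a43b050) (.leaf 0x181d27010)) (.node (.leaf 0x19c4b024) (.leaf 0x678a39082))) (.node (.node (.leaf 0x26667b036) (.leaf 0x16a76300e)) (.node (.leaf 0x119a0b044) (.leaf 0x33381b10c)))) (.node (.node (.node (.leaf 0x16500300e) (.leaf 0xa7604905a)) (.node (.leaf 0x38430b01c) (.leaf 0x582b9006))) (.node (.node (.leaf 0x7e7919030) (.leaf 0x2f907b050)) (.node (.leaf 0x4e7c49010) (.leaf 0x105507034))))))) (.node (.node (.node (.node (.node (.node (.leaf 0xa7d483006) (.leaf 0x336d3b1d6)) (.node (.leaf 0x7b6b194) (.leaf 0xb60cb08a)))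 (.node (.node (.leaf 0x488a1b1d6) (.leaf 0x4e20c7010)) (.node (.leaf 0x15233b062) (.leaf 0xcf42eb0a2)))) (.node (.node (.node (.leaf 0x9b92704e) (.leaf 0x29af8b01e)) (.node (.leaf 0x354f9000) (.leaf 0x787db184))) (.node (.node (.leaf 0x5fe51b08a) (.leaf 0x4e6d7b00c)) (.node (.leaf 0x8e9e901a) (.leaf 0x16938905a))))) (.node (.node (.node (.node (.leaf 0x9e2ef9010) (.leaf 0xa6f57b08a)) (.node (.leaf 0x4b23db0c0) (.leaf 0x24c9ab000))) (.node (.node (.leaf 0xeb52b17a) (.leaf 0x2426f7026)) (.node (.leaf 0x26a9b14e) (.leaf 0x48e08905c)))) (.node (.node (.node (.leaf 0x2aba6b09a) (.leaf 0x9cfb0fc)) (.node (.leaf 0x63f64b09a) (.leaf 0xd70c904e))) (.node (.node (.leaf 0xb3ba905a) (.leaf 0x4de1b0cc)) (.node (.leaf 0x1063f9006) (.leaf 0x2a21b2dc)))))) (.node (.node (.node (.node (.node (.leaf 0x13039b17a) (.leaf 0x998803006)) (.node (.leaf 0xb207905a) (.leaf 0x203747006))) (.node (.node (.leaf 0x2882a9082) (.leaf 0xe1d2b17a))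 (.node (.leaf 0x1ed06b10c) (.leaf 0x1a80cb184)))) (.node (.node (.node (.leaf 0x20e7b7004) (.leaf 0x426957006)) (.node (.leaf 0x17f5b0d6) (.leaf 0x131acb17a))) (.node (.node (.leaf 0x1849b7020) (.leaf 0x45f1b0cc)) (.node (.leaf 0x685049016) (.leaf 0x1d985300e))))) (.node (.node (.node (.node (.leaf 0x4a098300a) (.leaf 0xc2aaf7002)) (.node (.leaf 0xae46eb01c) (.leaf 0x81ec39042))) (.node (.node (.leaf 0xb292905a) (.leaf 0x136a9b17a)) (.node (.leaf 0x12cbdb2dc) (.leaf 0x80094904e)))) (.node (.node (.node (.leaf 0x2e6d1900c) (.leaf 0xae767006)) (.node (.leaf 0x26f6ab09c) (.leaf 0x1f46a9046))) (.node (.node (.leaf 0x89aa904e) (.leaf 0x59107034)) (.node (.leaf 0x542af905c) (.leaf 0x1c0d8700a)))))))) (.node (.node (.node (.node (.node (.node (.node (.leaf 0x220ff7024) (.leaf 0x3fc92901a)) (.node (.leaf 0x14d6eb194) (.leaf 0x15806b184))) (.node (.node (.leaf 0x163f2300a) (.leaf 0x681cf9024)) (.node (.leaf 0x40a4b0a6) (.leaf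 0x25346b000)))) (.node (.node (.node (.leaf 0x88c57004) (.leaf 0x167ad300a)) (.node (.leaf 0x9dd74905a) (.leaf 0xaf42c901c))) (.node (.node (.leaf 0x47eddb00c) (.leaf 0x7237b086)) (.node (.leaf 0x5800ab05a) (.leaf 0x1f0b0b144))))) (.node (.node (.node (.node (.leaf 0xf708b09a) (.leaf 0x8a759014)) (.node (.leaf 0x48b4b0a6) (.leaf 0x1ac65b062))) (.node (.node (.leaf 0x8365fb000) (.leaf 0x3b977000)) (.node (.leaf 0x6bc5ab17a) (.leaf 0x100249004)))) (.node (.node (.node (.leaf 0x559cf7014) (.leaf 0x48a4b0cc)) (.node (.leaf 0x7eab79044) (.leaf 0x39c43b0c0))) (.node (.node (.leaf 0x44142b064) (.leaf 0x4ac35905a)) (.node (.leaf 0x373817024) (.leaf 0x2836e7024)))))) (.node (.node (.node (.node (.node (.leaf 0x168ec3006) (.leaf 0x6d65b084)) (.node (.leaf 0x8dacfb000) (.leaf 0xe1c2b17a))) (.node (.node (.leaf 0xea9409006) (.leaf 0x40b4b0cc)) (.node (.leaf 0x219edb042) (.leaf 0x520fd7030)))) (.node (.node (.node (.leaf 0x47f45b144)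 (.leaf 0x1de54905a)) (.node (.leaf 0x36e639044) (.leaf 0x108b47014))) (.node (.node (.leaf 0xa43f7014) (.leaf 0x71daeb0a2)) (.node (.leaf 0x5b3b900a) (.leaf 0x556b086))))) (.node (.node (.node (.node (.leaf 0x77f7b0ea) (.leaf 0x20e3f900c)) (.node (.leaf 0xa4039b056) (.leaf 0xff4b7010))) (.node (.node (.leaf 0x537f05000) (.leaf 0xbbf3b05a)) (.node (.leaf 0x48ce29030) (.leaf 0x1b31eb014)))) (.node (.node (.node (.leaf 0x3a1d69000) (.leaf 0x2eeaf7034)) (.node (.leaf 0x896b0ea) (.leaf 0x1716b0c6))) (.node (.node (.leaf 0x3f7be904e) (.leaf 0x241a8b014)) (.node (.leaf 0x170427024) (.leaf 0x14f07b0fc))))))) (.node (.node (.node (.node (.node (.node (.leaf 0x1c8b6704e) (.leaf 0x84d69016)) (.node (.leaf 0x27ce0b042) (.leaf 0x4df1b0a6))) (.node (.node (.leaf 0x64d6b09c) (.leaf 0x2da37500e)) (.node (.leaf 0x17b63904e) (.leaf 0x245ceb06a)))) (.node (.node (.node (.leaf 0x1076f900a) (.leaf 0x128e95b0cc)) (.node (.leaf 0x78803b2dc)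 (.leaf 0x44d8bb044))) (.node (.node (.leaf 0x169c9905a) (.leaf 0x2816f904e)) (.node (.leaf 0x12ffdb0c0) (.leaf 0x468dc905c))))) (.node (.node (.node (.node (.leaf 0x40c71b2dc) (.leaf 0x14d0eb086)) (.node (.leaf 0x5f4d93002) (.leaf 0x18f1a9010))) (.node (.node (.leaf 0xb62eb05a) (.leaf 0x51449004)) (.node (.leaf 0xb824b08a) (.leaf 0x644b184)))) (.node (.node (.node (.leaf 0x45e1b0a6) (.leaf 0x545bf9030)) (.node (.leaf 0x585663002) (.leaf 0x6b222b17a))) (.node (.node (.leaf 0x58eb7b05a) (.leaf 0x1dca13006)) (.node (.leaf 0x7d97b194) (.leaf 0x2d7865006)))))) (.node (.node (.node (.node (.node (.leaf 0x299f8b01e) (.leaf 0x14cceb0ea)) (.node (.leaf 0x1245dbb06a) (.leaf 0x87484905a))) (.node (.node (.leaf 0x8d7b0b042) (.leaf 0x53947014)) (.node (.leaf 0xf51bb01c) (.leaf 0x1b93cb06a)))) (.node (.node (.node (.leaf 0x6e5d89026) (.leaf 0x13b2cb17a)) (.node (.leaf 0x2014b9014) (.leaf 0x325109024))) (.node (.node (.leaf 0x13eb9b17a)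 (.leaf 0x211b2b000)) (.node (.leaf 0x6f1a5b0fc) (.leaf 0x76beb0fc))))) (.node (.node (.node (.node (.leaf 0xa50c9006) (.leaf 0xd2b0901a)) (.node (.leaf 0x84379082) (.leaf 0x25044b014))) (.node (.node (.leaf 0xbe553002) (.leaf 0x474fe9026)) (.node (.leaf 0xd372704e) (.leaf 0x6ab3a3004)))) (.node (.node (.node (.leaf 0x34507030) (.leaf 0xbbaf3002)) (.node (.leaf 0x13829b17a) (.leaf 0x1fa4f9026))) (.node (.node (.leaf 0x952ee3004) (.leaf 0x6cc087034)) (.node (.leaf 0x6503b036) (.leaf 0x4fc2b9000)))))))))) (.node (.node (.node (.node (.node (.node (.node (.node (.node (.leaf 0x2d3bdb090) (.leaf 0x11adfb064)) (.node (.leaf 0x165d5b05a) (.leaf 0x9abcb062))) (.node (.node (.leaf 0xa2b155014) (.leaf 0x119b6b044)) (.node (.leaf 0x3771a90c6) (.leaf 0xf20cb144)))) (.node (.node (.node (.leaf 0x50dd901a) (.leaf 0x3aaf8b042)) (.node (.leaf 0x32870b086) (.leaf 0x1890db00c))) (.node (.node (.leaf 0x2460b7010) (.leaf 0x3be9014))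 (.node (.leaf 0x1b0797026) (.leaf 0x35c36b056))))) (.node (.node (.node (.node (.leaf 0x285667014) (.leaf 0x569fc9010)) (.node (.leaf 0x5fc4eb08a) (.leaf 0xbb67b08a))) (.node (.node (.leaf 0x3031d9026) (.leaf 0x4d23a900a)) (.node (.leaf 0x2bceab002) (.leaf 0x1421b024)))) (.node (.node (.node (.leaf 0x171ca9004) (.leaf 0x4ace9b05a)) (.node (.leaf 0x4bc35006) (.leaf 0x4c665006))) (.node (.node (.leaf 0x295e1b01e) (.leaf 0x3701a900a)) (.node (.leaf 0x72566b042) (.leaf 0x1de38b05a)))))) (.node (.node (.node (.node (.node (.leaf 0x87bd9042) (.leaf 0x749c1901a)) (.node (.leaf 0x22b77901c) (.leaf 0x455a5b002))) (.node (.node (.leaf 0x8575db0a2) (.leaf 0xba3f3000)) (.node (.leaf 0x5579700a) (.leaf 0x8b83901c)))) (.node (.node (.node (.leaf 0x115ec2b036) (.leaf 0x5607f700e)) (.node (.leaf 0x4607500e) (.leaf 0x3f2db042))) (.node (.node (.leaf 0x83cf1b09a) (.leaf 0x76599082)) (.node (.leaf 0x41ecd704e) (.leaf 0x20d557034)))))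 (.node (.node (.node (.node (.leaf 0x23b43b042) (.leaf 0x46270b1fe)) (.node (.leaf 0x47f25042) (.leaf 0x4d2e500a))) (.node (.node (.leaf 0x9e6769046) (.leaf 0x1e53b0c6)) (.node (.leaf 0x3f47e7006) (.leaf 0x177527042)))) (.node (.node (.node (.leaf 0xca17006) (.leaf 0x16ed03000)) (.node (.leaf 0x29bb1b01e) (.leaf 0x67e077042))) (.node (.node (.leaf 0x2daedb090) (.leaf 0x54fbab1d6)) (.node (.leaf 0x3e9af9026) (.leaf 0xd147024))))))) (.node (.node (.node (.node (.node (.node (.leaf 0x179109024) (.leaf 0x5aaf4b0d6)) (.node (.leaf 0x37137026) (.leaf 0xfd6a9046))) (.node (.node (.leaf 0x7fd9016) (.leaf 0x294e4b01e)) (.node (.leaf 0xd878b062) (.leaf 0x12968b14e)))) (.node (.node (.node (.leaf 0x23634b000) (.leaf 0x48709b10c)) (.node (.leaf 0x29ff4b01e) (.leaf 0xaa84b0fc))) (.node (.node (.leaf 0x2522f9010) (.leaf 0x7f2d7024)) (.node (.leaf 0x28fc89042) (.leaf 0x1ec5cb10c))))) (.node (.node (.node (.node (.leaf 0x7d69c90c6)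 (.leaf 0x98bb3b036)) (.node (.leaf 0x334aa9044) (.leaf 0x78a5901c))) (.node (.node (.leaf 0x3db2fb01c) (.leaf 0x59c901c)) (.node (.leaf 0x80877b0ea) (.leaf 0x177ca901c)))) (.node (.node (.node (.leaf 0xedebb17a) (.leaf 0x70df9014)) (.node (.leaf 0x23d99b002) (.leaf 0x63358b144))) (.node (.node (.leaf 0xa327b184) (.leaf 0x35960900e)) (.node (.leaf 0x16804b05a) (.leaf 0x641cb084)))))) (.node (.node (.node (.node (.node (.leaf 0x64da09010) (.leaf 0x11116db1d6)) (.node (.leaf 0x2123b9010) (.leaf 0x13c04b17a))) (.node (.node (.leaf 0xe76bb17a) (.leaf 0xbe72b08a)) (.node (.leaf 0x18cf69026) (.leaf 0x67d9f901c)))) (.node (.node (.node (.leaf 0x33d1ab1fe) (.leaf 0x147a99016)) (.node (.leaf 0x13e91b17a) (.leaf 0x8f537014))) (.node (.node (.leaf 0x140d07042) (.leaf 0x2730ab01c)) (.node (.leaf 0x534337002) (.leaf 0x1768d9006))))) (.node (.node (.node (.node (.leaf 0x8ec687010) (.leaf 0x52cb67026)) (.node (.leaf 0x370d97014)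 (.leaf 0x63ac0b00c))) (.node (.node (.leaf 0x7b52a500a) (.leaf 0x371eb000)) (.node (.leaf 0x1b5e99026) (.leaf 0x10709904e)))) (.node (.node (.node (.leaf 0x28ab6901c) (.leaf 0x2e555b0ea)) (.node (.leaf 0x137d4b17a) (.leaf 0x9abdb184))) (.node (.node (.leaf 0x2374b2dc) (.leaf 0x20b939042)) (.node (.leaf 0x2b6217030) (.leaf 0x1cd25b184)))))))) (.node (.node (.node (.node (.node (.node (.node (.leaf 0x2ce7004) (.leaf 0x3f3a77014)) (.node (.leaf 0xa829b086) (.leaf 0x285af7006))) (.node (.node (.leaf 0x5fe66b08a) (.leaf 0xb59fb08a)) (.node (.leaf 0x8ab09006) (.leaf 0x124a0b2dc)))) (.node (.node (.node (.leaf 0x16ce63004) (.leaf 0x25be77010)) (.node (.leaf 0x200599004) (.leaf 0x280327034))) (.node (.node (.leaf 0x4db6a9006) (.leaf 0x14bae9024)) (.node (.leaf 0x1980b905c) (.leaf 0x3690a9036))))) (.node (.node (.node (.node (.leaf 0x14d769014) (.leaf 0x8222ab062)) (.node (.leaf 0x41db7700a) (.leaf 0xe8bbb17a))) (.node (.node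 (.leaf 0xa1b2b062) (.leaf 0x64b6b036)) (.node (.leaf 0x64a387010) (.leaf 0x1602db05a)))) (.node (.node (.node (.leaf 0x31989b090) (.leaf 0x428639006)) (.node (.leaf 0x4cffe9082) (.leaf 0xb03a3000))) (.node (.node (.leaf 0x9ec2b9026) (.leaf 0x21920b09a)) (.node (.leaf 0x2a6ad7026) (.leaf 0x1b5067030)))))) (.node (.node (.node (.node (.node (.leaf 0x3ae1db014) (.leaf 0x788c9016)) (.node (.leaf 0x5e69904e) (.leaf 0x3bc0f901a))) (.node (.node (.leaf 0x76407006) (.leaf 0xe503b17a)) (.node (.leaf 0x3c08b014) (.leaf 0x628df9026)))) (.node (.node (.node (.leaf 0x2fe23b144) (.leaf 0x15147700a)) (.node (.leaf 0x54d39b1fe) (.leaf 0x859cdb0a2))) (.node (.node (.leaf 0xe93bb17a) (.leaf 0x178a37006)) (.node (.leaf 0x6047042) (.leaf 0x294b1b01e))))) (.node (.node (.node (.node (.leaf 0x542b704e) (.leaf 0x8a19900c)) (.node (.leaf 0x9d2d0b05a) (.leaf 0x9233b0ea))) (.node (.node (.leaf 0x2657fb09c) (.leaf 0x803beb0fc)) (.node (.leaf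 0x1e029b1fe) (.leaf 0x1ca67b0ea)))) (.node (.node (.node (.leaf 0x3b83b904e) (.leaf 0x200c97014)) (.node (.leaf 0x3dae4b09a) (.leaf 0x33b03b05c))) (.node (.node (.leaf 0x404a5002) (.leaf 0x2334b0c0)) (.node (.leaf 0x949b19002) (.leaf 0xdae9b184))))))) (.node (.node (.node (.node (.node (.node (.leaf 0x6c385901a) (.leaf 0xfe9c700e)) (.node (.leaf 0x281059006) (.leaf 0x271437020))) (.node (.node (.leaf 0x2eac6b062) (.leaf 0x28504900c)) (.node (.leaf 0xc79cb064) (.leaf 0x3292b06a)))) (.node (.node (.node (.leaf 0xde43b086) (.leaf 0x84966b05a)) (.node (.leaf 0x3440f9026) (.leaf 0x99d3b194))) (.node (.node (.leaf 0x1dad9b05a) (.leaf 0x802c0b062)) (.node (.leaf 0x507ac90c6) (.leaf 0x324d0b194))))) (.node (.node (.node (.node (.leaf 0x7b579024) (.leaf 0x29be4b01e)) (.node (.leaf 0x109cd901a) (.leaf 0x460a5b05c))) (.node (.node (.leaf 0x1ce8b0d6) (.leaf 0x78613b0c0)) (.node (.leaf 0x133c1b17a) (.leaf 0xaef029026)))) (.node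 (.node (.node (.leaf 0x842f7034) (.leaf 0xf03f9026)) (.node (.leaf 0x3b94c7004) (.leaf 0x2485bb01c))) (.node (.node (.leaf 0x535d27002) (.leaf 0x298f4b01e)) (.node (.leaf 0xd783b0ea) (.leaf 0xe319cb09a)))))) (.node (.node (.node (.node (.node (.leaf 0xa609b194) (.leaf 0x20fcb14e)) (.node (.leaf 0xe513b17a) (.leaf 0xa09082))) (.node (.node (.leaf 0xb45f97042) (.leaf 0x13011b17a)) (.node (.leaf 0x2014290c6) (.leaf 0x1902cb1d6)))) (.node (.node (.node (.leaf 0x17fac900c) (.leaf 0x85839004)) (.node (.leaf 0x147fc9082) (.leaf 0x522900c))) (.node (.node (.leaf 0x21d6a7020) (.leaf 0x2a7c67030)) (.node (.leaf 0x318ccb090) (.leaf 0x2de20b090))))) (.node (.node (.node (.node (.leaf 0xca9fb114) (.leaf 0x10e59700a)) (.node (.leaf 0x3182eb00a) (.leaf 0xbe1ab08a))) (.node (.node (.leaf 0xe493b17a) (.leaf 0xcf6fbb0a2)) (.node (.leaf 0x14fed7006) (.leaf 0x3199cb090)))) (.node (.node (.node (.leaf 0x9f1ab0fc) (.leaf 0x13254b17a))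 (.node (.leaf 0x3e2dcb144) (.leaf 0x7594bb184))) (.node (.node (.leaf 0x7cef7004) (.leaf 0xe769024)) (.node (.leaf 0x1af269024) (.leaf 0x25ede7020))))))))) (.node (.node (.node (.node (.node (.node (.node (.node (.leaf 0x8a0b97034) (.leaf 0x13ce6e9024)) (.node (.leaf 0xff9ab000) (.leaf 0x1cad79042))) (.node (.node (.leaf 0x8da0900a) (.leaf 0x460f5004)) (.node (.leaf 0x772ccb144) (.leaf 0x3ea85b042)))) (.node (.node (.node (.leaf 0x1bc4d9010) (.leaf 0x588f63004)) (.node (.leaf 0x108fc7042) (.leaf 0x29bb9b01e))) (.node (.node (.leaf 0x50933901c) (.leaf 0x5329b9002)) (.node (.leaf 0xfaeb2905c) (.leaf 0x3a02a9026))))) (.node (.node (.node (.node (.leaf 0x3e2e9046) (.leaf 0xe5ebb17a)) (.node (.leaf 0xba09b05a) (.leaf 0x937f7b036))) (.node (.node (.leaf 0x10e469014) (.leaf 0x8aba700a)) (.node (.leaf 0x1e359b056) (.leaf 0x7b1d97002)))) (.node (.node (.node (.leaf 0x44659002) (.leaf 0x55d4a901a)) (.node (.leaf 0x6b533b17a)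 (.leaf 0x41a509042))) (.node (.node (.leaf 0x464f8900e) (.leaf 0x9c82900a)) (.node (.leaf 0x2d24b2dc) (.leaf 0x223ae700a)))))) (.node (.node (.node (.node (.node (.leaf 0x4fdb5010) (.leaf 0xef6bb17a)) (.node (.leaf 0x13691b17a) (.leaf 0x7280904e))) (.node (.node (.leaf 0x5744901c) (.leaf 0x18314b042)) (.node (.leaf 0x6b4b3b17a) (.leaf 0xcf3d3b0a2)))) (.node (.node (.node (.leaf 0x13404b17a) (.leaf 0x2cd56b002)) (.node (.leaf 0x97a8eb17a) (.leaf 0x6a965905a))) (.node (.node (.leaf 0x938290c6) (.leaf 0x15baa7034)) (.node (.leaf 0x59089082) (.leaf 0xafa17004))))) (.node (.node (.node (.node (.leaf 0x1ccb69006) (.leaf 0x1b632b00c)) (.node (.leaf 0x1ee67b056) (.leaf 0x799b6b036))) (.node (.node (.leaf 0x156de9004) (.leaf 0x5629b7030)) (.node (.leaf 0x1b0bb0c6) (.leaf 0x41025004)))) (.node (.node (.node (.leaf 0xafb82b194) (.leaf 0x41f4c900c)) (.node (.leaf 0xd622900a) (.leaf 0x2b4927010))) (.node (.node (.leaf 0x12178b14e)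 (.leaf 0x21e4b7000)) (.node (.leaf 0x4af59002) (.leaf 0x11b1b024))))))) (.node (.node (.node (.node (.node (.node (.leaf 0x668ec9044) (.leaf 0x2f2cf7030)) (.node (.leaf 0x505b99042) (.leaf 0x41a677006))) (.node (.node (.leaf 0x7b2549002) (.leaf 0x30f06b144)) (.node (.leaf 0x478d7002) (.leaf 0x29eacb01e)))) (.node (.node (.node (.leaf 0xf61904e) (.leaf 0x178dd900a)) (.node (.leaf 0xbfc53000) (.leaf 0x1f2bcb09a))) (.node (.node (.leaf 0xd0319004) (.leaf 0xa06a901a)) (.node (.leaf 0x33dcb00c) (.leaf 0x43a94b064))))) (.node (.node (.node (.node (.leaf 0x3b404b0ea) (.leaf 0x100959016)) (.node (.leaf 0x1eedf900e) (.leaf 0x9e49cb014))) (.node (.node (.leaf 0x3eb4ab000) (.leaf 0xbe80b05a)) (.node (.leaf 0xa31700a) (.leaf 0x167903004)))) (.node (.node (.node (.leaf 0x106ce9024) (.leaf 0xaab6904e)) (.node (.leaf 0x2570c7030) (.leaf 0x363dab1d6))) (.node (.node (.leaf 0x80b799004) (.leaf 0x55a799014)) (.node (.leaf 0x7a26704e)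 (.leaf 0x153d77006)))))) (.node (.node (.node (.node (.node (.leaf 0x33f60905c) (.leaf 0xf715b042)) (.node (.leaf 0x19f6f9044) (.leaf 0x1d9ed3004))) (.node (.node (.leaf 0x145e1901a) (.leaf 0x2df4db0a6)) (.node (.leaf 0x2851590c6) (.leaf 0x3254b144)))) (.node (.node (.node (.leaf 0x158249042) (.leaf 0x2e6aa904e)) (.node (.leaf 0x58027004) (.leaf 0xb83235004))) (.node (.node (.leaf 0x485d7002) (.leaf 0xbc523004)) (.node (.leaf 0x52a97006) (.leaf 0x291bcb01e))))) (.node (.node (.node (.node (.leaf 0x23061b01c) (.leaf 0x27faa9000)) (.node (.leaf 0x9a717034) (.leaf 0x340aeb06a))) (.node (.node (.leaf 0x3208a7024) (.leaf 0x6fdeb036)) (.node (.leaf 0x719efb0a2) (.leaf 0x31c2cb0cc)))) (.node (.node (.node (.leaf 0x6dcbdb14e) (.leaf 0x6c70a900c)) (.node (.leaf 0x1bd389046) (.leaf 0x378abb086))) (.node (.node (.leaf 0x8b8e79046) (.leaf 0x1da4fb08a)) (.node (.leaf 0x1f1039010) (.leaf 0xd8a17014)))))))) (.node (.node (.node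 (.node (.node (.node (.node (.leaf 0x12e51b9000) (.leaf 0x2d91db0cc)) (.node (.leaf 0x2a9097010) (.leaf 0x8689e7002))) (.node (.node (.leaf 0xd7729006) (.leaf 0x36839026)) (.node (.leaf 0x57d59016) (.leaf 0x47eca7010)))) (.node (.node (.node (.leaf 0x41175000) (.leaf 0x277327000)) (.node (.leaf 0x4d7abb194) (.leaf 0xa66f7905a))) (.node (.node (.leaf 0x19a819044) (.leaf 0x58755b05a)) (.node (.leaf 0x94336500a) (.leaf 0x546a9024))))) (.node (.node (.node (.node (.leaf 0x100c97006) (.leaf 0x452e5014)) (.node (.leaf 0x13bc1b17a) (.leaf 0x9f929006))) (.node (.node (.leaf 0x1c6e6900a) (.leaf 0x132c0b9024)) (.node (.leaf 0x4cc89002) (.leaf 0x5c26900c)))) (.node (.node (.node (.leaf 0x22708900a) (.leaf 0x6ce917006)) (.node (.leaf 0x1614bb08a) (.leaf 0x27105b050))) (.node (.node (.leaf 0x6d425b2dc) (.leaf 0x4edf3b050)) (.node (.leaf 0x69a3b09c) (.leaf 0x31a69b0a6)))))) (.node (.node (.node (.node (.node (.leaf 0xb6b1b05a)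 (.leaf 0x6447c9026)) (.node (.leaf 0x8ea090c6) (.leaf 0x2e5ad9014))) (.node (.node (.leaf 0xed13b17a) (.leaf 0x6af74905a)) (.node (.leaf 0x2fc707026) (.leaf 0x5b113b0d6)))) (.node (.node (.node (.leaf 0xcf3eb064) (.leaf 0x28ecb14e)) (.node (.leaf 0x86b0704e) (.leaf 0x31269b0cc))) (.node (.node (.leaf 0x4cb92b184) (.leaf 0x3ecf0b014)) (.node (.leaf 0x4e8b5014) (.leaf 0x13811b17a))))) (.node (.node (.node (.node (.leaf 0x53021502a) (.leaf 0x18029b014)) (.node (.leaf 0xa23c7b0cc) (.leaf 0x4d589002))) (.node (.node (.leaf 0x3784700e) (.leaf 0x294b9b01e)) (.node (.leaf 0x2ced67000) (.leaf 0x25e5f7000)))) (.node (.node (.node (.leaf 0xa2377024) (.leaf 0x180267026)) (.node (.leaf 0x296e9b01e) (.leaf 0x4f425000))) (.node (.node (.leaf 0x4a317b08a) (.leaf 0x3ab279046)) (.node (.leaf 0xec93b17a) (.leaf 0xfe0eb06a))))))) (.node (.node (.node (.node (.node (.node (.leaf 0x473937020) (.leaf 0xbd7a7904e)) (.node (.leaf 0xd57704e)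 (.leaf 0x3e5deb06a))) (.node (.node (.leaf 0x384509000) (.leaf 0x32da87004)) (.node (.leaf 0xed03b17a) (.leaf 0x17fdd90c6)))) (.node (.node (.node (.leaf 0x1a639904e) (.leaf 0xa1c96905c)) (.node (.leaf 0x78d0700a) (.leaf 0x2b401b09a))) (.node (.node (.leaf 0xa8239082) (.leaf 0x97e57014)) (.node (.leaf 0x17e33700a) (.leaf 0xe13bb17a))))) (.node (.node (.node (.node (.leaf 0x4e607002) (.leaf 0x58bc4b05a)) (.node (.leaf 0xec83b17a) (.leaf 0x1c3197034))) (.node (.node (.leaf 0x5a9c7024) (.leaf 0xc747b044)) (.node (.leaf 0x252d79000) (.leaf 0xb7925b194)))) (.node (.node (.node (.leaf 0x91359004) (.leaf 0x2a68a700e)) (.node (.leaf 0x15b8b0d6) (.leaf 0x84ecd3006))) (.node (.node (.leaf 0x387a89010) (.leaf 0x2164b0c0)) (.node (.leaf 0x21b839000) (.leaf 0x1d8fc3004)))))) (.node (.node (.node (.node (.node (.leaf 0xeeac4905a) (.leaf 0x85275b0a2)) (.node (.leaf 0x20681b184) (.leaf 0x15c467042))) (.node (.node (.leaf 0x16da63000)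 (.leaf 0x2a57c9046)) (.node (.leaf 0xb0a8b05a) (.leaf 0x1482d904e)))) (.node (.node (.node (.leaf 0x5db29014) (.leaf 0x28615900a)) (.node (.leaf 0x3fdee700a) (.leaf 0x159219006))) (.node (.node (.leaf 0x3e5901a) (.leaf 0x12ab0b0c0)) (.node (.leaf 0xfb20b014) (.leaf 0x1e1a1900e))))) (.node (.node (.node (.node (.leaf 0x837c6b002) (.leaf 0x1b5957010)) (.node (.leaf 0xe0bbb17a) (.leaf 0x1b5bd7000))) (.node (.node (.leaf 0x24e7b9000) (.leaf 0x50cc7042)) (.node (.leaf 0xb4443000) (.leaf 0x4eb07002)))) (.node (.node (.node (.leaf 0x2ded0b0cc) (.leaf 0x19b0d9030)) (.node (.leaf 0x3576d9036) (.leaf 0x11efe43000))) (.node (.node (.leaf 0x41ba67042) (.leaf 0x10624901c)) (.node (.leaf 0x2e9569016) (.leaf 0x121f0b2dc))))))))))) (.node (.node (.node (.node (.node (.node (.node (.node (.node (.node (.leaf 0x92208b000) (.leaf 0x1a43b7000)) (.node (.leaf 0x4b375b14e) (.leaf 0x247547034))) (.node (.node (.leaf 0xfc45700a) (.leaf 0x1dd27b08a))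 (.node (.leaf 0x3e3ce9042) (.leaf 0xe07bb17a)))) (.node (.node (.node (.leaf 0x3d89b062) (.leaf 0x25a927004)) (.node (.leaf 0xbc78b05a) (.leaf 0x43ccb9036))) (.node (.node (.leaf 0x1b4b500e) (.leaf 0x1756500e)) (.node (.leaf 0x160a2b05a) (.leaf 0x6925fb042))))) (.node (.node (.node (.node (.leaf 0x4a47b0c6) (.leaf 0x2c8809016)) (.node (.leaf 0x495bb7000) (.leaf 0x82447000))) (.node (.node (.leaf 0x17af5006) (.leaf 0x1fd25006)) (.node (.leaf 0x18036900a) (.leaf 0x5d33eb2dc)))) (.node (.node (.node (.leaf 0x308ac900c) (.leaf 0x42615b042)) (.node (.leaf 0x5f14b3000) (.leaf 0xbd573004))) (.node (.node (.leaf 0x40269b14e) (.leaf 0x5e699901c)) (.node (.leaf 0x7f2d7030) (.leaf 0x20cc3b06a)))))) (.node (.node (.node (.node (.node (.leaf 0x3212c9046) (.leaf 0x88fc7010)) (.node (.leaf 0xc411b10c) (.leaf 0xdf4cb042))) (.node (.node (.leaf 0x2bc67b0ea) (.leaf 0x255797006)) (.node (.leaf 0x218487014) (.leaf 0x4a383b05a)))) (.node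 (.node (.node (.leaf 0xc6699036) (.leaf 0x27005901c)) (.node (.leaf 0x5243f7004) (.leaf 0x7d3c87010))) (.node (.node (.leaf 0x59079000) (.leaf 0x6a604b08a)) (.node (.leaf 0x434e4900e) (.leaf 0x1c3fdb050))))) (.node (.node (.node (.node (.leaf 0x1a9a500a) (.leaf 0x12ae5042)) (.node (.leaf 0x568cb7042) (.leaf 0x5968fb1d6))) (.node (.node (.leaf 0x1f98f900a) (.leaf 0xeefbb17a)) (.node (.leaf 0x22bcbb00c) (.leaf 0x4c2e2b09a)))) (.node (.node (.node (.leaf 0x19e54b044) (.leaf 0x8422c3006)) (.node (.leaf 0x278b79014) (.leaf 0x9bbf39010))) (.node (.node (.leaf 0x113879044) (.leaf 0xbffc3000)) (.node (.leaf 0x2cb439024) (.leaf 0x153a2b00c))))))) (.node (.node (.node (.node (.node (.node (.leaf 0x3f00b184) (.leaf 0x13701b17a)) (.node (.leaf 0x10724b050) (.leaf 0x61f51b0c0))) (.node (.node (.leaf 0x5743eb194) (.leaf 0x184b99004)) (.node (.leaf 0x21b769042) (.leaf 0x32bc97010)))) (.node (.node (.node (.leaf 0x1ccc29000) (.leaf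 0x252d4901c)) (.node (.leaf 0xe453b17a) (.leaf 0x3f0447000))) (.node (.node (.leaf 0x164fb905a) (.leaf 0xcbafb1d6)) (.node (.leaf 0x2ed75b06a) (.leaf 0x9db77020))))) (.node (.node (.node (.node (.leaf 0x32ea17000) (.leaf 0x10fec7030)) (.node (.leaf 0xe2d3b17a) (.leaf 0x16dcfb05a))) (.node (.node (.leaf 0x3e6b07014) (.leaf 0x7b4a7000)) (.node (.leaf 0x2a507700a) (.leaf 0x808e69026)))) (.node (.node (.node (.leaf 0x16e9e905a) (.leaf 0x207f4b042)) (.node (.leaf 0x2c98b9014) (.leaf 0x1fb949004))) (.node (.node (.leaf 0x85ad7b0a2) (.leaf 0x63c0b036)) (.node (.leaf 0xff19901a) (.leaf 0x79a5b050)))))) (.node (.node (.node (.node (.node (.leaf 0x5db2eb2dc) (.leaf 0x1236db2dc)) (.node (.leaf 0x90fb4b114) (.leaf 0x231359006))) (.node (.node (.leaf 0x86cc9000) (.leaf 0x518f7000)) (.node (.leaf 0x85349010) (.leaf 0x27ae99082)))) (.node (.node (.node (.leaf 0x16f43905a) (.leaf 0x41ebab144)) (.node (.leaf 0x253989082) (.leaf 0xd223b06a)))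 (.node (.node (.leaf 0x13994b17a) (.leaf 0xd147030)) (.node (.leaf 0x44f49b1d6) (.leaf 0x156ba700e))))) (.node (.node (.node (.node (.leaf 0x456cb0d6) (.leaf 0x3a00c901a)) (.node (.leaf 0x5a02eb00a) (.leaf 0x8bfb2b0fc))) (.node (.node (.leaf 0x2497f90c6) (.leaf 0xf8075905a)) (.node (.leaf 0x57417b0fc) (.leaf 0x13144b17a)))) (.node (.node (.node (.leaf 0x467c7b044) (.leaf 0x11bed9044)) (.node (.leaf 0x15f609046) (.leaf 0x185697014))) (.node (.node (.leaf 0xfc088b056) (.leaf 0x153dd7010)) (.node (.leaf 0x165f6905a) (.leaf 0x13cd1b17a)))))))) (.node (.node (.node (.node (.node (.node (.node (.leaf 0x3b07e700e) (.leaf 0x1bf79704e)) (.node (.leaf 0x5c581b0ea) (.leaf 0x6a217905a))) (.node (.node (.leaf 0x73d29000) (.leaf 0x948e7010)) (.node (.leaf 0x6bb002) (.leaf 0x15d059010)))) (.node (.node (.node (.leaf 0x8df417034) (.leaf 0x84d2a300e)) (.node (.leaf 0xc829b05c) (.leaf 0x1fbdf9006))) (.node (.node (.leaf 0x56aaa7006)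 (.leaf 0xbe553000)) (.node (.leaf 0x78cab002) (.leaf 0x263acb036))))) (.node (.node (.node (.node (.leaf 0x470397014) (.leaf 0x2040fb000)) (.node (.leaf 0x27ec77004) (.leaf 0xdee1b014))) (.node (.node (.leaf 0xd530db06a) (.leaf 0x95bf2b05a)) (.node (.leaf 0x18e579042) (.leaf 0x2f41db086)))) (.node (.node (.node (.leaf 0x16e8ab05a) (.leaf 0x21ea47034)) (.node (.leaf 0x27afb900c) (.leaf 0xadefb050))) (.node (.node (.leaf 0x4374a900e) (.leaf 0x3672b0ea)) (.node (.leaf 0x3fe13700e) (.leaf 0x4134c9046)))))) (.node (.node (.node (.node (.node (.leaf 0x68efb084) (.leaf 0xa025b000)) (.node (.leaf 0x3cb2b086) (.leaf 0x3421c7024))) (.node (.node (.leaf 0x10565002) (.leaf 0x13fe502a)) (.node (.leaf 0x8eb7000) (.leaf 0x16e60b08a)))) (.node (.node (.node (.leaf 0x958db09a) (.leaf 0x415c99000)) (.node (.leaf 0x830839042) (.leaf 0x4a63db08a))) (.node (.node (.leaf 0x3e96f90c6) (.leaf 0x2ee13b014)) (.node (.leaf 0x1afbbb002) (.leaf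 0x770e2900c))))) (.node (.node (.node (.node (.leaf 0x10dc37000) (.leaf 0x78683b2dc)) (.node (.leaf 0x5244b050) (.leaf 0x25e5c7042))) (.node (.node (.leaf 0x58050300e) (.leaf 0x2570c7024)) (.node (.leaf 0x3058d9006) (.leaf 0x1576d9000)))) (.node (.node (.node (.leaf 0x24e1b0c0) (.leaf 0xfbef704e)) (.node (.leaf 0xb950b05a) (.leaf 0x67cfb700e))) (.node (.node (.leaf 0xccf00b086) (.leaf 0x24fe87014)) (.node (.leaf 0x520fd7024) (.leaf 0x223a47010))))))) (.node (.node (.node (.node (.node (.node (.leaf 0xd5ffb000) (.leaf 0xbb5e6b0ea)) (.node (.leaf 0x258059016) (.leaf 0x4783e900a))) (.node (.node (.leaf 0x16677b05a) (.leaf 0x2a6bd900a)) (.node (.leaf 0xc739000) (.leaf 0x11adc8b00c)))) (.node (.node (.node (.leaf 0x4aa26b05a) (.leaf 0x1454299042)) (.node (.leaf 0x41ff97010) (.leaf 0x8e749b0ea))) (.node (.node (.leaf 0x34f359016) (.leaf 0x9cb050)) (.node (.leaf 0x285b4b000) (.leaf 0x3e21c7034))))) (.node (.node (.node (.node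 (.leaf 0x37cda9026) (.leaf 0x411417000)) (.node (.leaf 0x222549000) (.leaf 0x520fb002))) (.node (.node (.leaf 0x6d17b084) (.leaf 0x3312b194)) (.node (.leaf 0x2db18b0d6) (.leaf 0xaf52cb050)))) (.node (.node (.node (.leaf 0x2cdbb7004) (.leaf 0xcbb4b1fe)) (.node (.leaf 0x4a5a7905a) (.leaf 0xb499b05a))) (.node (.node (.leaf 0x2b5eeb0fc) (.leaf 0x8b7f700e)) (.node (.leaf 0x1041b9000) (.leaf 0x1ca757030)))))) (.node (.node (.node (.node (.node (.leaf 0x2fa1b2dc) (.leaf 0x230289042)) (.node (.leaf 0xaf40b002) (.leaf 0x17250b06a))) (.node (.node (.leaf 0x327deb144) (.leaf 0x16da63002)) (.node (.leaf 0x9f069010) (.leaf 0x2029b14e)))) (.node (.node (.node (.leaf 0x338bb0fc) (.leaf 0x226819046)) (.node (.leaf 0x1a5d4b050) (.leaf 0x17819b01c))) (.node (.node (.leaf 0x8e199046) (.leaf 0x4345b024)) (.node (.leaf 0x3daa3900a) (.leaf 0x13314b17a))))) (.node (.node (.node (.node (.leaf 0x14d7b7010) (.leaf 0x45d04b194)) (.node (.leaf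 0x13d51b17a) (.leaf 0x1232db0c0))) (.node (.node (.leaf 0xcc3aab184) (.leaf 0x130c4b17a)) (.node (.leaf 0x22b3c9010) (.leaf 0x5cf4fb184)))) (.node (.node (.node (.leaf 0x90d6cb044) (.leaf 0xfb55904e)) (.node (.leaf 0x95deb01c) (.leaf 0xc339eb014))) (.node (.node (.leaf 0x39e83b2dc) (.leaf 0x118b7b1fe)) (.node (.leaf 0xefabb17a) (.leaf 0x1ba29900a))))))))) (.node (.node (.node (.node (.node (.node (.node (.node (.leaf 0x2cfd2704e) (.leaf 0x13749002)) (.node (.leaf 0x63005901a) (.leaf 0x13194b17a))) (.node (.node (.leaf 0x1b6ce9004) (.leaf 0x733249024)) (.node (.leaf 0x33cabb044) (.leaf 0x14a807030)))) (.node (.node (.node (.leaf 0x21750b184) (.leaf 0x5b4e7020)) (.node (.leaf 0x18671b184) (.leaf 0xac89b06a))) (.node (.node (.leaf 0x898cb9030) (.leaf 0x71758b0a2)) (.node (.leaf 0x4777fb0ea) (.leaf 0x14e03b002))))) (.node (.node (.node (.node (.leaf 0xae592704e) (.leaf 0x78ab7020)) (.node (.leaf 0x169b8300e) (.leaf 0xbdcab08a)))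 (.node (.node (.leaf 0x7944cb09c) (.leaf 0x51901b056)) (.node (.leaf 0x26e2eb084) (.leaf 0x47ebfb086)))) (.node (.node (.node (.leaf 0x201829026) (.leaf 0x364390c6)) (.node (.leaf 0x76ddb900c) (.leaf 0xaf17b09a))) (.node (.node (.leaf 0x169ce300e) (.leaf 0x2a9967042)) (.node (.leaf 0x1bb7a7034) (.leaf 0x172cab050)))))) (.node (.node (.node (.node (.node (.leaf 0x2e5eab042) (.leaf 0x42af39026)) (.node (.leaf 0x4acb93006) (.leaf 0x4e790704e))) (.node (.node (.leaf 0x67fd97020) (.leaf 0x1f86eb194)) (.node (.leaf 0x11e49002) (.leaf 0x3764a7026)))) (.node (.node (.node (.leaf 0x3543900a) (.leaf 0xec53b17a)) (.node (.leaf 0x1b938900c) (.leaf 0x15e217026))) (.node (.node (.leaf 0x3a1557024) (.leaf 0x13f01b17a)) (.node (.leaf 0x1d749b05a) (.leaf 0x2bb557034))))) (.node (.node (.node (.node (.leaf 0x5e874904e) (.leaf 0xead3b17a)) (.node (.leaf 0x20045700e) (.leaf 0xa7071b05a))) (.node (.node (.leaf 0x3dc9db062) (.leaf 0x15b567030))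 (.node (.leaf 0x35bc5b044) (.leaf 0xe70d79000)))) (.node (.node (.node (.leaf 0x3d3b01c) (.leaf 0x2404eb194)) (.node (.leaf 0x2c1e4904e) (.leaf 0x134a3e5006))) (.node (.node (.leaf 0x5a339b0cc) (.leaf 0x2a2da7034)) (.node (.leaf 0x1f207b0fc) (.leaf 0xcbce900e))))))) (.node (.node (.node (.node (.node (.node (.leaf 0x15ef5014) (.leaf 0xe87bb17a)) (.node (.leaf 0x289d8b06a) (.leaf 0x1ce22b01c))) (.node (.node (.leaf 0x1759cb000) (.leaf 0x73c349042)) (.node (.leaf 0x252a9700a) (.leaf 0x39a42b2dc)))) (.node (.node (.node (.leaf 0x11393905c) (.leaf 0x8e609026)) (.node (.leaf 0x34a9f704e) (.leaf 0x5e67b01c))) (.node (.node (.leaf 0x24caeb0ea) (.leaf 0xb40fb08a)) (.node (.leaf 0x87885b08a) (.leaf 0x14d837000))))) (.node (.node (.node (.node (.leaf 0x14e97002) (.leaf 0x11b9010)) (.node (.leaf 0x6a112300e) (.leaf 0x54d8ab114))) (.node (.node (.leaf 0x3b29a7030) (.leaf 0x3d63bb0fc)) (.node (.leaf 0x8a38db050) (.leaf 0x9bb437000))))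 (.node (.node (.node (.leaf 0x54377010) (.leaf 0xa97fb014)) (.node (.leaf 0xd7516b090) (.leaf 0x129a5014))) (.node (.node (.leaf 0x3e947034) (.leaf 0x47d61b184)) (.node (.leaf 0x6a2ab084) (.leaf 0x6cd18700e)))))) (.node (.node (.node (.node (.node (.leaf 0x84051b08a) (.leaf 0x7dedb7030)) (.node (.leaf 0x23465900a) (.leaf 0x9b8c3b002))) (.node (.node (.leaf 0x18527b0ea) (.leaf 0x4454a9044)) (.node (.leaf 0x162e8905a) (.leaf 0x2bf179042)))) (.node (.node (.node (.leaf 0x624867004) (.leaf 0x871b7030)) (.node (.leaf 0x105b5000) (.leaf 0x1074cb09a))) (.node (.node (.leaf 0x2a1ad9006) (.leaf 0x52010904e)) (.node (.leaf 0x9e7d47024) (.leaf 0x1a30a7020))))) (.node (.node (.node (.node (.leaf 0x94fe9000) (.leaf 0x506e9b06a)) (.node (.leaf 0x129b5b14e) (.leaf 0xa01c8b00c))) (.node (.node (.leaf 0x6ed089006) (.leaf 0x42d5b024)) (.node (.leaf 0x15cb19026) (.leaf 0x337a2b064)))) (.node (.node (.node (.leaf 0x4d02e7000) (.leaf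 0xd28f9046)) (.node (.leaf 0xbec23000) (.leaf 0x1f397002))) (.node (.node (.leaf 0x14465000) (.leaf 0xe6fbb17a)) (.node (.leaf 0x2496eb086) (.leaf 0x2afa09024)))))))) (.node (.node (.node (.node (.node (.node (.node (.leaf 0xc52c900e) (.leaf 0x13b14b17a)) (.node (.leaf 0x2a38e7014) (.leaf 0x1bd19002))) (.node (.node (.leaf 0xf96a900c) (.leaf 0xb1a2b08a)) (.node (.leaf 0x43de19036) (.leaf 0x218dfb0fc)))) (.node (.node (.node (.leaf 0x2de7fb0c6) (.leaf 0x1217db0c0)) (.node (.leaf 0x159987020) (.leaf 0x38431b086))) (.node (.node (.leaf 0x1be7c9024) (.leaf 0xc57f9036)) (.node (.leaf 0x4d0e97030) (.leaf 0x870cb905a))))) (.node (.node (.node (.node (.leaf 0x185c7b194) (.leaf 0x3560db114)) (.node (.leaf 0x165338904e) (.leaf 0x5f4d4b05a))) (.node (.node (.leaf 0x6d42b084) (.leaf 0x35c29042)) (.node (.leaf 0xfc37010) (.leaf 0xbbea07014)))) (.node (.node (.node (.leaf 0x2c3b4700a) (.leaf 0x5afcb09a)) (.node (.leaf 0x1fc0cb184)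 (.leaf 0x9235b050))) (.node (.node (.leaf 0x6fe1b036) (.leaf 0x10efbb01c)) (.node (.leaf 0x76f689016) (.leaf 0x7bfa9010)))))) (.node (.node (.node (.node (.node (.leaf 0x13581b17a) (.leaf 0x4f1fb0c6)) (.node (.leaf 0xb092e9010) (.leaf 0x46a88b064))) (.node (.node (.leaf 0x16419002) (.leaf 0x8969b905c)) (.node (.leaf 0x1216c6b042) (.leaf 0x44863b05c)))) (.node (.node (.node (.leaf 0x3af8d901c) (.leaf 0x7d32b01c)) (.node (.leaf 0x13a7569014) (.leaf 0x960fdb05c))) (.node (.node (.leaf 0x36724b044) (.leaf 0x1b25e7014)) (.node (.leaf 0x8e4869016) (.leaf 0x2039b14e))))) (.node (.node (.node (.node (.leaf 0x533fbb024) (.leaf 0x8db07026)) (.node (.leaf 0x3ffa17020) (.leaf 0x4e080900a))) (.node (.node (.leaf 0x213e6b194) (.leaf 0x12b234b084)) (.node (.leaf 0x595e4b056) (.leaf 0x5aff9010)))) (.node (.node (.node (.leaf 0x8a0bab002) (.leaf 0x14b4b9000)) (.node (.leaf 0x308dd90c6) (.leaf 0x91367000))) (.node (.node (.leaf 0x11db9905c)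 (.leaf 0xf9267004)) (.node (.leaf 0xdaf5b00c) (.leaf 0x279f0700a))))))) (.node (.node (.node (.node (.node (.node (.leaf 0x421f4b00c) (.leaf 0x6e19b036)) (.node (.leaf 0x9fad7030) (.leaf 0x473cb0d6))) (.node (.node (.leaf 0x8da7020) (.leaf 0x7c8db09a)) (.node (.leaf 0xbbaf3000) (.leaf 0x1f84eb0ea)))) (.node (.node (.node (.leaf 0x4342cb1fe) (.leaf 0x1b6877006)) (.node (.leaf 0x15dc7002) (.leaf 0x6bd1ab17a))) (.node (.node (.leaf 0x16ea1905a) (.leaf 0x21d46b0ea)) (.node (.leaf 0x1bca5010) (.leaf 0x4f4b09a))))) (.node (.node (.node (.node (.leaf 0x35d89004) (.leaf 0x254fb704e)) (.node (.leaf 0x82147b014) (.leaf 0x1f58eb086))) (.node (.node (.leaf 0x3f7c07026) (.leaf 0x6d0a8b0c0)) (.node (.leaf 0x14bf5010) (.leaf 0x3a0049016)))) (.node (.node (.node (.leaf 0x25b1b0c0) (.leaf 0x1dde8b05a)) (.node (.leaf 0x961bd9036) (.leaf 0x2b67690c6))) (.node (.node (.leaf 0x58c9fb05a) (.leaf 0xf1ff97024)) (.node (.leaf 0xa5c6fb0ea)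 (.leaf 0x5a32cb0cc)))))) (.node (.node (.node (.node (.node (.leaf 0x23b6590c6) (.leaf 0x47b9fb194)) (.node (.leaf 0xbabc3004) (.leaf 0x513f9900e))) (.node (.node (.leaf 0x170a1b002) (.leaf 0x16059905a)) (.node (.leaf 0x175e5004) (.leaf 0x87ee7b05a)))) (.node (.node (.node (.leaf 0x251b9904e) (.leaf 0x1adbcb09a)) (.node (.leaf 0x6456b7042) (.leaf 0x42f7cb144))) (.node (.node (.leaf 0x110c7002) (.leaf 0x458969082)) (.node (.leaf 0x5a17cb0cc) (.leaf 0x28eb1b01c))))) (.node (.node (.node (.node (.leaf 0x26085b036) (.leaf 0x6b132b17a)) (.node (.leaf 0x1a1b5004) (.leaf 0x11a48b1d6))) (.node (.node (.leaf 0x451279016) (.leaf 0x6cb0a9046)) (.node (.leaf 0xdead700e) (.leaf 0xaf28b01c)))) (.node (.node (.node (.leaf 0x10a227020) (.leaf 0xd1e29026)) (.node (.leaf 0x118839030) (.leaf 0x31f6db024))) (.node (.node (.leaf 0x24209b062) (.leaf 0x2a17c900c)) (.node (.leaf 0x21b86b086) (.leaf 0x311e4b0d6)))))))))) (.node (.node (.node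 (.node (.node (.node (.node (.node (.node (.leaf 0x3741901a) (.leaf 0xa095c7030)) (.node (.leaf 0x497d79026) (.leaf 0x16445b05a))) (.node (.node (.leaf 0x10818b00c) (.leaf 0x1a7b8b00c)) (.node (.leaf 0x3e8c19016) (.leaf 0x942fb000)))) (.node (.node (.node (.leaf 0xd5fe9000) (.leaf 0x1f75c7024)) (.node (.leaf 0x48894b064) (.leaf 0x68499700e))) (.node (.node (.leaf 0x57fb9026) (.leaf 0x23303904e)) (.node (.leaf 0x214fc9082) (.leaf 0x204d6b002))))) (.node (.node (.node (.node (.leaf 0x1d46eb05a) (.leaf 0x21e6d7006)) (.node (.leaf 0x1d564b08a) (.leaf 0x2ca4b2dc))) (.node (.node (.leaf 0xaddc9026) (.leaf 0xbdb83006)) (.node (.leaf 0x286057026) (.leaf 0x7bf34b024)))) (.node (.node (.node (.leaf 0xb5593006) (.leaf 0x4afc8b05a)) (.node (.leaf 0x7c01d900c) (.leaf 0x6a8cd3000))) (.node (.node (.leaf 0x459fa7042) (.leaf 0x137fcb17a)) (.node (.leaf 0x844023000) (.leaf 0x1159db1fe)))))) (.node (.node (.node (.node (.node (.leaf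 0x4d79b0d6) (.leaf 0x10990b144)) (.node (.leaf 0x2e7ac9010) (.leaf 0x44a239036))) (.node (.node (.leaf 0x3ca8e7030) (.leaf 0xe7bab17a)) (.node (.leaf 0x9e2ea9042) (.leaf 0x4338b024)))) (.node (.node (.node (.leaf 0x134f9b17a) (.leaf 0x66be9b044)) (.node (.leaf 0xc210905c) (.leaf 0x5240700e))) (.node (.node (.leaf 0x181b3900c) (.leaf 0xee12b17a)) (.node (.leaf 0x1326cb17a) (.leaf 0x7ce7b9004))))) (.node (.node (.node (.node (.leaf 0xbe5b300a) (.leaf 0x5fe063002)) (.node (.leaf 0x149cf7026) (.leaf 0x8683b050))) (.node (.node (.leaf 0x16a833004) (.leaf 0x22677b050)) (.node (.leaf 0x2f32d9042) (.leaf 0x75b15b000)))) (.node (.node (.node (.leaf 0x187079024) (.leaf 0x4aa9f3004)) (.node (.leaf 0x2ba14904e) (.leaf 0x1fd269014))) (.node (.node (.leaf 0x75ad3b050) (.leaf 0x450419006)) (.node (.leaf 0x519939030) (.leaf 0xb1d0300a))))))) (.node (.node (.node (.node (.node (.node (.leaf 0x434dc9044) (.leaf 0x73b04b086)) (.node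 (.leaf 0x9190b042) (.leaf 0x24d8e9024))) (.node (.node (.leaf 0x142529b14e) (.leaf 0x67c86b042)) (.node (.leaf 0xaa0c7026) (.leaf 0x9c1de704e)))) (.node (.node (.node (.leaf 0xfcff900a) (.leaf 0x12960b0c0)) (.node (.leaf 0x59d0b144) (.leaf 0x34a2eb194))) (.node (.node (.leaf 0x3813704e) (.leaf 0x107af9026)) (.node (.leaf 0x7c0219042) (.leaf 0x77c36b086))))) (.node (.node (.node (.node (.leaf 0x160d4b05a) (.leaf 0x3da847024)) (.node (.leaf 0x34047b0fc) (.leaf 0xcb22905c))) (.node (.node (.leaf 0x113a0b10c) (.leaf 0x568de901a)) (.node (.leaf 0x163db0a6) (.leaf 0x2dfd5b0d6)))) (.node (.node (.node (.leaf 0x559e7b09a) (.leaf 0x9ddf4300e)) (.node (.leaf 0x3affa9006) (.leaf 0x1406db042))) (.node (.node (.leaf 0x216407024) (.leaf 0x2cd83b194)) (.node (.leaf 0xa7045b08a) (.leaf 0x247a07024)))))) (.node (.node (.node (.node (.node (.leaf 0x8251f7030) (.leaf 0x1f06a900c)) (.node (.leaf 0x1be56b184) (.leaf 0x271ffb194))) (.node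 (.node (.leaf 0x1dc65b08a) (.leaf 0xa2377030)) (.node (.leaf 0x1e794b114) (.leaf 0xd8267000)))) (.node (.node (.node (.leaf 0x8376f900c) (.leaf 0x186317042)) (.node (.leaf 0x21202900c) (.leaf 0x162db0a6))) (.node (.node (.leaf 0xa54eb900c) (.leaf 0x5348b00c)) (.node (.leaf 0xc5f6cb184) (.leaf 0x3d27a9014))))) (.node (.node (.node (.node (.leaf 0x470ab0c6) (.leaf 0x5c2177014)) (.node (.leaf 0x5ef33b0ea) (.leaf 0x12520b2dc))) (.node (.node (.leaf 0x15375b002) (.leaf 0x49de8b144)) (.node (.leaf 0x7fb69026) (.leaf 0x1f5ae9024)))) (.node (.node (.node (.leaf 0x23fe27024) (.leaf 0x715f1b0a2)) (.node (.leaf 0x54adcb044) (.leaf 0xf3ff90c6))) (.node (.node (.leaf 0x8eba37014) (.leaf 0x3fc37b050)) (.node (.leaf 0x37c767010) (.leaf 0x9229046)))))))) (.node (.node (.node (.node (.node (.node (.node (.leaf 0x971c7b17a) (.leaf 0x11b989036)) (.node (.leaf 0x1e3db0cc) (.leaf 0x174097010))) (.node (.node (.leaf 0x2aad6b184) (.leaf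 0x1ccd9b144)) (.node (.leaf 0x41dc1b002) (.leaf 0x84e883004)))) (.node (.node (.node (.leaf 0x160d93000) (.leaf 0x1db4cb08a)) (.node (.leaf 0x3cbed9026) (.leaf 0x8aeab042))) (.node (.node (.leaf 0x7f2b77006) (.leaf 0xf7b09004)) (.node (.leaf 0x1fcb97006) (.leaf 0x12a4265000))))) (.node (.node (.node (.node (.leaf 0x14beeb06a) (.leaf 0x1e0b00c)) (.node (.leaf 0x7844bb14e) (.leaf 0x36832b044))) (.node (.node (.leaf 0x7c19b00c) (.leaf 0x1e2db0cc)) (.node (.leaf 0x161bdb05a) (.leaf 0x3f229b000)))) (.node (.node (.node (.leaf 0x120e8b14e) (.leaf 0x1d1fa905a)) (.node (.leaf 0x18b4d9082) (.leaf 0x173217000))) (.node (.node (.leaf 0x1f4567004) (.leaf 0x1930b0a6)) (.node (.leaf 0x18ab9901c) (.leaf 0x1327cb17a)))))) (.node (.node (.node (.node (.node (.leaf 0x4ac8a3004) (.leaf 0xdab97030)) (.node (.leaf 0x1d306b05a) (.leaf 0x6b10bb17a))) (.node (.node (.leaf 0x49d329046) (.leaf 0x2337e9082)) (.node (.leaf 0xbf3a300e) (.leaf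 0x9c927026)))) (.node (.node (.node (.leaf 0x50269046) (.leaf 0x25233b0fc)) (.node (.leaf 0x594d9b1d6) (.leaf 0x216cb14e))) (.node (.node (.leaf 0x38ab6700a) (.leaf 0x1120b0a6)) (.node (.leaf 0x1c411b00c) (.leaf 0x4590b7006))))) (.node (.node (.node (.node (.leaf 0x1d8d2905a) (.leaf 0x74d1b144)) (.node (.leaf 0x9efeb90c6) (.leaf 0x78a02b0c0))) (.node (.node (.leaf 0x207567000) (.leaf 0x2b998901a)) (.node (.leaf 0x2d1dab0c6) (.leaf 0x24df07042)))) (.node (.node (.node (.leaf 0x9453b06a) (.leaf 0x5694d7004)) (.node (.leaf 0x32602b050) (.leaf 0x128b144))) (.node (.node (.leaf 0x4e3959014) (.leaf 0x97b47b17a)) (.node (.leaf 0x13ce9b17a) (.leaf 0x4292f9000))))))) (.node (.node (.node (.node (.node (.node (.leaf 0x68d49b144) (.leaf 0x39852b0c0)) (.node (.leaf 0x89a9b000) (.leaf 0x94bb8b0d6))) (.node (.node (.leaf 0xb2d5905a) (.leaf 0xffef9006)) (.node (.leaf 0x4eb979082) (.leaf 0x169fcb05a)))) (.node (.node (.node (.leaf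 0x453729004) (.leaf 0x72539046)) (.node (.leaf 0x3d0ca7004) (.leaf 0x95e89b05a))) (.node (.node (.leaf 0x56d779082) (.leaf 0x99a5b014)) (.node (.leaf 0x3e2f87024) (.leaf 0x30bd89014))))) (.node (.node (.node (.node (.leaf 0x8ec4b002) (.leaf 0x2fe4b0c0)) (.node (.leaf 0x5cdbd900c) (.leaf 0x4d92bb06a))) (.node (.node (.leaf 0x440f4b056) (.leaf 0x5132cb1d6)) (.node (.leaf 0x4cebeb00c) (.leaf 0x14488b014)))) (.node (.node (.node (.leaf 0xa0fd7020) (.leaf 0x15457b042)) (.node (.leaf 0x363d700a) (.leaf 0x2af83b062))) (.node (.node (.leaf 0x8f572b0d6) (.leaf 0x173b99000)) (.node (.leaf 0x19cc9b064) (.leaf 0x3e960901c)))))) (.node (.node (.node (.node (.node (.leaf 0x32b1cb000) (.leaf 0x1920b0cc)) (.node (.leaf 0x46d4db044) (.leaf 0xab4c6b036))) (.node (.node (.leaf 0x853d6b0a2) (.leaf 0x7c1349006)) (.node (.leaf 0x1c1439046) (.leaf 0x2aa00b086)))) (.node (.node (.node (.leaf 0x1afb29046) (.leaf 0x10fda9046)) (.node (.leaf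 0x2836e7030) (.leaf 0x594429030))) (.node (.node (.leaf 0x5ba84b00a) (.leaf 0x9fb25b084)) (.node (.leaf 0x7ccc27006) (.leaf 0x82a497020))))) (.node (.node (.node (.node (.leaf 0x65e94b000) (.leaf 0xc947b10c)) (.node (.leaf 0x4f8700e) (.leaf 0x3d0d47042))) (.node (.node (.leaf 0x1f994901c) (.leaf 0xc8329030)) (.node (.leaf 0xfc1e9042) (.leaf 0x1130b0cc)))) (.node (.node (.node (.leaf 0x281d59026) (.leaf 0x1862f7004)) (.node (.leaf 0x175d19010) (.leaf 0x25895b062))) (.node (.node (.leaf 0x1de9db08a) (.leaf 0x3acea900a)) (.node (.leaf 0xcc79026) (.leaf 0xe382b17a))))))))) (.node (.node (.node (.node (.node (.node (.node (.node (.leaf 0x21ae1901a) (.leaf 0x3c599016)) (.node (.leaf 0xd119b09a) (.leaf 0xeeeab17a))) (.node (.node (.leaf 0x4e9cdb194) (.leaf 0x5f2ab06a)) (.node (.leaf 0xdcb39b000) (.leaf 0x2cb057034)))) (.node (.node (.node (.leaf 0x32a6ab09a) (.leaf 0x8213b014)) (.node (.leaf 0x37a869000) (.leaf 0x345447014)))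 (.node (.node (.leaf 0x24cd1901a) (.leaf 0xab8aeb036)) (.node (.leaf 0x9e69b00c) (.leaf 0xc5009030))))) (.node (.node (.node (.node (.leaf 0x27d8e900a) (.leaf 0x287e17010)) (.node (.leaf 0x69142700e) (.leaf 0x43e28905c))) (.node (.node (.leaf 0xe06ab17a) (.leaf 0x4aa8b024)) (.node (.leaf 0x2a7c67024) (.leaf 0x268a4b09c)))) (.node (.node (.node (.leaf 0x4a382b08a) (.leaf 0xc4a7f7014)) (.node (.leaf 0xd14f39036) (.leaf 0x58ac5b05a))) (.node (.node (.leaf 0x7123b000) (.leaf 0x47248901a)) (.node (.leaf 0x1b5067024) (.leaf 0x360aab114)))))) (.node (.node (.node (.node (.node (.leaf 0x6577026) (.leaf 0x3534fb114)) (.node (.leaf 0xda377020) (.leaf 0xa7c07000))) (.node (.node (.leaf 0x18bd24b086) (.leaf 0xb21b042)) (.node (.leaf 0x562a5b194) (.leaf 0x9eb1b144)))) (.node (.node (.node (.leaf 0x807bb09a) (.leaf 0xaf6b700e)) (.node (.leaf 0x640719014) (.leaf 0x6134cb14e))) (.node (.node (.leaf 0xb4755b00c) (.leaf 0x698249046))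 (.node (.leaf 0x33407042) (.leaf 0x12b70b2dc))))) (.node (.node (.node (.node (.leaf 0x1441740000) (.leaf 0xaf959046)) (.node (.leaf 0x9d05ab05a) (.leaf 0x112ce9036))) (.node (.node (.leaf 0x23ed8b0ea) (.leaf 0x4f29b0d6)) (.node (.leaf 0x6f06ab014) (.leaf 0x2fd2090c6)))) (.node (.node (.node (.leaf 0x3f77cb01c) (.leaf 0xb1dbb05a)) (.node (.leaf 0x253eb900a) (.leaf 0x2bd0d9082))) (.node (.node (.leaf 0x38eab7034) (.leaf 0x43d71b1d6)) (.node (.leaf 0x2b8f9901c) (.leaf 0x12b30b0c0))))))) (.node (.node (.node (.node (.node (.node (.leaf 0x200e69010) (.leaf 0xe612b17a)) (.node (.leaf 0x492a1b042) (.leaf 0x71c0b042))) (.node (.node (.leaf 0x1028eb06a) (.leaf 0x3bc3db01c)) (.node (.leaf 0x32e50b06a) (.leaf 0x9c9f9046)))) (.node (.node (.node (.leaf 0x16856b08a) (.leaf 0x1740b090)) (.node (.leaf 0x936b06a) (.leaf 0xefbab17a))) (.node (.node (.leaf 0x13a6cb17a) (.leaf 0x2c3d29006)) (.node (.leaf 0x327d9b01c) (.leaf 0x1b0729082)))))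 (.node (.node (.node (.node (.leaf 0xcf849044) (.leaf 0x85acb01c)) (.node (.leaf 0x43963b10c) (.leaf 0x99102300e))) (.node (.node (.leaf 0x6b90bb17a) (.leaf 0xbe96b05a)) (.node (.leaf 0x227b4b01c) (.leaf 0x16fc33000)))) (.node (.node (.node (.leaf 0x23df8b194) (.leaf 0x29f4b2dc)) (.node (.leaf 0x4abf43004) (.leaf 0x57c269014))) (.node (.node (.leaf 0x1fa29700a) (.leaf 0xea3ab17a)) (.node (.leaf 0xa7fbb144) (.leaf 0x30fd0b194)))))) (.node (.node (.node (.node (.node (.leaf 0x145da9046) (.leaf 0x52fb69006)) (.node (.leaf 0xaecdd7034) (.leaf 0x93dfeb084))) (.node (.node (.leaf 0x5229b042) (.leaf 0x28dd19000)) (.node (.leaf 0x4c12b0c6) (.leaf 0x3bd8901c)))) (.node (.node (.node (.leaf 0x3711e7000) (.leaf 0x27ee17034)) (.node (.leaf 0x500f09010) (.leaf 0x284699010))) (.node (.node (.leaf 0x4c2827030) (.leaf 0x6ddf5b0c0)) (.node (.leaf 0xb542905a) (.leaf 0x623bdb062))))) (.node (.node (.node (.node (.leaf 0x8a8b1b00c) (.leaf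 0x21a17704e)) (.node (.leaf 0xb5dcb08a) (.leaf 0x340cf900a))) (.node (.node (.leaf 0x5e4d57034) (.leaf 0x1d715300e)) (.node (.leaf 0x1f50b090) (.leaf 0x2ae17904e)))) (.node (.node (.node (.leaf 0x1ded4300e) (.leaf 0x3c2a7004)) (.node (.leaf 0x170427030) (.leaf 0xbc97905a))) (.node (.node (.leaf 0xcf3fb05c) (.leaf 0xde4e7010)) (.node (.leaf 0x5b2b67002) (.leaf 0x2d7c5b0d6)))))))) (.node (.node (.node (.node (.node (.node (.node (.leaf 0x3a132b0fc) (.leaf 0xb1f909044)) (.node (.leaf 0x2a2887004) (.leaf 0x3a9c9082))) (.node (.node (.leaf 0xe602b17a) (.leaf 0xb89c5b0d6)) (.node (.leaf 0x7817b06a) (.leaf 0x373817030)))) (.node (.node (.node (.leaf 0xb963b05a) (.leaf 0x55d6b000)) (.node (.leaf 0xc53647014) (.leaf 0xff67b0fc))) (.node (.node (.leaf 0x64e7b7024) (.leaf 0x5843db05a)) (.node (.leaf 0x44e71b10c) (.leaf 0x85cc2b0a2))))) (.node (.node (.node (.node (.leaf 0x1093f7026) (.leaf 0x47844904e)) (.node (.leaf 0x7a3d9b05c)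 (.leaf 0x2db92b0c6))) (.node (.node (.leaf 0xa3fce9006) (.leaf 0x94cb014)) (.node (.leaf 0x134db090) (.leaf 0x16bdbb08a)))) (.node (.node (.node (.leaf 0x22b4b0c0) (.leaf 0x56b8bb184)) (.node (.leaf 0x1d9ec905a) (.leaf 0x3d161904e))) (.node (.node (.leaf 0x58c193000) (.leaf 0x18044700a)) (.node (.leaf 0x8a9a9700e) (.leaf 0x2c3d97014)))))) (.node (.node (.node (.node (.node (.leaf 0x2399fb062) (.leaf 0x6cd3b7010)) (.node (.leaf 0xbd8ed9010) (.leaf 0x59e709030))) (.node (.node (.leaf 0x61e0b09c) (.leaf 0x3896f7014)) (.node (.leaf 0x1a304b014) (.leaf 0x24f8d904e)))) (.node (.node (.node (.leaf 0x6e46e9016) (.leaf 0x6807db014)) (.node (.leaf 0x15db6b09a) (.leaf 0x135db090))) (.node (.node (.leaf 0x1baeb00a) (.leaf 0x2063e7010)) (.node (.leaf 0x258fb9006) (.leaf 0x2e3f97020))))) (.node (.node (.node (.node (.leaf 0x32cd2b014) (.leaf 0xa9fa79030)) (.node (.leaf 0x71267026) (.leaf 0xc8269044))) (.node (.node (.leaf 0x2ba909016)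 (.leaf 0xb8b5b08a)) (.node (.leaf 0x9ded6905a) (.leaf 0x277de9006)))) (.node (.node (.node (.leaf 0x58f263004) (.leaf 0x16f6b00a)) (.node (.leaf 0xeb82b17a) (.leaf 0x1af077026))) (.node (.node (.leaf 0x73e639016) (.leaf 0x1d984905a)) (.node (.leaf 0x7720c7034) (.leaf 0x1cd87b06a))))))) (.node (.node (.node (.node (.node (.node (.leaf 0x9a75a9004) (.leaf 0x219bd700a)) (.node (.leaf 0xf06eb0ea) (.leaf 0x396cab14e))) (.node (.node (.leaf 0x9521700e) (.leaf 0x1c22db014)) (.node (.leaf 0x297cb14e) (.leaf 0x28f62700e)))) (.node (.node (.node (.leaf 0x128f8b14e) (.leaf 0x34507024)) (.node (.leaf 0x31410b024) (.leaf 0x144b4700e))) (.node (.node (.leaf 0x161763000) (.leaf 0x11ebb00a)) (.node (.leaf 0xa0489000) (.leaf 0x38d667006))))) (.node (.node (.node (.node (.leaf 0x2ac829082) (.leaf 0x381a9014)) (.node (.leaf 0x30915b0fc) (.leaf 0x120036b0c6))) (.node (.node (.leaf 0x2489d700a) (.leaf 0x3a2e900c)) (.node (.leaf 0xbb7c69024)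 (.leaf 0xa66d13000)))) (.node (.node (.node (.leaf 0x18b3b00a) (.leaf 0x3c442b144)) (.node (.leaf 0x88f54901a) (.leaf 0x34bfe9042))) (.node (.node (.leaf 0x134e9b17a) (.leaf 0x9c429026)) (.node (.leaf 0x391c3b0c0) (.leaf 0x170147020)))))) (.node (.node (.node (.node (.node (.leaf 0x5fb3c300a) (.leaf 0xba3f3002)) (.node (.leaf 0x312b000) (.leaf 0x30b12b184))) (.node (.node (.leaf 0x17c1d9026) (.leaf 0x6c7b27020)) (.node (.leaf 0x272059004) (.leaf 0x4ddfa9026)))) (.node (.node (.node (.leaf 0x36d29024) (.leaf 0x7375b014)) (.node (.leaf 0x254807034) (.leaf 0xb5feb05a))) (.node (.node (.leaf 0x509ffb144) (.leaf 0x35010b064)) (.node (.leaf 0xb4443002) (.leaf 0x5fb92300a))))) (.node (.node (.node (.node (.leaf 0x33981b044) (.leaf 0x571967004)) (.node (.leaf 0x20a877020) (.leaf 0x231adb0fc))) (.node (.node (.leaf 0xda5eb01c) (.leaf 0x1617eb08a)) (.node (.leaf 0x14e1f9026) (.leaf 0x644b79082)))) (.node (.node (.node (.leaf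 0x532b7026) (.leaf 0x7286db086)) (.node (.leaf 0x6c204b09a) (.leaf 0x1a282b000))) (.node (.node (.leaf 0x1194d79000) (.leaf 0x1b247904e)) (.node (.leaf 0x51d4b014) (.leaf 0xacb09010))))))))))))

theorem cert2_0 : chunkB 2 cert2 0 = true := by decide +kernel

theorem cert2_1 : chunkB 2 cert2 1 = true := by decide +kernel

theorem cert2_2 : chunkB 2 cert2 2 = true := by decide +kernel

theorem cert2_3 : chunkB 2 cert2 3 = true := by decide +kernel

theorem cert2_4 : chunkB 2 cert2 4 = true := by decide +kernel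

theorem cert2_5 : chunkB 2 cert2 5 = true := by decide +kernel

theorem cert2_6 : chunkB 2 cert2 6 = true := by decide +kernel

theorem cert2_7 : chunkB 2 cert2 7 = true := by decide +kernel

theorem cert2_ok : ∀ k < 2048, itemB 2 cert2 k = true :=
  of_chunks cert2_0 cert2_1 cert2_2 cert2_3 cert2_4 cert2_5 cert2_6 cert2_7

end Cfsg.Agent.F4Square.Two
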