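import Cfsg.Agent.F4Square.Two.Setup

/-!
Certificates for the coset of the Weyl element number 3.
-/

set_option autoImplicit false
set_option maxRecDepth 100000
set_option maxHeartbeats 0
set_option Elab.async false

namespace Cfsg.Agent.F4Square.Two

/-- The certificates. -/
noncomputable def cert3 : Tree :=
  (.node (.node (.node (.node (.node (.node (.node (.node (.node (.node (.node (.leaf 0x430d99010) (.leaf 0x1a14ab056)) (.node (.leaf 0x43c219000) (.leaf 0x5e47b7014))) (.node (.node (.leaf 0x17be4700e) (.leaf 0x114bc7026)) (.node (.leaf 0x313f75006) (.leaf 0x2d1035014)))) (.node (.node (.node (.leaf 0x3c0d37000) (.leaf 0xaa629000)) (.node (.leaf 0xd2f8b1d6) (.leaf 0x32cbe7020))) (.node (.node (.leaf 0x681cf9030) (.leaf 0x354917006)) (.node (.leaf 0x5bfdb10c) (.leaf 0x16515b09c))))) (.node (.node (.node (.node (.leaf 0x4725cb0fc) (.leaf 0x3bf4e7020)) (.node (.leaf 0x4d1af9044) (.leaf 0x60c44b05a))) (.node (.node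 (.leaf 0x3eda67014) (.leaf 0x9ac7b1fe)) (.node (.leaf 0xf9c4900c) (.leaf 0xa221b050)))) (.node (.node (.node (.leaf 0x32a57b01c) (.leaf 0x13967b01e)) (.node (.leaf 0x271a8b0fc) (.leaf 0x6d281b024))) (.node (.node (.leaf 0x2d9d65014) (.leaf 0x10940b1fe)) (.node (.leaf 0x21c90b086) (.leaf 0x70c2b1d6)))))) (.node (.node (.node (.node (.node (.leaf 0x4cfffb01c) (.leaf 0x626f190c6)) (.node (.leaf 0x31be2500a) (.leaf 0x317db5042))) (.node (.node (.leaf 0xb271b09c) (.leaf 0x39d4ab0cc)) (.node (.leaf 0x11d737030) (.leaf 0x1a310b056)))) (.node (.node (.node (.leaf 0xb51fe5014) (.leaf 0x2c2b37024)) (.node (.leaf 0x2528a7024) (.leaf 0x102159036))) (.node (.node (.leaf 0x247b0b0ea) (.leaf 0x1824317000)) (.node (.leaf 0x919d9030) (.leaf 0x1d4d0b09c))))) (.node (.node (.node (.node (.leaf 0x551029000) (.leaf 0x4024ab0c6)) (.node (.leaf 0x1326fb01e) (.leaf 0xd5639030))) (.node (.node (.leaf 0x1256db0d6) (.leaf 0x145b4b1fe)) (.node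 (.leaf 0x3578a9014) (.leaf 0x128715b0cc)))) (.node (.node (.node (.leaf 0x2dd9a5000) (.leaf 0x174639026)) (.node (.leaf 0x302ccb064) (.leaf 0x42297b10c))) (.node (.node (.leaf 0x88279046) (.leaf 0x2f2900e)) (.node (.leaf 0x10cb807000) (.leaf 0x8128eb1d6))))))) (.node (.node (.node (.node (.node (.node (.leaf 0xf7a69004) (.leaf 0x4de2b00a)) (.node (.leaf 0x3d147901a) (.leaf 0x299bdb01e))) (.node (.node (.leaf 0x2d7349002) (.leaf 0x29cb0b01e)) (.node (.leaf 0x2713ab062) (.leaf 0x34a5f700a)))) (.node (.node (.node (.leaf 0x33679b062) (.leaf 0x32f40b09a)) (.node (.leaf 0x36c84901a) (.leaf 0xab2ab002))) (.node (.node (.leaf 0xb90e0b144) (.leaf 0x51559036)) (.node (.leaf 0x3e276901c) (.leaf 0x5852cb09c))))) (.node (.node (.node (.node (.leaf 0x5bd02b0d6) (.leaf 0x39fcbb0cc)) (.node (.leaf 0x49734905c) (.leaf 0x8a8999044))) (.node (.node (.leaf 0x63e71704e) (.leaf 0x3cad900a)) (.node (.leaf 0x78fcbb0a6) (.leaf 0x21846b184))))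 (.node (.node (.node (.leaf 0x222fe9026) (.leaf 0x14769b05c)) (.node (.leaf 0x3e3c89024) (.leaf 0x18784704e))) (.node (.node (.leaf 0x8c49b00c) (.leaf 0x8d2bdb194)) (.node (.leaf 0x2e6cf7020) (.leaf 0xd859905c)))))) (.node (.node (.node (.node (.node (.leaf 0x51c809026) (.leaf 0x16fedb09c)) (.node (.leaf 0xbdcf4b050) (.leaf 0x251979016))) (.node (.node (.leaf 0x15adb14e) (.leaf 0x5098db144)) (.node (.leaf 0x19eda90c6) (.leaf 0x2ea0b024)))) (.node (.node (.node (.leaf 0xdb20c9000) (.leaf 0x3ca407030)) (.node (.leaf 0x226c9700e) (.leaf 0x1f4bbb062))) (.node (.node (.leaf 0xa0cf0b056) (.leaf 0x2ae9cb064)) (.node (.leaf 0x41886b06a) (.leaf 0x64c66b114))))) (.node (.node (.node (.node (.leaf 0x78d55b00a) (.leaf 0x1162c9026)) (.node (.leaf 0xf9627034) (.leaf 0x41fab00a))) (.node (.node (.leaf 0xf0ff7006) (.leaf 0x2725db086)) (.node (.leaf 0x1c03b9044) (.leaf 0x657ce9046)))) (.node (.node (.node (.leaf 0x32fd704e) (.leaf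 0x8ad1b144)) (.node (.leaf 0x664c07014) (.leaf 0x5340b1fe))) (.node (.node (.leaf 0xa3aa7000) (.leaf 0x269b9b084)) (.node (.leaf 0xa3c689006) (.leaf 0x914c37026)))))))) (.node (.node (.node (.node (.node (.node (.node (.leaf 0xa399e7006) (.leaf 0xd81e6b084)) (.node (.leaf 0x1925b2dc) (.leaf 0x577609042))) (.node (.node (.leaf 0xaef97030) (.leaf 0x7701b1fe)) (.node (.leaf 0x3fbc1b144) (.leaf 0x40b7b00a)))) (.node (.node (.node (.leaf 0x3b7bf9010) (.leaf 0x1bdcbb044)) (.node (.leaf 0x22419b144) (.leaf 0x1421bb1d6))) (.node (.node (.leaf 0x7b0c0b0a6) (.leaf 0xa20900e)) (.node (.leaf 0xd273905c) (.leaf 0x337dfb0fc))))) (.node (.node (.node (.node (.leaf 0x52cd090c6) (.leaf 0x50a279046)) (.node (.leaf 0xf2489042) (.leaf 0x7a4f47020))) (.node (.node (.leaf 0x61511b0d6) (.leaf 0x446feb050)) (.node (.leaf 0x1b39036) (.leaf 0x1192d7020)))) (.node (.node (.node (.leaf 0x49836905c) (.leaf 0x2d00c7002)) (.node (.leaf 0x42e629030)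 (.leaf 0x285ccb144))) (.node (.node (.leaf 0x1f94eb184) (.leaf 0x47f81b194)) (.node (.leaf 0x93779044) (.leaf 0x153179026)))))) (.node (.node (.node (.node (.node (.leaf 0x5dd927002) (.leaf 0x194357014)) (.node (.leaf 0x1799e9046) (.leaf 0x22e91b00c))) (.node (.node (.leaf 0x541057042) (.leaf 0x1879490c6)) (.node (.leaf 0x4201b090) (.leaf 0x8aaa9026)))) (.node (.node (.node (.leaf 0xf5a6901c) (.leaf 0x20cab0c6)) (.node (.leaf 0x6893b036) (.leaf 0xc464ab044))) (.node (.node (.leaf 0x2d9de5010) (.leaf 0x3d1927024)) (.node (.leaf 0x24e70b086) (.leaf 0xde474b002))))) (.node (.node (.node (.node (.leaf 0x8141700e) (.leaf 0xf3189024)) (.node (.leaf 0x5b15b05c) (.leaf 0x4a11b090))) (.node (.node (.leaf 0x2bd67b184) (.leaf 0x44e37b042)) (.node (.leaf 0x19ee59004) (.leaf 0x46399700a)))) (.node (.node (.node (.leaf 0x1d65b0c0) (.leaf 0x2084eb05c)) (.node (.leaf 0x1537525014) (.leaf 0x56987b064))) (.node (.node (.leaf 0x63561900a)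 (.leaf 0x28754b00c)) (.node (.leaf 0x795c6b09c) (.leaf 0x559917030))))))) (.node (.node (.node (.node (.node (.node (.leaf 0xbba78b086) (.leaf 0xac78cb0fc)) (.node (.leaf 0x1ef4f900c) (.leaf 0x479a1b086))) (.node (.node (.leaf 0xccdd7026) (.leaf 0x6ff5b084)) (.node (.leaf 0x2843a9046) (.leaf 0x2502b904e)))) (.node (.node (.node (.leaf 0x548b056) (.leaf 0x3bd3700a)) (.node (.leaf 0x937eb05c) (.leaf 0x4044b090))) (.node (.node (.leaf 0x29abdb01e) (.leaf 0x184e6700a)) (.node (.leaf 0x784cb05c) (.leaf 0x766177014))))) (.node (.node (.node (.node (.leaf 0x6ade8b036) (.leaf 0x27b9db0ea)) (.node (.leaf 0x33646b0ea) (.leaf 0x20c359044))) (.node (.node (.leaf 0x15770b00c) (.leaf 0x14881b10c)) (.node (.leaf 0x192ca9006) (.leaf 0x416777026)))) (.node (.node (.node (.leaf 0x357e09082) (.leaf 0x17234b144)) (.node (.leaf 0x546077004) (.leaf 0x295adb01e))) (.node (.node (.leaf 0x4854b090) (.leaf 0x2529f901a)) (.node (.leaf 0x5c57b1d6)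 (.leaf 0x7459c900e)))))) (.node (.node (.node (.node (.node (.leaf 0x7a0c9036) (.leaf 0x579c67014)) (.node (.leaf 0x21a1b0d6) (.leaf 0x6658c7034))) (.node (.node (.leaf 0x214f0b194) (.leaf 0x127d6b0c6)) (.node (.leaf 0x99ba8b09c) (.leaf 0x24daeb184)))) (.node (.node (.node (.leaf 0x223db9046) (.leaf 0xfa767014)) (.node (.leaf 0xa4f597034) (.leaf 0x1940b9042))) (.node (.node (.leaf 0x2d6019002) (.leaf 0xa3de1900c)) (.node (.leaf 0x1c4859030) (.leaf 0x19ab056))))) (.node (.node (.node (.node (.leaf 0x4ff9d704e) (.leaf 0x1eb039024)) (.node (.leaf 0x10055b05c) (.leaf 0x5373fb0c0))) (.node (.node (.leaf 0x29de0b01e) (.leaf 0x39fdbb0cc)) (.node (.leaf 0x415c2b000) (.leaf 0x2c616901a)))) (.node (.node (.node (.leaf 0x3ee159006) (.leaf 0x61bb2b0c6)) (.node (.leaf 0x2edee9010) (.leaf 0x1ab62900e))) (.node (.node (.leaf 0x33ad90c6) (.leaf 0x3aa68704e)) (.node (.leaf 0x133eab01e) (.leaf 0x153b8b144))))))))) (.node (.node (.node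 (.node (.node (.node (.node (.node (.leaf 0x3917ab090) (.leaf 0x7df1b056)) (.node (.leaf 0x2b8e39082) (.leaf 0x3a1d37014))) (.node (.node (.leaf 0x75b5e9010) (.leaf 0x7b42db090)) (.node (.leaf 0x5d0eb056) (.leaf 0x9dcd1b09c)))) (.node (.node (.node (.leaf 0x39c345000) (.leaf 0x3134d9002)) (.node (.leaf 0x1b413b114) (.leaf 0x5f8b1fe))) (.node (.node (.leaf 0x319e35000) (.leaf 0xb97eeb000)) (.node (.leaf 0x13d7fb01e) (.leaf 0x4871b0cc))))) (.node (.node (.node (.node (.leaf 0x2c091b0ea) (.leaf 0x5711f700a)) (.node (.leaf 0x15bdb14e) (.leaf 0x114afb00c))) (.node (.node (.leaf 0x2d92b0c6) (.leaf 0x13a2909024)) (.node (.leaf 0x83461b194) (.leaf 0x13d801b0c0)))) (.node (.node (.node (.leaf 0xf82f700a) (.leaf 0x2b3a29016)) (.node (.leaf 0x20571905c) (.leaf 0x6201f7006))) (.node (.node (.leaf 0x8ade4b1d6) (.leaf 0x521809006)) (.node (.leaf 0x6327b7006) (.leaf 0x4a329b09c)))))) (.node (.node (.node (.node (.node (.leaf 0x278857004)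 (.leaf 0x8c80a7004)) (.node (.leaf 0x5e70b056) (.leaf 0x346bc9042))) (.node (.node (.leaf 0x24abf904e) (.leaf 0x3474e7042)) (.node (.leaf 0x1ced7905c) (.leaf 0x108d8900e)))) (.node (.node (.node (.leaf 0x13677b01e) (.leaf 0x212129082)) (.node (.leaf 0x7cf9fb064) (.leaf 0x7debb056))) (.node (.node (.leaf 0x4f8be7042) (.leaf 0x8120b042)) (.node (.leaf 0x26d01b084) (.leaf 0x36135901c))))) (.node (.node (.node (.node (.leaf 0x31f065000) (.leaf 0x771777006)) (.node (.leaf 0x47df2901a) (.leaf 0x6c4db084))) (.node (.node (.leaf 0x667c1b062) (.leaf 0x4c397b002)) (.node (.leaf 0xba40b09c) (.leaf 0x325f79000)))) (.node (.node (.node (.leaf 0x76e6c90c6) (.leaf 0x11767b144)) (.node (.leaf 0x1ae4db10c) (.leaf 0xa99a9010))) (.node (.node (.leaf 0x3d854b086) (.leaf 0x4061b0cc)) (.node (.leaf 0x39437006) (.leaf 0x1f23a9082))))))) (.node (.node (.node (.node (.node (.node (.leaf 0x56361b064) (.leaf 0x27bab9082)) (.node (.leaf 0x5788900e)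 (.leaf 0x12bceb0c6))) (.node (.node (.leaf 0x2b4777024) (.leaf 0x216a89014)) (.node (.leaf 0x1c795905c) (.leaf 0x18caf9004)))) (.node (.node (.node (.leaf 0xc686b144) (.leaf 0x117a87010)) (.node (.leaf 0x368099082) (.leaf 0x10062b056))) (.node (.node (.leaf 0x9b139030) (.leaf 0x33207900a)) (.node (.leaf 0x293e5b01e) (.leaf 0x28595b042))))) (.node (.node (.node (.node (.leaf 0x34868900c) (.leaf 0xa342b01c)) (.node (.leaf 0x1444a900e) (.leaf 0x20f1b0d6))) (.node (.node (.leaf 0x5d83a9002) (.leaf 0x3bbcf7000)) (.node (.leaf 0x48d45904e) (.leaf 0x62e069004)))) (.node (.node (.node (.leaf 0x317a57002) (.leaf 0x30f09042)) (.node (.leaf 0x42d86b1fe) (.leaf 0x419c4b144))) (.node (.node (.leaf 0x187fb7034) (.leaf 0x7583900e)) (.node (.leaf 0xd3499030) (.leaf 0x672bb036)))))) (.node (.node (.node (.node (.node (.leaf 0xcb0eb00c) (.leaf 0x2da825002)) (.node (.leaf 0x112c07000) (.leaf 0x22f88b042))) (.node (.node (.leaf 0x25b9ab184)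 (.leaf 0x529bf9004)) (.node (.leaf 0x164b01b050) (.leaf 0x2c2e3b184)))) (.node (.node (.node (.leaf 0xb368b09c) (.leaf 0xd57eb05c)) (.node (.leaf 0x46f497006) (.leaf 0xaa04eb0d6))) (.node (.node (.leaf 0x192acb062) (.leaf 0x103b0b056)) (.node (.leaf 0x630c29004) (.leaf 0x37cc900c))))) (.node (.node (.node (.node (.leaf 0x254a1b0fc) (.leaf 0x135a2b01e)) (.node (.leaf 0x2cfecb0fc) (.leaf 0x698fb7010))) (.node (.node (.leaf 0x32f28b050) (.leaf 0x5d757b0a6)) (.node (.leaf 0x70323b09a) (.leaf 0x20c839030)))) (.node (.node (.node (.leaf 0x94aadb0a6) (.leaf 0x29de8b01e)) (.node (.leaf 0x3a0759042) (.leaf 0x4d368b1d6))) (.node (.node (.leaf 0x5b10c) (.leaf 0x5bc79036)) (.node (.leaf 0x1eb82704e) (.leaf 0x118d59046)))))))) (.node (.node (.node (.node (.node (.node (.node (.leaf 0x9bc229044) (.leaf 0x3f327042)) (.node (.leaf 0x1eed8904e) (.leaf 0x15582b000))) (.node (.node (.leaf 0x415a79026) (.leaf 0xa05b7020)) (.node (.leaf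 0x337487014) (.leaf 0xf63b1d6)))) (.node (.node (.node (.leaf 0xb5bb6500a) (.leaf 0xc7a99000)) (.node (.leaf 0x311a09002) (.leaf 0x3620f9024))) (.node (.node (.leaf 0x48015700a) (.leaf 0x2457a9082)) (.node (.leaf 0xc356700e) (.leaf 0x5aae9b14e))))) (.node (.node (.node (.node (.leaf 0x31aa9004) (.leaf 0x25adcb086)) (.node (.leaf 0x2748f7024) (.leaf 0x61450b024))) (.node (.node (.leaf 0x8b5d1900c) (.leaf 0x31d4e5004)) (.node (.leaf 0xab9643000) (.leaf 0x13a67b01e)))) (.node (.node (.node (.leaf 0x83e7cb0fc) (.leaf 0x1070a900e)) (.node (.leaf 0xacd9b09a) (.leaf 0x983cb1d6))) (.node (.node (.leaf 0x1273db0d6) (.leaf 0x16aecb09c)) (.node (.leaf 0xb5a1a500e) (.leaf 0x759ef7020)))))) (.node (.node (.node (.node (.node (.leaf 0x33767034) (.leaf 0x28a1eb06a)) (.node (.leaf 0x82d5b014) (.leaf 0x399295014))) (.node (.node (.leaf 0x17b5db042) (.leaf 0x18b849006)) (.node (.leaf 0x3a4039004) (.leaf 0x4d30eb10c)))) (.node (.node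 (.node (.leaf 0x40712b0c6) (.leaf 0x17d9036)) (.node (.leaf 0x7a1dc9046) (.leaf 0x1c1c79030))) (.node (.node (.leaf 0x2cfdeb062) (.leaf 0x4071b0a6)) (.node (.leaf 0x5ff95b09c) (.leaf 0x5483c901a))))) (.node (.node (.node (.node (.leaf 0xdc9d9044) (.leaf 0x94ab0b0a6)) (.node (.leaf 0xc6fc9046) (.leaf 0x47aab9082))) (.node (.node (.leaf 0x36d5b900c) (.leaf 0x4861b0a6)) (.node (.leaf 0x5a331b2dc) (.leaf 0x102774b1fe)))) (.node (.node (.node (.leaf 0x2cd51b086) (.leaf 0x37950b1d6)) (.node (.leaf 0x74544b1fe) (.leaf 0x559f1b09a))) (.node (.node (.leaf 0x5260d9024) (.leaf 0x75459b09a)) (.node (.leaf 0x19942b0fc) (.leaf 0x1316fb01e))))))) (.node (.node (.node (.node (.node (.node (.leaf 0x94fe0b0cc) (.leaf 0x4f6dc900c)) (.node (.leaf 0x4224b0a6) (.leaf 0x130fab01e))) (.node (.node (.leaf 0x18d7f7014) (.leaf 0x7cd9900e)) (.node (.leaf 0x2b8899014) (.leaf 0x9396b10c)))) (.node (.node (.node (.leaf 0xa52ae904e) (.leaf 0x1497c900e))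 (.node (.leaf 0x22c6db014) (.leaf 0x14a8b9036))) (.node (.node (.leaf 0x36d907006) (.leaf 0xa1127010)) (.node (.leaf 0x139b2b01e) (.leaf 0x306beb064))))) (.node (.node (.node (.node (.leaf 0x62f60900c) (.leaf 0xd4f79044)) (.node (.leaf 0x817a7026) (.leaf 0x15bdcb014))) (.node (.node (.leaf 0x200c0b1d6) (.leaf 0x1c984b1d6)) (.node (.leaf 0x18d519024) (.leaf 0x256bcb194)))) (.node (.node (.node (.leaf 0x4a34b0a6) (.leaf 0x297f5b01e)) (.node (.leaf 0x270f2901a) (.leaf 0x942b0b0cc))) (.node (.node (.leaf 0x1fc649014) (.leaf 0x29ee8b01e)) (.node (.leaf 0x4a24b0cc) (.leaf 0x1987bb0ea)))))) (.node (.node (.node (.node (.node (.leaf 0x36ddc9016) (.leaf 0x393ebb090)) (.node (.leaf 0x511699046) (.leaf 0xbd6dcb09a))) (.node (.node (.leaf 0x9e43905c) (.leaf 0x3a1259024)) (.node (.leaf 0xb3db05c) (.leaf 0x29ce5b01e)))) (.node (.node (.node (.leaf 0xcf197010) (.leaf 0x1735b0c0)) (.node (.leaf 0x1edc8700a) (.leaf 0x6669ab194))) (.node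 (.node (.leaf 0x405a1b0d6) (.leaf 0x37e09024)) (.node (.leaf 0x4234b0cc) (.leaf 0x195bbb086))))) (.node (.node (.node (.node (.leaf 0x872bb06a) (.leaf 0x6d2eb09c)) (.node (.leaf 0x433257026) (.leaf 0x2f30b024))) (.node (.node (.leaf 0x6f0d39026) (.leaf 0x4776f7024)) (.node (.leaf 0x7ee94700a) (.leaf 0x49c249030)))) (.node (.node (.node (.leaf 0x3ea0590c6) (.leaf 0x37aa901c)) (.node (.leaf 0x17eeeb000) (.leaf 0x1775b2dc))) (.node (.node (.leaf 0xcf317000) (.leaf 0x51b6900e)) (.node (.leaf 0x70001b06a) (.leaf 0x3aa03901c)))))))))) (.node (.node (.node (.node (.node (.node (.node (.node (.node (.leaf 0x1fae99006) (.leaf 0x47f119042)) (.node (.leaf 0xb51e2b00a) (.leaf 0x3a65b0fc))) (.node (.node (.leaf 0x13818e9044) (.leaf 0xbb884900c)) (.node (.leaf 0x76dcb9082) (.leaf 0xa534d900c)))) (.node (.node (.node (.leaf 0x1319eb01e) (.leaf 0x12d70b0d6)) (.node (.leaf 0x1e38b2dc) (.leaf 0x7cdcb1d6))) (.node (.node (.leaf 0x416fb7000)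 (.leaf 0x7a3ceb09a)) (.node (.leaf 0x2b9c49006) (.leaf 0x3d973700a))))) (.node (.node (.node (.node (.leaf 0x7b3049002) (.leaf 0x291f1b01e)) (.node (.leaf 0x546a9030) (.leaf 0x1cf09b1fe))) (.node (.node (.leaf 0x39ff67002) (.leaf 0x72cd905c)) (.node (.leaf 0x2c62490c6) (.leaf 0x1a7909044)))) (.node (.node (.node (.leaf 0x77d38b0ea) (.leaf 0xd81db056)) (.node (.leaf 0x8fbebb14e) (.leaf 0x49ee2900e))) (.node (.node (.leaf 0x1b305b114) (.leaf 0x4f7feb184)) (.node (.leaf 0xab913b05a) (.leaf 0x3b2aab06a)))))) (.node (.node (.node (.node (.node (.leaf 0x73b03b114) (.leaf 0x551c69026)) (.node (.leaf 0x1a2fab1fe) (.leaf 0x13e86b01e))) (.node (.node (.leaf 0x57813901a) (.leaf 0x407e4b0d6)) (.node (.leaf 0x1976d7042) (.leaf 0x26558b084)))) (.node (.node (.node (.leaf 0x112e9b06a) (.leaf 0x25179900a)) (.node (.leaf 0xd0cc49014) (.leaf 0x35664b184))) (.node (.node (.leaf 0xf3b05c) (.leaf 0x14eb9b1d6)) (.node (.leaf 0x3a606b062)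 (.leaf 0x20cdeb1d6))))) (.node (.node (.node (.node (.leaf 0x3406cb194) (.leaf 0x3772b184)) (.node (.leaf 0xa0b709044) (.leaf 0x2dc6db090))) (.node (.node (.leaf 0x15c03b01c) (.leaf 0x111d3b09a)) (.node (.leaf 0x97ac9036) (.leaf 0xa3a62901a)))) (.node (.node (.node (.leaf 0x18b71b0ea) (.leaf 0x19c399082)) (.node (.leaf 0xf07e7024) (.leaf 0x7b1949002))) (.node (.node (.leaf 0x5377fb2dc) (.leaf 0x9eecb05c)) (.node (.leaf 0x2739f7042) (.leaf 0x9a49030))))))) (.node (.node (.node (.node (.node (.node (.leaf 0x2cc12700a) (.leaf 0x7a510b06a)) (.node (.leaf 0x1923d7024) (.leaf 0x18b0cb0fc))) (.node (.node (.leaf 0xbba2e9004) (.leaf 0xd135900e)) (.node (.leaf 0x1aeca9044) (.leaf 0x48d21b062)))) (.node (.node (.node (.leaf 0x342fbb062) (.leaf 0x526fb10c)) (.node (.leaf 0x12339b024) (.leaf 0x3eae3901a))) (.node (.node (.leaf 0x55db5b144) (.leaf 0xae6e3b184)) (.node (.leaf 0x4ddb89036) (.leaf 0x600eb036))))) (.node (.node (.node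 (.node (.leaf 0x36e2e9006) (.leaf 0x5cbb2b044)) (.node (.leaf 0x9021b1fe) (.leaf 0x1644db036))) (.node (.node (.leaf 0x1c614b05c) (.leaf 0xe2ab1fe)) (.node (.leaf 0xbc02b084) (.leaf 0x319acb0cc)))) (.node (.node (.node (.leaf 0x193839014) (.leaf 0x7e2ab10c)) (.node (.leaf 0x851e0b0a2) (.leaf 0xb86e19002))) (.node (.node (.leaf 0x138b3b01e) (.leaf 0xdf3e9036)) (.node (.leaf 0x30c0b086) (.leaf 0x66f987024)))))) (.node (.node (.node (.node (.node (.leaf 0x1ab0b14e) (.leaf 0x4dbf502a)) (.node (.leaf 0xde9c77030) (.leaf 0x2b03f7014))) (.node (.node (.leaf 0x21cec900c) (.leaf 0xf73f904e)) (.node (.leaf 0x54bc905c) (.leaf 0xb03169036)))) (.node (.node (.node (.leaf 0x25269704e) (.leaf 0xa10d97006)) (.node (.leaf 0xccdab014) (.leaf 0x280527020))) (.node (.node (.leaf 0x35532b0ea) (.leaf 0x14bae9030)) (.node (.leaf 0x2659ab036) (.leaf 0x3611f9042))))) (.node (.node (.node (.node (.leaf 0x47b8d900c) (.leaf 0x1a963b05c)) (.node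 (.leaf 0xb88719002) (.leaf 0x90e8b900c))) (.node (.node (.leaf 0x35ff2b086) (.leaf 0x501367010)) (.node (.leaf 0x2f904b044) (.leaf 0x11b6bb014)))) (.node (.node (.node (.leaf 0x21c609042) (.leaf 0x2e517b000)) (.node (.leaf 0xa4339046) (.leaf 0x543b4b062))) (.node (.node (.leaf 0x160deb084) (.leaf 0x92ed37026)) (.node (.leaf 0x1ffd6901c) (.leaf 0x834f7020)))))))) (.node (.node (.node (.node (.node (.node (.node (.leaf 0x3d20b194) (.leaf 0x462039006)) (.node (.leaf 0x2104a7034) (.leaf 0x42e5e900e))) (.node (.node (.leaf 0x210067042) (.leaf 0x1e9c3b194)) (.node (.leaf 0x63db4b194) (.leaf 0xce40b06a)))) (.node (.node (.node (.leaf 0x801329036) (.leaf 0x292f1b01e)) (.node (.leaf 0xf9307004) (.leaf 0x91407b002))) (.node (.node (.leaf 0x57e5b9016) (.leaf 0x506ae9010)) (.node (.leaf 0x2e20db014) (.leaf 0xaec5b00c))))) (.node (.node (.node (.node (.leaf 0x89c589026) (.leaf 0x371c0b05c)) (.node (.leaf 0x134ceb01e) (.leaf 0x8c56390c6)))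 (.node (.node (.leaf 0x194807006) (.leaf 0x206109036)) (.node (.leaf 0x247227034) (.leaf 0x56c5b1d6)))) (.node (.node (.node (.leaf 0x84f44b09c) (.leaf 0x11a9044)) (.node (.leaf 0x34731b0fc) (.leaf 0x9a04b10c))) (.node (.node (.leaf 0x5f38bb084) (.leaf 0xf2c09014)) (.node (.leaf 0x837b490c6) (.leaf 0x107a3b10c)))))) (.node (.node (.node (.node (.node (.leaf 0xb62ab084) (.leaf 0x20145b1fe)) (.node (.leaf 0x513a905c) (.leaf 0x1c7d2b1d6))) (.node (.node (.leaf 0x1f4fc9042) (.leaf 0x23f4b0d6)) (.node (.leaf 0x2527990c6) (.leaf 0x246269004)))) (.node (.node (.node (.leaf 0x17f667020) (.leaf 0x96fcd7010)) (.node (.leaf 0x89fdb09a) (.leaf 0xa91db144))) (.node (.node (.leaf 0x41de8b050) (.leaf 0xab4ebb05a)) (.node (.leaf 0x27f479004) (.leaf 0x47c3e7006))))) (.node (.node (.node (.node (.leaf 0x6033b09c) (.leaf 0x33117704e)) (.node (.leaf 0x3c634700e) (.leaf 0x1d507b084))) (.node (.node (.leaf 0x81a67010) (.leaf 0x310e9b0cc))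 (.node (.leaf 0x28b5b7010) (.leaf 0x13fd6b01e)))) (.node (.node (.node (.leaf 0x658767020) (.leaf 0x1bf9db044)) (.node (.leaf 0x245db024) (.leaf 0x182b1b086))) (.node (.node (.leaf 0x167f5b036) (.leaf 0x10a0c905c)) (.node (.leaf 0x1278b0c0) (.leaf 0x8b2c6b062))))))) (.node (.node (.node (.node (.node (.node (.leaf 0x1e223b0ea) (.leaf 0x47bf7901c)) (.node (.leaf 0x267efb09c) (.leaf 0x32536b000))) (.node (.node (.leaf 0x19387900c) (.leaf 0x2ffdcb114)) (.node (.leaf 0x27bb9900c) (.leaf 0x92aeb1d6)))) (.node (.node (.node (.leaf 0x4a3e5006) (.leaf 0x499b5006)) (.node (.leaf 0x13efbb01e) (.leaf 0x2435d9006))) (.node (.node (.leaf 0xf97a9082) (.leaf 0x37596b1d6)) (.node (.leaf 0x15164b09a) (.leaf 0x18091b194))))) (.node (.node (.node (.node (.leaf 0xa9b69026) (.leaf 0x1f5327034)) (.node (.leaf 0x3e00b0ea) (.leaf 0x241fb0c6))) (.node (.node (.leaf 0x515cdb06a) (.leaf 0x613fdb024)) (.node (.leaf 0x19f737004) (.leaf 0x25f3b700a))))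 (.node (.node (.node (.leaf 0x1c46cb10c) (.leaf 0x8d2e9010)) (.node (.leaf 0x88c88b0fc) (.leaf 0x113b8b01c))) (.node (.node (.leaf 0xca62b09a) (.leaf 0x5459fb086)) (.node (.leaf 0x1d1bfb084) (.leaf 0x2daf0b090)))))) (.node (.node (.node (.node (.node (.leaf 0x106ce9030) (.leaf 0x3687e90c6)) (.node (.leaf 0x14dfe905c) (.leaf 0x410339000))) (.node (.node (.leaf 0x6c9ce905c) (.leaf 0x78e6c5004)) (.node (.leaf 0x1270bb0c6) (.leaf 0x215309024)))) (.node (.node (.node (.leaf 0x249909024) (.leaf 0x50d26b01c)) (.node (.leaf 0xa77dbb084) (.leaf 0x5dfd6b090))) (.node (.node (.leaf 0x318fcb0a6) (.leaf 0x66be27004)) (.node (.leaf 0x4fdb500a) (.leaf 0x2c89044))))) (.node (.node (.node (.node (.leaf 0x85930b0a2) (.leaf 0xf87b9016)) (.node (.leaf 0x22ad5b09a) (.leaf 0x17b40b09a))) (.node (.node (.leaf 0xb329b036) (.leaf 0x8cf6b01c)) (.node (.leaf 0x1995b9024) (.leaf 0x2babb7034)))) (.node (.node (.node (.leaf 0x3404cb0ea) (.leaf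 0x752fdb144)) (.node (.leaf 0x4217500e) (.leaf 0x4842500e))) (.node (.node (.leaf 0x1e4e3b086) (.leaf 0x476419024)) (.node (.leaf 0x3a0e5b194) (.leaf 0x24426901c))))))))) (.node (.node (.node (.node (.node (.node (.node (.node (.leaf 0x85435b0a2) (.leaf 0x45707002)) (.node (.leaf 0x14ef09030) (.leaf 0xbed7b084))) (.node (.node (.leaf 0xa9848b01c) (.leaf 0x257eb7006)) (.node (.leaf 0x35e429042) (.leaf 0x12f20b0d6)))) (.node (.node (.node (.leaf 0xbe48b036) (.leaf 0x1329eb01e)) (.node (.leaf 0x40eddb024) (.leaf 0x367cfb194))) (.node (.node (.leaf 0x256699006) (.leaf 0x28230b050)) (.node (.leaf 0xf1d8b194) (.leaf 0xccb1b002))))) (.node (.node (.node (.node (.leaf 0x33d407024) (.leaf 0x3edbeb184)) (.node (.leaf 0x352c39006) (.leaf 0x3d1767034))) (.node (.node (.leaf 0x10d1c9030) (.leaf 0x3def49024)) (.node (.leaf 0x3b9669046) (.leaf 0x18e397004)))) (.node (.node (.node (.leaf 0xca685b17a) (.leaf 0x12a0b14e)) (.node (.leaf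 0x1cfbbb056) (.leaf 0x2cd619042))) (.node (.node (.leaf 0x59f09044) (.leaf 0x9d3e9036)) (.node (.leaf 0x6f66b036) (.leaf 0x168a4b036)))))) (.node (.node (.node (.node (.node (.leaf 0x3e8ddb0fc) (.leaf 0x29fa9b01e)) (.node (.leaf 0x3a289014) (.leaf 0xd150b10c))) (.node (.node (.leaf 0x3d84a901c) (.leaf 0x20a0e9036)) (.node (.leaf 0x82b69b144) (.leaf 0x7d6b9044)))) (.node (.node (.node (.leaf 0x325469046) (.leaf 0x98b96b09c)) (.node (.leaf 0x45a07002) (.leaf 0x47f84900a))) (.node (.node (.leaf 0x291f9b01e) (.leaf 0xbcbb10c)) (.node (.leaf 0x4d62fb056) (.leaf 0x3c7adb042))))) (.node (.node (.node (.node (.leaf 0xa6adcb09c) (.leaf 0x1793f9000)) (.node (.leaf 0x8c7bbb0fc) (.leaf 0x3a19e901a))) (.node (.node (.leaf 0x31959b090) (.leaf 0x19934901a)) (.node (.leaf 0x6292a9082) (.leaf 0x42a59b10c)))) (.node (.node (.node (.leaf 0x30587004) (.leaf 0x39d5ab0a6)) (.node (.leaf 0x91a9900e) (.leaf 0x34b0f904e))) (.node (.node (.leaf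 0x1af269030) (.leaf 0x8845a9016)) (.node (.leaf 0x8ac71900e) (.leaf 0x5e7eb1fe))))))) (.node (.node (.node (.node (.node (.node (.leaf 0x87969000) (.leaf 0x5aafcb14e)) (.node (.leaf 0x9cb87901c) (.leaf 0x5a8e9044))) (.node (.node (.leaf 0xc6ced900a) (.leaf 0x40089002)) (.node (.leaf 0x883159014) (.leaf 0x2c83b9004)))) (.node (.node (.node (.leaf 0x19050700a) (.leaf 0x1d3f9b036)) (.node (.leaf 0x14a449044) (.leaf 0xfa38b0ea))) (.node (.node (.leaf 0x477e5014) (.leaf 0xfffecb024)) (.node (.leaf 0x3914db00a) (.leaf 0xdfadb1fe))))) (.node (.node (.node (.node (.leaf 0x966905c) (.leaf 0x5fc7eb084)) (.node (.leaf 0x27d30704e) (.leaf 0x6dcbb09c))) (.node (.node (.leaf 0x350f9016) (.leaf 0x3131cb090)) (.node (.leaf 0xfd465b0ea) (.leaf 0x47894704e)))) (.node (.node (.node (.leaf 0x45075000) (.leaf 0x2d79db0a6)) (.node (.leaf 0x1f41f700a) (.leaf 0xaac3b000))) (.node (.node (.leaf 0x11a31f9036) (.leaf 0x13fb3b01e)) (.node (.leaf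 0x11082b042) (.leaf 0x13cabb01e)))))) (.node (.node (.node (.node (.node (.leaf 0x3293cb00c) (.leaf 0x63d5c7004)) (.node (.leaf 0x37df7900e) (.leaf 0x29cecb01e))) (.node (.node (.leaf 0x5494e90c6) (.leaf 0x387e9082)) (.node (.leaf 0x28fa87030) (.leaf 0x17a68b050)))) (.node (.node (.node (.leaf 0x404a5000) (.leaf 0x2d6cdb0a6)) (.node (.leaf 0x12b362905a) (.leaf 0x2bea6700a))) (.node (.node (.leaf 0xb66fb084) (.leaf 0x1c693900e)) (.node (.leaf 0x4e989002) (.leaf 0x5687b05c))))) (.node (.node (.node (.node (.leaf 0x47db5014) (.leaf 0x7d6f69000)) (.node (.leaf 0x333fc9082) (.leaf 0x2197d704e))) (.node (.node (.leaf 0x21a6d900a) (.leaf 0x43456b014)) (.node (.leaf 0x41bcb9010) (.leaf 0x6c802b1fe)))) (.node (.node (.node (.leaf 0xa5a04900a) (.leaf 0x111ef47042)) (.node (.leaf 0x16e03b084) (.leaf 0x3a8db7024))) (.node (.node (.leaf 0x484b3900a) (.leaf 0x5e57cb0fc)) (.node (.leaf 0x1c68b2dc) (.leaf 0x2ce5d900c)))))))) (.node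 (.node (.node (.node (.node (.node (.node (.leaf 0x3af379082) (.leaf 0x117a5b000)) (.node (.leaf 0x943365010) (.leaf 0x209ef900e))) (.node (.node (.leaf 0x538deb2dc) (.leaf 0x34f7a9082)) (.node (.leaf 0x8a5e7000) (.leaf 0xa19cb042)))) (.node (.node (.node (.leaf 0x771bb1fe) (.leaf 0x2e5aa9026)) (.node (.leaf 0xd92d57024) (.leaf 0x29cdb024))) (.node (.node (.leaf 0x87ae9b036) (.leaf 0x174e07030)) (.node (.leaf 0x88b6e904e) (.leaf 0x1503b7000))))) (.node (.node (.node (.node (.leaf 0x3432b9016) (.leaf 0x19740904e)) (.node (.leaf 0xdd68b05c) (.leaf 0x13bceb01e))) (.node (.node (.leaf 0x2c0749006) (.leaf 0xa2667026)) (.node (.leaf 0x319d3b00a) (.leaf 0x7ddd9030)))) (.node (.node (.node (.leaf 0x409d7002) (.leaf 0x8145b050)) (.node (.leaf 0x1ec6d9004) (.leaf 0x2decdb0cc))) (.node (.node (.leaf 0x17367b002) (.leaf 0x51d82b042)) (.node (.leaf 0x2c5827006) (.leaf 0x2df50b0a6)))))) (.node (.node (.node (.node (.node (.leaf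 0x2d100b0a6) (.leaf 0x30227024)) (.node (.leaf 0x920f900e) (.leaf 0x35dd3900a))) (.node (.node (.leaf 0xf54db0fc) (.leaf 0x123750b10c)) (.node (.leaf 0x3ffca9000) (.leaf 0x8ac73900e)))) (.node (.node (.node (.leaf 0x1f8b9900a) (.leaf 0x18d377024)) (.node (.leaf 0x31adbb00a) (.leaf 0x2280a9000))) (.node (.node (.leaf 0x49d33b1d6) (.leaf 0xc7ccb000)) (.node (.leaf 0x77ba39016) (.leaf 0x527c59014))))) (.node (.node (.node (.node (.leaf 0x79f26b036) (.leaf 0x16abbb084)) (.node (.leaf 0x83b127006) (.leaf 0x1068b47034))) (.node (.node (.leaf 0x5454d7014) (.leaf 0x111bbb050)) (.node (.leaf 0x138d6b01e) (.leaf 0x523f57004)))) (.node (.node (.node (.leaf 0x258da7042) (.leaf 0x35ed390c6)) (.node (.leaf 0x466acb184) (.leaf 0x1089bb05c))) (.node (.node (.leaf 0xeb4905c) (.leaf 0x26a4b0d6)) (.node (.leaf 0x4b7b0b0d6) (.leaf 0x4f4d7002))))))) (.node (.node (.node (.node (.node (.node (.leaf 0x249af700a) (.leaf 0x48bf29042)) (.node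 (.leaf 0x4d2e5010) (.leaf 0x11140b002))) (.node (.node (.leaf 0x2f07b0c6) (.leaf 0xe769030)) (.node (.leaf 0x17be77000) (.leaf 0x24f4d90c6)))) (.node (.node (.node (.leaf 0x2701e700a) (.leaf 0x132e3b01e)) (.node (.leaf 0x44a59002) (.leaf 0x13dfbb01e))) (.node (.node (.leaf 0x3583904e) (.leaf 0x1de92b084)) (.node (.leaf 0x10692b1fe) (.leaf 0x35f3c7014))))) (.node (.node (.node (.node (.leaf 0x7d719044) (.leaf 0xf8ebb062)) (.node (.leaf 0x30e01b044) (.leaf 0x28823b002))) (.node (.node (.leaf 0x6e4d1b064) (.leaf 0x43475004)) (.node (.leaf 0x5019eb002) (.leaf 0xa447b06a)))) (.node (.node (.node (.leaf 0x4ed27b064) (.leaf 0x9351b056)) (.node (.leaf 0xfadb1d6) (.leaf 0x90e58700a))) (.node (.node (.leaf 0x1ea539042) (.leaf 0x293ecb01e)) (.node (.leaf 0x2196d90c6) (.leaf 0x3b790b00c)))))) (.node (.node (.node (.node (.node (.leaf 0xc60ab050) (.leaf 0x1c28b0c0)) (.node (.leaf 0x4d359002) (.leaf 0xd7289036))) (.node (.node (.leaf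 0x4a0a5004) (.leaf 0x44e199000)) (.node (.leaf 0xdaeeb1d6) (.leaf 0x6cccb084)))) (.node (.node (.node (.leaf 0x94aa19002) (.leaf 0x54eaf9042)) (.node (.leaf 0x3d6b19006) (.leaf 0x36b0cb062))) (.node (.node (.leaf 0x9da6eb084) (.leaf 0x256be7034)) (.node (.leaf 0xfcf8b086) (.leaf 0x7014fb00c))))) (.node (.node (.node (.node (.leaf 0x3857901a) (.leaf 0x4c788b00c)) (.node (.leaf 0x899d7030) (.leaf 0x607b3b05a))) (.node (.node (.leaf 0x25b129004) (.leaf 0x4f6af904e)) (.node (.leaf 0x1c4d1900e) (.leaf 0x3714d900e)))) (.node (.node (.node (.leaf 0x60e4f905a) (.leaf 0x19eca704e)) (.node (.leaf 0x4151a7020) (.leaf 0x290fcb01e))) (.node (.node (.leaf 0x2872b9000) (.leaf 0x3405e7024)) (.node (.leaf 0x45835010) (.leaf 0x94f7b056))))))))))) (.node (.node (.node (.node (.node (.node (.node (.node (.node (.node (.leaf 0x11d737024) (.leaf 0xbf39bb0fc)) (.node (.leaf 0x2b5adb000) (.leaf 0x257cd7000))) (.node (.node (.leaf 0x74b2b114)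 (.leaf 0x32b7c9082)) (.node (.leaf 0x4ef6f9044) (.leaf 0x59ee67034)))) (.node (.node (.node (.leaf 0x1e34f9046) (.leaf 0xe7c9b01e)) (.node (.leaf 0x51ca57004) (.leaf 0xe599b01e))) (.node (.node (.leaf 0x592a27042) (.leaf 0x5498e9026)) (.node (.leaf 0x259757010) (.leaf 0x2d2ab00a))))) (.node (.node (.node (.node (.leaf 0x33bcb000) (.leaf 0x21452b00c)) (.node (.leaf 0x240e2b144) (.leaf 0x2cb747026))) (.node (.node (.leaf 0x5bced5000) (.leaf 0x53896b14e)) (.node (.leaf 0x3afcc7000) (.leaf 0xab079024)))) (.node (.node (.node (.leaf 0x613d7b00a) (.leaf 0x552499004)) (.node (.leaf 0x30001b10c) (.leaf 0x4a0aeb036))) (.node (.node (.leaf 0x8a6a90c6) (.leaf 0xa3859082)) (.node (.leaf 0x6a443b036) (.leaf 0x4764fb09a)))))) (.node (.node (.node (.node (.node (.leaf 0x221cb090) (.leaf 0x27289b000)) (.node (.leaf 0xc0c89014) (.leaf 0xfd7589026))) (.node (.node (.leaf 0xe214d9010) (.leaf 0x55c997014)) (.node (.leaf 0x1b96c905c) (.leaf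 0x9d39ab09c)))) (.node (.node (.node (.leaf 0x617cfb00a) (.leaf 0x7c0a5b056)) (.node (.leaf 0x23e26b1fe) (.leaf 0x26d54b036))) (.node (.node (.leaf 0x896a900a) (.leaf 0x19837b000)) (.node (.leaf 0x10ad2b7042) (.leaf 0x7df389016))))) (.node (.node (.node (.node (.leaf 0xb66397004) (.leaf 0xf7f36b056)) (.node (.leaf 0x3e788b06a) (.leaf 0x2072b00a))) (.node (.node (.leaf 0x60a5db05a) (.leaf 0x43ecb0d6)) (.node (.leaf 0x2e7b2b0fc) (.leaf 0x2a0cb090)))) (.node (.node (.node (.leaf 0x301799036) (.leaf 0xccf87004)) (.node (.leaf 0x1b7cbb10c) (.leaf 0xe83b29036))) (.node (.node (.leaf 0x9351bb084) (.leaf 0x271e4b002)) (.node (.leaf 0x3521e9046) (.leaf 0x58dbfb036))))))) (.node (.node (.node (.node (.node (.node (.leaf 0x33db37010) (.leaf 0x2327c9044)) (.node (.leaf 0xf07e7030) (.leaf 0x5036bb086))) (.node (.node (.leaf 0x3283a9024) (.leaf 0x7221d905c)) (.node (.leaf 0x32aab050) (.leaf 0x1204b5002)))) (.node (.node (.node (.leaf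 0x66c079000) (.leaf 0x18b357020)) (.node (.leaf 0xa2047b14e) (.leaf 0x3f77e90c6))) (.node (.node (.leaf 0xbe1e17014) (.leaf 0x2da98b0d6)) (.node (.leaf 0x173db14e) (.leaf 0x4ba52502a))))) (.node (.node (.node (.node (.leaf 0xeb5cb01e) (.leaf 0x911949082)) (.node (.leaf 0x694e1b062) (.leaf 0x360527000))) (.node (.node (.leaf 0x1acd5b114) (.leaf 0xcbff9016)) (.node (.leaf 0x1eeb9b144) (.leaf 0x2710eb042)))) (.node (.node (.node (.leaf 0x3a7819046) (.leaf 0x41219b062)) (.node (.leaf 0x6b4c0b01e) (.leaf 0x36c3b042))) (.node (.node (.leaf 0x3452db002) (.leaf 0xa0a97042)) (.node (.leaf 0x5d3beb0d6) (.leaf 0x15c35901a)))))) (.node (.node (.node (.node (.node (.leaf 0x1f718b000) (.leaf 0x59e709024)) (.node (.leaf 0x3062fb1d6) (.leaf 0x818e8b044))) (.node (.node (.leaf 0x40f69b0cc) (.leaf 0xaf6f7004)) (.node (.leaf 0x37ff8b044) (.leaf 0x3cfd89004)))) (.node (.node (.node (.leaf 0x31fd0b024) (.leaf 0x19300b042)) (.node (.leaf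 0x2c59b090) (.leaf 0x4cda97006))) (.node (.node (.leaf 0x11b4e9016) (.leaf 0x16fefb036)) (.node (.leaf 0x2607cb036) (.leaf 0x6fddbb0fc))))) (.node (.node (.node (.node (.leaf 0x5174f9082) (.leaf 0x90849700e)) (.node (.leaf 0x1ee61b00c) (.leaf 0x2c49b090))) (.node (.node (.leaf 0x9f442b08a) (.leaf 0x11def9082)) (.node (.leaf 0xeadf7b086) (.leaf 0x4e536b05c)))) (.node (.node (.node (.leaf 0xe84cb01e) (.leaf 0x6f29b09c)) (.node (.leaf 0x17ce1901a) (.leaf 0x32146900c))) (.node (.node (.leaf 0x3434fb042) (.leaf 0x188847026)) (.node (.leaf 0x528ac7010) (.leaf 0x36c35b050)))))))) (.node (.node (.node (.node (.node (.node (.node (.leaf 0x1fd0fb042) (.leaf 0x2f2ecb1d6)) (.node (.leaf 0x47101b06a) (.leaf 0xb7086b0fc))) (.node (.node (.leaf 0x282d5904e) (.leaf 0x3b4fb90c6)) (.node (.leaf 0x2f72d905c) (.leaf 0xae17bb050)))) (.node (.node (.node (.leaf 0x8d4649010) (.leaf 0x50852b0fc)) (.node (.leaf 0x22ab6b0fc) (.leaf 0x256ee700e)))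 (.node (.node (.leaf 0x5a469b14e) (.leaf 0x243117000)) (.node (.leaf 0x16789b084) (.leaf 0x1df5b2dc))))) (.node (.node (.node (.node (.leaf 0x16b5b0c0) (.leaf 0x16362b09c)) (.node (.leaf 0x231169044) (.leaf 0x853b9042))) (.node (.node (.leaf 0x69a47b0fc) (.leaf 0x523d99046)) (.node (.leaf 0x2c2b37030) (.leaf 0x330e3b01c)))) (.node (.node (.node (.leaf 0xa721901c) (.leaf 0x1dd6db084)) (.node (.leaf 0xbabdb084) (.leaf 0x6f91b09c))) (.node (.node (.leaf 0x1961bb06a) (.leaf 0x564c49036)) (.node (.leaf 0x4047cb0cc) (.leaf 0x1ec529026)))))) (.node (.node (.node (.node (.node (.leaf 0x4046cb0cc) (.leaf 0x447667024)) (.node (.leaf 0x4855f7010) (.leaf 0x8e7a9006))) (.node (.node (.leaf 0xc54a5b01c) (.leaf 0x118619014)) (.node (.leaf 0x195ca7026) (.leaf 0x7f1e3b05c)))) (.node (.node (.node (.leaf 0x3401b002) (.leaf 0x21ad97010)) (.node (.leaf 0x42eaeb064) (.leaf 0x4485b024))) (.node (.node (.leaf 0x1e529700e) (.leaf 0x1f36db002))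 (.node (.leaf 0x3cecf90c6) (.leaf 0xc0827024))))) (.node (.node (.node (.node (.leaf 0x136af45006) (.leaf 0xf4857026)) (.node (.leaf 0x320f07042) (.leaf 0x57b86b014))) (.node (.node (.leaf 0xe699b01e) (.leaf 0xcd325b062)) (.node (.leaf 0x3a977b00c) (.leaf 0xe0c9b01e)))) (.node (.node (.node (.leaf 0x1724d700a) (.leaf 0x22bcfb194)) (.node (.leaf 0x597aa7014) (.leaf 0x26f8bb084))) (.node (.node (.leaf 0x14c7ab064) (.leaf 0x21a217000)) (.node (.leaf 0x352139026) (.leaf 0x5d825b0c6))))))) (.node (.node (.node (.node (.node (.node (.leaf 0x4b62a500e) (.leaf 0xa39f9014)) (.node (.leaf 0x43ed8b086) (.leaf 0x1bd35b1d6))) (.node (.node (.leaf 0x549e9b144) (.leaf 0x27847b050)) (.node (.leaf 0x2f252b10c) (.leaf 0x161927b14e)))) (.node (.node (.node (.leaf 0x210119010) (.leaf 0x1b6a6905c)) (.node (.leaf 0xef4cb01e) (.leaf 0x1274b500e))) (.node (.node (.leaf 0xffec7020) (.leaf 0xc4a3904e)) (.node (.leaf 0x39853b0d6) (.leaf 0x24b5c9046)))))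 (.node (.node (.node (.node (.leaf 0x3ebe6b014) (.leaf 0x2308fb05c)) (.node (.leaf 0x12c675006) (.leaf 0x12d9a5006))) (.node (.node (.leaf 0x2e484b062) (.leaf 0x21b1a700e)) (.node (.leaf 0x8c444b014) (.leaf 0x61d6cb090)))) (.node (.node (.node (.leaf 0xe0c59b194) (.leaf 0x22f6fb086)) (.node (.leaf 0x4b2635006) (.leaf 0x41326b086))) (.node (.node (.leaf 0x305e4b1fe) (.leaf 0x35578b144)) (.node (.leaf 0x245d99000) (.leaf 0x22ffb00a)))))) (.node (.node (.node (.node (.node (.leaf 0x2ee7b00a) (.leaf 0x2afec900e)) (.node (.leaf 0x2a6939036) (.leaf 0xaafd45006))) (.node (.node (.leaf 0x82459004) (.leaf 0x19975b014)) (.node (.leaf 0x411e6b0ea) (.leaf 0x14363b044)))) (.node (.node (.node (.leaf 0x381b5b056) (.leaf 0x210ec9046)) (.node (.leaf 0x37520b114) (.leaf 0x164787b086))) (.node (.node (.leaf 0x11bc2904e) (.leaf 0x2b6f6b042)) (.node (.leaf 0xe45cb01e) (.leaf 0xa61c7006))))) (.node (.node (.node (.node (.leaf 0xcaa7901a)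 (.leaf 0xd92d57030)) (.node (.leaf 0x4ea819044) (.leaf 0xaef97024))) (.node (.node (.leaf 0x123da500a) (.leaf 0x11a16901a)) (.node (.leaf 0x69f4eb086) (.leaf 0x58849b084)))) (.node (.node (.node (.leaf 0x1d9d3b036) (.leaf 0x24c619010)) (.node (.leaf 0xba03b036) (.leaf 0x18d377030))) (.node (.node (.leaf 0x24872700e) (.leaf 0x4be425042)) (.node (.leaf 0x435dbb062) (.leaf 0x8c957014))))))))) (.node (.node (.node (.node (.node (.node (.node (.node (.leaf 0x229bd9004) (.leaf 0x8496eb036)) (.node (.leaf 0x39f9b01c) (.leaf 0x122d47002))) (.node (.node (.leaf 0x345ecb06a) (.leaf 0xe2b497026)) (.node (.leaf 0x10fb5b114) (.leaf 0x35052b06a)))) (.node (.node (.node (.leaf 0x1252f5014) (.leaf 0x32261901a)) (.node (.leaf 0x28e919016) (.leaf 0x695809004))) (.node (.node (.leaf 0x17c4a7004) (.leaf 0x1b35a9044)) (.node (.leaf 0xb4fbb036) (.leaf 0x1e198b042))))) (.node (.node (.node (.node (.leaf 0x12bda5014) (.leaf 0x53727b14e))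 (.node (.leaf 0xe7c1b01e) (.leaf 0x3eac9b002))) (.node (.node (.leaf 0x44050b194) (.leaf 0xcc45b0fc)) (.node (.leaf 0x2252d7014) (.leaf 0x7e5f27026)))) (.node (.node (.node (.leaf 0x468677000) (.leaf 0x3c85eb086)) (.node (.leaf 0x40baab00a) (.leaf 0x5c9a0b1d6))) (.node (.node (.leaf 0x3f7adb184) (.leaf 0x69f507014)) (.node (.leaf 0x3692ab01c) (.leaf 0x26d15b036)))))) (.node (.node (.node (.node (.node (.leaf 0xd9db114) (.leaf 0x1245b5000)) (.node (.leaf 0x17f68901c) (.leaf 0xb53eb09c))) (.node (.node (.leaf 0x126047002) (.leaf 0x18da07010)) (.node (.leaf 0x28a157006) (.leaf 0x19e79b00c)))) (.node (.node (.node (.leaf 0xc8d2b184) (.leaf 0x811cb062)) (.node (.leaf 0x287cb0a6) (.leaf 0x187187000))) (.node (.node (.leaf 0x1169eb062) (.leaf 0xaa8a1b00a)) (.node (.leaf 0x2c527b144) (.leaf 0x56bf7900e))))) (.node (.node (.node (.node (.leaf 0x1575e7004) (.leaf 0xadcc700a)) (.node (.leaf 0x206cb0a6) (.leaf 0x4e15b024))) (.node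 (.node (.leaf 0x11189b086) (.leaf 0x158947042)) (.node (.leaf 0x172db14e) (.leaf 0x127865000)))) (.node (.node (.node (.leaf 0x476f7b050) (.leaf 0xaedc904e)) (.node (.leaf 0x3ba0b06a) (.leaf 0xe591b01e))) (.node (.node (.leaf 0x7d80c700a) (.leaf 0x9004b044)) (.node (.leaf 0xabd083006) (.leaf 0x43aa09014))))))) (.node (.node (.node (.node (.node (.node (.leaf 0x4be799002) (.leaf 0x35311b042)) (.node (.leaf 0x2488d9026) (.leaf 0x173f07042))) (.node (.node (.leaf 0x1f7acb06a) (.leaf 0xc860b086)) (.node (.leaf 0x9da62b09c) (.leaf 0x1d5d5b084)))) (.node (.node (.node (.leaf 0x9ce4eb042) (.leaf 0x2fe6ab05c)) (.node (.leaf 0x7e73b064) (.leaf 0x12cc99002))) (.node (.node (.leaf 0x789c2b0d6) (.leaf 0x702f2904e)) (.node (.leaf 0x108ca6b044) (.leaf 0x40119b090))))) (.node (.node (.node (.node (.leaf 0xfdc49046) (.leaf 0x15d309082)) (.node (.leaf 0x51fdb044) (.leaf 0x2e17a9006))) (.node (.node (.leaf 0x1ec827026) (.leaf 0x42c0fb114))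 (.node (.leaf 0xdfc8b114) (.leaf 0x569a9b056)))) (.node (.node (.node (.leaf 0x2d39b0cc) (.leaf 0x1c26cb044)) (.node (.leaf 0x129c789016) (.leaf 0x31b00b024))) (.node (.node (.leaf 0x22d1f9042) (.leaf 0x3e9efb042)) (.node (.leaf 0x44cb0b0ea) (.leaf 0x8c8db184)))))) (.node (.node (.node (.node (.node (.leaf 0xd045d7000) (.leaf 0x2b57fb014)) (.node (.leaf 0x2529b0a6) (.leaf 0x6ec57b1fe))) (.node (.node (.leaf 0x149abb114) (.leaf 0x5dd4ab024)) (.node (.leaf 0x61a4cb0cc) (.leaf 0x23d129030)))) (.node (.node (.node (.leaf 0x2d29b0cc) (.leaf 0x150e69024)) (.node (.leaf 0x1b76ab1fe) (.leaf 0x9207c7042))) (.node (.node (.leaf 0x197879046) (.leaf 0x12d599002)) (.node (.leaf 0x3cb3eb194) (.leaf 0xbe05b084))))) (.node (.node (.node (.node (.leaf 0x76b39b06a) (.leaf 0x5e3b0b01c)) (.node (.leaf 0x34646b014) (.leaf 0x2c0f7700e))) (.node (.node (.leaf 0x1efffb000) (.leaf 0x2539b0a6)) (.node (.leaf 0x416969042) (.leaf 0x3b82b09a))))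 (.node (.node (.node (.leaf 0x489f7b002) (.leaf 0xed14b01e)) (.node (.leaf 0x3b04ab086) (.leaf 0xe204b01e))) (.node (.node (.leaf 0x63745b002) (.leaf 0x6a7fbb036)) (.node (.leaf 0x15fb2900c) (.leaf 0x28e367004)))))))) (.node (.node (.node (.node (.node (.node (.node (.leaf 0xa966704e) (.leaf 0x8fe7bb14e)) (.node (.leaf 0x16e17b036) (.leaf 0x1be7c9030))) (.node (.node (.leaf 0x3907cb0c6) (.leaf 0x28d149082)) (.node (.leaf 0x7da60901a) (.leaf 0x46bcb0d6)))) (.node (.node (.node (.leaf 0xf0d97000) (.leaf 0x122de5004)) (.node (.leaf 0x92eb4901c) (.leaf 0xe0c1b01e))) (.node (.node (.leaf 0x6d1897002) (.leaf 0xbc10bb14e)) (.node (.leaf 0x341beb09a) (.leaf 0x15f847024))))) (.node (.node (.node (.node (.leaf 0x2127d7026) (.leaf 0x121035004)) (.node (.leaf 0x48d777000) (.leaf 0x58f1ab09c))) (.node (.node (.leaf 0x3d1f2b09a) (.leaf 0x331cbb002)) (.node (.leaf 0x26cd6b084) (.leaf 0x7a16f7006)))) (.node (.node (.node (.leaf 0x4bf335010)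 (.leaf 0x48a60b050)) (.node (.leaf 0x5b9b55004) (.leaf 0x870bb0ea))) (.node (.node (.leaf 0x7ef84b042) (.leaf 0x6230b09c)) (.node (.leaf 0x11449b0ea) (.leaf 0x207cb0cc)))))) (.node (.node (.node (.node (.node (.leaf 0x1228a5010) (.leaf 0x286cb0cc)) (.node (.leaf 0x2a603b1d6) (.leaf 0x27d3db06a))) (.node (.node (.leaf 0x4703db000) (.leaf 0x223d97034)) (.node (.leaf 0x8acbb086) (.leaf 0x36fa37020)))) (.node (.node (.node (.leaf 0x2e5d97034) (.leaf 0x729a19044)) (.node (.leaf 0x2faf3b1fe) (.leaf 0x9accb114))) (.node (.node (.leaf 0x742ab044) (.leaf 0xb13a8900c)) (.node (.leaf 0xe05b044) (.leaf 0xe691b01e))))) (.node (.node (.node (.node (.leaf 0x285f87042) (.leaf 0x4f16cb000)) (.node (.leaf 0x3b32ab194) (.leaf 0x12e617002))) (.node (.node (.leaf 0x56b51900e) (.leaf 0xfc217010)) (.node (.leaf 0xa800901a) (.leaf 0x4b5417002)))) (.node (.node (.node (.leaf 0x463e7b002) (.leaf 0x252b99026)) (.node (.leaf 0x6547390c6) (.leaf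 0x1875d9046))) (.node (.node (.leaf 0x1592e9014) (.leaf 0xfda2b144)) (.node (.leaf 0x31216b0c6) (.leaf 0x4b24f5004))))))) (.node (.node (.node (.node (.node (.node (.leaf 0xf1119000) (.leaf 0x1883bb144)) (.node (.leaf 0x2d288b0d6) (.leaf 0x651fc7034))) (.node (.node (.leaf 0x43e43901a) (.leaf 0x8fe6bb14e)) (.node (.leaf 0x1e443b06a) (.leaf 0xc2a0b0ea)))) (.node (.node (.node (.leaf 0x1293c9002) (.leaf 0x49b52b064)) (.node (.leaf 0x54c1e7026) (.leaf 0x44333b062))) (.node (.node (.leaf 0x97b49b01e) (.leaf 0xf3a99010)) (.node (.leaf 0x1be5b0c0) (.leaf 0x15c0c901c))))) (.node (.node (.node (.node (.leaf 0x23ef7b10c) (.leaf 0x4156790c6)) (.node (.leaf 0x81f2b0fc) (.leaf 0x58047b036))) (.node (.node (.leaf 0x3354b7000) (.leaf 0x347ab014)) (.node (.leaf 0x4f076b050) (.leaf 0x30926b056)))) (.node (.node (.node (.leaf 0x49f9bb044) (.leaf 0x7070f9082)) (.node (.leaf 0x7ab009042) (.leaf 0x17cdd7006))) (.node (.node (.leaf 0x176fc9082)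 (.leaf 0x2e66a900a)) (.node (.leaf 0x3200d700a) (.leaf 0x388d0b05c)))))) (.node (.node (.node (.node (.node (.leaf 0x5a639b14e) (.leaf 0xe104b01e)) (.node (.leaf 0xee14b01e) (.leaf 0x607083004))) (.node (.node (.leaf 0xdd976b0c0) (.leaf 0x1c9f4b114)) (.node (.leaf 0x11a23b184) (.leaf 0x16a4ab09c)))) (.node (.node (.node (.leaf 0x45ee7b05c) (.leaf 0xac8ad9046)) (.node (.leaf 0x6024ab08a) (.leaf 0x1f8feb09a))) (.node (.node (.leaf 0x51beeb062) (.leaf 0x86abb194)) (.node (.leaf 0x128ac9002) (.leaf 0x19371700e))))) (.node (.node (.node (.node (.leaf 0x39a03b0d6) (.leaf 0x2af51b10c)) (.node (.leaf 0x3e376b050) (.leaf 0xdf50b044))) (.node (.node (.leaf 0x5975b114) (.leaf 0x18a5b2dc)) (.node (.leaf 0x251a07020) (.leaf 0x28730901c)))) (.node (.node (.node (.leaf 0x15f2d9016) (.leaf 0x2c7587000)) (.node (.leaf 0x18c909000) (.leaf 0x244be7030))) (.node (.node (.leaf 0x11c24b0fc) (.leaf 0x55437b194)) (.node (.leaf 0x85733b0a2)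 (.leaf 0x69edf900a)))))))))) (.node (.node (.node (.node (.node (.node (.node (.node (.node (.leaf 0x2aa3a9044) (.leaf 0x481e37026)) (.node (.leaf 0x8045901c) (.leaf 0x4b275b0a6))) (.node (.node (.leaf 0x899d7024) (.leaf 0x3c2299016)) (.node (.leaf 0x238419036) (.leaf 0x473ebb00c)))) (.node (.node (.node (.leaf 0xed1db01e) (.leaf 0x4bd78b0cc)) (.node (.leaf 0x2d08ab0c6) (.leaf 0x25f4db002))) (.node (.node (.leaf 0xafe9b184) (.leaf 0x3a831b000)) (.node (.leaf 0x17ef39006) (.leaf 0x856eab0a2))))) (.node (.node (.node (.node (.leaf 0x14681b044) (.leaf 0x85b39014)) (.node (.leaf 0x3e272b144) (.leaf 0x1923d7030))) (.node (.node (.leaf 0xc5a92b144) (.leaf 0x3b6ea9024)) (.node (.leaf 0x5f3d2b09c) (.leaf 0xe3d0b01e)))) (.node (.node (.node (.leaf 0x62a319026) (.leaf 0x1cd63b064)) (.node (.leaf 0x32ee9b062) (.leaf 0x586fb044))) (.node (.node (.leaf 0x2a78ab1fe) (.leaf 0xe20db01e)) (.node (.leaf 0x381359044) (.leaf 0x5ef749026))))))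 (.node (.node (.node (.node (.node (.leaf 0x281309004) (.leaf 0x1ae8b2dc)) (.node (.leaf 0x47733b144) (.leaf 0x21bceb050))) (.node (.node (.leaf 0x7253bb056) (.leaf 0xe980b01e)) (.node (.leaf 0x104571b01e) (.leaf 0x157f69042)))) (.node (.node (.node (.leaf 0xcaf3700a) (.leaf 0x9f06db08a)) (.node (.leaf 0x125f8b0cc) (.leaf 0x2c131b06a))) (.node (.node (.leaf 0x4c36bb0fc) (.leaf 0x20f36b044)) (.node (.leaf 0x54f829010) (.leaf 0xfc58b06a))))) (.node (.node (.node (.node (.leaf 0x4bc25b0a6) (.leaf 0x41581901a)) (.node (.leaf 0x9996b044) (.leaf 0x17be29042))) (.node (.node (.leaf 0x2ecf8700a) (.leaf 0x3e8eab00c)) (.node (.leaf 0x128b5b0a6) (.leaf 0x1acc3b114)))) (.node (.node (.node (.leaf 0x18317b09a) (.leaf 0x33e66b06a)) (.node (.leaf 0xb9424901c) (.leaf 0x287e07014))) (.node (.node (.leaf 0x12de8b0cc) (.leaf 0x155879006)) (.node (.leaf 0x3e6b17010) (.leaf 0x1ed969010))))))) (.node (.node (.node (.node (.node (.node (.leaf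 0x75b759082) (.leaf 0x2800e9042)) (.node (.leaf 0x2b035006) (.leaf 0x212e5006))) (.node (.node (.leaf 0x276307026) (.leaf 0x3cdd8901c)) (.node (.leaf 0x323b0b184) (.leaf 0x2ebe8904e)))) (.node (.node (.node (.leaf 0x31474b0d6) (.leaf 0x1a6c8b064)) (.node (.leaf 0xc271ab2dc) (.leaf 0x19de5b050))) (.node (.node (.leaf 0x59aee9082) (.leaf 0x559d3900c)) (.node (.leaf 0x8fee3b2dc) (.leaf 0x19f7e7000))))) (.node (.node (.node (.node (.leaf 0x400ae5014) (.leaf 0x50480901a)) (.node (.leaf 0x3eb819000) (.leaf 0x6b801b01e))) (.node (.node (.leaf 0x4fc62700e) (.leaf 0x689eab114)) (.node (.leaf 0x4ba75b0cc) (.leaf 0x2fe29900e)))) (.node (.node (.node (.leaf 0x1c17ab044) (.leaf 0x581f8b084)) (.node (.leaf 0x7c3b7b1fe) (.leaf 0x8a099082))) (.node (.node (.leaf 0x38132b05c) (.leaf 0x90aea7010)) (.node (.leaf 0x87cd7042) (.leaf 0x347a97026)))))) (.node (.node (.node (.node (.node (.leaf 0xa4e7b086) (.leaf 0x3b1447042)) (.node (.leaf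 0x3c6d9026) (.leaf 0x634b59010))) (.node (.node (.leaf 0x242a5042) (.leaf 0x2a26500a)) (.node (.leaf 0xb150cb0ea) (.leaf 0x30d00905c)))) (.node (.node (.node (.leaf 0x5eee47026) (.leaf 0x1cbb044)) (.node (.leaf 0x3107db024) (.leaf 0xb5ecb084))) (.node (.node (.leaf 0x120b5b0cc) (.leaf 0x1c20b14e)) (.node (.leaf 0x457a79036) (.leaf 0x1eb5e7010))))) (.node (.node (.node (.node (.leaf 0x2f47500e) (.leaf 0x26d2500e)) (.node (.leaf 0x24091b002) (.leaf 0x10da3b044))) (.node (.node (.leaf 0x128a5b0cc) (.leaf 0xaa6a6b090)) (.node (.leaf 0x9621e9004) (.leaf 0xa227b0ea)))) (.node (.node (.node (.leaf 0x158787034) (.leaf 0x2c6ebb014)) (.node (.leaf 0x23b0cb1fe) (.leaf 0x842b064))) (.node (.node (.leaf 0x69fab084) (.leaf 0x286bf9006)) (.node (.leaf 0x25412b050) (.leaf 0x704519042)))))))) (.node (.node (.node (.node (.node (.node (.node (.leaf 0x18a11b06a) (.leaf 0x112ec90c6)) (.node (.leaf 0x579919010) (.leaf 0x2b9757020))) (.node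 (.node (.leaf 0x3f6907006) (.leaf 0x6292b084)) (.node (.leaf 0x261b5b09c) (.leaf 0x4893eb000)))) (.node (.node (.node (.leaf 0x6ed67b056) (.leaf 0x4ceccb184)) (.node (.leaf 0x1d28eb036) (.leaf 0x614f2500e))) (.node (.node (.leaf 0x195712704e) (.leaf 0x1b4dab056)) (.node (.leaf 0xbb434b000) (.leaf 0xf671b01c))))) (.node (.node (.node (.node (.leaf 0xb81eb036) (.leaf 0x4f72ab00c)) (.node (.leaf 0x3a74cb002) (.leaf 0x80037004))) (.node (.node (.leaf 0xeda83b000) (.leaf 0x33a177026)) (.node (.leaf 0x3c32d7006) (.leaf 0x39fd7026)))) (.node (.node (.node (.leaf 0x1e8277020) (.leaf 0x3d9b17026)) (.node (.leaf 0x8427900c) (.leaf 0x249ffb042))) (.node (.node (.leaf 0x611125042) (.leaf 0x3b41d9016)) (.node (.leaf 0x836637030) (.leaf 0x70cdb7014)))))) (.node (.node (.node (.node (.node (.leaf 0x14c49b114) (.leaf 0x1e90eb01c)) (.node (.leaf 0x195b69000) (.leaf 0x3615b9046))) (.node (.node (.leaf 0x6671b036) (.leaf 0x19cfeb002))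 (.node (.leaf 0xc87f47020) (.leaf 0x57a699000)))) (.node (.node (.node (.leaf 0xea80b01e) (.leaf 0x1b680b056)) (.node (.leaf 0x8c6b9024) (.leaf 0xa3aeb0fc))) (.node (.node (.leaf 0x2fc01b056) (.leaf 0xc58d900a)) (.node (.leaf 0x4b1ab0c6) (.leaf 0x304f29030))))) (.node (.node (.node (.node (.leaf 0x5b40bb0a6) (.leaf 0x58f5fb09c)) (.node (.leaf 0x64348b05c) (.leaf 0x3b5cc901c))) (.node (.node (.leaf 0x61cd65006) (.leaf 0x615e35006)) (.node (.leaf 0x52d66b042) (.leaf 0x4fcf2b144)))) (.node (.node (.node (.leaf 0x9ced3b144) (.leaf 0x24526b050)) (.node (.leaf 0x5cc6b064) (.leaf 0x3d1927030))) (.node (.node (.leaf 0x4afceb09c) (.leaf 0x11a8b0c0)) (.node (.leaf 0x2d594b024) (.leaf 0x4e6fcb05c))))))) (.node (.node (.node (.node (.node (.node (.leaf 0x6694cb144) (.leaf 0x3e6149046)) (.node (.leaf 0x4120d700a) (.leaf 0x36a49b00c))) (.node (.node (.leaf 0x32cf3b0fc) (.leaf 0x1bee8900e)) (.node (.leaf 0xa898b062) (.leaf 0x1883fb014))))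 (.node (.node (.node (.leaf 0x25038b000) (.leaf 0x401d75004)) (.node (.leaf 0x3cefe9024) (.leaf 0x52a44b002))) (.node (.node (.leaf 0x465037026) (.leaf 0x3bc147024)) (.node (.leaf 0x22c6e704e) (.leaf 0x113bc704e))))) (.node (.node (.node (.node (.leaf 0x104fab064) (.leaf 0x2a1949044)) (.node (.leaf 0x573a17000) (.leaf 0x30fa9b1d6))) (.node (.node (.leaf 0x4bf9b0d6) (.leaf 0x3c3269014)) (.node (.leaf 0x6da6db0a6) (.leaf 0xd106b044)))) (.node (.node (.node (.leaf 0x376e6b114) (.leaf 0x405909002)) (.node (.leaf 0x281af900a) (.leaf 0x3f65b900c))) (.node (.node (.leaf 0x4bf28b0a6) (.leaf 0x44d1d704e)) (.node (.leaf 0x15e0c9004) (.leaf 0x40f8b024)))))) (.node (.node (.node (.node (.node (.leaf 0x23f1fb1d6) (.leaf 0x15d9c7014)) (.node (.leaf 0x4d958b114) (.leaf 0x5532d9082))) (.node (.node (.leaf 0x12df8b0a6) (.leaf 0x2d155b0d6)) (.node (.leaf 0x3f90f9024) (.leaf 0x180f0b01c)))) (.node (.node (.node (.leaf 0x26af502a) (.leaf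 0x25d25002)) (.node (.leaf 0x282af90c6) (.leaf 0x52ba9b000))) (.node (.node (.leaf 0xb5a3b09c) (.leaf 0x6789b036)) (.node (.leaf 0x404db5010) (.leaf 0x45216900e))))) (.node (.node (.node (.node (.leaf 0x332edb042) (.leaf 0x858c9016)) (.node (.leaf 0x26e0db09c) (.leaf 0x9e0e17026))) (.node (.node (.leaf 0x1b3f39036) (.leaf 0x821eb900c)) (.node (.leaf 0x17af47034) (.leaf 0x40e025004)))) (.node (.node (.node (.leaf 0x1fa1e7030) (.leaf 0x3cdca900c)) (.node (.leaf 0x35954b09a) (.leaf 0x32efab194))) (.node (.node (.leaf 0x3eee2700e) (.leaf 0x913fb064)) (.node (.leaf 0xfb36b014) (.leaf 0x2b9149026))))))))) (.node (.node (.node (.node (.node (.node (.node (.node (.leaf 0x222149016) (.leaf 0x2b9289010)) (.node (.leaf 0x19896b01c) (.leaf 0x59db5b0fc))) (.node (.node (.leaf 0x6c78b036) (.leaf 0x77ef7b042)) (.node (.leaf 0x27b949010) (.leaf 0xfe27b901c)))) (.node (.node (.node (.leaf 0x2e12b9024) (.leaf 0x17212b0ea)) (.node (.leaf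 0x1db14b084) (.leaf 0xa97690c6))) (.node (.node (.leaf 0xb11bb09c) (.leaf 0x28ab8b184)) (.node (.leaf 0x34c689046) (.leaf 0x3bceb704e))))) (.node (.node (.node (.node (.leaf 0x116637042) (.leaf 0x183afb050)) (.node (.leaf 0xaa76900a) (.leaf 0x7877cb0c6))) (.node (.node (.leaf 0x501197024) (.leaf 0x2b9d09000)) (.node (.leaf 0x1430b14e) (.leaf 0x3e3eb00c)))) (.node (.node (.node (.leaf 0x41f5c9082) (.leaf 0xb3a45b062)) (.node (.leaf 0x1d9cbb09c) (.leaf 0x917c39006))) (.node (.node (.leaf 0x2cf3bb050) (.leaf 0x24287002)) (.node (.leaf 0x43f8f700a) (.leaf 0xe455b01e)))))) (.node (.node (.node (.node (.node (.leaf 0x9cd9b064) (.leaf 0x2dec2b0c6)) (.node (.leaf 0x3236b9006) (.leaf 0xef45b01e))) (.node (.node (.leaf 0x80c52b114) (.leaf 0x117bc9006)) (.node (.leaf 0x69b80901c) (.leaf 0x4cab390c6)))) (.node (.node (.node (.leaf 0x1fbed7000) (.leaf 0x3d5b6b144)) (.node (.leaf 0x1f6857010) (.leaf 0xc5009024))) (.node (.node (.leaf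 0x1b5a5b05c) (.leaf 0x84fbbb036)) (.node (.leaf 0x23dcf9036) (.leaf 0x157d4b184))))) (.node (.node (.node (.node (.leaf 0x6e7fb084) (.leaf 0x591e2b184)) (.node (.leaf 0x8670700a) (.leaf 0xb90b064))) (.node (.node (.leaf 0x39c92b0d6) (.leaf 0x7db6d7034)) (.node (.leaf 0xc03507014) (.leaf 0x2ece7900c)))) (.node (.node (.node (.leaf 0x2ff87002) (.leaf 0x6040bb05a)) (.node (.leaf 0x19d4e9010) (.leaf 0xb584b084))) (.node (.node (.leaf 0xdc85b064) (.leaf 0x4c9b3900a)) (.node (.leaf 0xccade9044) (.leaf 0x246b6b014))))))) (.node (.node (.node (.node (.node (.node (.leaf 0xa7f17014) (.leaf 0x1b623b1d6)) (.node (.leaf 0x568659030) (.leaf 0x3612e7026))) (.node (.node (.leaf 0xe4fe8b1d6) (.leaf 0x412307024)) (.node (.leaf 0x69e487042) (.leaf 0x750aa704e)))) (.node (.node (.node (.leaf 0x126d5b090) (.leaf 0x3de26700e)) (.node (.leaf 0x2573cb06a) (.leaf 0x24825004))) (.node (.node (.leaf 0x328289004) (.leaf 0x3d6857000)) (.node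 (.leaf 0x2fc09002) (.leaf 0x275647000))))) (.node (.node (.node (.node (.leaf 0x3694fb06a) (.leaf 0x2a9e6905c)) (.node (.leaf 0x6f87b084) (.leaf 0x484739026))) (.node (.node (.leaf 0x320b87014) (.leaf 0x500d1901c)) (.node (.leaf 0x77acb114) (.leaf 0xc2467034)))) (.node (.node (.node (.leaf 0x306a69044) (.leaf 0x89723901c)) (.node (.leaf 0x2ec287006) (.leaf 0x13b8b2dc))) (.node (.node (.leaf 0x20135010) (.leaf 0x512027006)) (.node (.leaf 0x11e2b7014) (.leaf 0x3ded09046)))))) (.node (.node (.node (.node (.node (.leaf 0x2f304b10c) (.leaf 0x4cf947014)) (.node (.leaf 0x276ebb00c) (.leaf 0x6a9f6b036))) (.node (.node (.leaf 0x52d4db06a) (.leaf 0x4b0c5b090)) (.node (.leaf 0x22509002) (.leaf 0x15d06b0ea)))) (.node (.node (.node (.leaf 0x2c4d8b002) (.leaf 0x5b0377002)) (.node (.leaf 0xc50a9004) (.leaf 0x21789b01c))) (.node (.node (.leaf 0x2c765010) (.leaf 0x26c74b09c)) (.node (.leaf 0x28a01b062) (.leaf 0x59c0fb062))))) (.node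 (.node (.node (.node (.leaf 0x27f0c7010) (.leaf 0x5395eb2dc)) (.node (.leaf 0x2b91d9046) (.leaf 0x8684901a))) (.node (.node (.leaf 0x26175004) (.leaf 0x33dc79026)) (.node (.leaf 0x76a83700e) (.leaf 0x30cd6b1fe)))) (.node (.node (.node (.leaf 0x37447b064) (.leaf 0xf0a6b050)) (.node (.leaf 0x12ec5b090) (.leaf 0x62fa2b144))) (.node (.node (.leaf 0x157c6b086) (.leaf 0xa1219004)) (.node (.leaf 0x7dc6a9006) (.leaf 0x3435d9010)))))))) (.node (.node (.node (.node (.node (.node (.node (.leaf 0x4cea39006) (.leaf 0x39f3eb024)) (.node (.leaf 0x36d10b042) (.leaf 0x8a7a704e))) (.node (.node (.leaf 0x417607042) (.leaf 0x6425fb056)) (.node (.leaf 0x462d39026) (.leaf 0x2eb9d901c)))) (.node (.node (.node (.leaf 0x21057002) (.leaf 0x8944a7006)) (.node (.leaf 0xad669006) (.leaf 0x22b087006))) (.node (.node (.leaf 0x8eea99030) (.leaf 0x4343590c6)) (.node (.leaf 0x4b737b00a) (.leaf 0x12f98b090))))) (.node (.node (.node (.node (.leaf 0x232fe900e)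 (.leaf 0x3dc4d9000)) (.node (.leaf 0x17d29b062) (.leaf 0x3c817000))) (.node (.node (.leaf 0x5be7b114) (.leaf 0x1e9f57030)) (.node (.leaf 0x4c8a29042) (.leaf 0x2809eb194)))) (.node (.node (.node (.leaf 0x3b0e1700a) (.leaf 0x975eb114)) (.node (.leaf 0x4bd7fb00a) (.leaf 0x31bfbb0c6))) (.node (.node (.leaf 0x1a61bb044) (.leaf 0x126ebb00a)) (.node (.leaf 0x199af7020) (.leaf 0x4b4c8b090)))))) (.node (.node (.node (.node (.node (.leaf 0x2499eb09a) (.leaf 0x25d57002)) (.node (.leaf 0x1e826b002) (.leaf 0x1591fb0fc))) (.node (.node (.leaf 0xf859b002) (.leaf 0xc2fc900c)) (.node (.leaf 0x30ebfb05c) (.leaf 0x61bfa5004)))) (.node (.node (.node (.leaf 0x22fd19082) (.leaf 0x546f2b002)) (.node (.leaf 0x119b99042) (.leaf 0x18cedb000))) (.node (.node (.leaf 0x3def59010) (.leaf 0x11c027006)) (.node (.leaf 0x9f5e9300a) (.leaf 0x46770700e))))) (.node (.node (.node (.node (.leaf 0x2185eb014) (.leaf 0x6d98db090)) (.node (.leaf 0xe3d8b01e)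 (.leaf 0x10e53ab0a2))) (.node (.node (.leaf 0x4802b0c6) (.leaf 0xa2fcfb2dc)) (.node (.leaf 0x16e42b036) (.leaf 0x52c6fb014)))) (.node (.node (.node (.leaf 0x15e26b194) (.leaf 0x3293b90c6)) (.node (.leaf 0x356277000) (.leaf 0xeb55b01e))) (.node (.node (.leaf 0x416899016) (.leaf 0x6096a905a)) (.node (.leaf 0x2fcb1b1fe) (.leaf 0x2e4037004))))))) (.node (.node (.node (.node (.node (.node (.leaf 0x4ea9b0d6) (.leaf 0x7f34b044)) (.node (.leaf 0x38199000) (.leaf 0x4411d9006))) (.node (.node (.leaf 0x227c79014) (.leaf 0x5617fb1fe)) (.node (.leaf 0x209a5000) (.leaf 0x4b74ab00a)))) (.node (.node (.node (.leaf 0x2ec149016) (.leaf 0x1fd1d9010)) (.node (.leaf 0x654d57006) (.leaf 0x282beb086))) (.node (.node (.leaf 0x21ed9002) (.leaf 0x2e8157042)) (.node (.leaf 0xb936b036) (.leaf 0x2aa7bb10c))))) (.node (.node (.node (.node (.leaf 0x147487b056) (.leaf 0x226757024)) (.node (.leaf 0x240b5014) (.leaf 0x35aecb050))) (.node (.node (.leaf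 0x178b0b184) (.leaf 0x1292eb00a)) (.node (.leaf 0x6c10b036) (.leaf 0x35fef9000)))) (.node (.node (.node (.leaf 0x110bb901c) (.leaf 0x8d60904e)) (.node (.leaf 0x401835006) (.leaf 0x1cba2b114))) (.node (.node (.leaf 0x4c4907034) (.leaf 0x1f9359000)) (.node (.leaf 0x2afb69030) (.leaf 0x3e66700e)))))) (.node (.node (.node (.node (.node (.leaf 0x51df37042) (.leaf 0x3bcc9046)) (.node (.leaf 0x18f8b0c0) (.leaf 0x286e5014))) (.node (.node (.leaf 0xc69a7014) (.leaf 0x237d9002)) (.node (.leaf 0x653b114) (.leaf 0x40752500e)))) (.node (.node (.node (.leaf 0x11aa99024) (.leaf 0x54a727000)) (.node (.leaf 0x64e95900e) (.leaf 0x1b230b1fe))) (.node (.node (.leaf 0x2b5587000) (.leaf 0x1305dfb01e)) (.node (.leaf 0x1b4e59036) (.leaf 0x1c821b064))))) (.node (.node (.node (.node (.leaf 0x156fdb062) (.leaf 0x1d4a6b036)) (.node (.leaf 0x246b9b01c) (.leaf 0x408ae500a))) (.node (.node (.leaf 0x112bb9004) (.leaf 0x241d0b06a)) (.node (.leaf 0x3809ab10c)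 (.leaf 0xc98ae7006)))) (.node (.node (.node (.leaf 0x274f5000) (.leaf 0x12a89db14e)) (.node (.leaf 0x5fdfab09c) (.leaf 0x44bfe901c))) (.node (.node (.leaf 0x68432b044) (.leaf 0x93cccb09c)) (.node (.leaf 0x55174700a) (.leaf 0x57b8b064))))))))))))

theorem cert3_0 : chunkB 3 cert3 0 = true := by decide +kernel

theorem cert3_1 : chunkB 3 cert3 1 = true := by decide +kernel

theorem cert3_2 : chunkB 3 cert3 2 = true := by decide +kernel

theorem cert3_3 : chunkB 3 cert3 3 = true := by decide +kernel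

theorem cert3_4 : chunkB 3 cert3 4 = true := by decide +kernel

theorem cert3_5 : chunkB 3 cert3 5 = true := by decide +kernel

theorem cert3_6 : chunkB 3 cert3 6 = true := by decide +kernel

theorem cert3_7 : chunkB 3 cert3 7 = true := by decide +kernel

theorem cert3_ok : ∀ k < 2048, itemB 3 cert3 k = true :=
  of_chunks cert3_0 cert3_1 cert3_2 cert3_3 cert3_4 cert3_5 cert3_6 cert3_7

end Cfsg.Agent.F4Square.Two
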