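import Cfsg.Agent.F4Square.Two.Setup

/-!
Certificates for the coset of the Weyl element number 4.
-/

set_option autoImplicit false
set_option maxRecDepth 100000
set_option maxHeartbeats 0
set_option Elab.async false

namespace Cfsg.Agent.F4Square.Two

/-- The certificates. -/
noncomputable def cert4 : Tree :=
  (.node (.node (.node (.node (.node (.node (.node (.node (.node (.node (.node (.leaf 0x9e2977000) (.leaf 0x497ef9044)) (.node (.leaf 0x198e0b064) (.leaf 0xa211b00c))) (.node (.node (.leaf 0x14f6db056) (.leaf 0x1fdcb9024)) (.node (.leaf 0x40921b17a) (.leaf 0x5b3469024)))) (.node (.node (.node (.leaf 0x3ee98b0fc) (.leaf 0x69671b002)) (.node (.leaf 0x1e14ab0c6) (.leaf 0x4b6529014))) (.node (.node (.leaf 0xffb4b044) (.leaf 0x11988b09a)) (.node (.leaf 0x459cb01c) (.leaf 0x91a6b002))))) (.node (.node (.node (.node (.leaf 0x6478ab2dc) (.leaf 0x131b9b2dc)) (.node (.leaf 0x1dd14900e) (.leaf 0x4b5007024))) (.node (.node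 (.leaf 0x2ad24900e) (.leaf 0x7c0c8b062)) (.node (.leaf 0x4b79a9024) (.leaf 0x6128b050)))) (.node (.node (.node (.leaf 0x317a97004) (.leaf 0x1580e9044)) (.node (.leaf 0x5eabb1fe) (.leaf 0x182d090c6))) (.node (.node (.leaf 0x10364b084) (.leaf 0x3746fb184)) (.node (.leaf 0x6af499030) (.leaf 0x1f4a7900c)))))) (.node (.node (.node (.node (.node (.leaf 0x14807b056) (.leaf 0xdab6b09c)) (.node (.leaf 0x1a414b05c) (.leaf 0x70c549004))) (.node (.node (.leaf 0x6a5b6b05c) (.leaf 0x31c599014)) (.node (.leaf 0x1b4d4b01e) (.leaf 0x1fd559082)))) (.node (.node (.node (.leaf 0x806a1500a) (.leaf 0xaf89b144)) (.node (.leaf 0xd319b084) (.leaf 0x4b636900c))) (.node (.node (.leaf 0x7258e900c) (.leaf 0x2d41bb0d6)) (.node (.leaf 0x110837010) (.leaf 0x38a7b05c))))) (.node (.node (.node (.node (.leaf 0x785e3b14e) (.leaf 0x23d979026)) (.node (.leaf 0x2a82f9036) (.leaf 0xa8fb084))) (.node (.node (.leaf 0x1cd72b09a) (.leaf 0x1214d7030)) (.node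 (.leaf 0x55f59044) (.leaf 0x17708700a)))) (.node (.node (.node (.leaf 0x283fb01c) (.leaf 0x68ebf7000)) (.node (.leaf 0x45bb0b01e) (.leaf 0x3eff3b184))) (.node (.node (.leaf 0x31849030) (.leaf 0x44496b05c)) (.node (.leaf 0x7e219026) (.leaf 0x452bdb01e))))))) (.node (.node (.node (.node (.node (.node (.leaf 0x328b5b064) (.leaf 0xc6b70b2dc)) (.node (.leaf 0x35c00b184) (.leaf 0x4a358900e))) (.node (.node (.leaf 0x33718b09a) (.leaf 0x557987006)) (.node (.leaf 0x160fdb05a) (.leaf 0x7cb17026)))) (.node (.node (.node (.leaf 0xae779046) (.leaf 0x5b5be7004)) (.node (.leaf 0x45a7b09a) (.leaf 0xb301b05c))) (.node (.node (.leaf 0x540269006) (.leaf 0x1b751b01e)) (.node (.leaf 0x14805900e) (.leaf 0x31deb1fe))))) (.node (.node (.node (.node (.leaf 0x22e79010) (.leaf 0x2b855b144)) (.node (.leaf 0x127d5b050) (.leaf 0xc08e7900c))) (.node (.node (.leaf 0x141ce9036) (.leaf 0xc601904e)) (.node (.leaf 0x515b9044) (.leaf 0x305a5b01e))))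 (.node (.node (.node (.leaf 0x543179042) (.leaf 0x375f5b086)) (.node (.leaf 0x1e4f1b0d6) (.leaf 0x3cdb57020))) (.node (.node (.leaf 0x1f1737004) (.leaf 0x2fea9900e)) (.node (.leaf 0x1cd80b06a) (.leaf 0x4fcbdb1fe)))))) (.node (.node (.node (.node (.node (.leaf 0x9cbe9b00a) (.leaf 0xcd11700a)) (.node (.leaf 0x20bddb056) (.leaf 0x8094b7002))) (.node (.node (.leaf 0x726957006) (.leaf 0x3701ab062)) (.node (.leaf 0x1bc41b01e) (.leaf 0x3856f9000)))) (.node (.node (.node (.leaf 0x89c2b2dc) (.leaf 0x495fb014)) (.node (.leaf 0x122567000) (.leaf 0xb9419036))) (.node (.node (.leaf 0x26b225014) (.leaf 0x23470b144)) (.node (.leaf 0xa5dc8b00a) (.leaf 0x9d851900e))))) (.node (.node (.node (.node (.leaf 0x790e7030) (.leaf 0x5b0347042)) (.node (.leaf 0x6d8c5b184) (.leaf 0x169763004))) (.node (.node (.leaf 0x2612b5000) (.leaf 0x3654bb09a)) (.node (.leaf 0x156389044) (.leaf 0x1c20b114)))) (.node (.node (.node (.leaf 0x5d22b05c) (.leaf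 0x9e85f9000)) (.node (.leaf 0x301f8b01e) (.leaf 0x2b08db00c))) (.node (.node (.leaf 0x704df90c6) (.leaf 0x1194b9010)) (.node (.leaf 0x8e68f900a) (.leaf 0x21195b0c0)))))))) (.node (.node (.node (.node (.node (.node (.node (.leaf 0xc8e22b050) (.leaf 0x6ec2a9000)) (.node (.leaf 0x224dfb0c0) (.leaf 0x29e41b06a))) (.node (.node (.leaf 0x42b64b0c6) (.leaf 0x408a1b17a)) (.node (.leaf 0x17466704e) (.leaf 0x265fd7002)))) (.node (.node (.node (.leaf 0x4b2627004) (.leaf 0x36b4db06a)) (.node (.leaf 0xda4b036) (.leaf 0x1fcc1901c))) (.node (.node (.leaf 0x20a4f900e) (.leaf 0x2f96fb056)) (.node (.leaf 0x49b599030) (.leaf 0xb0fbb1d6))))) (.node (.node (.node (.node (.leaf 0x72d30901c) (.leaf 0x407db06a)) (.node (.leaf 0x43632b000) (.leaf 0x15407b05c))) (.node (.node (.leaf 0x181d0900a) (.leaf 0xf67cb114)) (.node (.leaf 0x41b3c7020) (.leaf 0x1bbd4b01e)))) (.node (.node (.node (.leaf 0x1b184b01e) (.leaf 0x27d27b036)) (.node (.leaf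 0x8c4797026) (.leaf 0x84399b056))) (.node (.node (.leaf 0x393e2b184) (.leaf 0x6bab7000)) (.node (.leaf 0x44be19030) (.leaf 0x922d7030)))))) (.node (.node (.node (.node (.node (.leaf 0x6353eb050) (.leaf 0x3537ab086)) (.node (.leaf 0x3ea0db194) (.leaf 0x557a37004))) (.node (.node (.leaf 0x2f911b056) (.leaf 0x16a94b05a)) (.node (.leaf 0x2a6f7010) (.leaf 0x1c0cab014)))) (.node (.node (.node (.leaf 0x38e67b002) (.leaf 0x13c61b14e)) (.node (.leaf 0x24f11901a) (.leaf 0x2b1a39046))) (.node (.node (.leaf 0x2676d7002) (.leaf 0x456e0b01e)) (.node (.leaf 0x1d1ba900e) (.leaf 0x37e55b194))))) (.node (.node (.node (.node (.leaf 0x12ed6b002) (.leaf 0x238b29046)) (.node (.leaf 0x835009016) (.leaf 0x346e9044))) (.node (.node (.leaf 0x61188901a) (.leaf 0x10168db14e)) (.node (.leaf 0x9c7fe9002) (.leaf 0x28403b064)))) (.node (.node (.node (.leaf 0x1878a700a) (.leaf 0x60034b09a)) (.node (.leaf 0x89d6b3004) (.leaf 0x27c5ab09c))) (.node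 (.node (.leaf 0x84c37b056) (.leaf 0x4f438b05c)) (.node (.leaf 0x9c21ab0a6) (.leaf 0x1a2549036))))))) (.node (.node (.node (.node (.node (.node (.leaf 0x5897d905a) (.leaf 0x4c5457004)) (.node (.leaf 0x77c87020) (.leaf 0x1a456b1d6))) (.node (.node (.leaf 0x632bb002) (.leaf 0x1fd097024)) (.node (.leaf 0xa719700e) (.leaf 0xbea9b10c)))) (.node (.node (.node (.leaf 0xd629a7020) (.leaf 0x73376b00a)) (.node (.leaf 0x7c0c9b184) (.leaf 0xca7b084))) (.node (.node (.leaf 0x95267000) (.leaf 0x164403000)) (.node (.leaf 0x1dd02b056) (.leaf 0x21cb036))))) (.node (.node (.node (.node (.leaf 0x108af6b042) (.leaf 0x29cdbb014)) (.node (.leaf 0x3d589044) (.leaf 0x2e372b114))) (.node (.node (.leaf 0x9656d7006) (.leaf 0xbdf06b0c0)) (.node (.leaf 0x26c559002) (.leaf 0x350dab194)))) (.node (.node (.node (.leaf 0x54336900a) (.leaf 0x42f53b0d6)) (.node (.leaf 0x1b341b01e) (.leaf 0x37c35b0ea))) (.node (.node (.leaf 0x22ccfb0c0) (.leaf 0x319329016))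 (.node (.leaf 0x16605b05a) (.leaf 0x579f8b114)))))) (.node (.node (.node (.node (.node (.leaf 0x34a779044) (.leaf 0x38874b050)) (.node (.leaf 0x5ab9cb084) (.leaf 0x1761c901a))) (.node (.node (.leaf 0x4e88b9044) (.leaf 0x107d6b036)) (.node (.leaf 0x1d0ecb056) (.leaf 0x4de31b2dc)))) (.node (.node (.node (.leaf 0x168c33004) (.leaf 0x7a556b194)) (.node (.leaf 0x35213b0fc) (.leaf 0xebbbbb14e))) (.node (.node (.leaf 0x27545b084) (.leaf 0xec6bb2dc)) (.node (.leaf 0x2f397900e) (.leaf 0x27467020))))) (.node (.node (.node (.node (.leaf 0x6e162b002) (.leaf 0x1fefc7006)) (.node (.leaf 0x2364b09a) (.leaf 0x11dda7020))) (.node (.node (.leaf 0x8ad2ab086) (.leaf 0x5bf247024)) (.node (.leaf 0x43ba77026) (.leaf 0xa27a9026)))) (.node (.node (.node (.leaf 0xc843704e) (.leaf 0xd653b036)) (.node (.leaf 0x53803b194) (.leaf 0x12e8b044))) (.node (.node (.leaf 0x2cde8b06a) (.leaf 0x6df07030)) (.node (.leaf 0x14f6f900e) (.leaf 0x41ad57026)))))))))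 (.node (.node (.node (.node (.node (.node (.node (.node (.leaf 0x55f5a704e) (.leaf 0x343239030)) (.node (.leaf 0x805f45002) (.leaf 0xd2087b1d6))) (.node (.node (.leaf 0x7f919905c) (.leaf 0x2bb53b000)) (.node (.leaf 0xcf647024) (.leaf 0x1786d901c)))) (.node (.node (.node (.leaf 0x69137010) (.leaf 0x2edb3b064)) (.node (.leaf 0xa05d4b2dc) (.leaf 0xae4337000))) (.node (.node (.leaf 0x7eb2700e) (.leaf 0x4924b002)) (.node (.leaf 0x1fe3c904e) (.leaf 0x297cdb000))))) (.node (.node (.node (.node (.leaf 0x61b5d9082) (.leaf 0x76da39026)) (.node (.leaf 0x2a009b10c) (.leaf 0x92aca7026))) (.node (.node (.leaf 0x29977000) (.leaf 0x3cc9d9046)) (.node (.leaf 0x1d179b10c) (.leaf 0x33d4905c)))) (.node (.node (.node (.leaf 0x4c08eb062) (.leaf 0x78709046)) (.node (.leaf 0x1864d9042) (.leaf 0x55c0b1d6))) (.node (.node (.leaf 0x7da57000) (.leaf 0x4e49b000)) (.node (.leaf 0x14cc837000) (.leaf 0xb67cb056)))))) (.node (.node (.node (.node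 (.node (.leaf 0xa11f8b1fe) (.leaf 0x2a17b002)) (.node (.leaf 0xa4fbb06a) (.leaf 0xb3717b044))) (.node (.node (.leaf 0x17aaf7004) (.leaf 0x2c332b050)) (.node (.leaf 0x1633eb08a) (.leaf 0x4a96db10c)))) (.node (.node (.node (.leaf 0x3b704b036) (.leaf 0x67c9fb0c0)) (.node (.leaf 0x350db900a) (.leaf 0xc6c17006))) (.node (.node (.leaf 0x5a57905c) (.leaf 0x1fb6c700a)) (.node (.leaf 0x455e8b01e) (.leaf 0xaac329024))))) (.node (.node (.node (.node (.leaf 0x60ad47030) (.leaf 0x124feb01c)) (.node (.leaf 0x396f7901a) (.leaf 0x14ad8b05c))) (.node (.node (.leaf 0x18f1d9024) (.leaf 0xa7ab084)) (.node (.leaf 0x38d1f7010) (.leaf 0x74cd7010)))) (.node (.node (.node (.leaf 0x440f1905c) (.leaf 0x9fe77020)) (.node (.leaf 0x125269010) (.leaf 0xbf92b056))) (.node (.node (.leaf 0x1a081900e) (.leaf 0x28612b114)) (.node (.leaf 0x1a3c69036) (.leaf 0x3874fb01c))))))) (.node (.node (.node (.node (.node (.node (.leaf 0x30cedb01e) (.leaf 0x9a173b042))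 (.node (.leaf 0x38cf67020) (.leaf 0x18fbb7042))) (.node (.node (.leaf 0x12d2db09a) (.leaf 0x3e20f9082)) (.node (.leaf 0x2b4367026) (.leaf 0xc3fc901c)))) (.node (.node (.node (.leaf 0x179049016) (.leaf 0x34dd1905c)) (.node (.leaf 0x7adb036) (.leaf 0x199bab064))) (.node (.node (.leaf 0x245b8901c) (.leaf 0xb565e700a)) (.node (.leaf 0x1bf59b01e) (.leaf 0x313dcb0fc))))) (.node (.node (.node (.node (.leaf 0x7062b144) (.leaf 0x302f0b01e)) (.node (.leaf 0x37b0b9082) (.leaf 0x40634b17a))) (.node (.node (.leaf 0x415aab144) (.leaf 0x307fdb01e)) (.node (.leaf 0x3cba89010) (.leaf 0x53c02900a)))) (.node (.node (.node (.leaf 0x26d335002) (.leaf 0xab9db014)) (.node (.leaf 0x1c2b084) (.leaf 0x2fe04b10c))) (.node (.node (.leaf 0x97b4eb0c0) (.leaf 0x4dc21b0c0)) (.node (.leaf 0x352547034) (.leaf 0x52425b0c0)))))) (.node (.node (.node (.node (.node (.leaf 0x275f9000) (.leaf 0x58ca6b05a)) (.node (.leaf 0x8b43b2dc) (.leaf 0x372ca9016)))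 (.node (.node (.leaf 0x41d6b042) (.leaf 0x1eda1b0d6)) (.node (.leaf 0x190e3b044) (.leaf 0x143989036)))) (.node (.node (.node (.leaf 0x1014cb084) (.leaf 0x658f07002)) (.node (.leaf 0x117f39000) (.leaf 0x32bdb1d6))) (.node (.node (.leaf 0x1547a905c) (.leaf 0x1659bb08a)) (.node (.leaf 0x74c849036) (.leaf 0x729b9901a))))) (.node (.node (.node (.node (.leaf 0xa9d1fb044) (.leaf 0xc2fd9016)) (.node (.leaf 0xa3b9d5004) (.leaf 0xb82a900e))) (.node (.node (.leaf 0x68a87b01c) (.leaf 0xd8946b1d6)) (.node (.leaf 0x412b17010) (.leaf 0x6fd14b01e)))) (.node (.node (.node (.leaf 0xd371b084) (.leaf 0x4e2fcb1d6)) (.node (.leaf 0x3bda9030) (.leaf 0x3ee3e9016))) (.node (.node (.leaf 0x1cd31b002) (.leaf 0x229cb050)) (.node (.leaf 0x48bd3b000) (.leaf 0x2a9ffb1d6)))))))) (.node (.node (.node (.node (.node (.node (.node (.leaf 0xa157d9036) (.leaf 0xcdb4b9014)) (.node (.leaf 0x658035010) (.leaf 0xa9aa7026))) (.node (.node (.leaf 0x69919b01c)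 (.leaf 0xdec6b7026)) (.node (.leaf 0x1c21ab050) (.leaf 0x7c68d7034)))) (.node (.node (.node (.leaf 0x366d9b000) (.leaf 0x169833000)) (.node (.leaf 0x80fefb0a6) (.leaf 0x7efd290c6))) (.node (.node (.leaf 0x1a427900e) (.leaf 0xe4534b084)) (.node (.leaf 0x92ceb01c) (.leaf 0x466a5b0d6))))) (.node (.node (.node (.node (.leaf 0x1dd919036) (.leaf 0x18579900c)) (.node (.leaf 0x10cbeb036) (.leaf 0xe62ab2dc))) (.node (.node (.leaf 0x11370b050) (.leaf 0x18ec09006)) (.node (.leaf 0xa37abb0cc) (.leaf 0x3520a9042)))) (.node (.node (.node (.leaf 0x16216b08a) (.leaf 0x454e5b01e)) (.node (.leaf 0x1dcd1b05c) (.leaf 0x3c5b036))) (.node (.node (.leaf 0x9c169010) (.leaf 0x2ab31b05c)) (.node (.leaf 0x225eeb0c0) (.leaf 0x12a177020)))))) (.node (.node (.node (.node (.node (.leaf 0x166003004) (.leaf 0x241cd7006)) (.node (.leaf 0x3c4207010) (.leaf 0x4e5679030))) (.node (.node (.leaf 0x80b339002) (.leaf 0x1bbdcb01e)) (.node (.leaf 0x63d0b09a)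 (.leaf 0x4b36d700a)))) (.node (.node (.node (.leaf 0x54ea7b086) (.leaf 0x951c49044)) (.node (.leaf 0x9275bb06a) (.leaf 0xdf7bb036))) (.node (.node (.leaf 0x3f4fb10c) (.leaf 0x312a2b062)) (.node (.leaf 0x2b617b06a) (.leaf 0x3c8d87000))))) (.node (.node (.node (.node (.leaf 0x54767b0ea) (.leaf 0x55b48700a)) (.node (.leaf 0x5a964b084) (.leaf 0x13ee9b0c0))) (.node (.node (.leaf 0x31021b086) (.leaf 0xa887b000)) (.node (.leaf 0x33a387030) (.leaf 0x730b8b0cc)))) (.node (.node (.node (.leaf 0x1147b7000) (.leaf 0x5f079030)) (.node (.leaf 0x5ee34b044) (.leaf 0xc2fa7004))) (.node (.node (.leaf 0x2a1719036) (.leaf 0x17be57024)) (.node (.leaf 0x3733f7024) (.leaf 0xca347042))))))) (.node (.node (.node (.node (.node (.node (.leaf 0x42903b0d6) (.leaf 0x20da8b05c)) (.node (.leaf 0xd50eb09c) (.leaf 0x31e01b194))) (.node (.node (.leaf 0x13e31b14e) (.leaf 0x7b3e1b05c)) (.node (.leaf 0x350087014) (.leaf 0x40c64b17a)))) (.node (.node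 (.node (.leaf 0x1a1dfb056) (.leaf 0x398a905c)) (.node (.leaf 0x6b43b01c) (.leaf 0x1d5dcb1fe))) (.node (.node (.leaf 0xbf84900e) (.leaf 0x26e33500e)) (.node (.leaf 0x303edb01e) (.leaf 0x107649b090))))) (.node (.node (.node (.node (.leaf 0x779bbb044) (.leaf 0x27b0fb036)) (.node (.leaf 0x1512a9030) (.leaf 0x955c09030))) (.node (.node (.leaf 0x9f9e7010) (.leaf 0x15b5db1d6)) (.node (.leaf 0x18b5a7006) (.leaf 0x29cb8b002)))) (.node (.node (.node (.leaf 0x58a67905a) (.leaf 0x300fdb01e)) (.node (.leaf 0x787d9000) (.leaf 0x1b859b01e))) (.node (.node (.leaf 0xb1be6500a) (.leaf 0x2efeab044)) (.node (.leaf 0x5b8ab10c) (.leaf 0x14d9db1fe)))))) (.node (.node (.node (.node (.node (.leaf 0x180739004) (.leaf 0xce929024)) (.node (.leaf 0x2c3c9b002) (.leaf 0x170c19082))) (.node (.node (.leaf 0x58e4a905a) (.leaf 0x48377b06a)) (.node (.leaf 0xb46b9036) (.leaf 0x4b63d904e)))) (.node (.node (.node (.leaf 0xb95c5b144) (.leaf 0x74559010))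 (.node (.leaf 0x2429e9024) (.leaf 0x172987006))) (.node (.node (.leaf 0x48fc67026) (.leaf 0x24b469014)) (.node (.leaf 0x2b047030) (.leaf 0x3e382904e))))) (.node (.node (.node (.node (.leaf 0x2bfd4b042) (.leaf 0xa5ba0500e)) (.node (.leaf 0x114a87030) (.leaf 0x5b01905c))) (.node (.node (.leaf 0x24a207024) (.leaf 0x1c94cb000)) (.node (.leaf 0xc9de900c) (.leaf 0x47c1cb09c)))) (.node (.node (.node (.leaf 0x9f0db09a) (.leaf 0x408fb050)) (.node (.leaf 0x8c8f2700e) (.leaf 0x64e0bb2dc))) (.node (.node (.leaf 0x6a0a7020) (.leaf 0x49528b1d6)) (.node (.leaf 0xa478b042) (.leaf 0x260f75006)))))))))) (.node (.node (.node (.node (.node (.node (.node (.node (.node (.leaf 0x3d2d9036) (.leaf 0x29f387000)) (.node (.leaf 0x29f107010) (.leaf 0x1b738b01e))) (.node (.node (.leaf 0x155d7b1d6) (.leaf 0x13adb064)) (.node (.leaf 0xb7bf09016) (.leaf 0xa53e9010)))) (.node (.node (.node (.leaf 0x6f20db01e) (.leaf 0x26294b090)) (.node (.leaf 0xbfce905c)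 (.leaf 0x30de9b01e))) (.node (.node (.leaf 0x2a7369044) (.leaf 0xf0937b062)) (.node (.leaf 0x14fb7b1fe) (.leaf 0x3b30cb09c))))) (.node (.node (.node (.node (.leaf 0x83cd1b184) (.leaf 0x110d5b042)) (.node (.leaf 0x632159026) (.leaf 0x165f73006))) (.node (.node (.leaf 0x459f1b01e) (.leaf 0x43799046)) (.node (.leaf 0x80a5fb090) (.leaf 0x25978b036)))) (.node (.node (.node (.leaf 0x3afe6b044) (.leaf 0x6c229046)) (.node (.leaf 0xdb73b09c) (.leaf 0x1b428b01e))) (.node (.node (.leaf 0x422c2b0d6) (.leaf 0x164223006)) (.node (.leaf 0x6126e900a) (.leaf 0x9ba8b9000)))))) (.node (.node (.node (.node (.node (.leaf 0x3577b1d6) (.leaf 0x1e7dfb0c6)) (.node (.leaf 0x3e0427006) (.leaf 0x33916b06a))) (.node (.node (.leaf 0x1e5b09c) (.leaf 0x70ddb01c)) (.node (.leaf 0x171fd7014) (.leaf 0x2eb2b06a)))) (.node (.node (.node (.leaf 0x4ed6cb05c) (.leaf 0x1ceb17000)) (.node (.leaf 0x64b02b14e) (.leaf 0x10ab3b036))) (.node (.node (.leaf 0x180fbb184)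 (.leaf 0xc85390c6)) (.node (.leaf 0x34da0b05c) (.leaf 0x5a0c5b084))))) (.node (.node (.node (.node (.leaf 0x7e282704e) (.leaf 0x9dcf9046)) (.node (.leaf 0x15ccd9036) (.leaf 0x58aaab08a))) (.node (.node (.leaf 0xcf53900a) (.leaf 0x1a5c4b1d6)) (.node (.leaf 0x22f9fb2dc) (.leaf 0x848beb05c)))) (.node (.node (.node (.leaf 0x90d6fb05a) (.leaf 0x16162300a)) (.node (.leaf 0x374959024) (.leaf 0x8b03b0c0))) (.node (.node (.leaf 0x17a6d9004) (.leaf 0x3ef7b9004)) (.node (.leaf 0x21418b0c0) (.leaf 0x2cd549046))))))) (.node (.node (.node (.node (.node (.node (.leaf 0xf2984b0c0) (.leaf 0x11c42b000)) (.node (.leaf 0x9371a9004) (.leaf 0xa8f67010))) (.node (.node (.leaf 0x37e437034) (.leaf 0x649cb00c)) (.node (.leaf 0x26f53b00a) (.leaf 0x7897ab2dc)))) (.node (.node (.node (.leaf 0x40349b17a) (.leaf 0x27547b09c)) (.node (.leaf 0xbed1b1d6) (.leaf 0x5ff2b1d6))) (.node (.node (.leaf 0x708467004) (.leaf 0x1fd6bb0ea)) (.node (.leaf 0x35a8b704e)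 (.leaf 0x26bc1b090))))) (.node (.node (.node (.node (.leaf 0x121c1b144) (.leaf 0x28638b044)) (.node (.leaf 0x552a4b062) (.leaf 0x1f4ab114))) (.node (.node (.leaf 0x336db05c) (.leaf 0x1fbabb086)) (.node (.leaf 0x9d6a7b1fe) (.leaf 0xcb2c7014)))) (.node (.node (.node (.leaf 0xb298905c) (.leaf 0x2042eb05c)) (.node (.leaf 0x164e1905a) (.leaf 0x1cf7c9046))) (.node (.node (.leaf 0x31444900a) (.leaf 0x8cdb09c)) (.node (.leaf 0x48e7db09a) (.leaf 0x9ea9b00c)))))) (.node (.node (.node (.node (.node (.leaf 0x202c99030) (.leaf 0x1c1299000)) (.node (.leaf 0x170479042) (.leaf 0x6d4a8904e))) (.node (.node (.leaf 0x6eed5b00c) (.leaf 0x25e4bb084)) (.node (.leaf 0x714d3b1d6) (.leaf 0x2ce37026)))) (.node (.node (.node (.leaf 0x33170b014) (.leaf 0x1efe4b0d6)) (.node (.leaf 0xcdfc9004) (.leaf 0x49db8b05c))) (.node (.node (.leaf 0x6873c700e) (.leaf 0x309bcb01e)) (.node (.leaf 0x6444b144) (.leaf 0xc9a747006))))) (.node (.node (.node (.node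 (.leaf 0x142a99030) (.leaf 0x15d8db05c)) (.node (.leaf 0x73826502a) (.leaf 0x232537010))) (.node (.node (.leaf 0x24a687014) (.leaf 0x7973eb194)) (.node (.leaf 0x2ba1b042) (.leaf 0x12519b00c)))) (.node (.node (.node (.leaf 0x1448eb05c) (.leaf 0x2b2d2b01c)) (.node (.leaf 0x9d71b144) (.leaf 0x23643b01c))) (.node (.node (.leaf 0x27e64b084) (.leaf 0x16919905a)) (.node (.leaf 0x36a7c9000) (.leaf 0x13dcf99036)))))))) (.node (.node (.node (.node (.node (.node (.node (.leaf 0x47bd6b084) (.leaf 0x3512d904e)) (.node (.leaf 0x394467034) (.leaf 0x586c2b08a))) (.node (.node (.leaf 0x1f40bb194) (.leaf 0x16090300e)) (.node (.leaf 0xeab3b14e) (.leaf 0xb59e9030)))) (.node (.node (.node (.leaf 0x39a8b1fe) (.leaf 0x296fd9046)) (.node (.leaf 0xab5f7020) (.leaf 0x43dac7030))) (.node (.node (.leaf 0x61b79026) (.leaf 0x54f8b10c)) (.node (.leaf 0x450a1b01e) (.leaf 0xb155db090))))) (.node (.node (.node (.node (.leaf 0x5d9b7b0c0) (.leaf 0x29357700e))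 (.node (.leaf 0x72882b0ea) (.leaf 0x1ce5eb00c))) (.node (.node (.leaf 0x17d897034) (.leaf 0x2aa189030)) (.node (.leaf 0x1bb28b01e) (.leaf 0x12a51700e)))) (.node (.node (.node (.leaf 0x3e2ab7014) (.leaf 0x3936a9004)) (.node (.leaf 0x235bcb09a) (.leaf 0x2482f90c6))) (.node (.node (.leaf 0x7d56b014) (.leaf 0xccc29042)) (.node (.leaf 0x1f092b0fc) (.leaf 0x2b24a9010)))))) (.node (.node (.node (.node (.node (.leaf 0x9a2897010) (.leaf 0x50a527020)) (.node (.leaf 0x2d4cab0d6) (.leaf 0x131fcb0c0))) (.node (.node (.leaf 0x2657eb00a) (.leaf 0x45af1b01e)) (.node (.leaf 0x74b239044) (.leaf 0x24f2f900a)))) (.node (.node (.node (.leaf 0x865ab14e) (.leaf 0xc280db062)) (.node (.leaf 0x4b793b0fc) (.leaf 0x2c9eb000))) (.node (.node (.leaf 0x46f31b024) (.leaf 0x143ed9044)) (.node (.leaf 0x8b1c3b0a6) (.leaf 0x15c88b1fe))))) (.node (.node (.node (.node (.leaf 0x7674f9000) (.leaf 0x2b281b09a)) (.node (.leaf 0x67d4700e) (.leaf 0x91e1700e)))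 (.node (.node (.leaf 0x40549010) (.leaf 0xd7eeb036)) (.node (.leaf 0x11be0b014) (.leaf 0x453c9000)))) (.node (.node (.node (.leaf 0x1b925b01e) (.leaf 0x5ba26b086)) (.node (.leaf 0x30cb9b01e) (.leaf 0xc61a5b14e))) (.node (.node (.leaf 0x41d08b06a) (.leaf 0x1ade5905c)) (.node (.leaf 0x60e42b000) (.leaf 0x54d61901c))))))) (.node (.node (.node (.node (.node (.node (.leaf 0x734da5006) (.leaf 0x29b0fb00c)) (.node (.leaf 0x418c7010) (.leaf 0x7de4b06a))) (.node (.node (.leaf 0xe43ab0c0) (.leaf 0x2da86b024)) (.node (.leaf 0x2c2feb144) (.leaf 0x5845b1fe)))) (.node (.node (.node (.leaf 0x110709700e) (.leaf 0x113377026)) (.node (.leaf 0x3be24b09c) (.leaf 0x17e3690c6))) (.node (.node (.leaf 0x5b874b184) (.leaf 0x5081b7010)) (.node (.leaf 0x897b5905a) (.leaf 0x452b4b01e))))) (.node (.node (.node (.node (.leaf 0x5502bb086) (.leaf 0x982edb00c)) (.node (.leaf 0x30abcb01e) (.leaf 0x4ffc6b10c))) (.node (.node (.leaf 0x167c0905a) (.leaf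 0x14c879044)) (.node (.leaf 0x11386b06a) (.leaf 0xd088b084)))) (.node (.node (.node (.leaf 0x7b51c9044) (.leaf 0x2cb617010)) (.node (.leaf 0x94a69b056) (.leaf 0x18d3db0ea))) (.node (.node (.leaf 0x2fe5d9030) (.leaf 0x4373b00c)) (.node (.leaf 0xa4b5b09a) (.leaf 0x21d80b14e)))))) (.node (.node (.node (.node (.node (.leaf 0x297a09000) (.leaf 0xa870bb01c)) (.node (.leaf 0x367299046) (.leaf 0x1a76b905c))) (.node (.node (.leaf 0x6a8e89036) (.leaf 0x722bbb0fc)) (.node (.leaf 0x29687b144) (.leaf 0x2c8497000)))) (.node (.node (.node (.leaf 0x3ac5b10c) (.leaf 0x635c57026)) (.node (.leaf 0x6b49bb14e) (.leaf 0x2278fb2dc))) (.node (.node (.leaf 0x800ab14e) (.leaf 0x2a78c9044)) (.node (.leaf 0x556ebb0ea) (.leaf 0x260cb014))))) (.node (.node (.node (.node (.leaf 0x5c8deb2dc) (.leaf 0x429edb0c6)) (.node (.leaf 0x52509036) (.leaf 0x8b13b0c0))) (.node (.node (.leaf 0x17d36900a) (.leaf 0x292c89010)) (.node (.leaf 0x305acb01e) (.leaf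 0x13ebcb2dc)))) (.node (.node (.node (.leaf 0x840b79044) (.leaf 0x4efbb144)) (.node (.leaf 0x31b4490c6) (.leaf 0x7a3d9904e))) (.node (.node (.leaf 0xe2a3b14e) (.leaf 0x4aa47000)) (.node (.leaf 0x34535b1fe) (.leaf 0x16ba8905a))))))))) (.node (.node (.node (.node (.node (.node (.node (.node (.leaf 0x164cab05a) (.leaf 0x1a15f9044)) (.node (.leaf 0x5a73ab09c) (.leaf 0x34a85b056))) (.node (.node (.leaf 0x48ee29000) (.leaf 0x7f937b056)) (.node (.leaf 0x44fb5b056) (.leaf 0x316cd900c)))) (.node (.node (.node (.leaf 0x4b2587014) (.leaf 0x4a2ea905c)) (.node (.leaf 0x46ea1b024) (.leaf 0x5a75b056))) (.node (.node (.leaf 0xaeceb002) (.leaf 0x89cbfb05a)) (.node (.leaf 0x117e79026) (.leaf 0x1fa5a900a))))) (.node (.node (.node (.node (.leaf 0x9b10b042) (.leaf 0x2c9ec7020)) (.node (.leaf 0x2335c7030) (.leaf 0x14c93905c))) (.node (.node (.leaf 0x5488c700a) (.leaf 0x4fa09026)) (.node (.leaf 0x1f95a90c6) (.leaf 0x3f56900e)))) (.node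 (.node (.node (.leaf 0x3389cb144) (.leaf 0x65862b00a)) (.node (.leaf 0x23dd4b050) (.leaf 0x7345b5004))) (.node (.node (.leaf 0x303b1b01e) (.leaf 0x4075cb17a)) (.node (.leaf 0x4b6c89004) (.leaf 0x6ff45b01e)))))) (.node (.node (.node (.node (.node (.leaf 0x12df0b042) (.leaf 0x2b3a17030)) (.node (.leaf 0x44b0fb056) (.leaf 0xfe0993002))) (.node (.node (.leaf 0x460cbb0c6) (.leaf 0xc752b194)) (.node (.leaf 0x5baac9004) (.leaf 0x15e76900e)))) (.node (.node (.node (.leaf 0x6fcd8b01e) (.leaf 0xf0b6b044)) (.node (.leaf 0x94aacb10c) (.leaf 0x31d6b7034))) (.node (.node (.leaf 0xdbcb09c) (.leaf 0x2808700e)) (.node (.leaf 0xb1fc9044) (.leaf 0x20339026))))) (.node (.node (.node (.node (.leaf 0x1b830b01e) (.leaf 0x16820b08a)) (.node (.leaf 0x84243905c) (.leaf 0x31a3f9004))) (.node (.node (.leaf 0x1aeafb1fe) (.leaf 0x664deb0c6)) (.node (.leaf 0x51f43b044) (.leaf 0x7a4197006)))) (.node (.node (.node (.leaf 0x8e8bb14e) (.leaf 0x43477030))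 (.node (.leaf 0x17fb5b184) (.leaf 0x629db042))) (.node (.node (.leaf 0x26174b0a6) (.leaf 0x214d0b14e)) (.node (.leaf 0x2b479b050) (.leaf 0xc8cbb0fc))))))) (.node (.node (.node (.node (.node (.node (.leaf 0x458fcb01e) (.leaf 0x12b8fb000)) (.node (.leaf 0x4ff379044) (.leaf 0x3fd90b000))) (.node (.node (.leaf 0xbbdff7002) (.leaf 0x5b6f790c6)) (.node (.leaf 0x186369016) (.leaf 0x2cca57026)))) (.node (.node (.node (.leaf 0xe7e2b14e) (.leaf 0x2a4e29030)) (.node (.leaf 0x6a677026) (.leaf 0xdb8d89006))) (.node (.node (.leaf 0x4e40bb056) (.leaf 0xaa6abb0fc)) (.node (.leaf 0x7a40b000) (.leaf 0xd616b036))))) (.node (.node (.node (.node (.leaf 0x2d156b024) (.leaf 0x7c45b9024)) (.node (.leaf 0x8282b0c0) (.leaf 0x3df28b114))) (.node (.node (.leaf 0x55a9b9042) (.leaf 0xa24e7000)) (.node (.leaf 0x7597ab056) (.leaf 0x47573b084)))) (.node (.node (.node (.leaf 0x190f5b044) (.leaf 0x2098b144)) (.node (.leaf 0x4b80b9006) (.leaf 0x594c99010)))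 (.node (.node (.leaf 0x16837b05a) (.leaf 0xdc1bb09c)) (.node (.leaf 0x16c79b08a) (.leaf 0x1fa517014)))))) (.node (.node (.node (.node (.node (.leaf 0xb08feb01c) (.leaf 0xc66db062)) (.node (.leaf 0x1c0c47020) (.leaf 0x30ce4b01e))) (.node (.node (.leaf 0x31ef77042) (.leaf 0x4dd64b0c0)) (.node (.leaf 0x53629036) (.leaf 0xc26f790c6)))) (.node (.node (.node (.leaf 0x45becb01e) (.leaf 0xb80719030)) (.node (.leaf 0x17fd4b062) (.leaf 0x62d2b000))) (.node (.node (.leaf 0x32268b114) (.leaf 0x7c86b050)) (.node (.leaf 0x1fec19004) (.leaf 0x307f4b01e))))) (.node (.node (.node (.node (.leaf 0xaa2f2b194) (.leaf 0x2f40b00c)) (.node (.leaf 0x164e63002) (.leaf 0x957fb000))) (.node (.node (.leaf 0x694c19010) (.leaf 0x18c2b044)) (.node (.leaf 0x74acf9030) (.leaf 0x47f7cb036)))) (.node (.node (.node (.leaf 0x7ac089082) (.leaf 0x183579082)) (.node (.leaf 0xfa8c9b05a) (.leaf 0x35fe27004))) (.node (.node (.leaf 0x168093002) (.leaf 0x441d69036))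 (.node (.leaf 0x1db0e9030) (.leaf 0xd12b7b1fe)))))))) (.node (.node (.node (.node (.node (.node (.node (.leaf 0x35f1c9082) (.leaf 0x22abeb2dc)) (.node (.leaf 0x14248b1d6) (.leaf 0x3d60900e))) (.node (.node (.leaf 0x2f45eb10c) (.leaf 0x1b47db01e)) (.node (.leaf 0x30cb1b01e) (.leaf 0x248beb0ea)))) (.node (.node (.node (.leaf 0x2b8f29000) (.leaf 0x216e9046)) (.node (.leaf 0x17997b194) (.leaf 0x14f839030))) (.node (.node (.leaf 0x5da16b0c0) (.leaf 0xb62bb05c)) (.node (.leaf 0x807efb0cc) (.leaf 0x16608b08a))))) (.node (.node (.node (.node (.leaf 0x40ddcb17a) (.leaf 0xec2bb0c0)) (.node (.leaf 0x7e1fb042) (.leaf 0x1b92db01e))) (.node (.node (.leaf 0x166e2b05a) (.leaf 0x62564b2dc)) (.node (.leaf 0x35e79036) (.leaf 0x41ce4b000)))) (.node (.node (.node (.leaf 0xeff2b14e) (.leaf 0x13eacb2dc)) (.node (.leaf 0xf557c9002) (.leaf 0x37a58900a))) (.node (.node (.leaf 0x276dcb084) (.leaf 0x41889b002)) (.node (.leaf 0x9325b014) (.leaf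 0x3f08fb042)))))) (.node (.node (.node (.node (.node (.leaf 0x508947030) (.leaf 0x681e6b000)) (.node (.leaf 0x7662cb09a) (.leaf 0x6a8ddb056))) (.node (.node (.leaf 0x7e401901c) (.leaf 0x58240b05a)) (.node (.leaf 0x8381a900a) (.leaf 0x152479036)))) (.node (.node (.node (.leaf 0x38ac37026) (.leaf 0x185eb7024)) (.node (.leaf 0x54c26704e) (.leaf 0x2fbcb905c))) (.node (.node (.leaf 0x4c70b9004) (.leaf 0x2afa1b1d6)) (.node (.leaf 0x4708bb084) (.leaf 0x12c45b014))))) (.node (.node (.node (.node (.leaf 0x15740900e) (.leaf 0x2ad08905c)) (.node (.leaf 0xca74b184) (.leaf 0x20023905c))) (.node (.node (.leaf 0x23ae39000) (.leaf 0x4e817020)) (.node (.leaf 0x1c81d7026) (.leaf 0x6ab8b014)))) (.node (.node (.node (.leaf 0x2457eb086) (.leaf 0x172beb0fc)) (.node (.leaf 0xa6c69000) (.leaf 0x3183f901c))) (.node (.node (.leaf 0x1abb59030) (.leaf 0x10cf5b084)) (.node (.leaf 0xda9837026) (.leaf 0x3c058b002))))))) (.node (.node (.node (.node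 (.node (.node (.leaf 0x5423900e) (.leaf 0x9743b06a)) (.node (.leaf 0x2aa57b10c) (.leaf 0xb8d239044))) (.node (.node (.leaf 0x2a7f2905c) (.leaf 0x6c4acb0c6)) (.node (.leaf 0x81c33b0d6) (.leaf 0x32ba0b044)))) (.node (.node (.node (.leaf 0x1578eb056) (.leaf 0x1aaf99044)) (.node (.leaf 0x11d0cb144) (.leaf 0x3499f900e))) (.node (.node (.leaf 0x131ecb0c0) (.leaf 0x2d391b0c6)) (.node (.leaf 0x26e71b0cc) (.leaf 0x8c89fb042))))) (.node (.node (.node (.node (.leaf 0x96c27026) (.leaf 0x58c49b05a)) (.node (.leaf 0x9fe6a7030) (.leaf 0x35cd29014))) (.node (.node (.leaf 0x364417020) (.leaf 0x174f7b0ea)) (.node (.leaf 0x797009004) (.leaf 0x69d6b06a)))) (.node (.node (.node (.leaf 0x24b5eb194) (.leaf 0x5a2edb084)) (.node (.leaf 0x114bb064) (.leaf 0x1ae86b05c))) (.node (.node (.leaf 0x89db2b05a) (.leaf 0x1809a904e)) (.node (.leaf 0x4c619900c) (.leaf 0x3dd8b056)))))) (.node (.node (.node (.node (.node (.leaf 0x3c237b050) (.leaf 0x39b8990c6))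 (.node (.leaf 0x16bc1b08a) (.leaf 0xa30db050))) (.node (.node (.leaf 0x4cf309006) (.leaf 0x66675b0d6)) (.node (.leaf 0x88daab09c) (.leaf 0xa0551b0c0)))) (.node (.node (.node (.leaf 0xf44b09c) (.leaf 0xe27bb0c0)) (.node (.leaf 0x168b6905a) (.leaf 0x10cdeb09c))) (.node (.node (.leaf 0x18c7e901a) (.leaf 0xca72b086)) (.node (.leaf 0x156b8b056) (.leaf 0x718c2900e))))) (.node (.node (.node (.node (.leaf 0x454ecb01e) (.leaf 0x8bdbb14e)) (.node (.leaf 0x26021b0cc) (.leaf 0x12823b06a))) (.node (.node (.leaf 0x21408b0c0) (.leaf 0xc3b2b0ea)) (.node (.leaf 0x33eeb056) (.leaf 0x10e0bb036)))) (.node (.node (.node (.leaf 0x303e4b01e) (.leaf 0x4f6beb05c)) (.node (.leaf 0x222aeb2dc) (.leaf 0x41307026))) (.node (.node (.leaf 0x31be67006) (.leaf 0x16203905a)) (.node (.leaf 0x291847026) (.leaf 0xfa9fb064))))))))))) (.node (.node (.node (.node (.node (.node (.node (.node (.node (.node (.leaf 0x6f99b062) (.leaf 0x3995d9010)) (.node (.leaf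 0x3ead9b000) (.leaf 0x590bdb0fc))) (.node (.node (.leaf 0xd602b084) (.leaf 0xe2fab2dc)) (.node (.leaf 0x279c901c) (.leaf 0x5e756b1d6)))) (.node (.node (.node (.leaf 0xc6d2b06a) (.leaf 0x237b07034)) (.node (.leaf 0xa9dd7014) (.leaf 0x5f470b064))) (.node (.node (.leaf 0x2fcd9016) (.leaf 0x1004fb084)) (.node (.leaf 0x132e1b14e) (.leaf 0x228d7b14e))))) (.node (.node (.node (.node (.leaf 0x212c8b2dc) (.leaf 0x1e7ae5014)) (.node (.leaf 0x987f99004) (.leaf 0x8a83b0c0))) (.node (.node (.leaf 0x392a59000) (.leaf 0x89647b05a)) (.node (.leaf 0x4be8b0fc) (.leaf 0xf2ccb1d6)))) (.node (.node (.node (.leaf 0x4fd00b044) (.leaf 0x17c6b7020)) (.node (.leaf 0x1e5fd9002) (.leaf 0x9dc2704e))) (.node (.node (.leaf 0xac0d9004) (.leaf 0x1c485b0fc)) (.node (.leaf 0x29a84704e) (.leaf 0x69d0f7006)))))) (.node (.node (.node (.node (.node (.leaf 0x1e8c35014) (.leaf 0x4d6b4b0c0)) (.node (.leaf 0x51d5db10c) (.leaf 0x100fd3b2dc))) (.node (.node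 (.leaf 0x166f3b08a) (.leaf 0x2ea8cb1d6)) (.node (.leaf 0x2c232901c) (.leaf 0x3cabfb184)))) (.node (.node (.node (.leaf 0xfa071b05a) (.leaf 0x14f167b09c)) (.node (.leaf 0xd6ca87034) (.leaf 0x4017b184))) (.node (.node (.leaf 0x180f9030) (.leaf 0x33c307014)) (.node (.leaf 0x530c77020) (.leaf 0x7712ab056))))) (.node (.node (.node (.node (.leaf 0x32c08b05c) (.leaf 0x57d5db1fe)) (.node (.leaf 0xd9fdb036) (.leaf 0x2c5a89024))) (.node (.node (.leaf 0x2b4079042) (.leaf 0xf46d905c)) (.node (.leaf 0x11b27900a) (.leaf 0x8dddbb10c)))) (.node (.node (.node (.leaf 0xabeba704e) (.leaf 0x9b8bc7014)) (.node (.leaf 0x3921eb00c) (.leaf 0x1ea1a5000))) (.node (.node (.leaf 0x38772b0ea) (.leaf 0x1ef6d9002)) (.node (.leaf 0x18e6c9000) (.leaf 0x27cc9b036))))))) (.node (.node (.node (.node (.node (.node (.leaf 0x6967c900c) (.leaf 0x86ffcb084)) (.node (.leaf 0x4021cb17a) (.leaf 0x5058f90c6))) (.node (.node (.leaf 0x809b084) (.leaf 0x19ec49030))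 (.node (.leaf 0x68e0b184) (.leaf 0x45f2b062)))) (.node (.node (.node (.leaf 0x169c6b08a) (.leaf 0x1eac57002)) (.node (.leaf 0xfab6b10c) (.leaf 0x270a1b036))) (.node (.node (.leaf 0xaaeb9042) (.leaf 0xd2bab084)) (.node (.leaf 0x2e6c7905c) (.leaf 0x1888fb144))))) (.node (.node (.node (.node (.leaf 0x1278789004) (.leaf 0x2d2205042)) (.node (.leaf 0x38ffcb184) (.leaf 0x7a5eb184))) (.node (.node (.leaf 0x5068f900a) (.leaf 0x27217006)) (.node (.leaf 0x15765b044) (.leaf 0x12d94901a)))) (.node (.node (.node (.leaf 0xebaab2dc) (.leaf 0x337069042)) (.node (.leaf 0x6ab37b064) (.leaf 0x5ba379026))) (.node (.node (.leaf 0x90c70905a) (.leaf 0x371297020)) (.node (.leaf 0x65597b0c6) (.leaf 0x13779b0c0)))))) (.node (.node (.node (.node (.node (.leaf 0x1ee157002) (.leaf 0xc7437026)) (.node (.leaf 0x3117db000) (.leaf 0x4687db0a6))) (.node (.node (.leaf 0x374db114) (.leaf 0x5e034b10c)) (.node (.leaf 0x18117b00c) (.leaf 0x2cca27014))))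 (.node (.node (.node (.leaf 0x436b09c) (.leaf 0x115cc7034)) (.node (.leaf 0x17d1905c) (.leaf 0x379989026))) (.node (.node (.leaf 0x81fc05010) (.leaf 0xae7a97006)) (.node (.leaf 0x7372db0d6) (.leaf 0x12c2b10c))))) (.node (.node (.node (.node (.leaf 0x5d7d6b2dc) (.leaf 0xa6aa9006)) (.node (.leaf 0x777c8900e) (.leaf 0x167133000))) (.node (.node (.leaf 0x401db086) (.leaf 0x21d50b14e)) (.node (.leaf 0x2db9d5006) (.leaf 0x256a9014)))) (.node (.node (.node (.leaf 0x42cebb090) (.leaf 0x435fcb184)) (.node (.leaf 0x2d4545006) (.leaf 0x186e47000))) (.node (.node (.leaf 0x9f50904e) (.leaf 0x3f82b9016)) (.node (.leaf 0x10938b036) (.leaf 0xf233905c)))))))) (.node (.node (.node (.node (.node (.node (.node (.leaf 0x25009082) (.leaf 0x1fd469000)) (.node (.leaf 0x12e62704e) (.leaf 0xc0655b050))) (.node (.node (.leaf 0x26008b024) (.leaf 0x574589036)) (.node (.leaf 0x24b4bb01c) (.leaf 0x23ed49004)))) (.node (.node (.node (.leaf 0x22f29024)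 (.leaf 0x1ed935010)) (.node (.leaf 0x2b32690c6) (.leaf 0x10810b036))) (.node (.node (.leaf 0x623b1b0c0) (.leaf 0x32da0b10c)) (.node (.leaf 0x691027034) (.leaf 0x47fb2b036))))) (.node (.node (.node (.node (.leaf 0x584f7905a) (.leaf 0x2d6e900c)) (.node (.leaf 0x1801f700e) (.leaf 0x3d60bb056))) (.node (.node (.leaf 0x1727a9010) (.leaf 0x20345b064)) (.node (.leaf 0x4c0e09026) (.leaf 0x246127020)))) (.node (.node (.node (.leaf 0x260a9b0d6) (.leaf 0x6fb6b0ea)) (.node (.leaf 0x1640bb08a) (.leaf 0xde7c5904e))) (.node (.node (.leaf 0x2bc26900a) (.leaf 0xccd7cb09a)) (.node (.leaf 0x53aa69010) (.leaf 0x1e05a5004)))))) (.node (.node (.node (.node (.node (.leaf 0xc56eb000) (.leaf 0xcbd00b00c)) (.node (.leaf 0x189799046) (.leaf 0x29ae2700a))) (.node (.node (.leaf 0x6676b086) (.leaf 0x36090704e)) (.node (.leaf 0x59da8b194) (.leaf 0x1890b1d6)))) (.node (.node (.node (.leaf 0x7584b086) (.leaf 0x9173db090)) (.node (.leaf 0x28838b10c)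 (.leaf 0x83dab14e))) (.node (.node (.leaf 0x69c1e7042) (.leaf 0xa61bfb044)) (.node (.leaf 0x1e2d75004) (.leaf 0x111969042))))) (.node (.node (.node (.node (.leaf 0xe93b036) (.leaf 0x1ed909002)) (.node (.leaf 0x589dcb08a) (.leaf 0x555aeb002))) (.node (.node (.leaf 0x270eeb084) (.leaf 0x13b39b2dc)) (.node (.leaf 0x1eafe5010) (.leaf 0x31748b002)))) (.node (.node (.node (.leaf 0x23a447014) (.leaf 0x195f905c)) (.node (.leaf 0x1c800b194) (.leaf 0xa4497034))) (.node (.node (.leaf 0x6464ab0c0) (.leaf 0x68996900c)) (.node (.leaf 0x2dbcf7002) (.leaf 0x45fdb194))))))) (.node (.node (.node (.node (.node (.node (.leaf 0x23e57900a) (.leaf 0xc068d7030)) (.node (.leaf 0x333f7900a) (.leaf 0x164b13004))) (.node (.node (.leaf 0xa6216b064) (.leaf 0x47770b084)) (.node (.leaf 0x2651eb0c6) (.leaf 0x40619b17a)))) (.node (.node (.node (.leaf 0x297d490c6) (.leaf 0x3cfeab062)) (.node (.leaf 0x74a7bb064) (.leaf 0xd295b036))) (.node (.node (.leaf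 0x30c5b044) (.leaf 0x78e22b14e)) (.node (.leaf 0xaa7bcb144) (.leaf 0x4079cb17a))))) (.node (.node (.node (.node (.leaf 0x40389b17a) (.leaf 0x46ddb0ea)) (.node (.leaf 0x1e6787002) (.leaf 0x62069b14e))) (.node (.node (.leaf 0xa1ba900a) (.leaf 0x508fe9042)) (.node (.leaf 0x5c727b14e) (.leaf 0x35467b01c)))) (.node (.node (.node (.leaf 0x8a93b0c0) (.leaf 0xfb639030)) (.node (.leaf 0x23d5790c6) (.leaf 0x2bb799004))) (.node (.node (.leaf 0x24da7004) (.leaf 0x2d699500e)) (.node (.leaf 0x3880bb0fc) (.leaf 0x6456b194)))))) (.node (.node (.node (.node (.node (.leaf 0x7864b194) (.leaf 0x6bafb0fc)) (.node (.leaf 0x3244db1fe) (.leaf 0x85c75b05c))) (.node (.node (.leaf 0xa2ba90c6) (.leaf 0x164e63000)) (.node (.leaf 0x2b6a97014) (.leaf 0x2a547042)))) (.node (.node (.node (.leaf 0x5e0dcb05c) (.leaf 0x1fb1eb002)) (.node (.leaf 0x11c709004) (.leaf 0x46d30b0cc))) (.node (.node (.leaf 0xad6aeb0a6) (.leaf 0x59808b0ea)) (.node (.leaf 0x28885b1fe)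 (.leaf 0x868ab14e))))) (.node (.node (.node (.node (.leaf 0x60246b086) (.leaf 0x3e87bb050)) (.node (.leaf 0x2287eb0c0) (.leaf 0x15cedb114))) (.node (.node (.leaf 0x1e6a87002) (.leaf 0x16beeb08a)) (.node (.leaf 0x90a01905a) (.leaf 0x4b41fb002)))) (.node (.node (.node (.leaf 0x57618b05c) (.leaf 0x5a70b114)) (.node (.leaf 0x39dd57010) (.leaf 0x35a4e7020))) (.node (.node (.leaf 0x1ca60b0ea) (.leaf 0x11da07014)) (.node (.leaf 0xca6cb014) (.leaf 0x815eab0cc))))))))) (.node (.node (.node (.node (.node (.node (.node (.node (.leaf 0x2b6b1b184) (.leaf 0xa9c5b184)) (.node (.leaf 0x16895b05a) (.leaf 0x7a0b37010))) (.node (.node (.leaf 0x1214d7024) (.leaf 0x35498b050)) (.node (.leaf 0x3e11cb01c) (.leaf 0x394997026)))) (.node (.node (.node (.leaf 0x44857004) (.leaf 0x31720b01c)) (.node (.leaf 0x437d07034) (.leaf 0x24323b002))) (.node (.node (.leaf 0x364f3901c) (.leaf 0x2185901a)) (.node (.leaf 0xeaebb2dc) (.leaf 0x2787bb084)))))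 (.node (.node (.node (.node (.leaf 0x9e89c901c) (.leaf 0x745c7004)) (.node (.leaf 0x162eb3004) (.leaf 0x3695d9042))) (.node (.node (.leaf 0x90039024) (.leaf 0x1e2835006)) (.node (.leaf 0x55086b01c) (.leaf 0x11de6b0ea)))) (.node (.node (.node (.leaf 0xa268d905c) (.leaf 0x761b084)) (.node (.leaf 0x189117020) (.leaf 0x9e0cd9016))) (.node (.node (.leaf 0xa9267b05c) (.leaf 0xd4c3f7042)) (.node (.leaf 0x41f59014) (.leaf 0x952b7004)))))) (.node (.node (.node (.node (.node (.leaf 0x25d87b036) (.leaf 0x10c316b194)) (.node (.leaf 0x59eb09014) (.leaf 0x10632b084))) (.node (.node (.leaf 0x4bce0b09a) (.leaf 0x99cf900c)) (.node (.leaf 0x11f26b086) (.leaf 0x3de48b05c)))) (.node (.node (.node (.leaf 0x126d5901c) (.leaf 0x1e887500e)) (.node (.leaf 0x40399b17a) (.leaf 0x4d8a4b2dc))) (.node (.node (.leaf 0x7b7feb064) (.leaf 0x6c6bab090)) (.node (.leaf 0x617790c6) (.leaf 0xf4d79044))))) (.node (.node (.node (.node (.leaf 0x3b5e2b09c)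 (.leaf 0x23dc6b0ea)) (.node (.leaf 0x46d2eb00a) (.leaf 0xcdde9046))) (.node (.node (.leaf 0x295019024) (.leaf 0x76ac2b086)) (.node (.leaf 0x425315010) (.leaf 0x2ae09b044)))) (.node (.node (.node (.leaf 0x16f903000) (.leaf 0x48af0904e)) (.node (.leaf 0x880bb14e) (.leaf 0x2be3704e))) (.node (.node (.leaf 0x8312b0c0) (.leaf 0x47e58b084)) (.node (.leaf 0x1efae500a) (.leaf 0x1ecf25042))))))) (.node (.node (.node (.node (.node (.node (.leaf 0x68329901a) (.leaf 0x72f7cb144)) (.node (.leaf 0x25ae5b084) (.leaf 0x59e8b9016))) (.node (.node (.leaf 0x5fb67b044) (.leaf 0x1c5b7901a)) (.node (.leaf 0x24ba37000) (.leaf 0xe2042b144)))) (.node (.node (.node (.leaf 0x1ffb67010) (.leaf 0x209bfb064)) (.node (.leaf 0x2dcf79002) (.leaf 0x2264fb0c0))) (.node (.node (.leaf 0x7a5f904e) (.leaf 0x923b57042)) (.node (.leaf 0xad81a7002) (.leaf 0x389d390c6))))) (.node (.node (.node (.node (.leaf 0x4b4a7b01c) (.leaf 0x9c907006)) (.node (.leaf 0x11506b194)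 (.leaf 0xa754b062))) (.node (.node (.leaf 0x3bbefb036) (.leaf 0xb3475b05c)) (.node (.leaf 0x1a2fcb044) (.leaf 0x48229016)))) (.node (.node (.node (.leaf 0x7da3901a) (.leaf 0x29f727006)) (.node (.leaf 0x38ad3900a) (.leaf 0x127599082))) (.node (.node (.leaf 0x33a11b062) (.leaf 0x2d8f69002)) (.node (.leaf 0x16d44b05a) (.leaf 0x27553b084)))))) (.node (.node (.node (.node (.node (.leaf 0x648d2b14e) (.leaf 0xb4a9b044)) (.node (.leaf 0xf01eb05c) (.leaf 0xdc0fb084))) (.node (.node (.leaf 0x67847034) (.leaf 0x181c07026)) (.node (.leaf 0x9a64d9006) (.leaf 0x1d819030)))) (.node (.node (.node (.leaf 0x1796db050) (.leaf 0x287729036)) (.node (.leaf 0x3cfaf7024) (.leaf 0x632777006))) (.node (.node (.leaf 0x2b5b7b086) (.leaf 0x818195014)) (.node (.leaf 0xa375fb024) (.leaf 0x630ea7034))))) (.node (.node (.node (.node (.leaf 0x648dbb0c0) (.leaf 0x20356b044)) (.node (.leaf 0x2de02b0a6) (.leaf 0x96ec9016))) (.node (.node (.leaf 0x14d684b002)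 (.leaf 0x2b877b0ea)) (.node (.leaf 0x1c6f3904e) (.leaf 0x6943d900a)))) (.node (.node (.node (.leaf 0x3fbb4b194) (.leaf 0x4ace5b114)) (.node (.leaf 0x8302b0c0) (.leaf 0x12c1d7042))) (.node (.node (.leaf 0x394499026) (.leaf 0xb2748b056)) (.node (.leaf 0x430a79006) (.leaf 0xb4f999036)))))))) (.node (.node (.node (.node (.node (.node (.node (.leaf 0x12b639024) (.leaf 0x28e1904e)) (.node (.leaf 0x5405db144) (.leaf 0x119c1b062))) (.node (.node (.leaf 0x1754ab002) (.leaf 0xb8eb09c)) (.node (.leaf 0x790e7024) (.leaf 0x8e3aeb06a)))) (.node (.node (.node (.leaf 0x229e6b14e) (.leaf 0x165a63004)) (.node (.leaf 0x2ff1700a) (.leaf 0x53c917030))) (.node (.node (.leaf 0x2426b9000) (.leaf 0xab62b0fc)) (.node (.leaf 0x23465b062) (.leaf 0x2cba5704e))))) (.node (.node (.node (.node (.leaf 0x65679006) (.leaf 0x1925db1d6)) (.node (.leaf 0x9ddb9014) (.leaf 0x4b8b77010))) (.node (.node (.leaf 0xaa760b014) (.leaf 0x9ee009082)) (.node (.leaf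 0x185eb7030) (.leaf 0x16e6db05a)))) (.node (.node (.node (.leaf 0x1e7525002) (.leaf 0x141a0b044)) (.node (.leaf 0x36329900c) (.leaf 0x62a39b14e))) (.node (.node (.leaf 0x26cd8b024) (.leaf 0x9e9f29024)) (.node (.leaf 0x278e0b036) (.leaf 0xf13d9030)))))) (.node (.node (.node (.node (.node (.leaf 0x6fc69042) (.leaf 0x38b307034)) (.node (.leaf 0x3b351b084) (.leaf 0x2caf590c6))) (.node (.node (.leaf 0x8a7669046) (.leaf 0x2b3beb0fc)) (.node (.leaf 0x7e13eb01c) (.leaf 0x3abd5b1fe)))) (.node (.node (.node (.leaf 0x1cb089014) (.leaf 0x292477034)) (.node (.leaf 0x11b3b1fe) (.leaf 0x260b9b0d6))) (.node (.node (.leaf 0x66a3eb00a) (.leaf 0x58bed905a)) (.node (.leaf 0x15e59044) (.leaf 0xada015006))))) (.node (.node (.node (.node (.leaf 0xab4157024) (.leaf 0xa8e4eb086)) (.node (.leaf 0x63e489042) (.leaf 0xcf939026))) (.node (.node (.leaf 0x4e089b064) (.leaf 0x43477024)) (.node (.leaf 0x364909006) (.leaf 0x43bb47014)))) (.node (.node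 (.node (.leaf 0x42fa05010) (.leaf 0x648cbb0c0)) (.node (.leaf 0x3a5c09036) (.leaf 0x2d5b9b00a))) (.node (.node (.leaf 0x9db5901c) (.leaf 0xae539700a)) (.node (.leaf 0xae7bb194) (.leaf 0xc8b8700e))))))) (.node (.node (.node (.node (.node (.node (.leaf 0x1aa74b114) (.leaf 0xa4b72b1fe)) (.node (.leaf 0x70ff9b042) (.leaf 0x66a3bb00a))) (.node (.node (.leaf 0x33476b0ea) (.leaf 0x11db8b184)) (.node (.leaf 0x4c177b144) (.leaf 0x122707006)))) (.node (.node (.node (.leaf 0x1c8ef9016) (.leaf 0x29e119042)) (.node (.leaf 0x1b6ab05c) (.leaf 0x16f6cb05a))) (.node (.node (.leaf 0x71bb9016) (.leaf 0x9adc09042)) (.node (.leaf 0x15439044) (.leaf 0x4296904e))))) (.node (.node (.node (.node (.leaf 0xcb28b144) (.leaf 0x3f6b9b0fc)) (.node (.leaf 0x5a6d8b036) (.leaf 0x63cee7014))) (.node (.node (.leaf 0x9fe99082) (.leaf 0x431f790c6)) (.node (.leaf 0x2d168b00a) (.leaf 0x58ae7300e)))) (.node (.node (.node (.leaf 0x7eea9082) (.leaf 0x212d8b2dc))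 (.node (.leaf 0x383029042) (.leaf 0x787aab0c0))) (.node (.node (.leaf 0x69b3d90c6) (.leaf 0x100f1b036)) (.node (.leaf 0x37f2c9010) (.leaf 0xae1bb086)))))) (.node (.node (.node (.node (.node (.leaf 0xa3dbb0ea) (.leaf 0xfbbb036)) (.node (.leaf 0x191d4905c) (.leaf 0x231dfb0fc))) (.node (.node (.leaf 0x8d7eab1fe) (.leaf 0x118b32b0c0)) (.node (.leaf 0x3648f7034) (.leaf 0x62289004)))) (.node (.node (.node (.leaf 0x370d19046) (.leaf 0x3263a9036)) (.node (.leaf 0x297937042) (.leaf 0x559d67010))) (.node (.node (.leaf 0x977d7042) (.leaf 0x4cfefb00c)) (.node (.leaf 0x10f235b184) (.leaf 0x810845000))))) (.node (.node (.node (.node (.leaf 0x1025ab084) (.leaf 0xd0f4b036)) (.node (.leaf 0x433a901a) (.leaf 0x32885900e))) (.node (.node (.leaf 0x23ee6b194) (.leaf 0x90a1b905a)) (.node (.leaf 0x331b6b086) (.leaf 0x41577904e)))) (.node (.node (.node (.leaf 0x2de30502a) (.leaf 0xe3bbb2dc)) (.node (.leaf 0x26b56b0c6) (.leaf 0xcff0b00c)))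 (.node (.node (.leaf 0x60f87014) (.leaf 0xa955eb1fe)) (.node (.leaf 0x3c1397004) (.leaf 0x13329b2dc)))))))))) (.node (.node (.node (.node (.node (.node (.node (.node (.node (.leaf 0xaa857042) (.leaf 0x66c9c7002)) (.node (.leaf 0x1e919b090) (.leaf 0x44577042))) (.node (.node (.leaf 0x406e1b17a) (.leaf 0x13c7cb0c0)) (.node (.leaf 0x99b17034) (.leaf 0x3a9d79044)))) (.node (.node (.node (.leaf 0x3e9c09026) (.leaf 0xc9e77000)) (.node (.leaf 0x1fb15b00c) (.leaf 0x18773b050))) (.node (.node (.leaf 0x3a49eb05c) (.leaf 0x238269024)) (.node (.leaf 0x470d2b09c) (.leaf 0xf07159026))))) (.node (.node (.node (.node (.leaf 0x498b084) (.leaf 0x63538b0ea)) (.node (.leaf 0x121017034) (.leaf 0x314849026))) (.node (.node (.leaf 0x8f4e2b056) (.leaf 0x3b10b064)) (.node (.leaf 0x4d1a1b0c0) (.leaf 0x401f4b17a)))) (.node (.node (.node (.leaf 0x7a1e7042) (.leaf 0x234b2900c)) (.node (.leaf 0x686a3b0fc) (.leaf 0x608a1904e))) (.node (.node (.leaf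 0x292a1b0ea) (.leaf 0x11f949082)) (.node (.leaf 0x613f9b014) (.leaf 0x16466905a)))))) (.node (.node (.node (.node (.node (.leaf 0x108d767006) (.leaf 0x32199905c)) (.node (.leaf 0x3ca737034) (.leaf 0xb0a857024))) (.node (.node (.leaf 0x6914e7024) (.leaf 0xdc91ab086)) (.node (.leaf 0x17218b042) (.leaf 0x11af87042)))) (.node (.node (.node (.leaf 0x1938d9036) (.leaf 0x3c89d900c)) (.node (.leaf 0x68deab194) (.leaf 0x25a0ab036))) (.node (.node (.leaf 0x2158db14e) (.leaf 0xacc49016)) (.node (.leaf 0x2e14b184) (.leaf 0x4a416b064))))) (.node (.node (.node (.node (.leaf 0x10611b09c) (.leaf 0x483cdb184)) (.node (.leaf 0x16151b08a) (.leaf 0x37f67b014))) (.node (.node (.leaf 0x441f7014) (.leaf 0x6ddd904e)) (.node (.leaf 0x4ce6db06a) (.leaf 0x428c4b00a)))) (.node (.node (.node (.leaf 0x33a387024) (.leaf 0x7fb19006)) (.node (.leaf 0x15c3b056) (.leaf 0xe8643b0ea))) (.node (.node (.leaf 0x2bb547006) (.leaf 0x9a802b184)) (.node (.leaf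 0x3eee37030) (.leaf 0x6e8677004))))))) (.node (.node (.node (.node (.node (.node (.leaf 0x502269014) (.leaf 0x1c9d900e)) (.node (.leaf 0x25a8fb09c) (.leaf 0x589373004))) (.node (.node (.leaf 0xe3144b114) (.leaf 0xabe1d7014)) (.node (.leaf 0xe1bb9b2dc) (.leaf 0x695cf904e)))) (.node (.node (.node (.leaf 0x82100b01e) (.leaf 0x458f901c)) (.node (.leaf 0xcefcb050) (.leaf 0x7029bb01c))) (.node (.node (.leaf 0xf661b056) (.leaf 0x482d9042)) (.node (.leaf 0xe757ab024) (.leaf 0x9ed2900a))))) (.node (.node (.node (.node (.leaf 0x473d9024) (.leaf 0xe272b14e)) (.node (.leaf 0x4116a7034) (.leaf 0x89ad8b05a))) (.node (.node (.leaf 0x4648c7002) (.leaf 0x1fd0d700e)) (.node (.leaf 0x1f99a9026) (.leaf 0x2d9dd5014)))) (.node (.node (.node (.leaf 0x96eb036) (.leaf 0x3ada59044)) (.node (.leaf 0x12572900a) (.leaf 0x19acdb05c))) (.node (.node (.leaf 0x26273b0c6) (.leaf 0x1303cb2dc)) (.node (.leaf 0x1cad09042) (.leaf 0x58ef8b05a)))))) (.node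 (.node (.node (.node (.node (.leaf 0x7470900c) (.leaf 0x31ea57020)) (.node (.leaf 0x246cab000) (.leaf 0x2b979901c))) (.node (.node (.leaf 0x298d3b184) (.leaf 0xa6937004)) (.node (.leaf 0x2b52b086) (.leaf 0x23bae9014)))) (.node (.node (.node (.leaf 0x78167014) (.leaf 0x149dfb064)) (.node (.leaf 0xcb2f9000) (.leaf 0x28c179030))) (.node (.node (.leaf 0x6880ab086) (.leaf 0x11270901c)) (.node (.leaf 0x16532b05a) (.leaf 0x2344c7042))))) (.node (.node (.node (.node (.leaf 0x130a4b14e) (.leaf 0x152a9036)) (.node (.leaf 0x2d92b0ea) (.leaf 0x1cb7c900c))) (.node (.node (.leaf 0xa20d901c) (.leaf 0x165d8b08a)) (.node (.leaf 0x480bcb062) (.leaf 0x1e51cb090)))) (.node (.node (.node (.leaf 0x1d2dbb114) (.leaf 0x460025010)) (.node (.leaf 0x381c3704e) (.leaf 0x6ecd700a))) (.node (.node (.leaf 0x9dd290c6) (.leaf 0xb25ab064)) (.node (.leaf 0x61d1bb000) (.leaf 0x38f99904e)))))))) (.node (.node (.node (.node (.node (.node (.node (.leaf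 0xba83b044) (.leaf 0x3cb119024)) (.node (.leaf 0x598ce7042) (.leaf 0x2ae6eb064))) (.node (.node (.leaf 0x66c775014) (.leaf 0x163363002)) (.node (.leaf 0x65da8b024) (.leaf 0xfe5e9036)))) (.node (.node (.node (.leaf 0xac519082) (.leaf 0x52bb5b2dc)) (.node (.leaf 0x2f6bb0fc) (.leaf 0x3a3f19030))) (.node (.node (.leaf 0x16de9b08a) (.leaf 0x55869700e)) (.node (.leaf 0x169a7b05a) (.leaf 0x173bdb014))))) (.node (.node (.node (.node (.leaf 0x11a519016) (.leaf 0x70d139010)) (.node (.leaf 0x52fdb064) (.leaf 0x2f32b194))) (.node (.node (.leaf 0x66fe97002) (.leaf 0xcfaecb056)) (.node (.leaf 0x4875eb0fc) (.leaf 0x46567006)))) (.node (.node (.node (.leaf 0x33322900c) (.leaf 0x40b74b17a)) (.node (.leaf 0xa9c7c900e) (.leaf 0x14398eb2dc))) (.node (.node (.leaf 0x1e927b00a) (.leaf 0x232f89082)) (.node (.leaf 0x478f9004) (.leaf 0x43309904e)))))) (.node (.node (.node (.node (.node (.leaf 0x9fb59004) (.leaf 0xf6d9900e)) (.node (.leaf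 0x1ee3fb00a) (.leaf 0x1cb827042))) (.node (.node (.leaf 0x33e569024) (.leaf 0x35548b014)) (.node (.leaf 0x69eb89014) (.leaf 0x4ba84b144)))) (.node (.node (.node (.leaf 0xea62b14e) (.leaf 0x18fdab042)) (.node (.leaf 0x7e9f7006) (.leaf 0x36bedb086))) (.node (.node (.leaf 0xd614b09c) (.leaf 0x63733b062)) (.node (.leaf 0x9758eb2dc) (.leaf 0x4e3b7034))))) (.node (.node (.node (.node (.leaf 0x11c557006) (.leaf 0x3e2017020)) (.node (.leaf 0x57ee6b10c) (.leaf 0xb60019002))) (.node (.node (.leaf 0x267b5b024) (.leaf 0x2e1e1b056)) (.node (.leaf 0xa2feeb1d6) (.leaf 0x92657014)))) (.node (.node (.node (.leaf 0x19188b1fe) (.leaf 0x99f439030)) (.node (.leaf 0x6f01901a) (.leaf 0xa6a71b044))) (.node (.node (.leaf 0x5588a9026) (.leaf 0x3c737901c)) (.node (.leaf 0x81c3b2dc) (.leaf 0x7c6379046))))))) (.node (.node (.node (.node (.node (.node (.leaf 0x73869004) (.leaf 0x464297002)) (.node (.leaf 0x1c71a901c) (.leaf 0x245db062))) (.node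 (.node (.leaf 0x35a5ab06a) (.leaf 0x168f0b08a)) (.node (.leaf 0x2f8d9b064) (.leaf 0x75a49024)))) (.node (.node (.node (.leaf 0x28100b1d6) (.leaf 0x8c41f7006)) (.node (.leaf 0x424cf9002) (.leaf 0x666e49002))) (.node (.node (.leaf 0x23ade7004) (.leaf 0x51143b10c)) (.node (.leaf 0x4e309006) (.leaf 0x19af5b10c))))) (.node (.node (.node (.node (.leaf 0x108e9b09c) (.leaf 0xa4bb9024)) (.node (.leaf 0x1cb1d9006) (.leaf 0xeaad29016))) (.node (.node (.leaf 0x1c1c09024) (.leaf 0x47b4fb036)) (.node (.leaf 0x122629006) (.leaf 0x420cbb0a6)))) (.node (.node (.node (.leaf 0x2d20c5014) (.leaf 0x1f3b900e)) (.node (.leaf 0xb0e549016) (.leaf 0x73a27034))) (.node (.node (.leaf 0x4b3b09c) (.leaf 0x4215e9002)) (.node (.leaf 0x116b2900c) (.leaf 0x310a77030)))))) (.node (.node (.node (.node (.node (.leaf 0x59f46901c) (.leaf 0x5902b114)) (.node (.leaf 0x469c65000) (.leaf 0x17a5cc900a))) (.node (.node (.leaf 0x21c15b0c0) (.leaf 0x59e389042))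 (.node (.leaf 0x3ee107026) (.leaf 0xa0239014)))) (.node (.node (.node (.leaf 0x508567004) (.leaf 0x1dd24b064)) (.node (.leaf 0x12e339042) (.leaf 0xd7a64901a))) (.node (.node (.leaf 0x3c7fe7006) (.leaf 0x6167704e)) (.node (.leaf 0x11fc69024) (.leaf 0x2b9579024))))) (.node (.node (.node (.node (.leaf 0x3c87b114) (.leaf 0x2c4507004)) (.node (.leaf 0x9d539042) (.leaf 0x28547905c))) (.node (.node (.leaf 0x81d3b2dc) (.leaf 0x2242eb2dc)) (.node (.leaf 0x92e3d9004) (.leaf 0x3d57bb1fe)))) (.node (.node (.node (.leaf 0x4f79900c) (.leaf 0x7186901c)) (.node (.leaf 0x18489b000) (.leaf 0x2bda3900c))) (.node (.node (.leaf 0x81019500a) (.leaf 0xa0d57024)) (.node (.leaf 0x15a67b114) (.leaf 0x2ed43900e))))))))) (.node (.node (.node (.node (.node (.node (.node (.node (.leaf 0x31fc87000) (.leaf 0x53a05700e)) (.node (.leaf 0x42b267002) (.leaf 0xe9bab0c0))) (.node (.node (.leaf 0x3e4299046) (.leaf 0x69da0b194)) (.node (.leaf 0x7228fb01c)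 (.leaf 0xa8629904e)))) (.node (.node (.node (.leaf 0x143f5b064) (.leaf 0x482159004)) (.node (.leaf 0x283d19030) (.leaf 0x16f10905a))) (.node (.node (.leaf 0x19410900e) (.leaf 0x23f390c6)) (.node (.leaf 0x21c45b2dc) (.leaf 0x23b69700a))))) (.node (.node (.node (.node (.leaf 0x6cd8e9002) (.leaf 0xe67b5b00c)) (.node (.leaf 0x6ddc9082) (.leaf 0x17af69026))) (.node (.node (.leaf 0x1a0b1b064) (.leaf 0x2cf3900a)) (.node (.leaf 0x3cf2e700a) (.leaf 0x3db5ab10c)))) (.node (.node (.node (.leaf 0x2d602b0cc) (.leaf 0x815fab0a6)) (.node (.leaf 0x19adb9036) (.leaf 0x290837024))) (.node (.node (.leaf 0x5b9acb050) (.leaf 0x79e1900a)) (.node (.leaf 0xec23b14e) (.leaf 0x1fc0a7026)))))) (.node (.node (.node (.node (.node (.leaf 0x3a8e1905c) (.leaf 0x6c7cf9002)) (.node (.leaf 0xac38904e) (.leaf 0x363979082))) (.node (.node (.leaf 0x1fe7cb042) (.leaf 0x428f67002)) (.node (.leaf 0x1a40b05c) (.leaf 0x1245db184)))) (.node (.node (.node (.leaf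 0xe0a49b144) (.leaf 0x3247ab05c)) (.node (.leaf 0x9cc13b0d6) (.leaf 0x4b30b7026))) (.node (.node (.leaf 0x466d3500e) (.leaf 0x16f78905a)) (.node (.leaf 0x21c05b0c0) (.leaf 0x17099700e))))) (.node (.node (.node (.node (.leaf 0x788fab2dc) (.leaf 0x765b9904e)) (.node (.leaf 0x657f9b0d6) (.leaf 0x651d7006))) (.node (.node (.leaf 0x46f675006) (.leaf 0x46b125006)) (.node (.leaf 0x6c71e9002) (.leaf 0x5e186b05c)))) (.node (.node (.node (.leaf 0xbfb4b064) (.leaf 0x11f95904e)) (.node (.leaf 0xc85f7010) (.leaf 0x23ead901a))) (.node (.node (.leaf 0x2c588b086) (.leaf 0xdd9db09c)) (.node (.leaf 0x9182c7002) (.leaf 0x49ab7b064))))))) (.node (.node (.node (.node (.node (.node (.leaf 0x810ae9002) (.leaf 0x483279042)) (.node (.leaf 0x85c109044) (.leaf 0x486090c6))) (.node (.node (.leaf 0xce44b09a) (.leaf 0x11437704e)) (.node (.leaf 0x5bb8b7000) (.leaf 0x2c27db0fc)))) (.node (.node (.node (.leaf 0xa328700a) (.leaf 0x5ed5f9044)) (.node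 (.leaf 0x4a30704e) (.leaf 0x1ec7cb0cc))) (.node (.node (.leaf 0x10a58b09c) (.leaf 0x644e9014)) (.node (.leaf 0x59565900a) (.leaf 0xcc138b00c))))) (.node (.node (.node (.node (.leaf 0x70363b002) (.leaf 0x2b336704e)) (.node (.leaf 0x219c9004) (.leaf 0x7b0f700a))) (.node (.node (.leaf 0x6df07024) (.leaf 0x38d359016)) (.node (.leaf 0x8352b2dc) (.leaf 0x6286cb14e)))) (.node (.node (.node (.leaf 0x1c8a3700a) (.leaf 0xb081c901a)) (.node (.leaf 0x40231b17a) (.leaf 0xa71e1b114))) (.node (.node (.leaf 0x5fb65b044) (.leaf 0x6822900c)) (.node (.leaf 0x59a0f700a) (.leaf 0x901813000)))))) (.node (.node (.node (.node (.node (.leaf 0xd7b5b09c) (.leaf 0x63c707004)) (.node (.leaf 0x234c7014) (.leaf 0x426ad500e))) (.node (.node (.leaf 0x5d53b064) (.leaf 0xcab67020)) (.node (.leaf 0x6ed7e704e) (.leaf 0x548da9010)))) (.node (.node (.node (.leaf 0x57f2d9044) (.leaf 0x5ade9b09c)) (.node (.leaf 0x13c6cb0c0) (.leaf 0x603617006))) (.node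 (.node (.leaf 0xf9ceb1d6) (.leaf 0x29d4f9082)) (.node (.leaf 0x2ddd3b0cc) (.leaf 0x19c62b056))))) (.node (.node (.node (.node (.leaf 0x9f2b09024) (.leaf 0x8d191b05c)) (.node (.leaf 0x16340300e) (.leaf 0x2a0cfb114))) (.node (.node (.leaf 0x75dc9b114) (.leaf 0x2cfaab184)) (.node (.leaf 0x1abab1d6) (.leaf 0x1cd4d90c6)))) (.node (.node (.node (.leaf 0x1284cb062) (.leaf 0x927cb062)) (.node (.leaf 0x611ae9026) (.leaf 0x7f910b044))) (.node (.node (.leaf 0x16061300e) (.leaf 0x2dfc15004)) (.node (.leaf 0x33b45904e) (.leaf 0x3f7c67014)))))))) (.node (.node (.node (.node (.node (.node (.node (.leaf 0x792bbb01c) (.leaf 0x4d439b14e)) (.node (.leaf 0x39a0cb06a) (.leaf 0x29cf97004))) (.node (.node (.leaf 0xa3cc901a) (.leaf 0x16a71905a)) (.node (.leaf 0x41e67700a) (.leaf 0x3541b9026)))) (.node (.node (.node (.leaf 0x6c744502a) (.leaf 0xf55c9036)) (.node (.leaf 0xcc1e29046) (.leaf 0x1002dab14e))) (.node (.node (.leaf 0x28132b05c)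 (.leaf 0x2fe39006)) (.node (.leaf 0x518809044) (.leaf 0xb20bb114))))) (.node (.node (.node (.node (.leaf 0x8342b2dc) (.leaf 0xfa39d3002)) (.node (.leaf 0x5851a3000) (.leaf 0x914f65000))) (.node (.node (.leaf 0x96c3b194) (.leaf 0x2ca29042)) (.node (.leaf 0x426b77002) (.leaf 0xa8379700a)))) (.node (.node (.node (.leaf 0x12da3b194) (.leaf 0x43924901c)) (.node (.leaf 0xff1cb05c) (.leaf 0xdbb09c))) (.node (.node (.leaf 0xa9579b05c) (.leaf 0x364be901a)) (.node (.leaf 0x6f099016) (.leaf 0x20b08b114)))))) (.node (.node (.node (.node (.node (.leaf 0x3123b700e) (.leaf 0xb96b036)) (.node (.leaf 0x2880b9044) (.leaf 0x1ef69b0a6))) (.node (.node (.leaf 0x187e3b014) (.leaf 0x9a4ab0fc)) (.node (.leaf 0x25c94b084) (.leaf 0x8c379704e)))) (.node (.node (.node (.leaf 0x67a07042) (.leaf 0x502f1700a)) (.node (.leaf 0x5e9219044) (.leaf 0x917997002))) (.node (.node (.leaf 0x3691a904e) (.leaf 0x174d39046)) (.node (.leaf 0x3f1649042) (.leaf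 0x16b89905a))))) (.node (.node (.node (.node (.leaf 0x6c3ddb00a) (.leaf 0x1fb11b014)) (.node (.leaf 0x14e8b10c) (.leaf 0xc60fb01c))) (.node (.node (.leaf 0x1e779b0a6) (.leaf 0x18bcbb09a)) (.node (.leaf 0x11a59901a) (.leaf 0xb39a5b1d6)))) (.node (.node (.node (.leaf 0x54f527010) (.leaf 0x23e39904e)) (.node (.leaf 0x187ba53004) (.leaf 0x31acd9046))) (.node (.node (.leaf 0x76fcd901a) (.leaf 0x6cd4bb0a6)) (.node (.leaf 0x3ecc49010) (.leaf 0x23707704e))))))) (.node (.node (.node (.node (.node (.node (.leaf 0x439be7004) (.leaf 0x4f60900a)) (.node (.leaf 0x16db2300a) (.leaf 0x1e46cb0a6))) (.node (.node (.leaf 0x9623b0ea) (.leaf 0x3066b064)) (.node (.leaf 0x3f556901c) (.leaf 0x2af94b064)))) (.node (.node (.node (.leaf 0x12803b0ea) (.leaf 0x28ffbb1fe)) (.node (.leaf 0x2d883b0cc) (.leaf 0x29b36901a))) (.node (.node (.leaf 0x168ec300a) (.leaf 0x24454b144)) (.node (.leaf 0x311abb144) (.leaf 0x9ec52b086))))) (.node (.node (.node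 (.node (.leaf 0x23587034) (.leaf 0x48c6700a)) (.node (.leaf 0x294b2904e) (.leaf 0x11885700a))) (.node (.node (.leaf 0x793eb7010) (.leaf 0x1e47cb0a6)) (.node (.leaf 0x7c9acb042) (.leaf 0x119a4b9006)))) (.node (.node (.node (.leaf 0x1884cb01c) (.leaf 0x354fb044)) (.node (.leaf 0x3f7569004) (.leaf 0x48a96900a))) (.node (.node (.leaf 0x9d761b064) (.leaf 0x8f7a99036)) (.node (.leaf 0x37fa1b000) (.leaf 0x897b6b08a)))))) (.node (.node (.node (.node (.node (.leaf 0x518ab044) (.leaf 0x38d74901c)) (.node (.leaf 0x2643bb0c6) (.leaf 0xc3a71b01e))) (.node (.node (.leaf 0xa60b084) (.leaf 0x2220fb2dc)) (.node (.leaf 0x40061b17a) (.leaf 0x6fbe7004)))) (.node (.node (.node (.leaf 0x1c009036) (.leaf 0x163f23006)) (.node (.leaf 0x31973b00c) (.leaf 0x3606b7024))) (.node (.node (.leaf 0x103870b0d6) (.leaf 0x2b784700a)) (.node (.leaf 0x7bb1704e) (.leaf 0x4c00bb050))))) (.node (.node (.node (.node (.leaf 0x3d6579030) (.leaf 0x2d5585004))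 (.node (.leaf 0x33d89901a) (.leaf 0xcae779026))) (.node (.node (.leaf 0xfb51b1fe) (.leaf 0x1f197b000)) (.node (.leaf 0x121c3b086) (.leaf 0x665425006)))) (.node (.node (.node (.leaf 0xa2aa704e) (.leaf 0x3edf47000)) (.node (.leaf 0xe0eab0c0) (.leaf 0x1855b1fe))) (.node (.node (.leaf 0xef1cbb01c) (.leaf 0x381689082)) (.node (.leaf 0x5e9afb1fe) (.leaf 0xcfd79010))))))))))))

theorem cert4_0 : chunkB 4 cert4 0 = true := by decide +kernel

theorem cert4_1 : chunkB 4 cert4 1 = true := by decide +kernel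

theorem cert4_2 : chunkB 4 cert4 2 = true := by decide +kernel

theorem cert4_3 : chunkB 4 cert4 3 = true := by decide +kernel

theorem cert4_4 : chunkB 4 cert4 4 = true := by decide +kernel

theorem cert4_5 : chunkB 4 cert4 5 = true := by decide +kernel

theorem cert4_6 : chunkB 4 cert4 6 = true := by decide +kernel

theorem cert4_7 : chunkB 4 cert4 7 = true := by decide +kernel

theorem cert4_ok : ∀ k < 2048, itemB 4 cert4 k = true :=
  of_chunks cert4_0 cert4_1 cert4_2 cert4_3 cert4_4 cert4_5 cert4_6 cert4_7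

end Cfsg.Agent.F4Square.Two
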