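import Cfsg.Agent.F4Square.Two.Setup

/-!
Certificates for the coset of the Weyl element number 5.
-/

set_option autoImplicit false
set_option maxRecDepth 100000
set_option maxHeartbeats 0
set_option Elab.async false

namespace Cfsg.Agent.F4Square.Two

/-- The certificates. -/
noncomputable def cert5 : Tree :=
  (.node (.node (.node (.node (.node (.node (.node (.node (.node (.node (.node (.leaf 0x2bfe6904e) (.leaf 0x21154b024)) (.node (.leaf 0x2e5a9004) (.leaf 0xd283b036))) (.node (.node (.leaf 0x38f5990c6) (.leaf 0x1b7ccb01e)) (.node (.leaf 0x1480290c6) (.leaf 0x13529b0d6)))) (.node (.node (.node (.leaf 0x7e8489036) (.leaf 0x1a01d9004)) (.node (.leaf 0x617f3b1fe) (.leaf 0x47baab05a))) (.node (.node (.leaf 0x126777034) (.leaf 0x30bb8b01e)) (.node (.leaf 0x2994eb114) (.leaf 0x25bb4b08a))))) (.node (.node (.node (.node (.leaf 0x89385042) (.leaf 0x178aab10c)) (.node (.leaf 0x14f02900a) (.leaf 0x17cb05a))) (.node (.node (.leaf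 0x27267034) (.leaf 0x2ac3bb0fc)) (.node (.leaf 0xf8137030) (.leaf 0xca549030)))) (.node (.node (.node (.leaf 0xb5b07014) (.leaf 0xa265b194)) (.node (.leaf 0x2b0ba901a) (.leaf 0xcd2939030))) (.node (.node (.leaf 0xfdb09026) (.leaf 0x308f5b01e)) (.node (.leaf 0x8c84500a) (.leaf 0x27749024)))))) (.node (.node (.node (.node (.node (.leaf 0x2c5a901c) (.leaf 0xa2643b09a)) (.node (.leaf 0x1d9ceb194) (.leaf 0x5d0fb7002))) (.node (.node (.leaf 0x239a39016) (.leaf 0x18056b01c)) (.node (.leaf 0x673315000) (.leaf 0x40ef6b01e)))) (.node (.node (.node (.leaf 0x24640905c) (.leaf 0x46dab044)) (.node (.leaf 0x10bbc55042) (.leaf 0xaef0f7006))) (.node (.node (.leaf 0x534509036) (.leaf 0x1b59cb01e)) (.node (.leaf 0x673e901c) (.leaf 0xcfafb05c))))) (.node (.node (.node (.node (.leaf 0x12e8b9004) (.leaf 0x660d9006)) (.node (.leaf 0xe75c500e) (.leaf 0x50c5e7024))) (.node (.node (.leaf 0x2514e3002) (.leaf 0x7dcbf7002)) (.node (.leaf 0x6fc09024)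 (.leaf 0x13f07010)))) (.node (.node (.node (.leaf 0x117f7700a) (.leaf 0x10087000)) (.node (.leaf 0x1868e9010) (.leaf 0x8ac45006))) (.node (.node (.leaf 0xa226bb014) (.leaf 0xeb45500e)) (.node (.leaf 0x31345b144) (.leaf 0x863213006))))))) (.node (.node (.node (.node (.node (.node (.leaf 0x13f86b0c6) (.leaf 0x473d9b08a)) (.node (.leaf 0x4dce1b0d6) (.leaf 0x6499f7002))) (.node (.node (.leaf 0x666a7034) (.leaf 0x39c1700a)) (.node (.leaf 0xae1bc9024) (.leaf 0x1b609b01e)))) (.node (.node (.node (.leaf 0x1b919b01e) (.leaf 0x5054904e)) (.node (.leaf 0x601749042) (.leaf 0x46a3004))) (.node (.node (.leaf 0x3dda8b01c) (.leaf 0x33f27700a)) (.node (.leaf 0xc6c6b1fe) (.leaf 0x34178901a))))) (.node (.node (.node (.node (.leaf 0x10f3bb09c) (.leaf 0x22249042)) (.node (.leaf 0x34284700a) (.leaf 0x5c426b090))) (.node (.node (.leaf 0x1d22eb0ea) (.leaf 0x32d1904e)) (.node (.leaf 0x20f37006) (.leaf 0x5726704e)))) (.node (.node (.node (.leaf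 0x2237d5000) (.leaf 0x15e45901a)) (.node (.leaf 0x21655b0d6) (.leaf 0x143017014))) (.node (.node (.leaf 0x1c96eb064) (.leaf 0x20eb19004)) (.node (.leaf 0x18b0db09a) (.leaf 0xe08e7002)))))) (.node (.node (.node (.node (.node (.leaf 0x2acc2b086) (.leaf 0xa8c5b0ea)) (.node (.leaf 0xee3380000) (.leaf 0x5a13000))) (.node (.node (.leaf 0x4971c904e) (.leaf 0x70db05a)) (.node (.leaf 0x148919004) (.leaf 0x9b1d9024)))) (.node (.node (.node (.leaf 0x3e61f9046) (.leaf 0x142f14b086)) (.node (.leaf 0x37d3e9026) (.leaf 0x195e6b014))) (.node (.node (.leaf 0x50beb9016) (.leaf 0x202217014)) (.node (.leaf 0x129609006) (.leaf 0x1fafeb10c))))) (.node (.node (.node (.node (.leaf 0x86467002) (.leaf 0x223815014)) (.node (.leaf 0x91ab901c) (.leaf 0x18e067010))) (.node (.node (.leaf 0x25205b08a) (.leaf 0x45cedb01e)) (.node (.leaf 0x613e9004) (.leaf 0xbbce9042)))) (.node (.node (.node (.leaf 0x501fa9082) (.leaf 0x460fdb14e)) (.node (.leaf 0x228d6b090)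 (.leaf 0x44c74904e))) (.node (.node (.leaf 0x65f67042) (.leaf 0x2979db064)) (.node (.leaf 0x1052b39024) (.leaf 0x6162ab05c)))))))) (.node (.node (.node (.node (.node (.node (.node (.leaf 0x51ba59000) (.leaf 0x2b7b29016)) (.node (.leaf 0x670745014) (.leaf 0x42783b0d6))) (.node (.node (.leaf 0xc84b05a) (.leaf 0x7da3e7002)) (.node (.leaf 0x5cdc15000) (.leaf 0x799e89030)))) (.node (.node (.node (.leaf 0x3298fb09a) (.leaf 0x564c15010)) (.node (.leaf 0x253db905a) (.leaf 0x125437042))) (.node (.node (.leaf 0x2653e502a) (.leaf 0x2640e5002)) (.node (.leaf 0x1ea61b0c0) (.leaf 0x79212b1fe))))) (.node (.node (.node (.node (.leaf 0x1d978b184) (.leaf 0x24449b1d6)) (.node (.leaf 0x357b4b056) (.leaf 0x250e6905a))) (.node (.node (.leaf 0xe4e8cb084) (.leaf 0xe6815006)) (.node (.leaf 0x61909042) (.leaf 0x93ab9004)))) (.node (.node (.node (.leaf 0x25f0cb08a) (.leaf 0xecc85006)) (.node (.leaf 0xf0217020) (.leaf 0xa620b0fc))) (.node (.node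 (.leaf 0x287bfb050) (.leaf 0x1b69cb01e)) (.node (.leaf 0x370c1b00c) (.leaf 0x1896f7020)))))) (.node (.node (.node (.node (.node (.leaf 0x10555c7006) (.leaf 0x56e055004)) (.node (.leaf 0x1aa197034) (.leaf 0x14a529006))) (.node (.node (.leaf 0x20b629006) (.leaf 0x2c1afb044)) (.node (.leaf 0x120d9046) (.leaf 0x9ac77034)))) (.node (.node (.node (.leaf 0x6f281b01e) (.leaf 0x13b86b900a)) (.node (.leaf 0x864e5300e) (.leaf 0x2f7bbb0ea))) (.node (.node (.leaf 0x518aab00c) (.leaf 0x92d27006)) (.node (.leaf 0x5513f9044) (.leaf 0x10806b036))))) (.node (.node (.node (.node (.leaf 0x53e9eb1d6) (.leaf 0xed80500a)) (.node (.leaf 0x10b3700e) (.leaf 0x11f5590c6))) (.node (.node (.leaf 0x8e41500e) (.leaf 0x4ecb99082)) (.node (.leaf 0x21842b0c6) (.leaf 0x477c2b05a)))) (.node (.node (.node (.leaf 0x6dcc900c) (.leaf 0x2d10900c)) (.node (.leaf 0x1b0ccb01e) (.leaf 0x575007000))) (.node (.node (.leaf 0x4f203b0ea) (.leaf 0x306e8b01e)) (.node (.leaf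 0x503ac9014) (.leaf 0xe2a45042))))))) (.node (.node (.node (.node (.node (.node (.leaf 0x49b20901a) (.leaf 0x87177002)) (.node (.leaf 0x10789010) (.leaf 0x66777006))) (.node (.node (.leaf 0x1e7e9b14e) (.leaf 0x753ed7006)) (.node (.leaf 0xe6cf7002) (.leaf 0x38f49704e)))) (.node (.node (.node (.leaf 0xb26f900a) (.leaf 0x34772704e)) (.node (.leaf 0x93809006) (.leaf 0x1323b144))) (.node (.node (.leaf 0x9ff9900c) (.leaf 0x4e9ef9014)) (.node (.leaf 0x1a33a900a) (.leaf 0x451f0b01e))))) (.node (.node (.node (.node (.leaf 0x658759002) (.leaf 0x3f73004)) (.node (.leaf 0xa116b062) (.leaf 0x345b704e))) (.node (.node (.leaf 0xd726b09c) (.leaf 0x437a6b184)) (.node (.leaf 0x658825004) (.leaf 0x1ac09000)))) (.node (.node (.node (.leaf 0x1213d9024) (.leaf 0x3b1933000)) (.node (.leaf 0x222605014) (.leaf 0x4bb249044))) (.node (.node (.leaf 0x6b0845042) (.leaf 0x20319006)) (.node (.leaf 0x17d05905c) (.leaf 0x867b5905a)))))) (.node (.node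 (.node (.node (.node (.leaf 0xa1fdf9006) (.leaf 0x2596db08a)) (.node (.leaf 0x2ae21b062) (.leaf 0x57d8901a))) (.node (.node (.leaf 0x23d27042) (.leaf 0x4d03b064)) (.node (.leaf 0x1d081b062) (.leaf 0x85877002)))) (.node (.node (.node (.leaf 0x348d4904e) (.leaf 0x3a8657020)) (.node (.leaf 0x7af7db10c) (.leaf 0x16ed3b084))) (.node (.node (.leaf 0xa905b086) (.leaf 0x17fbb00c)) (.node (.leaf 0x8232fb17a) (.leaf 0x60e319006))))) (.node (.node (.node (.node (.leaf 0xfe607026) (.leaf 0x8580d9010)) (.node (.leaf 0x472bfb05a) (.leaf 0x1ac3a90c6))) (.node (.node (.leaf 0x1b509b01e) (.leaf 0x44ac8901a)) (.node (.leaf 0x864dd905a) (.leaf 0x3a2f47026)))) (.node (.node (.node (.leaf 0x67ee7014) (.leaf 0xcd489044)) (.node (.leaf 0xdbc9b084) (.leaf 0xfa03000))) (.node (.node (.leaf 0x925b05a) (.leaf 0x33395704e)) (.node (.leaf 0x3b5083004) (.leaf 0x28358b002))))))))) (.node (.node (.node (.node (.node (.node (.node (.node (.leaf 0xe05d29036)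 (.leaf 0x4cf329026)) (.node (.leaf 0x62a3000) (.leaf 0x56df9014))) (.node (.node (.leaf 0x383499006) (.leaf 0x48a56904e)) (.node (.leaf 0xf927700e) (.leaf 0xbaf7b0fc)))) (.node (.node (.node (.leaf 0x335367042) (.leaf 0x10e9cb084)) (.node (.leaf 0x568d05014) (.leaf 0x311b9b014))) (.node (.node (.leaf 0x142cab0fc) (.leaf 0x57bac9026)) (.node (.leaf 0xb4d72b050) (.leaf 0x158147042))))) (.node (.node (.node (.node (.leaf 0x11d989024) (.leaf 0x84105002)) (.node (.leaf 0x1852d7030) (.leaf 0x2c31704e))) (.node (.node (.leaf 0x42ed3b0d6) (.leaf 0x37d2bb000)) (.node (.leaf 0xcf04905c) (.leaf 0x3cbf0b114)))) (.node (.node (.node (.leaf 0x621d90c6) (.leaf 0x14143b194)) (.node (.leaf 0x8b5ab0a6) (.leaf 0x306e0b01e))) (.node (.node (.leaf 0x492a97024) (.leaf 0x3f429014)) (.node (.leaf 0xc5cf79044) (.leaf 0x8528502a)))))) (.node (.node (.node (.node (.node (.leaf 0x1c68fb114) (.leaf 0x5c8815004)) (.node (.leaf 0x301bdb01e) (.leaf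 0x3fb47024))) (.node (.node (.leaf 0x1d4207014) (.leaf 0x3893004)) (.node (.leaf 0x26eb89002) (.leaf 0x16926b084)))) (.node (.node (.node (.leaf 0x4142b114) (.leaf 0x2e47cb01c)) (.node (.leaf 0x3a117006) (.leaf 0x5df6fb0a6))) (.node (.node (.leaf 0x4db0ab0c6) (.leaf 0xf72b08a)) (.node (.leaf 0x1b0c4b01e) (.leaf 0x4f9619004))))) (.node (.node (.node (.node (.leaf 0x1def09004) (.leaf 0x472e9300e)) (.node (.leaf 0x1eff9b14e) (.leaf 0x240d29044))) (.node (.node (.leaf 0x86197b05a) (.leaf 0x61a7700a)) (.node (.leaf 0x26a6a5014) (.leaf 0x17792b05c)))) (.node (.node (.node (.leaf 0x2568d905a) (.leaf 0xa3cb7024)) (.node (.leaf 0x740ae9006) (.leaf 0xe8bdb00a))) (.node (.node (.leaf 0x16f5c8b144) (.leaf 0x4a0dab0ea)) (.node (.leaf 0x5c617024) (.leaf 0x113c89042))))))) (.node (.node (.node (.node (.node (.node (.leaf 0x77bddb002) (.leaf 0xa68e901a)) (.node (.leaf 0x363c9b064) (.leaf 0xb4beb0ea))) (.node (.node (.leaf 0x1a344b062)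 (.leaf 0x8669b00a)) (.node (.leaf 0x4ed20700a) (.leaf 0x3d6c901c)))) (.node (.node (.node (.leaf 0x9f9090c6) (.leaf 0x39ab8b00c)) (.node (.leaf 0x388dc9024) (.leaf 0x5753c7026))) (.node (.node (.leaf 0x532f5b056) (.leaf 0x49e789016)) (.node (.leaf 0x23373b062) (.leaf 0xc7edb1d6))))) (.node (.node (.node (.node (.leaf 0x2c2190c6) (.leaf 0x1b211b01e)) (.node (.leaf 0x54572b1d6) (.leaf 0x47318905a))) (.node (.node (.leaf 0x21645b0d6) (.leaf 0x12ea2700a)) (.node (.leaf 0x153bb1b064) (.leaf 0x23fccb086)))) (.node (.node (.node (.leaf 0x163f7030) (.leaf 0x33ad9016)) (.node (.leaf 0x117a67042) (.leaf 0xeba4b00a))) (.node (.node (.leaf 0x22c36b0cc) (.leaf 0x1512a9024)) (.node (.leaf 0x1e431b0c0) (.leaf 0x9ef8a7014)))))) (.node (.node (.node (.node (.node (.leaf 0x50d09016) (.leaf 0x6e3237034)) (.node (.leaf 0xeda52901c) (.leaf 0x18af5b050))) (.node (.node (.leaf 0x4019bb01e) (.leaf 0x5f079024)) (.node (.leaf 0x209d3b0ea) (.leaf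 0x2bbb1b0ea)))) (.node (.node (.node (.leaf 0xcffb08a) (.leaf 0xe6e2b0a6)) (.node (.leaf 0x1982fb042) (.leaf 0x319d3b000))) (.node (.node (.leaf 0x72e629030) (.leaf 0xf36349002)) (.node (.leaf 0xee8260000) (.leaf 0x12e70900a))))) (.node (.node (.node (.node (.leaf 0xdd6e4b2dc) (.leaf 0xf796f7014)) (.node (.leaf 0x20b13b086) (.leaf 0x339be901c))) (.node (.node (.leaf 0x8adbb0a6) (.leaf 0x1bd01b01e)) (.node (.leaf 0x6a5b97024) (.leaf 0x14bc8b062)))) (.node (.node (.node (.leaf 0x795db114) (.leaf 0x42774b0c6)) (.node (.leaf 0xd4abb036) (.leaf 0xce929030))) (.node (.node (.leaf 0x2ea3fb014) (.leaf 0xa17a904e)) (.node (.leaf 0x59b3900c) (.leaf 0x6f51cb01e)))))))) (.node (.node (.node (.node (.node (.node (.node (.leaf 0x5e2f7004) (.leaf 0xe9f69002)) (.node (.leaf 0x19836b050) (.leaf 0xdfa1b084))) (.node (.node (.leaf 0x86bf9002) (.leaf 0x620d704e)) (.node (.leaf 0x4f8ad7034) (.leaf 0x5c6a85004)))) (.node (.node (.node (.leaf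 0x5b947006) (.leaf 0x4d19b064)) (.node (.leaf 0xc847b10c) (.leaf 0x3aaf07010))) (.node (.node (.leaf 0x37e8fb06a) (.leaf 0x29ed6b044)) (.node (.leaf 0x14d49b184) (.leaf 0x34c217042))))) (.node (.node (.node (.node (.leaf 0x33b27004) (.leaf 0x8335f9044)) (.node (.leaf 0x343317024) (.leaf 0x19cb0b000))) (.node (.node (.leaf 0x850ab0a6) (.leaf 0x2d547b024)) (.node (.leaf 0x305e0b01e) (.leaf 0xe3b79002)))) (.node (.node (.node (.leaf 0x15c217006) (.leaf 0x22207b0cc)) (.node (.leaf 0x49f3000) (.leaf 0x1dc8c7034))) (.node (.node (.leaf 0x11f84900c) (.leaf 0x2afac7034)) (.node (.leaf 0xa8ab08a) (.leaf 0x16025b036)))))) (.node (.node (.node (.node (.node (.leaf 0x564455000) (.leaf 0xa18d7004)) (.node (.leaf 0x186769000) (.leaf 0x3828c9042))) (.node (.node (.leaf 0x67e245010) (.leaf 0x4a5d5b062)) (.node (.leaf 0x243109030) (.leaf 0x3d6a5b000)))) (.node (.node (.node (.leaf 0x40df6b01e) (.leaf 0x26c959002)) (.node (.leaf 0x18849026)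 (.leaf 0xeb669002))) (.node (.node (.leaf 0x2fd0a9006) (.leaf 0x23171b0fc)) (.node (.leaf 0x488b39082) (.leaf 0x2823700a))))) (.node (.node (.node (.node (.leaf 0x71c12900c) (.leaf 0xc11c0b10c)) (.node (.leaf 0xb7226b1d6) (.leaf 0x957ac9082))) (.node (.node (.leaf 0x13d39b0d6) (.leaf 0xe1e5b00a)) (.node (.leaf 0x15ab29014) (.leaf 0x742fe900a)))) (.node (.node (.node (.leaf 0x238c6b184) (.leaf 0x67147b0cc)) (.node (.leaf 0x8d7e9002) (.leaf 0xac3d9014))) (.node (.node (.leaf 0x611d900a) (.leaf 0xc183004)) (.node (.leaf 0x64a02b0a6) (.leaf 0x35e47042))))))) (.node (.node (.node (.node (.node (.node (.leaf 0x5d0a29002) (.leaf 0x312d7b06a)) (.node (.leaf 0x25837300a) (.leaf 0x6eb85900c))) (.node (.node (.leaf 0x455a5b01e) (.leaf 0x1b111b01e)) (.node (.leaf 0x4b9ffb10c) (.leaf 0x9890900a)))) (.node (.node (.node (.leaf 0xc0c2905c) (.leaf 0x1debf90c6)) (.node (.leaf 0x544d9082) (.leaf 0xf2ac7010))) (.node (.node (.leaf 0x14257020)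 (.leaf 0x4fef29006)) (.node (.leaf 0x59b9901c) (.leaf 0xeef2b0a6))))) (.node (.node (.node (.node (.leaf 0x47741905a) (.leaf 0x22266b0cc)) (.node (.leaf 0x6573f5042) (.leaf 0x56743b090))) (.node (.node (.leaf 0xe6fcb00a) (.leaf 0x4fbf39042)) (.node (.leaf 0xb97b08a) (.leaf 0x1076eb036)))) (.node (.node (.node (.leaf 0x2350cb0ea) (.leaf 0x9eb5a901c)) (.node (.leaf 0x8610ab05a) (.leaf 0xaa679082))) (.node (.node (.leaf 0x2321900a) (.leaf 0x7785b044)) (.node (.leaf 0x10547026) (.leaf 0x19b15b002)))))) (.node (.node (.node (.node (.node (.leaf 0x3bda9024) (.leaf 0x49a97900c)) (.node (.leaf 0x26fad7002) (.leaf 0x171ab9044))) (.node (.node (.leaf 0x11f277006) (.leaf 0x259823006)) (.node (.leaf 0x9102700a) (.leaf 0x488957004)))) (.node (.node (.node (.leaf 0x250603006) (.leaf 0x7d8605002)) (.node (.leaf 0x1f09f9044) (.leaf 0xa5869016))) (.node (.node (.leaf 0x14823b0ea) (.leaf 0x8661b00a)) (.node (.leaf 0x24b749044) (.leaf 0xc99c8b10c)))))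 (.node (.node (.node (.node (.leaf 0x86e9cb08a) (.leaf 0x2b422b062)) (.node (.leaf 0xf42fb00c) (.leaf 0x3be09082))) (.node (.node (.leaf 0x141e3b086) (.leaf 0xaf0a9b0d6)) (.node (.leaf 0x838bb0a6) (.leaf 0x3ec6900c)))) (.node (.node (.node (.leaf 0x655435006) (.leaf 0x1a55bb0ea)) (.node (.leaf 0x15b9c901c) (.leaf 0x6b81f9002))) (.node (.node (.leaf 0xb451b062) (.leaf 0x135ceb0c6)) (.node (.leaf 0x575ed7020) (.leaf 0x2f6657014)))))))))) (.node (.node (.node (.node (.node (.node (.node (.node (.node (.leaf 0xec7a1b044) (.leaf 0x5b269006)) (.node (.leaf 0x97ae9016) (.leaf 0x62239016))) (.node (.node (.leaf 0x2e4277030) (.leaf 0x193957000)) (.node (.leaf 0x1f3869036) (.leaf 0x137ecab036)))) (.node (.node (.node (.leaf 0x18550b042) (.leaf 0x1a0d49016)) (.node (.leaf 0x34c339042) (.leaf 0xecc15014))) (.node (.node (.leaf 0x3b5a7b05a) (.leaf 0x2c1c7004)) (.node (.leaf 0x17c69b056) (.leaf 0x203397024))))) (.node (.node (.node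 (.node (.leaf 0x83465b056) (.leaf 0x11978b086)) (.node (.leaf 0xb3a87042) (.leaf 0x34b729006))) (.node (.node (.leaf 0x3c012b044) (.leaf 0x14f839024)) (.node (.leaf 0x23af9900a) (.leaf 0x3883cb086)))) (.node (.node (.node (.leaf 0x5cc0b9002) (.leaf 0xe892b090)) (.node (.leaf 0x2e5909026) (.leaf 0x56579042))) (.node (.node (.leaf 0x9bd3f7006) (.leaf 0x4375c9024)) (.node (.leaf 0x14d859082) (.leaf 0x22436b0a6)))))) (.node (.node (.node (.node (.node (.leaf 0x331c8b194) (.leaf 0x1c409b114)) (.node (.leaf 0x401cfb01e) (.leaf 0x353e09030))) (.node (.node (.leaf 0x688d09014) (.leaf 0x12e6f9082)) (.node (.leaf 0xa513901c) (.leaf 0x5610f7002)))) (.node (.node (.node (.leaf 0x5c37a9002) (.leaf 0x78441b00a)) (.node (.leaf 0x3b371b08a) (.leaf 0x4ec4eb0fc))) (.node (.node (.leaf 0x334b900a) (.leaf 0x15f3b90c6)) (.node (.leaf 0x11323b062) (.leaf 0xace89006))))) (.node (.node (.node (.node (.leaf 0x4f300e) (.leaf 0x60329082)) (.node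 (.leaf 0x208bb9014) (.leaf 0x7a6dc905c))) (.node (.node (.leaf 0xdc1ab7006) (.leaf 0x3c4b90c6)) (.node (.leaf 0x2559e3004) (.leaf 0x720acb1fe)))) (.node (.node (.node (.leaf 0xff73b09a) (.leaf 0x88aab090)) (.node (.leaf 0x57765b000) (.leaf 0xc67fb1d6))) (.node (.node (.leaf 0x194c09046) (.leaf 0x4b84b044)) (.node (.leaf 0x22ac9014) (.leaf 0x271300e))))))) (.node (.node (.node (.node (.node (.node (.leaf 0x72661b05c) (.leaf 0x1a0137004)) (.node (.leaf 0xe8209900c) (.leaf 0x4c85e9000))) (.node (.node (.leaf 0x7343b044) (.leaf 0x14d097042)) (.node (.leaf 0x1ef64b2dc) (.leaf 0x2d57901a)))) (.node (.node (.node (.leaf 0x39ae4b050) (.leaf 0x68a87004)) (.node (.leaf 0x1b53db01e) (.leaf 0xed8905a))) (.node (.node (.leaf 0xc53db05c) (.leaf 0x812bb090)) (.node (.leaf 0x1ebdb000) (.leaf 0xa7139004))))) (.node (.node (.node (.node (.leaf 0x4b157b1d6) (.leaf 0x6b589014)) (.node (.leaf 0x2733904e) (.leaf 0x8e405000))) (.node (.node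 (.leaf 0x94e097034) (.leaf 0x5c4a7b0a6)) (.node (.leaf 0x118e6b184) (.leaf 0xcb557b05c)))) (.node (.node (.node (.leaf 0xf3fcb01c) (.leaf 0x739825014)) (.node (.leaf 0x15f4c7014) (.leaf 0x79dab064))) (.node (.node (.leaf 0x1958ab00c) (.leaf 0x22f3a9002)) (.node (.leaf 0x40902b01e) (.leaf 0x1b86db01e)))))) (.node (.node (.node (.node (.node (.leaf 0x12a557004) (.leaf 0x475b03000)) (.node (.leaf 0x26da1b0cc) (.leaf 0x2284b9002))) (.node (.node (.leaf 0x531c39030) (.leaf 0x17e4a9b00c)) (.node (.leaf 0x1559c9004) (.leaf 0x184f7b000)))) (.node (.node (.node (.leaf 0x1b960b01e) (.leaf 0x186f64b00a)) (.node (.leaf 0x10526b09c) (.leaf 0x11fcdb0fc))) (.node (.node (.leaf 0xf20905a) (.leaf 0x314d1b09a)) (.node (.leaf 0x9ac59014) (.leaf 0x67236b0a6))))) (.node (.node (.node (.node (.leaf 0x7de42b090) (.leaf 0x341257034)) (.node (.leaf 0x488df7014) (.leaf 0x1f6fdb056))) (.node (.node (.leaf 0x19142b144) (.leaf 0xd7a3b09c)) (.node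 (.leaf 0x12fe59014) (.leaf 0xedc3b090)))) (.node (.node (.node (.leaf 0x22cea9002) (.leaf 0x84845014)) (.node (.leaf 0x3e7377020) (.leaf 0x91357004))) (.node (.node (.leaf 0xac3f7034) (.leaf 0x3f6c9004)) (.node (.leaf 0x309f9b01e) (.leaf 0x739d65000)))))))) (.node (.node (.node (.node (.node (.node (.node (.leaf 0xe5e300a) (.leaf 0x5f3690c6)) (.node (.leaf 0x308fcb01e) (.leaf 0x1049db084))) (.node (.node (.leaf 0x214c8b0d6) (.leaf 0xe5805014)) (.node (.leaf 0x26aa4b0a6) (.leaf 0x259733004)))) (.node (.node (.node (.leaf 0x5d9aeb090) (.leaf 0x13dabb0c6)) (.node (.leaf 0x34222900a) (.leaf 0x358a9042))) (.node (.node (.leaf 0x4a0397006) (.leaf 0x125b2904e)) (.node (.leaf 0x548a2b05c) (.leaf 0x4300a))))) (.node (.node (.node (.node (.leaf 0x43bc8900c) (.leaf 0x45ce4b01e)) (.node (.leaf 0x22a66b0a6) (.leaf 0x11cb8b0ea))) (.node (.node (.leaf 0x4371a7034) (.leaf 0x62b7904e)) (.node (.leaf 0x361dcb114) (.leaf 0x2d827024))))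 (.node (.node (.node (.leaf 0xd5a0db06a) (.leaf 0x38efcb0ea)) (.node (.leaf 0x659c4b090) (.leaf 0x5836900a))) (.node (.node (.leaf 0x385b9006) (.leaf 0x1507a9042)) (.node (.leaf 0x8dfab090) (.leaf 0x11d55e7006)))))) (.node (.node (.node (.node (.node (.leaf 0x50631704e) (.leaf 0xbe057006)) (.node (.leaf 0x52d71b024) (.leaf 0x1f477900e))) (.node (.node (.leaf 0x1b88b002) (.leaf 0x25858b05a)) (.node (.leaf 0x3bc3006) (.leaf 0x27f2ab036)))) (.node (.node (.node (.leaf 0x95e6901a) (.leaf 0x686b901a)) (.node (.leaf 0x30becb01e) (.leaf 0xecd3006))) (.node (.node (.leaf 0x1aa019082) (.leaf 0x76f5a7014)) (.node (.leaf 0x3b2f93002) (.leaf 0xe9145000))))) (.node (.node (.node (.node (.leaf 0x48629900c) (.leaf 0x2b754900a)) (.node (.leaf 0x3dec89000) (.leaf 0x14e91901c))) (.node (.node (.leaf 0x3588e9044) (.leaf 0x1caeb042)) (.node (.leaf 0xd618b084) (.leaf 0x281047026)))) (.node (.node (.node (.leaf 0x14d189016) (.leaf 0xb3a3d7000))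 (.node (.leaf 0x312027010) (.leaf 0x71d27900a))) (.node (.node (.leaf 0x1a1a87006) (.leaf 0x32b889000)) (.node (.leaf 0xa441900c) (.leaf 0x5684e7002))))))) (.node (.node (.node (.node (.node (.node (.leaf 0x19d306b084) (.leaf 0x300a9b01e)) (.node (.leaf 0x1a5a39014) (.leaf 0x146197024))) (.node (.node (.leaf 0x672f8b00a) (.leaf 0x149905a)) (.node (.leaf 0x257e9082) (.leaf 0xb9f67004)))) (.node (.node (.node (.leaf 0x5bb99004) (.leaf 0x18f4a7026)) (.node (.leaf 0x17ed29036) (.leaf 0x40512b01e))) (.node (.node (.leaf 0x1de05700a) (.leaf 0xa6c37014)) (.node (.leaf 0xb44a97010) (.leaf 0x5ac6fb036))))) (.node (.node (.node (.node (.leaf 0x3b500b08a) (.leaf 0x1bf6db01e)) (.node (.leaf 0x9a481b044) (.leaf 0x2f1f9016))) (.node (.node (.leaf 0x1047a51002) (.leaf 0x1673db09c)) (.node (.leaf 0x1b570b01e) (.leaf 0xb5ba900c)))) (.node (.node (.node (.leaf 0x4884f9004) (.leaf 0x3cf87034)) (.node (.leaf 0x7d812b090) (.leaf 0x18b9bb06a)))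 (.node (.node (.leaf 0x6fa67024) (.leaf 0x453b1b01e)) (.node (.leaf 0x2a715700a) (.leaf 0x87955014)))))) (.node (.node (.node (.node (.node (.leaf 0x2cdf1b114) (.leaf 0x4a494901c)) (.node (.leaf 0xfa7db06a) (.leaf 0x10823b036))) (.node (.node (.leaf 0x11058b194) (.leaf 0x23cc7700a)) (.node (.leaf 0x342297014) (.leaf 0x676a8502a)))) (.node (.node (.node (.leaf 0x15cefab01e) (.leaf 0x5c069b00a)) (.node (.leaf 0x1075a09002) (.leaf 0x8f7bb090))) (.node (.node (.leaf 0xb6825b0c0) (.leaf 0x3bef2b05a)) (.node (.leaf 0xe21905a) (.leaf 0x4ba54b1fe))))) (.node (.node (.node (.node (.leaf 0x3110b7020) (.leaf 0x286d49026)) (.node (.leaf 0x19f259010) (.leaf 0x9414d9004))) (.node (.node (.leaf 0x56755500e) (.leaf 0x2e0007026)) (.node (.leaf 0x56697014) (.leaf 0x421e5b0c6)))) (.node (.node (.node (.leaf 0x24c52b056) (.leaf 0xe5d3b090)) (.node (.leaf 0x14a7b050) (.leaf 0xf08aab06a))) (.node (.node (.leaf 0x15b7067002) (.leaf 0x6fd98b01e))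 (.node (.leaf 0xde7eb036) (.leaf 0xcad5b10c))))))))) (.node (.node (.node (.node (.node (.node (.node (.node (.leaf 0x278f4b084) (.leaf 0x14652704e)) (.node (.leaf 0x2a2857006) (.leaf 0xb189901a))) (.node (.node (.leaf 0x2314b0ea) (.leaf 0x943eb062)) (.node (.leaf 0xe9915010) (.leaf 0x52be1b024)))) (.node (.node (.node (.leaf 0x3b8b08a) (.leaf 0xa8f890c6)) (.node (.leaf 0x7ef399030) (.leaf 0x992f5b000))) (.node (.node (.leaf 0x1f256b1d6) (.leaf 0x18f479046)) (.node (.leaf 0xcc4e900e) (.leaf 0x25a3eb08a))))) (.node (.node (.node (.node (.leaf 0x27a97b09c) (.leaf 0x4f36b9014)) (.node (.leaf 0x60686b184) (.leaf 0x4e5f17034))) (.node (.node (.leaf 0x30ea4b01e) (.leaf 0x1d0119016)) (.node (.leaf 0x2b4449006) (.leaf 0xd4cbb09c)))) (.node (.node (.node (.leaf 0x76e69704e) (.leaf 0x284509000)) (.node (.leaf 0x110e7904e) (.leaf 0xeee2b0cc))) (.node (.node (.leaf 0x4bc879036) (.leaf 0x966b05a)) (.node (.leaf 0x758479006) (.leaf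 0x1fb489036)))))) (.node (.node (.node (.node (.node (.leaf 0x57aeb0fc) (.leaf 0x1ad68904e)) (.node (.leaf 0x2de5ab0d6) (.leaf 0x3b0c8905a))) (.node (.node (.leaf 0x26414b090) (.leaf 0x157a3b0fc)) (.node (.leaf 0x472813004) (.leaf 0x5c8f8500e)))) (.node (.node (.node (.leaf 0x34d3b0fc) (.leaf 0x2f9b5901c)) (.node (.leaf 0x11fbb901a) (.leaf 0x3273d7020))) (.node (.node (.leaf 0x58e0fb084) (.leaf 0xea155004)) (.node (.leaf 0x86cf0b05a) (.leaf 0x8d0ab0cc))))) (.node (.node (.node (.node (.leaf 0x311ab194) (.leaf 0x7271cb056)) (.node (.leaf 0xbdb14502a) (.leaf 0x228027002))) (.node (.node (.leaf 0x5a247b036) (.leaf 0x24c31b10c)) (.node (.leaf 0x5dc7b194) (.leaf 0x64202b0cc)))) (.node (.node (.node (.leaf 0x237867042) (.leaf 0x1d5d57006)) (.node (.leaf 0x6f20b086) (.leaf 0x14200901a))) (.node (.node (.leaf 0x19e819026) (.leaf 0x29980b114)) (.node (.leaf 0x1079bb036) (.leaf 0xf6f2b042))))))) (.node (.node (.node (.node (.node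 (.node (.leaf 0x6985b0fc) (.leaf 0x2cb9b0fc)) (.node (.leaf 0x20762704e) (.leaf 0xba3b05a))) (.node (.node (.leaf 0x13625b024) (.leaf 0x41f905a)) (.node (.leaf 0x23dea7034) (.leaf 0x1f508b05c)))) (.node (.node (.node (.leaf 0x19f117026) (.leaf 0x2a4e29024)) (.node (.leaf 0x56ba69002) (.leaf 0x20170901a))) (.node (.node (.leaf 0x1dc2a900c) (.leaf 0xb5e3fb06a)) (.node (.leaf 0x309f1b01e) (.leaf 0x1e574b0c0))))) (.node (.node (.node (.node (.leaf 0xd12905a) (.leaf 0x5c4337002)) (.node (.leaf 0x25213b08a) (.leaf 0x83855010))) (.node (.node (.leaf 0x103838b0cc) (.leaf 0x254143004)) (.node (.leaf 0x2892b184) (.leaf 0x5340b062)))) (.node (.node (.node (.leaf 0x233a8900c) (.leaf 0xbdf9eb0a6)) (.node (.leaf 0x54717905c) (.leaf 0xf5d4b002))) (.node (.node (.leaf 0x10a65b084) (.leaf 0x23b5e9004)) (.node (.leaf 0x16654b09c) (.leaf 0x141fb09a)))))) (.node (.node (.node (.node (.node (.leaf 0x45de9b01e) (.leaf 0x537905a)) (.node (.leaf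 0x5bd1db05c) (.leaf 0xe7b3b0cc))) (.node (.node (.leaf 0xd7e0b084) (.leaf 0x1be78b01e)) (.node (.leaf 0x28efb700e) (.leaf 0xc81b08a)))) (.node (.node (.node (.leaf 0x2b6919024) (.leaf 0x532759044)) (.node (.leaf 0x2a61a7004) (.leaf 0x44401b184))) (.node (.node (.leaf 0x1a678700a) (.leaf 0x453b9b01e)) (.node (.leaf 0x7bdbb114) (.leaf 0xf7f9b000))))) (.node (.node (.node (.node (.leaf 0xad063b024) (.leaf 0x319729000)) (.node (.leaf 0x2879d9046) (.leaf 0x1b168b01e))) (.node (.node (.leaf 0x348b0b062) (.leaf 0x35d3fb10c)) (.node (.leaf 0xaaa905a) (.leaf 0x155ddb062)))) (.node (.node (.node (.leaf 0x2b42f7014) (.leaf 0x89515004)) (.node (.leaf 0x2ae4e900c) (.leaf 0x383db062))) (.node (.node (.leaf 0x4e68690c6) (.leaf 0x6ab6b184)) (.node (.leaf 0x253333000) (.leaf 0x1db0e9024)))))))) (.node (.node (.node (.node (.node (.node (.node (.leaf 0x765b3700a) (.leaf 0x302b4b01e)) (.node (.leaf 0x42342b0d6) (.leaf 0x1f80db1fe))) (.node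 (.node (.leaf 0x1deb05a) (.leaf 0x7110b064)) (.node (.leaf 0x48e30900a) (.leaf 0xfd8bb050)))) (.node (.node (.node (.leaf 0x455acb01e) (.leaf 0x4ec057014)) (.node (.leaf 0x3f9c0b064) (.leaf 0x844b49016))) (.node (.node (.leaf 0x22ae37002) (.leaf 0x73203500e)) (.node (.leaf 0xa8e8704e) (.leaf 0xc6ef9036))))) (.node (.node (.node (.node (.leaf 0x4256eb024) (.leaf 0xf00169046)) (.node (.leaf 0x1737b014) (.leaf 0x133e3b0c6))) (.node (.node (.leaf 0x1607cb09c) (.leaf 0x1447c700a)) (.node (.leaf 0x12a0b01c) (.leaf 0x11ea29082)))) (.node (.node (.node (.leaf 0xc730900e) (.leaf 0x238a99006)) (.node (.leaf 0x3d4677030) (.leaf 0x29218b044))) (.node (.node (.leaf 0x26a66b00a) (.leaf 0x1295db0ea)) (.node (.leaf 0x98d3a904e) (.leaf 0x3234c7026)))))) (.node (.node (.node (.node (.node (.leaf 0xe7545004) (.leaf 0x75c5790c6)) (.node (.leaf 0x4d19fb0c6) (.leaf 0x26d4b086))) (.node (.node (.leaf 0x5c4a55006) (.leaf 0x22c737002)) (.node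 (.leaf 0x3aa4b184) (.leaf 0x118b39016)))) (.node (.node (.node (.leaf 0x3758a9000) (.leaf 0xd1572704e)) (.node (.leaf 0x509467014) (.leaf 0xb6c5904e))) (.node (.node (.leaf 0xaff8900a) (.leaf 0x835ab0cc)) (.node (.leaf 0x2b9377042) (.leaf 0x3bbe9905a))))) (.node (.node (.node (.node (.leaf 0x8aff8905c) (.leaf 0xe6f2b0cc)) (.node (.leaf 0x2fd07900c) (.leaf 0x1db949082))) (.node (.node (.leaf 0x53b219030) (.leaf 0x79422b056)) (.node (.leaf 0x406dfb01e) (.leaf 0x553669036)))) (.node (.node (.node (.leaf 0x43299704e) (.leaf 0x700b08a)) (.node (.leaf 0x3decc7026) (.leaf 0x568b4b00a))) (.node (.node (.leaf 0x2acf87042) (.leaf 0x49eebb194)) (.node (.leaf 0x477db3000) (.leaf 0x46078b2dc))))))) (.node (.node (.node (.node (.node (.node (.leaf 0x37eadb050) (.leaf 0x38e13904e)) (.node (.leaf 0x82dbb0cc) (.leaf 0x47683b08a))) (.node (.node (.leaf 0xefa3b0cc) (.leaf 0x21b61b024)) (.node (.leaf 0xab1359042) (.leaf 0x22a60500a)))) (.node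 (.node (.node (.leaf 0xcdc8b056) (.leaf 0x20d8c904e)) (.node (.leaf 0x40612b01e) (.leaf 0x22e3c5042))) (.node (.node (.leaf 0x5d27b0ea) (.leaf 0x6500b194)) (.node (.leaf 0x254de3000) (.leaf 0x4ae4d901a))))) (.node (.node (.node (.node (.leaf 0x233ce7014) (.leaf 0x1ac2a704e)) (.node (.leaf 0x4d20db024) (.leaf 0x1fd30b10c))) (.node (.node (.leaf 0x6a9b08a) (.leaf 0x57e7b086)) (.node (.leaf 0x1dcf0901c) (.leaf 0x1b268b01e)))) (.node (.node (.node (.leaf 0x99ddb194) (.leaf 0x958cab086)) (.node (.leaf 0x7cbb05a) (.leaf 0x2e86c7010))) (.node (.node (.leaf 0x5b365b10c) (.leaf 0x74cad901c)) (.node (.leaf 0x33037904e) (.leaf 0x88005004)))))) (.node (.node (.node (.node (.node (.leaf 0x33b6b901a) (.leaf 0x9713002)) (.node (.leaf 0x1d8687024) (.leaf 0x71cb6b086))) (.node (.node (.leaf 0x2ab6a9014) (.leaf 0x2e6047000)) (.node (.leaf 0x542479030) (.leaf 0x259653004)))) (.node (.node (.node (.leaf 0x15c1b06a) (.leaf 0x2f46c9016)) (.node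 (.leaf 0x13a2cb0d6) (.leaf 0xc38a6b17a))) (.node (.node (.leaf 0x32fab0ea) (.leaf 0x111f07004)) (.node (.leaf 0x4023002) (.leaf 0x2b3eb7034))))) (.node (.node (.node (.node (.leaf 0x4bfceb056) (.leaf 0x242c4b1fe)) (.node (.leaf 0x210efb0c6) (.leaf 0x196387020))) (.node (.node (.leaf 0x3c3ab086) (.leaf 0x27092b036)) (.node (.leaf 0x2ea83b00c) (.leaf 0x4c73eb01c)))) (.node (.node (.node (.leaf 0x1b865b01e) (.leaf 0x568e4502a)) (.node (.leaf 0x81cc5010) (.leaf 0x34b03b086))) (.node (.node (.leaf 0xb32d07020) (.leaf 0x60244b086)) (.node (.leaf 0x3239c9026) (.leaf 0x300a1b01e))))))))))) (.node (.node (.node (.node (.node (.node (.node (.node (.node (.node (.leaf 0x727bb05c) (.leaf 0x4341cb06a)) (.node (.leaf 0x1ced0905c) (.leaf 0x51b2c9042))) (.node (.node (.leaf 0x4d08f5004) (.leaf 0x59238905c)) (.node (.leaf 0xdf2ab084) (.leaf 0x38c507020)))) (.node (.node (.node (.leaf 0x1852d7024) (.leaf 0x132c3b00a)) (.node (.leaf 0x1ad7bb06a)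 (.leaf 0x3cb119030))) (.node (.node (.leaf 0x129cb0fc) (.leaf 0x84579b144)) (.node (.leaf 0xfe70900a) (.leaf 0x86b94905a))))) (.node (.node (.node (.node (.leaf 0x60fa19026) (.leaf 0x20df29026)) (.node (.leaf 0x32d84b0fc) (.leaf 0xfddb05a))) (.node (.node (.leaf 0x7668ab050) (.leaf 0xb985b042)) (.node (.leaf 0x338b9026) (.leaf 0x2423004)))) (.node (.node (.node (.leaf 0x3b456b08a) (.leaf 0x1f2fb184)) (.node (.leaf 0x3dda6904e) (.leaf 0x814015014))) (.node (.node (.leaf 0x639b3b1d6) (.leaf 0x75a49030)) (.node (.leaf 0x18d039014) (.leaf 0x10d8ab084)))))) (.node (.node (.node (.node (.node (.leaf 0x16aa1b084) (.leaf 0x4d4d35010)) (.node (.leaf 0x1112eb050) (.leaf 0x574399042))) (.node (.node (.leaf 0x380497026) (.leaf 0x74c6ab01c)) (.node (.leaf 0x141eeb01c) (.leaf 0x7b9787030)))) (.node (.node (.node (.leaf 0x570127006) (.leaf 0x13251b090)) (.node (.leaf 0x2d7de7002) (.leaf 0x9e6a0b000))) (.node (.node (.leaf 0x48e16b042)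 (.leaf 0x6c0ebb090)) (.node (.leaf 0x4a6a77010) (.leaf 0x28437b184))))) (.node (.node (.node (.node (.leaf 0x2f73b042) (.leaf 0x15188700e)) (.node (.leaf 0xd19af9046) (.leaf 0x9713000))) (.node (.node (.leaf 0x22cbeb0d6) (.leaf 0x7315bb0c6)) (.node (.leaf 0x48f79030) (.leaf 0xfea2700a)))) (.node (.node (.node (.leaf 0x3ea65901c) (.leaf 0x318857034)) (.node (.leaf 0x1348bb00a) (.leaf 0x5c97fb0d6))) (.node (.node (.leaf 0x1f0feb044) (.leaf 0xec46b024)) (.node (.leaf 0x427ccb00a) (.leaf 0x72b84b064))))))) (.node (.node (.node (.node (.node (.node (.leaf 0x12927700e) (.leaf 0x5db39046)) (.node (.leaf 0x63db9b10c) (.leaf 0x3ecb05a))) (.node (.node (.leaf 0x90dc7b09c) (.leaf 0x13014b090)) (.node (.leaf 0xc6d2f5010) (.leaf 0xa3389026)))) (.node (.node (.node (.leaf 0x746c5b09a) (.leaf 0x1ca1b0ea)) (.node (.leaf 0x21c8db0cc) (.leaf 0x6380b06a))) (.node (.node (.leaf 0x20fbdb144) (.leaf 0x27139b09c)) (.node (.leaf 0x21c50b0a6)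 (.leaf 0xda6eeb00c))))) (.node (.node (.node (.node (.leaf 0x3bee3b08a) (.leaf 0x2d3955006)) (.node (.leaf 0x4d4e87002) (.leaf 0x105d9b036))) (.node (.node (.leaf 0x4af9e7020) (.leaf 0xa4f7990c6)) (.node (.leaf 0x4e227b06a) (.leaf 0x66e25b2dc)))) (.node (.node (.node (.leaf 0x4269f9002) (.leaf 0x197a67014)) (.node (.leaf 0x93f99046) (.leaf 0x18d699082))) (.node (.node (.leaf 0x219ddb0cc) (.leaf 0x1d5dab000)) (.node (.leaf 0x2f0f1b144) (.leaf 0x3aa0b00c)))))) (.node (.node (.node (.node (.node (.leaf 0x18c7d7042) (.leaf 0x42145b00a)) (.node (.leaf 0x5a84eb084) (.leaf 0x43aeeb014))) (.node (.node (.leaf 0xdf7d6b144) (.leaf 0x4229e9002)) (.node (.leaf 0x9e97700e) (.leaf 0xadcda7002)))) (.node (.node (.node (.leaf 0x314f69006) (.leaf 0x20535b00c)) (.node (.leaf 0x24a31b044) (.leaf 0x6829b01c))) (.node (.node (.leaf 0x36fe6b1d6) (.leaf 0x7fb2b1fe)) (.node (.leaf 0x23cacb06a) (.leaf 0x190c0900c))))) (.node (.node (.node (.node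 (.leaf 0x18df8bb0fc) (.leaf 0x14e669010)) (.node (.leaf 0x12b499046) (.leaf 0xa833eb09a))) (.node (.node (.leaf 0x379df9042) (.leaf 0xe9e7e9026)) (.node (.leaf 0x3b38b144) (.leaf 0x5e2dbb184)))) (.node (.node (.node (.leaf 0xd12db036) (.leaf 0x25e56b08a)) (.node (.leaf 0x1c832905c) (.leaf 0x2f969b00c))) (.node (.node (.leaf 0x59cbe905c) (.leaf 0x4f68e7010)) (.node (.leaf 0xeb05b0c6) (.leaf 0x310c79042)))))))) (.node (.node (.node (.node (.node (.node (.node (.leaf 0xd1da29026) (.leaf 0x41c33b1d6)) (.node (.leaf 0x90f3004) (.leaf 0x294b0b1d6))) (.node (.node (.leaf 0x2e6757004) (.leaf 0x31ff97014)) (.node (.leaf 0x50ed6b050) (.leaf 0x3bf033000)))) (.node (.node (.node (.leaf 0x19dd49042) (.leaf 0x2f5b05a)) (.node (.leaf 0x4c0e29006) (.leaf 0x5a0db00c))) (.node (.node (.leaf 0xfd7090c6) (.leaf 0x69aeb014)) (.node (.leaf 0x22d9ab024) (.leaf 0x26875b024))))) (.node (.node (.node (.node (.leaf 0x8a569b044) (.leaf 0x254e33000))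 (.node (.leaf 0x185f37004) (.leaf 0x7c829044))) (.node (.node (.leaf 0x96dc7010) (.leaf 0x2d70f7002)) (.node (.leaf 0x32c69046) (.leaf 0x83c2b0d6)))) (.node (.node (.node (.leaf 0xb3f0b014) (.leaf 0x732b9b024)) (.node (.leaf 0x187db9024) (.leaf 0xa7e87026))) (.node (.node (.leaf 0x7fe71b050) (.leaf 0x2148db0a6)) (.node (.leaf 0x145fe7010) (.leaf 0x62beeb00a)))))) (.node (.node (.node (.node (.node (.leaf 0x81a0ab090) (.leaf 0xad028500a)) (.node (.leaf 0x211ddb0a6) (.leaf 0x27f11b09c))) (.node (.node (.leaf 0x48dab10c) (.leaf 0x3c83000)) (.node (.leaf 0x1041b194) (.leaf 0x93647000)))) (.node (.node (.node (.leaf 0x122ac7010) (.leaf 0x42cdab0a6)) (.node (.leaf 0x3b83eb08a) (.leaf 0xd645b036))) (.node (.node (.leaf 0x29c5b002) (.leaf 0x5ed5b144)) (.node (.leaf 0x3f564905c) (.leaf 0x624e6b00a))))) (.node (.node (.node (.node (.leaf 0x9424db050) (.leaf 0x6258cb090)) (.node (.leaf 0x150e69046) (.leaf 0x2ca29b10c))) (.node (.node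 (.leaf 0xe82ab0d6) (.leaf 0x989fb00c)) (.node (.leaf 0x368bc9036) (.leaf 0x1c639b1d6)))) (.node (.node (.node (.leaf 0x387627030) (.leaf 0x4fd169010)) (.node (.leaf 0x6ec73700e) (.leaf 0x43e7905c))) (.node (.node (.leaf 0x5a5b6b084) (.leaf 0x4dfbd9002)) (.node (.leaf 0x2d59f7002) (.leaf 0x5fdf79010))))))) (.node (.node (.node (.node (.node (.node (.leaf 0x492e7b000) (.leaf 0x4e0c3b000)) (.node (.leaf 0x5d45700e) (.leaf 0x44c99b050))) (.node (.node (.leaf 0xa5a22b0c0) (.leaf 0x11b34b000)) (.node (.leaf 0x19ec49024) (.leaf 0x99ac9000)))) (.node (.node (.node (.leaf 0x92549010) (.leaf 0x422cb1d6)) (.node (.leaf 0x2c247b1d6) (.leaf 0xc9b32b114))) (.node (.node (.leaf 0xa3cb7030) (.leaf 0x8cdeb024)) (.node (.leaf 0x23a76b09a) (.leaf 0x4c2d905c))))) (.node (.node (.node (.node (.leaf 0x44f517030) (.leaf 0x39213704e)) (.node (.leaf 0x1e5e4b2dc) (.leaf 0xa35e2b2dc))) (.node (.node (.leaf 0x2d5ab050) (.leaf 0xba7f7026)) (.node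 (.leaf 0x16ec7b036) (.leaf 0x243f9b114)))) (.node (.node (.node (.leaf 0xa7c14b00c) (.leaf 0x47b13b08a)) (.node (.leaf 0x214b05a) (.leaf 0x81e0bb090))) (.node (.node (.leaf 0x185d07006) (.leaf 0xc7d05b084)) (.node (.leaf 0x8609b0c6) (.leaf 0x33877b042)))))) (.node (.node (.node (.node (.node (.leaf 0xbddeb06a) (.leaf 0x254aeb08a)) (.node (.leaf 0x34de29026) (.leaf 0x2da0b000))) (.node (.node (.leaf 0x28431b086) (.leaf 0x93c54b184)) (.node (.leaf 0x54f69026) (.leaf 0x19d827034)))) (.node (.node (.node (.leaf 0x14e477020) (.leaf 0x63251b05c)) (.node (.leaf 0x82eceb17a) (.leaf 0x5cba0b0c6))) (.node (.node (.leaf 0x3b25bb08a) (.leaf 0x1961b086)) (.node (.leaf 0x13509ab05c) (.leaf 0x62d89b090))))) (.node (.node (.node (.node (.leaf 0x28a62b062) (.leaf 0x13aaeb00a)) (.node (.leaf 0x19f369004) (.leaf 0x1ddaf7026))) (.node (.node (.leaf 0x103ab062) (.leaf 0x1209c9000)) (.node (.leaf 0x12e249010) (.leaf 0x3a802700a)))) (.node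 (.node (.node (.leaf 0x2d181500e) (.leaf 0x19d36901c)) (.node (.leaf 0x143f9b09a) (.leaf 0x114c34904e))) (.node (.node (.leaf 0x52c60b0cc) (.leaf 0x65992b0c6)) (.node (.leaf 0x51f06901c) (.leaf 0x7a089044))))))))) (.node (.node (.node (.node (.node (.node (.node (.node (.leaf 0x18e00700a) (.leaf 0x11abeb014)) (.node (.leaf 0x3bc1cb05a) (.leaf 0xaaabeb064))) (.node (.node (.leaf 0x37d35b184) (.leaf 0xe1921b0a6)) (.node (.leaf 0x1ebb9082) (.leaf 0x7a57db044)))) (.node (.node (.node (.leaf 0x2ca84900e) (.leaf 0x10149fb00a)) (.node (.leaf 0xb422d90c6) (.leaf 0x42fe67002))) (.node (.node (.leaf 0x1c1c09030) (.leaf 0x1ac41b00c)) (.node (.leaf 0xd4dfb084) (.leaf 0x25ae1b05a))))) (.node (.node (.node (.node (.leaf 0x113d6b09a) (.leaf 0x2f810b042)) (.node (.leaf 0xa887db002) (.leaf 0x1baa9016))) (.node (.node (.leaf 0x4d8e2502a) (.leaf 0x4ddc75002)) (.node (.leaf 0x7f7777020) (.leaf 0xa06009002)))) (.node (.node (.node (.leaf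 0x5729b014) (.leaf 0xd60867030)) (.node (.leaf 0x28dfa901a) (.leaf 0xa027b00c))) (.node (.node (.leaf 0x72b4905c) (.leaf 0x42fb08a)) (.node (.leaf 0x75f88b014) (.leaf 0x15516b000)))))) (.node (.node (.node (.node (.node (.leaf 0x3f8529044) (.leaf 0x5275db090)) (.node (.leaf 0x4829fb014) (.leaf 0x623eb050))) (.node (.node (.leaf 0x1aad9b144) (.leaf 0x3abf37042)) (.node (.leaf 0x52a36b00a) (.leaf 0x324ba9016)))) (.node (.node (.node (.leaf 0xafb225014) (.leaf 0x1e0b4b2dc)) (.node (.leaf 0x430b8b000) (.leaf 0x44e2b05c))) (.node (.node (.leaf 0x36517900e) (.leaf 0x2c3979036)) (.node (.leaf 0x34f69b014) (.leaf 0x3976b000))))) (.node (.node (.node (.node (.leaf 0xee0280000) (.leaf 0x26cab014)) (.node (.leaf 0x132b1b0cc) (.leaf 0x76072b09a))) (.node (.node (.leaf 0x2a3b0b014) (.leaf 0x84053b06a)) (.node (.leaf 0x3eb52704e) (.leaf 0x464e8b0c0)))) (.node (.node (.node (.leaf 0x749657030) (.leaf 0xf749900c)) (.node (.leaf 0x949b67010)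 (.leaf 0x33ea1b01c))) (.node (.node (.leaf 0xa3ffb144) (.leaf 0x325ab9082)) (.node (.leaf 0x92563b014) (.leaf 0x569c7b024))))))) (.node (.node (.node (.node (.node (.node (.leaf 0x107c0b036) (.leaf 0xac697b10c)) (.node (.leaf 0xc0d5b044) (.leaf 0x22e6db0c6))) (.node (.node (.leaf 0x16df2b09c) (.leaf 0x2ec2db0ea)) (.node (.leaf 0x57182700a) (.leaf 0x251c8b05a)))) (.node (.node (.node (.leaf 0x8601b0c6) (.leaf 0x1adb79046)) (.node (.leaf 0x6a7cb000) (.leaf 0x6b3eeb024))) (.node (.node (.leaf 0x1520cb014) (.leaf 0xd81ce7000)) (.node (.leaf 0xdf01d7026) (.leaf 0x11a71b01c))))) (.node (.node (.node (.node (.leaf 0x470483000) (.leaf 0x3313004)) (.node (.leaf 0x2dfe69002) (.leaf 0xfe8b9004))) (.node (.node (.leaf 0x2de70b00a) (.leaf 0x163f7024)) (.node (.leaf 0x98509026) (.leaf 0x470e5b05a)))) (.node (.node (.node (.leaf 0x34e3fb000) (.leaf 0xbb44b00c)) (.node (.leaf 0x37bd4b062) (.leaf 0x1d6d4b00c))) (.node (.node (.leaf 0x1953f700a)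 (.leaf 0x1c9049044)) (.node (.leaf 0x287499014) (.leaf 0x970fbb024)))))) (.node (.node (.node (.node (.node (.leaf 0x3eac0904e) (.leaf 0x23a98b000)) (.node (.leaf 0x317e1b184) (.leaf 0x5043b000))) (.node (.node (.leaf 0xb8509b014) (.leaf 0x1307f0b000)) (.node (.leaf 0x25e3c3000) (.leaf 0x298279044)))) (.node (.node (.node (.leaf 0x385057010) (.leaf 0x44ab1b09a)) (.node (.leaf 0xd9413700e) (.leaf 0x380bd7000))) (.node (.node (.leaf 0x736db1d6) (.leaf 0xf6777034)) (.node (.leaf 0x2434b06a) (.leaf 0x28bb97004))))) (.node (.node (.node (.node (.leaf 0x368efb056) (.leaf 0x38fcb014)) (.node (.leaf 0x1ff25b064) (.leaf 0xee5db0c6))) (.node (.node (.leaf 0x2a9e37026) (.leaf 0x3372eb014)) (.node (.leaf 0x20eccb042) (.leaf 0x128137030)))) (.node (.node (.node (.leaf 0x49e979046) (.leaf 0x29ceeb05c)) (.node (.leaf 0xc49879000) (.leaf 0x4023000))) (.node (.node (.leaf 0x76be9030) (.leaf 0x4e1b9044)) (.node (.leaf 0x2e2b08a) (.leaf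 0xf9727006)))))))) (.node (.node (.node (.node (.node (.node (.node (.leaf 0x3227e904e) (.leaf 0x28ef29016)) (.node (.leaf 0x5c14b042) (.leaf 0x46fa8b2dc))) (.node (.node (.leaf 0x441f6b01c) (.leaf 0x3f9ab06a)) (.node (.leaf 0x74d8a9000) (.leaf 0x37176b0fc)))) (.node (.node (.node (.leaf 0x62d6cb0a6) (.leaf 0x1de7f9026)) (.node (.leaf 0xb1af9026) (.leaf 0x2d203b0a6))) (.node (.node (.leaf 0x10c27b084) (.leaf 0x22e4ab024)) (.node (.leaf 0x201efb000) (.leaf 0x869d6905a))))) (.node (.node (.node (.node (.leaf 0x90807026) (.leaf 0xee7ab0d6)) (.node (.leaf 0x4c419044) (.leaf 0x2caf6900e))) (.node (.node (.leaf 0x1fe26b114) (.leaf 0x33c48b06a)) (.node (.leaf 0x32af2901a) (.leaf 0xe1d6b024)))) (.node (.node (.node (.leaf 0x38e16b144) (.leaf 0x27890b09c)) (.node (.leaf 0x3962c7042) (.leaf 0x14256b002))) (.node (.node (.leaf 0xac0c7000) (.leaf 0x1d4dc700e)) (.node (.leaf 0x101e8b036) (.leaf 0x28edb01c)))))) (.node (.node (.node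 (.node (.node (.leaf 0x141d67000) (.leaf 0x6aa71b050)) (.node (.leaf 0x14a2901a) (.leaf 0x3e1d0700a))) (.node (.node (.leaf 0x7543b10c) (.leaf 0x2bed1b06a)) (.node (.leaf 0x7f3969010) (.leaf 0x78da0b0c6)))) (.node (.node (.node (.leaf 0x4a39fb002) (.leaf 0xf06d9042)) (.node (.leaf 0x4cc43b086) (.leaf 0xb1d91b024))) (.node (.node (.leaf 0x21dc7b00a) (.leaf 0x13ab1b0a6)) (.node (.leaf 0xf47b08a) (.leaf 0x19e4190c6))))) (.node (.node (.node (.node (.leaf 0x38c8eb00c) (.leaf 0x1c2769044)) (.node (.leaf 0x3a9927006) (.leaf 0x4e6469026))) (.node (.node (.leaf 0x37f0fb194) (.leaf 0x21ecfb00a)) (.node (.leaf 0x35096b064) (.leaf 0x6b3adb0c6)))) (.node (.node (.node (.leaf 0x603709046) (.leaf 0x17ee904e)) (.node (.leaf 0x12e607026) (.leaf 0x15a6ab06a))) (.node (.node (.leaf 0x2e377b184) (.leaf 0x60aa57000)) (.node (.leaf 0x25a89b05a) (.leaf 0x1804a704e))))))) (.node (.node (.node (.node (.node (.node (.leaf 0x62569b0a6) (.leaf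 0xa37c9010)) (.node (.leaf 0x3591b042) (.leaf 0x2345eb050))) (.node (.node (.leaf 0xa8419046) (.leaf 0x9ad17020)) (.node (.leaf 0x473563004) (.leaf 0x1a149700e)))) (.node (.node (.node (.leaf 0x335b7026) (.leaf 0x32ae17004)) (.node (.leaf 0x5a448b036) (.leaf 0xe883004))) (.node (.node (.leaf 0x68a459026) (.leaf 0x2c4acb056)) (.node (.leaf 0x1ca97004) (.leaf 0x71ab08a))))) (.node (.node (.node (.node (.leaf 0x6cdac5004) (.leaf 0x13cf4b0cc)) (.node (.leaf 0x2d2815002) (.leaf 0x87af1b0a2))) (.node (.node (.leaf 0x134f4b0a6) (.leaf 0x9ac76b056)) (.node (.leaf 0x3c3cf905c) (.leaf 0x46020b14e)))) (.node (.node (.node (.leaf 0x377afb086) (.leaf 0x18510904e)) (.node (.leaf 0x800eb024) (.leaf 0x3aafb7014))) (.node (.node (.leaf 0x3944e900c) (.leaf 0x2107db090)) (.node (.leaf 0x31357b194) (.leaf 0x2f20a7026)))))) (.node (.node (.node (.node (.node (.leaf 0x5b2fdb114) (.leaf 0x4a2bb1fe)) (.node (.leaf 0x21a2db090) (.leaf 0xf4f3000)))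 (.node (.node (.leaf 0xaf849000) (.leaf 0x150a067000)) (.node (.leaf 0x3b5433004) (.leaf 0x473d9030)))) (.node (.node (.node (.leaf 0x21b22b00a) (.leaf 0xc11db114)) (.node (.leaf 0xf5437042) (.leaf 0x1400e9000))) (.node (.node (.leaf 0x5847b06a) (.leaf 0x3bc35b05a)) (.node (.leaf 0x13da4b0cc) (.leaf 0x19011704e))))) (.node (.node (.node (.node (.leaf 0x25b0e3004) (.leaf 0x2a13eb000)) (.node (.leaf 0x56cebb0d6) (.leaf 0xd5dcb036))) (.node (.node (.leaf 0x6879a7030) (.leaf 0xbaa637024)) (.node (.leaf 0xa36f700e) (.leaf 0x1affa9026)))) (.node (.node (.node (.leaf 0x498ba9026) (.leaf 0xddf7b084)) (.node (.leaf 0x8ea8bb114) (.leaf 0xf05b7014))) (.node (.node (.leaf 0x1e3f4b0c0) (.leaf 0x18599014)) (.node (.leaf 0x150a1b042) (.leaf 0x39de59016)))))))))) (.node (.node (.node (.node (.node (.node (.node (.node (.node (.leaf 0x6c304b00a) (.leaf 0x1e0d900c)) (.node (.leaf 0x1318e5002) (.leaf 0x131f6502a))) (.node (.node (.leaf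 0x34a169010) (.leaf 0x19c6f904e)) (.node (.leaf 0xf903b184) (.leaf 0x2b317026)))) (.node (.node (.node (.leaf 0xd36ac900a) (.leaf 0x37e587006)) (.node (.leaf 0x693a700e) (.leaf 0x21ef75000))) (.node (.node (.leaf 0xc88da905c) (.leaf 0x477c13002)) (.node (.leaf 0x699905a) (.leaf 0x21d297002))))) (.node (.node (.node (.node (.leaf 0x81e3f9002) (.leaf 0x3920390c6)) (.node (.leaf 0x125d4b002) (.leaf 0x7dbd9036))) (.node (.node (.leaf 0x2b2b57020) (.leaf 0x32d999042)) (.node (.leaf 0x178f3b064) (.leaf 0x42ced5004)))) (.node (.node (.node (.leaf 0x1d1f37000) (.leaf 0x1e9b1b0c0)) (.node (.leaf 0x4134bb10c) (.leaf 0x3c66ab1d6))) (.node (.node (.leaf 0x3f577010) (.leaf 0x1a1069000)) (.node (.leaf 0x326be7006) (.leaf 0x19043901a)))))) (.node (.node (.node (.node (.node (.leaf 0x776f7700a) (.leaf 0x14e37034)) (.node (.leaf 0x575e19014) (.leaf 0x218835014))) (.node (.node (.leaf 0x2d827030) (.leaf 0x6e035b000)) (.node (.leaf 0xdf1905a)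 (.leaf 0x157e7b01c)))) (.node (.node (.node (.leaf 0x3a111b0ea) (.leaf 0x63b19010)) (.node (.leaf 0xb2237000) (.leaf 0x21cb97002))) (.node (.node (.leaf 0xbb60b050) (.leaf 0x3615b9030)) (.node (.leaf 0x14241b014) (.leaf 0x2bf447026))))) (.node (.node (.node (.node (.leaf 0x6cb0ab0a6) (.leaf 0x25924b08a)) (.node (.leaf 0x208869010) (.leaf 0x38f55b01c))) (.node (.node (.leaf 0x47949b08a) (.leaf 0x61cc9046)) (.node (.leaf 0x1ba79004) (.leaf 0x26a39b0d6)))) (.node (.node (.node (.leaf 0x47b3900e) (.leaf 0x3f4ba900e)) (.node (.leaf 0x1ddf0b050) (.leaf 0x4494a9026))) (.node (.node (.leaf 0x5c9b7020) (.leaf 0xa8abb09a)) (.node (.leaf 0x4c1c5901c) (.leaf 0x9bd2d7010))))))) (.node (.node (.node (.node (.node (.node (.leaf 0x230a2b00c) (.leaf 0x13d19042)) (.node (.leaf 0x1964c9014) (.leaf 0x2ab879010))) (.node (.node (.leaf 0x259d5b08a) (.leaf 0x22c3006)) (.node (.leaf 0x3594b09a) (.leaf 0x18dbcb062)))) (.node (.node (.node (.leaf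 0x353006) (.leaf 0x59d27010)) (.node (.leaf 0x8153cb00a) (.leaf 0xa4e4b01c))) (.node (.node (.leaf 0x38c9cb06a) (.leaf 0x3b1933002)) (.node (.leaf 0x323c99024) (.leaf 0x3d6b6700a))))) (.node (.node (.node (.node (.leaf 0x1cbac900e) (.leaf 0xc58c8b114)) (.node (.leaf 0x412d1b1d6) (.leaf 0x1e279b14e))) (.node (.node (.leaf 0x5082b01c) (.leaf 0x334459026)) (.node (.leaf 0x47f7ab05a) (.leaf 0x2fe19026)))) (.node (.node (.node (.leaf 0xf79db086) (.leaf 0x4bc1b056)) (.node (.leaf 0x42a5bb0cc) (.leaf 0x27319b036))) (.node (.node (.leaf 0x521c65004) (.leaf 0x126f2b042)) (.node (.leaf 0x3a16cb0fc) (.leaf 0x32c779004)))))) (.node (.node (.node (.node (.node (.leaf 0xfce300a) (.leaf 0x3c690b05c)) (.node (.leaf 0x374079014) (.leaf 0x2ce81b1d6))) (.node (.node (.leaf 0x47040b08a) (.leaf 0xf74eb062)) (.node (.leaf 0x2352ab144) (.leaf 0x2080eb01c)))) (.node (.node (.node (.leaf 0xd17877020) (.leaf 0x80b56b2dc)) (.node (.leaf 0x592b4900e)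 (.leaf 0x110457026))) (.node (.node (.leaf 0x33c667030) (.leaf 0x6946e905c)) (.node (.leaf 0x6a797010) (.leaf 0xa94300a))))) (.node (.node (.node (.node (.leaf 0x9cabb050) (.leaf 0x14d8fb000)) (.node (.leaf 0xd084b09c) (.leaf 0x176aab044))) (.node (.node (.leaf 0x136f7042) (.leaf 0x318a17042)) (.node (.leaf 0x8758b0c6) (.leaf 0xb59207006)))) (.node (.node (.node (.leaf 0x60c17000) (.leaf 0x37a657024)) (.node (.leaf 0x4697db14e) (.leaf 0x513fb9016))) (.node (.node (.leaf 0x1e2f1b2dc) (.leaf 0x5bea2b064)) (.node (.leaf 0x4e9bb056) (.leaf 0x26106b0c6)))))))) (.node (.node (.node (.node (.node (.node (.node (.leaf 0x14d527026) (.leaf 0x571a9010)) (.node (.leaf 0x348905a) (.leaf 0x6400bb0d6))) (.node (.node (.leaf 0x47a9900e) (.leaf 0x1935b9016)) (.node (.leaf 0x1acc57030) (.leaf 0xa357ab14e)))) (.node (.node (.node (.leaf 0x25e76905a) (.leaf 0x2952d900e)) (.node (.leaf 0x211065010) (.leaf 0x4772fb05a))) (.node (.node (.leaf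 0x13e675006) (.leaf 0x8d53b0d6)) (.node (.leaf 0x5fb8cb014) (.leaf 0x1fb30b044))))) (.node (.node (.node (.node (.leaf 0x5321fb064) (.leaf 0x15eb77010)) (.node (.leaf 0x41f169030) (.leaf 0x2188b5010))) (.node (.node (.leaf 0x21787020) (.leaf 0x424b85010)) (.node (.leaf 0x160d2b036) (.leaf 0x3cac5b1fe)))) (.node (.node (.node (.leaf 0x504087020) (.leaf 0x19a7901c)) (.node (.leaf 0x515c47004) (.leaf 0x7538b1fe))) (.node (.node (.leaf 0x16777014) (.leaf 0x66738b0c0)) (.node (.leaf 0x118959026) (.leaf 0xa083b014)))))) (.node (.node (.node (.node (.node (.leaf 0xb6960b14e) (.leaf 0x83cfb024)) (.node (.leaf 0x45a29036) (.leaf 0x15916c9010))) (.node (.node (.leaf 0xab0905a) (.leaf 0x9109b000)) (.node (.leaf 0xee7af0000) (.leaf 0x517b49014)))) (.node (.node (.node (.leaf 0x137ae5042) (.leaf 0x1d819024)) (.node (.leaf 0x1c2f6b056) (.leaf 0x2529cb08a))) (.node (.node (.leaf 0x2ca0a9030) (.leaf 0x4f93fb000)) (.node (.leaf 0x5a41b09a)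 (.leaf 0x470b1b08a))))) (.node (.node (.node (.node (.leaf 0x67f00b0c6) (.leaf 0x2198c7002)) (.node (.leaf 0x3a58eb062) (.leaf 0x3284c9006))) (.node (.node (.leaf 0x16567b09c) (.leaf 0x29dae9036)) (.node (.leaf 0xbad55900c) (.leaf 0xde7cb09c)))) (.node (.node (.node (.leaf 0x379757042) (.leaf 0x82147b17a)) (.node (.leaf 0x34bb77020) (.leaf 0x71296b06a))) (.node (.node (.leaf 0x23a6d7000) (.leaf 0x123549b08a)) (.node (.leaf 0x3507b01c) (.leaf 0x138c6500e))))))) (.node (.node (.node (.node (.node (.node (.leaf 0x572ff9082) (.leaf 0x6aaab144)) (.node (.leaf 0x373ad901c) (.leaf 0x32215900c))) (.node (.node (.leaf 0x182e7006) (.leaf 0x1873bb086)) (.node (.leaf 0xc47eb064) (.leaf 0x3397c7020)))) (.node (.node (.node (.leaf 0x25867b05a) (.leaf 0x2d9f3b090)) (.node (.leaf 0xeea600000) (.leaf 0x3bc37b05a))) (.node (.node (.leaf 0x13549006) (.leaf 0x156ce7020)) (.node (.leaf 0x283d19024) (.leaf 0x297a7b056))))) (.node (.node (.node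 (.node (.leaf 0x2896f7014) (.leaf 0x16580b084)) (.node (.leaf 0xa0300e) (.leaf 0x3a931b194))) (.node (.node (.leaf 0x14fc3b06a) (.leaf 0x3d5cc704e)) (.node (.leaf 0x39da07034) (.leaf 0x38df9010)))) (.node (.node (.node (.leaf 0x2219fb0d6) (.leaf 0x3b7de905a)) (.node (.leaf 0x851347004) (.leaf 0x3f7d2b056))) (.node (.node (.leaf 0xd2a300e) (.leaf 0x4c8207006)) (.node (.leaf 0x9252b042) (.leaf 0x2767eb084)))))) (.node (.node (.node (.node (.node (.leaf 0x512a3901a) (.leaf 0x8d4b8b0ea)) (.node (.leaf 0x217519002) (.leaf 0x52dde5000))) (.node (.node (.leaf 0xb53a99082) (.leaf 0xe244b0c6)) (.node (.leaf 0x12d8bb050) (.leaf 0xb0661b000)))) (.node (.node (.node (.leaf 0x2adf67020) (.leaf 0x47f12b05a)) (.node (.leaf 0x29b05b056) (.leaf 0x6272b00c))) (.node (.node (.leaf 0x1c19e900e) (.leaf 0x58fdeb09c)) (.node (.leaf 0x38642b09a) (.leaf 0x37f377004))))) (.node (.node (.node (.node (.leaf 0x2d61c5014) (.leaf 0x89742b036)) (.node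 (.leaf 0x1a98e7000) (.leaf 0xc647b044))) (.node (.node (.leaf 0x10b292b024) (.leaf 0x1d97b9000)) (.node (.leaf 0xb2599b0fc) (.leaf 0x7985b10c)))) (.node (.node (.node (.leaf 0x523835000) (.leaf 0x3672cb1d6)) (.node (.leaf 0x185fbb0ea) (.leaf 0x3c438b10c))) (.node (.node (.leaf 0xf95db0ea) (.leaf 0x4ba7cb064)) (.node (.leaf 0x249cbb114) (.leaf 0x3baf6905a))))))))) (.node (.node (.node (.node (.node (.node (.node (.node (.leaf 0x6fa67030) (.leaf 0xfa557004)) (.node (.leaf 0x136c59002) (.leaf 0x337f17010))) (.node (.node (.leaf 0x3b5a2300a) (.leaf 0x4edda9010)) (.node (.leaf 0x115ea700e) (.leaf 0x33d72b00c)))) (.node (.node (.node (.leaf 0x133b35004) (.leaf 0x2515d905a)) (.node (.leaf 0x47fc9036) (.leaf 0x614a8b044))) (.node (.node (.leaf 0x396fb002) (.leaf 0x191eeb184)) (.node (.leaf 0x2eaf67006) (.leaf 0x945db06a))))) (.node (.node (.node (.node (.leaf 0x5f058b144) (.leaf 0x233eb00c)) (.node (.leaf 0x2a5777000) (.leaf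 0x520335042))) (.node (.node (.leaf 0x10fe700a) (.leaf 0x19b89b0fc)) (.node (.leaf 0x1454db144) (.leaf 0xffe59014)))) (.node (.node (.node (.leaf 0xb31c37006) (.leaf 0x2a960b050)) (.node (.leaf 0xb2db7010) (.leaf 0xc940b064))) (.node (.node (.leaf 0x185717034) (.leaf 0x77c8c9024)) (.node (.leaf 0xb8d8b09a) (.leaf 0x138e25010)))))) (.node (.node (.node (.node (.node (.leaf 0x3bbf43006) (.leaf 0x1ac9f7020)) (.node (.leaf 0x1dd48b09a) (.leaf 0x3aef7000))) (.node (.node (.leaf 0x6ee19b06a) (.leaf 0xa013b050)) (.node (.leaf 0x3ef529006) (.leaf 0xfa03002)))) (.node (.node (.node (.leaf 0x473c8905a) (.leaf 0x8d43b0d6)) (.node (.leaf 0x62a3002) (.leaf 0x165e8b084))) (.node (.node (.leaf 0x20db1b050) (.leaf 0x7f6a900e)) (.node (.leaf 0x133375010) (.leaf 0x25475905a))))) (.node (.node (.node (.node (.leaf 0x42bcb05c) (.leaf 0x2f4b5b050)) (.node (.leaf 0x339497000) (.leaf 0xee4650000))) (.node (.node (.leaf 0xf1bb05a) (.leaf 0x113849046))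 (.node (.leaf 0xdca0db002) (.leaf 0x1359e5004)))) (.node (.node (.node (.leaf 0x31008901a) (.leaf 0xa53ab042)) (.node (.leaf 0x979b08a) (.leaf 0x5f880b00c))) (.node (.node (.leaf 0x7a978b064) (.leaf 0x140c5b00c)) (.node (.leaf 0x5da29000) (.leaf 0x4a100b144))))))) (.node (.node (.node (.node (.node (.node (.leaf 0x2876700e) (.leaf 0x28a04704e)) (.node (.leaf 0x2298fb0d6) (.leaf 0x84eb05a))) (.node (.node (.leaf 0x4071b1fe) (.leaf 0x1d7c39010)) (.node (.leaf 0xe507b024) (.leaf 0x624e09002)))) (.node (.node (.node (.leaf 0x2d457000) (.leaf 0x29820b05c)) (.node (.leaf 0x9f18c900e) (.leaf 0x7379cb024))) (.node (.node (.leaf 0x34279000) (.leaf 0x3b979905a)) (.node (.leaf 0x3640d9030) (.leaf 0x5fbc8700e))))) (.node (.node (.node (.node (.leaf 0x592a7000) (.leaf 0x48dab700e)) (.node (.leaf 0x1afa5b09a) (.leaf 0xfcde9016))) (.node (.node (.leaf 0xb81827000) (.leaf 0x1dc5bb01c)) (.node (.leaf 0x1cea9b05c) (.leaf 0x1875a900a))))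 (.node (.node (.node (.leaf 0x4d62cb0a6) (.leaf 0x3c4f5b056)) (.node (.leaf 0x5d912b024) (.leaf 0x21109046))) (.node (.node (.leaf 0xb8139010) (.leaf 0xac8bc900e)) (.node (.leaf 0x13e7e5b2dc) (.leaf 0x27570b036)))))) (.node (.node (.node (.node (.node (.leaf 0x5eb20704e) (.leaf 0x163bab036)) (.node (.leaf 0x25bd7010) (.leaf 0xfe6f9082))) (.node (.node (.leaf 0x25954300e) (.leaf 0xb3d7a7014)) (.node (.leaf 0x3a552904e) (.leaf 0x1f4490c6)))) (.node (.node (.node (.leaf 0x6c5305006) (.leaf 0x25425300e)) (.node (.leaf 0x1805a90c6) (.leaf 0x155447030))) (.node (.node (.leaf 0x2e319900c) (.leaf 0x13c6d7002)) (.node (.leaf 0x213025002) (.leaf 0x2147a502a))))) (.node (.node (.node (.node (.leaf 0x3c353b056) (.leaf 0x3dc099024)) (.node (.leaf 0x66d68b0c0) (.leaf 0xa90b08a))) (.node (.node (.leaf 0x3db2b7034) (.leaf 0x14c9d700e)) (.node (.leaf 0x63aec9044) (.leaf 0x14bc29026)))) (.node (.node (.node (.leaf 0x1291bb014) (.leaf 0x209767000))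 (.node (.leaf 0x19e64b0ea) (.leaf 0x3fa6db05c))) (.node (.node (.leaf 0x8dfb39016) (.leaf 0x2d1dd5010)) (.node (.leaf 0x205f6b002) (.leaf 0xabf1b000)))))))) (.node (.node (.node (.node (.node (.node (.node (.leaf 0x430707020) (.leaf 0x4cf905a)) (.node (.leaf 0x1ea69b14e) (.leaf 0x11e119000))) (.node (.node (.leaf 0x485b47000) (.leaf 0x13f275014)) (.node (.leaf 0xb84017030) (.leaf 0x558d1b064)))) (.node (.node (.node (.leaf 0xc701eb036) (.leaf 0x4ea4b7020)) (.node (.leaf 0x51b08a) (.leaf 0x1eba1b2dc))) (.node (.node (.leaf 0x59d7cb1fe) (.leaf 0x27088b036)) (.node (.leaf 0x65a47020) (.leaf 0x22c7bb024))))) (.node (.node (.node (.node (.leaf 0x2b42bb144) (.leaf 0x136965000)) (.node (.leaf 0x2e77f7014) (.leaf 0x68191b01c))) (.node (.node (.leaf 0x2eb377042) (.leaf 0x4cce2704e)) (.node (.leaf 0x7bbaeb000) (.leaf 0x152cfb002)))) (.node (.node (.node (.leaf 0x42d315014) (.leaf 0x21359010)) (.node (.leaf 0x67418b0c6) (.leaf 0x782905a)))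 (.node (.node (.leaf 0x23d399026) (.leaf 0xa78cfb002)) (.node (.leaf 0x6edd9026) (.leaf 0x819415006)))))) (.node (.node (.node (.node (.node (.leaf 0x132f35000) (.leaf 0x8811eb084)) (.node (.leaf 0x25b44905a) (.leaf 0x9b8cb01c))) (.node (.node (.leaf 0x6d0dab114) (.leaf 0x2b5109000)) (.node (.leaf 0x6e7905a) (.leaf 0x1f54704e)))) (.node (.node (.node (.leaf 0x37a98904e) (.leaf 0x77bee9004)) (.node (.leaf 0x248d9000) (.leaf 0xfdbddb0cc))) (.node (.node (.leaf 0x512dcb0ea) (.leaf 0x54b9b050)) (.node (.leaf 0x1a2fe9010) (.leaf 0xf73b05a))))) (.node (.node (.node (.node (.leaf 0x5c617030) (.leaf 0x28a1490c6)) (.node (.leaf 0xdb65b09c) (.leaf 0x19b04b194))) (.node (.node (.leaf 0x3b020300e) (.leaf 0x34b7e9000)) (.node (.leaf 0x3c1ab900e) (.leaf 0x74a0900e)))) (.node (.node (.node (.leaf 0x439997026) (.leaf 0x3b08e300e)) (.node (.leaf 0x134f25014) (.leaf 0xbf9337000))) (.node (.node (.leaf 0x26bc8b024) (.leaf 0xf3a905a)) (.node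 (.leaf 0xf8137024) (.leaf 0x4d84b10c))))))) (.node (.node (.node (.node (.node (.node (.leaf 0x153879000) (.leaf 0x7802b056)) (.node (.leaf 0x4c7e0904e) (.leaf 0x9b9817026))) (.node (.node (.leaf 0xd24db09c) (.leaf 0x2c62eb1fe)) (.node (.leaf 0xa78cb002) (.leaf 0x8523cb0ea)))) (.node (.node (.node (.leaf 0x3ff15b10c) (.leaf 0xd3c97901c)) (.node (.leaf 0xf5b2904e) (.leaf 0x118217010))) (.node (.node (.leaf 0x86260b05a) (.leaf 0x128b08a)) (.node (.leaf 0x33c7a700e) (.leaf 0x1197ab144))))) (.node (.node (.node (.node (.leaf 0x212225042) (.leaf 0x21083500a)) (.node (.leaf 0x1569cb050) (.leaf 0x194a4b086))) (.node (.node (.leaf 0x17772b114) (.leaf 0x28ab6700a)) (.node (.leaf 0x257123006) (.leaf 0xbf6b05a)))) (.node (.node (.node (.leaf 0x347e67000) (.leaf 0x2d1405004)) (.node (.leaf 0xc38fb114) (.leaf 0x1844a9006))) (.node (.node (.leaf 0x8b64ab0c0) (.leaf 0x4f36db144)) (.node (.leaf 0x13a907002) (.leaf 0x2eaef901c)))))) (.node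 (.node (.node (.node (.node (.leaf 0x21c02500e) (.leaf 0x21baf500e)) (.node (.leaf 0x44834b042) (.leaf 0x1e0e1b0c0))) (.node (.node (.leaf 0x5e430900a) (.leaf 0x3fb47030)) (.node (.leaf 0x1898b9042) (.leaf 0x7a88b056)))) (.node (.node (.node (.leaf 0x1844900a) (.leaf 0x55aab002)) (.node (.leaf 0x1ac367010) (.leaf 0x3244c704e))) (.node (.node (.leaf 0x74399700e) (.leaf 0x10081b09c)) (.node (.leaf 0x1db427020) (.leaf 0x3de6f7014))))) (.node (.node (.node (.node (.leaf 0x87fb5b0a2) (.leaf 0x817977002)) (.node (.leaf 0x1ca91b10c) (.leaf 0x2a6ef9000))) (.node (.node (.leaf 0xf696901a) (.leaf 0x83620b114)) (.node (.leaf 0x14bbf9046) (.leaf 0x4b72b1d6)))) (.node (.node (.node (.leaf 0xbed27020) (.leaf 0x2fd7eb002)) (.node (.leaf 0x8750b0c6) (.leaf 0x29418b10c))) (.node (.node (.leaf 0x256cf300a) (.leaf 0x3676f9044)) (.node (.leaf 0x166dfb09c) (.leaf 0x2d5145010))))))))))))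

theorem cert5_0 : chunkB 5 cert5 0 = true := by decide +kernel

theorem cert5_1 : chunkB 5 cert5 1 = true := by decide +kernel

theorem cert5_2 : chunkB 5 cert5 2 = true := by decide +kernel

theorem cert5_3 : chunkB 5 cert5 3 = true := by decide +kernel

theorem cert5_4 : chunkB 5 cert5 4 = true := by decide +kernel

theorem cert5_5 : chunkB 5 cert5 5 = true := by decide +kernel

theorem cert5_6 : chunkB 5 cert5 6 = true := by decide +kernel

theorem cert5_7 : chunkB 5 cert5 7 = true := by decide +kernel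

theorem cert5_ok : ∀ k < 2048, itemB 5 cert5 k = true :=
  of_chunks cert5_0 cert5_1 cert5_2 cert5_3 cert5_4 cert5_5 cert5_6 cert5_7

end Cfsg.Agent.F4Square.Two
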