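import Cfsg.Agent.F4Square.Two.Setup

/-!
Certificates for the coset of the Weyl element number 6.
-/

set_option autoImplicit false
set_option maxRecDepth 100000
set_option maxHeartbeats 0
set_option Elab.async false

namespace Cfsg.Agent.F4Square.Two

/-- The certificates. -/
noncomputable def cert6 : Tree :=
  (.node (.node (.node (.node (.node (.node (.node (.node (.node (.node (.node (.leaf 0x88479026) (.leaf 0x180a867024)) (.node (.leaf 0x3c386b002) (.leaf 0x6040b044))) (.node (.node (.leaf 0x3a86e700e) (.leaf 0x331169000)) (.node (.leaf 0xc4a5a9036) (.leaf 0x4433e7014)))) (.node (.node (.node (.leaf 0x36856500e) (.leaf 0x35eea7000)) (.node (.leaf 0x3fa46900c) (.leaf 0x5c4e1b044))) (.node (.node (.leaf 0x30879905c) (.leaf 0x1e6f87030)) (.node (.leaf 0x1a214b10c) (.leaf 0x181681900c))))) (.node (.node (.node (.node (.leaf 0x8179ab1fe) (.leaf 0x8e8bc9044)) (.node (.leaf 0x4fa705006) (.leaf 0x219eb01c))) (.node (.node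 (.leaf 0x9b2fdb09c) (.leaf 0x13471b14e)) (.node (.leaf 0xe6809b084) (.leaf 0x452e2905c)))) (.node (.node (.node (.leaf 0x1b685b09c) (.leaf 0x3e5d07010)) (.node (.leaf 0x14f739036) (.leaf 0x283a57042))) (.node (.node (.leaf 0x175ce9b0d6) (.leaf 0x29f9bb0c0)) (.node (.leaf 0x368af5006) (.leaf 0x1a03b01e)))))) (.node (.node (.node (.node (.node (.leaf 0x2cc7a901c) (.leaf 0x2d0417034)) (.node (.leaf 0x607b3905a) (.leaf 0x174bb01e))) (.node (.node (.leaf 0xc98c704e) (.leaf 0x3bdeb062)) (.node (.leaf 0x195a0b0cc) (.leaf 0x18fe59006)))) (.node (.node (.node (.leaf 0x11d727024) (.leaf 0x448667042)) (.node (.leaf 0x4077a90c6) (.leaf 0x1746b01e))) (.node (.node (.leaf 0x3d7037030) (.leaf 0x28c749016)) (.node (.leaf 0x7e22f7020) (.leaf 0xfb9d90c6))))) (.node (.node (.node (.node (.leaf 0x1a0eb01e) (.leaf 0x84a4700e)) (.node (.leaf 0xed3bb2dc) (.leaf 0x767a9036))) (.node (.node (.leaf 0x2bf41b01c) (.leaf 0x4fba45042)) (.node (.leaf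 0x2cf309024) (.leaf 0x100d3d905c)))) (.node (.node (.node (.leaf 0x18c34900c) (.leaf 0x4f828500a)) (.node (.leaf 0x36eb35042) (.leaf 0x4fd87034))) (.node (.node (.leaf 0x39a6ab09a) (.leaf 0xd6db9030)) (.node (.leaf 0x14054900e) (.leaf 0x6ecfd9036))))))) (.node (.node (.node (.node (.node (.node (.leaf 0x4f5fb7002) (.leaf 0xc0dc90c6)) (.node (.leaf 0x2e2af9046) (.leaf 0x2b3b6b09a))) (.node (.node (.leaf 0x3e29b194) (.leaf 0x44bee901c)) (.node (.leaf 0x13fa9b0c0) (.leaf 0x1f77d9000)))) (.node (.node (.node (.leaf 0x2bc9eb014) (.leaf 0x2e169010)) (.node (.leaf 0x62eb3b024) (.leaf 0x11887901a))) (.node (.node (.leaf 0x180877006) (.leaf 0x3fa9d7006)) (.node (.leaf 0x42379006) (.leaf 0x278c7b014))))) (.node (.node (.node (.node (.leaf 0x2ce7a9004) (.leaf 0x5119b064)) (.node (.leaf 0x12b333b0a2) (.leaf 0x94f287014))) (.node (.node (.leaf 0x1632a9036) (.leaf 0x2d83290c6)) (.node (.leaf 0x161e1900e) (.leaf 0x413c1b024)))) (.node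 (.node (.node (.leaf 0x208e4b056) (.leaf 0x52f87b042)) (.node (.leaf 0x3a0feb144) (.leaf 0x40869042))) (.node (.node (.leaf 0x18d0a7034) (.leaf 0x1266c700e)) (.node (.leaf 0x447c89024) (.leaf 0x405619004)))))) (.node (.node (.node (.node (.node (.leaf 0x25e68900a) (.leaf 0x54251b062)) (.node (.leaf 0x1bdedb09c) (.leaf 0x2232db0d6))) (.node (.node (.leaf 0x4c9c9b0cc) (.leaf 0x5be53901c)) (.node (.leaf 0x19cf0b0a6) (.leaf 0x631607026)))) (.node (.node (.node (.leaf 0x15447b0fc) (.leaf 0x25578704e)) (.node (.leaf 0xb3eb09c) (.leaf 0x29ecbb0c0))) (.node (.node (.leaf 0xe59b084) (.leaf 0x194fdb0cc)) (.node (.leaf 0xdf2065004) (.leaf 0x406f17014))))) (.node (.node (.node (.node (.leaf 0x1ea20b050) (.leaf 0x7c49eb044)) (.node (.leaf 0x3a966b00c) (.leaf 0x462ae704e))) (.node (.node (.leaf 0x11bd3904e) (.leaf 0x4e092b064)) (.node (.leaf 0x43def7024) (.leaf 0x1f3559010)))) (.node (.node (.node (.leaf 0x4c499b0a6) (.leaf 0x1779a7000))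 (.node (.leaf 0xd4e1905c) (.leaf 0xbdfa1901c))) (.node (.node (.leaf 0x62737b0d6) (.leaf 0x57fa7b050)) (.node (.leaf 0xc32c97034) (.leaf 0xdb6eb10c)))))))) (.node (.node (.node (.node (.node (.node (.node (.leaf 0x9afd0b05c) (.leaf 0x2c0209042)) (.node (.leaf 0x18ca89042) (.leaf 0x47735b000))) (.node (.node (.leaf 0x138e9b2dc) (.leaf 0x15d0eb0ea)) (.node (.leaf 0x16d43b056) (.leaf 0x89e41b0fc)))) (.node (.node (.node (.leaf 0x63ab09026) (.leaf 0x32cb5b014)) (.node (.leaf 0x45ec7014) (.leaf 0x1613b01e))) (.node (.node (.leaf 0x922d59082) (.leaf 0x6998b114)) (.node (.leaf 0x450b29030) (.leaf 0x118609014))))) (.node (.node (.node (.node (.leaf 0x387d1b10c) (.leaf 0x76f9cb0c6)) (.node (.leaf 0x2d3457014) (.leaf 0x501397006))) (.node (.node (.leaf 0x5a0dcb2dc) (.leaf 0x756ef9026)) (.node (.leaf 0x89c29046) (.leaf 0xf38d704e)))) (.node (.node (.node (.leaf 0x128bcb144) (.leaf 0x24e8f7030)) (.node (.leaf 0x11a107004) (.leaf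 0xe9bb036))) (.node (.node (.leaf 0x6eb78b1fe) (.leaf 0x2c01c900c)) (.node (.leaf 0x4ce1cb0cc) (.leaf 0x157ceb086)))))) (.node (.node (.node (.node (.node (.leaf 0x1f5b2700e) (.leaf 0x2051c900e)) (.node (.leaf 0xf49d900a) (.leaf 0x3df297020))) (.node (.node (.leaf 0x28e187006) (.leaf 0xa6fc7b064)) (.node (.leaf 0x161eb01e) (.leaf 0x27a54b01c)))) (.node (.node (.node (.leaf 0x782459026) (.leaf 0x5b4819042)) (.node (.leaf 0x7d3b900e) (.leaf 0x2280eb0c6))) (.node (.node (.leaf 0x16fc9b056) (.leaf 0x7080ab014)) (.node (.leaf 0x31f839026) (.leaf 0x1804e901c))))) (.node (.node (.node (.node (.leaf 0x1f6a57000) (.leaf 0x1e9739000)) (.node (.leaf 0xc532700a) (.leaf 0x3d09b0ea))) (.node (.node (.leaf 0x27475b06a) (.leaf 0xab2bb0c6)) (.node (.leaf 0x17f1ab002) (.leaf 0xdfd0b1d6)))) (.node (.node (.node (.leaf 0x467c9004) (.leaf 0x6113c700a)) (.node (.leaf 0x182f89024) (.leaf 0x135bb01e))) (.node (.node (.leaf 0x40f3b9042) (.leaf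 0x348655006)) (.node (.leaf 0x1356b01e) (.leaf 0x35d6ab002))))))) (.node (.node (.node (.node (.node (.node (.leaf 0x32407b06a) (.leaf 0x8b33190c6)) (.node (.leaf 0x2f774b09c) (.leaf 0x95f1b064))) (.node (.node (.leaf 0x284039024) (.leaf 0x358a9b050)) (.node (.leaf 0x3f8399016) (.leaf 0x8becb00c)))) (.node (.node (.node (.leaf 0x837d59046) (.leaf 0x9da6b114)) (.node (.leaf 0xa37db024) (.leaf 0x3964b0fc))) (.node (.node (.leaf 0xc9418900a) (.leaf 0x65f7bb000)) (.node (.leaf 0x3ea13b144) (.leaf 0x446790c6))))) (.node (.node (.node (.node (.leaf 0x33715b050) (.leaf 0x349da7002)) (.node (.leaf 0x3f63b184) (.leaf 0x3e1589010))) (.node (.node (.leaf 0x839c07000) (.leaf 0x4f64a7002)) (.node (.leaf 0x3c8067000) (.leaf 0x3fff07042)))) (.node (.node (.node (.leaf 0x5bdab114) (.leaf 0x1c752b044)) (.node (.leaf 0x4b67900a) (.leaf 0x3bdb57034))) (.node (.node (.leaf 0x54ff2b0ea) (.leaf 0x7309b056)) (.node (.leaf 0x1259e9046) (.leaf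 0x836b7700e)))))) (.node (.node (.node (.node (.node (.leaf 0x458bc905c) (.leaf 0x21c76b042)) (.node (.leaf 0x25d6890c6) (.leaf 0x1149f9016))) (.node (.node (.leaf 0xc7dc900a) (.leaf 0x1622b900e)) (.node (.leaf 0x2497c9026) (.leaf 0x15fc4b184)))) (.node (.node (.node (.leaf 0xbeda0901a) (.leaf 0xa8440905c)) (.node (.leaf 0xa5f4b0d6) (.leaf 0x1ff62b144))) (.node (.node (.leaf 0xe36bb2dc) (.leaf 0x8f34b144)) (.node (.leaf 0x18c9e7014) (.leaf 0xb875a9010))))) (.node (.node (.node (.node (.leaf 0x2ccd37006) (.leaf 0x23cf0b114)) (.node (.leaf 0x187c67042) (.leaf 0x253fa700a))) (.node (.node (.leaf 0x43c899014) (.leaf 0x144ecb056)) (.node (.leaf 0xb618b044) (.leaf 0x7d2aab0fc)))) (.node (.node (.node (.leaf 0x2cdea7014) (.leaf 0x7153b056)) (.node (.leaf 0x2884f900c) (.leaf 0x26f77020))) (.node (.node (.leaf 0x281f57024) (.leaf 0x2349b09a)) (.node (.leaf 0x67fe8b090) (.leaf 0x4f3da7002))))))))) (.node (.node (.node (.node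 (.node (.node (.node (.node (.leaf 0x17c2a9010) (.leaf 0x137b9b0c0)) (.node (.leaf 0x151eb01e) (.leaf 0x24e67000))) (.node (.node (.leaf 0x3ff0d700a) (.leaf 0x54e5c7034)) (.node (.leaf 0x765cb10c) (.leaf 0x1b48cb09c)))) (.node (.node (.node (.leaf 0xfe509042) (.leaf 0x18be5704e)) (.node (.leaf 0x34cc0b00a) (.leaf 0x36cd19002))) (.node (.node (.leaf 0x451309044) (.leaf 0x419db062)) (.node (.leaf 0x4fd15b00a) (.leaf 0x347c39002))))) (.node (.node (.node (.node (.leaf 0x17de2b01c) (.leaf 0x14fd1b05c)) (.node (.leaf 0x1c5bb01e) (.leaf 0x2a4a9b044))) (.node (.node (.leaf 0x1545c9004) (.leaf 0x71649036)) (.node (.leaf 0x3b716b0fc) (.leaf 0x1c56b01e)))) (.node (.node (.node (.leaf 0x8f1f2b2dc) (.leaf 0x25fc39004)) (.node (.leaf 0x342329002) (.leaf 0x1d378b114))) (.node (.node (.leaf 0x1f5219026) (.leaf 0x1ab57900e)) (.node (.leaf 0x1147fbb086) (.leaf 0xf061fb064)))))) (.node (.node (.node (.node (.node (.leaf 0x559a7b01c)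 (.leaf 0x12472b06a)) (.node (.leaf 0x8618b014) (.leaf 0x39219014))) (.node (.node (.leaf 0x253ef7034) (.leaf 0x15ccc7014)) (.node (.leaf 0xc2f5900c) (.leaf 0xfacc900c)))) (.node (.node (.node (.leaf 0x595b45042) (.leaf 0x2e45fb000)) (.node (.leaf 0xe0ced900a) (.leaf 0x183f590c6))) (.node (.node (.leaf 0x209899036) (.leaf 0x2c86d704e)) (.node (.leaf 0x1513b01e) (.leaf 0x2c66b002))))) (.node (.node (.node (.node (.leaf 0x2de1db184) (.leaf 0x120737026)) (.node (.leaf 0x347a29002) (.leaf 0x736f1b084))) (.node (.node (.leaf 0x24083b144) (.leaf 0x9017b064)) (.node (.leaf 0xa4b187030) (.leaf 0x21697b09a)))) (.node (.node (.node (.leaf 0x3ec349026) (.leaf 0xd338d7000)) (.node (.leaf 0x1ec53b01c) (.leaf 0x27cd1b000))) (.node (.node (.leaf 0x771b084) (.leaf 0x10e896b08a)) (.node (.leaf 0x19810b090) (.leaf 0x4e088b064))))))) (.node (.node (.node (.node (.node (.node (.leaf 0x2711eb042) (.leaf 0x3407fb0a6)) (.node (.leaf 0x1a9afb056)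 (.leaf 0x46e9f9024))) (.node (.node (.leaf 0x259789006) (.leaf 0x2297db0d6)) (.node (.leaf 0x179f27010) (.leaf 0x992eb044)))) (.node (.node (.node (.leaf 0x101e4b044) (.leaf 0x62f23b024)) (.node (.leaf 0xf9af7006) (.leaf 0xc9691900c))) (.node (.node (.leaf 0x4a0a39036) (.leaf 0x84e6b06a)) (.node (.leaf 0x4d5f0b09c) (.leaf 0x11448b0ea))))) (.node (.node (.node (.node (.leaf 0x36cca5010) (.leaf 0xd7f19030)) (.node (.leaf 0x4c723b00a) (.leaf 0x3aeb07020))) (.node (.node (.leaf 0x6f240b0a6) (.leaf 0x41711b024)) (.node (.leaf 0x5342b044) (.leaf 0x14adcb1fe)))) (.node (.node (.node (.leaf 0x34771b00a) (.leaf 0x74aab1d6)) (.node (.leaf 0x2261b050) (.leaf 0x1c7cab114))) (.node (.node (.leaf 0x4beb79006) (.leaf 0x8e491b1d6)) (.node (.leaf 0x2a3e9000) (.leaf 0x81f669030)))))) (.node (.node (.node (.node (.node (.leaf 0xa92cf7014) (.leaf 0xe22a0b0c6)) (.node (.leaf 0x44c55704e) (.leaf 0x4b4169042))) (.node (.node (.leaf 0x243e59046)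 (.leaf 0x5a104b14e)) (.node (.leaf 0x1791db09a) (.leaf 0x3056901a)))) (.node (.node (.node (.leaf 0x1ab41b056) (.leaf 0x6f250b0a6)) (.node (.leaf 0xcd8c9006) (.leaf 0x661fb9046))) (.node (.node (.leaf 0x1e2037010) (.leaf 0x15d8f900a)) (.node (.leaf 0x24b887010) (.leaf 0x42afb0fc))))) (.node (.node (.node (.node (.leaf 0xf9955b000) (.leaf 0x4444590c6)) (.node (.leaf 0xfa667014) (.leaf 0x3d82904e))) (.node (.node (.leaf 0x2910ab0c0) (.leaf 0x537b6b0c0)) (.node (.leaf 0x4956b194) (.leaf 0x41097b0c6)))) (.node (.node (.node (.leaf 0x3b020b062) (.leaf 0x15e8f90c6)) (.node (.leaf 0x13621b14e) (.leaf 0x483e57042))) (.node (.node (.leaf 0x36a0c7002) (.leaf 0x1fbb17026)) (.node (.leaf 0x99b4e9036) (.leaf 0x24813700e)))))))) (.node (.node (.node (.node (.node (.node (.node (.leaf 0x2b784b000) (.leaf 0x469079014)) (.node (.leaf 0x22b16b0c6) (.leaf 0x82d83704e))) (.node (.node (.leaf 0xfef8db194) (.leaf 0x104bb01e)) (.node (.leaf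 0x486b09c) (.leaf 0xf78d9006)))) (.node (.node (.node (.leaf 0x1a8f9900e) (.leaf 0x36ae49002)) (.node (.leaf 0x2260cb024) (.leaf 0x7b24b05c))) (.node (.node (.leaf 0x4cad6b00a) (.leaf 0x1046b01e)) (.node (.leaf 0x208c9b05c) (.leaf 0xf4da17024))))) (.node (.node (.node (.node (.leaf 0xec8ae7024) (.leaf 0x129eeb000)) (.node (.leaf 0xe52ab2dc) (.leaf 0x11a22b184))) (.node (.node (.leaf 0x7f80eb09c) (.leaf 0xc19b901c)) (.node (.leaf 0x33676b01c) (.leaf 0x1dfe0b044)))) (.node (.node (.node (.leaf 0x31dbeb000) (.leaf 0xd9659044)) (.node (.leaf 0x190eb01e) (.leaf 0x884569004))) (.node (.node (.leaf 0x48e979014) (.leaf 0x4701fb09a)) (.node (.leaf 0x859433002) (.leaf 0xde3fb1fe)))))) (.node (.node (.node (.node (.node (.leaf 0x38337024) (.leaf 0x3c8769010)) (.node (.leaf 0x190ffb00a) (.leaf 0xc39b9004))) (.node (.node (.leaf 0xc2199024) (.leaf 0x47d19b06a)) (.node (.leaf 0x2ca3d90c6) (.leaf 0x59a14500e)))) (.node (.node (.node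 (.leaf 0x74a51b09c) (.leaf 0x8005ab1d6)) (.node (.leaf 0x49f6b086) (.leaf 0x166fab1d6))) (.node (.node (.leaf 0x1157db0fc) (.leaf 0x88bdb042)) (.node (.leaf 0xab23b0c6) (.leaf 0x2863c901a))))) (.node (.node (.node (.node (.leaf 0x554f77010) (.leaf 0x24bf89000)) (.node (.leaf 0x15ee87034) (.leaf 0x4036b0ea))) (.node (.node (.leaf 0x1903b01e) (.leaf 0xca577034)) (.node (.leaf 0x3055ab05c) (.leaf 0x14f39b10c)))) (.node (.node (.node (.leaf 0x18457700a) (.leaf 0x197f7b00a)) (.node (.leaf 0x2c243700a) (.leaf 0x67815b0cc))) (.node (.node (.leaf 0x2d0aab0fc) (.leaf 0x2f735b09c)) (.node (.leaf 0x4b49c7034) (.leaf 0x41238b0d6))))))) (.node (.node (.node (.node (.node (.node (.leaf 0x38af9082) (.leaf 0x130f9b2dc)) (.node (.leaf 0x360397002) (.leaf 0x1bb34b09c))) (.node (.node (.leaf 0x5984e7002) (.leaf 0x363465000)) (.node (.leaf 0x255259042) (.leaf 0xfb3b036)))) (.node (.node (.node (.leaf 0x80977026) (.leaf 0x5072d901a)) (.node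 (.leaf 0x157fe9042) (.leaf 0x43a4b184))) (.node (.node (.leaf 0x3486fb0a6) (.leaf 0xc1099042)) (.node (.leaf 0x674d8b0cc) (.leaf 0xf44df900c))))) (.node (.node (.node (.node (.leaf 0x2ce97030) (.leaf 0xff7e7042)) (.node (.leaf 0x32d51b144) (.leaf 0x157df9006))) (.node (.node (.leaf 0xf7b69004) (.leaf 0x25091900c)) (.node (.leaf 0x62567b0d6) (.leaf 0x67cc8b0cc)))) (.node (.node (.node (.leaf 0x1154fb062) (.leaf 0x162a49036)) (.node (.leaf 0x66fce9026) (.leaf 0x3d0e9016))) (.node (.node (.leaf 0x1c799b064) (.leaf 0xb3eea704e)) (.node (.leaf 0x1032cb114) (.leaf 0x3bc8fb086)))))) (.node (.node (.node (.node (.node (.leaf 0x47277b014) (.leaf 0x5979e7002)) (.node (.leaf 0x2dc83b086) (.leaf 0x38cb6b056))) (.node (.node (.leaf 0x11188b086) (.leaf 0x73b9b1fe)) (.node (.leaf 0xc8284500e) (.leaf 0xeb7ab2dc)))) (.node (.node (.node (.leaf 0x19b4ab00a) (.leaf 0x54bd39006)) (.node (.leaf 0x3cbfe7010) (.leaf 0xfec6db0ea))) (.node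 (.node (.leaf 0x460c89016) (.leaf 0x33fadb09a)) (.node (.leaf 0x4fea4b00a) (.leaf 0x3699a5014))))) (.node (.node (.node (.node (.leaf 0xa5e4b0d6) (.leaf 0x4a5b2900e)) (.node (.leaf 0xd516b05c) (.leaf 0x6014e300e))) (.node (.node (.leaf 0x3dc27b144) (.leaf 0x31f34b014)) (.node (.leaf 0xd10f9044) (.leaf 0x67805b0a6)))) (.node (.node (.node (.leaf 0xa315db086) (.leaf 0x19e4db090)) (.node (.leaf 0x2e21db014) (.leaf 0xabadb024))) (.node (.node (.leaf 0x35b5b7020) (.leaf 0x12495b042)) (.node (.leaf 0xdd176b0c0) (.leaf 0x8272b000)))))))))) (.node (.node (.node (.node (.node (.node (.node (.node (.node (.leaf 0x185129082) (.leaf 0x3bfe47006)) (.node (.leaf 0x1b0cdb036) (.leaf 0x4c6ca5014))) (.node (.node (.leaf 0x3f6dab0ea) (.leaf 0x38fb9004)) (.node (.leaf 0x202529044) (.leaf 0x11efb01e)))) (.node (.node (.node (.leaf 0xcd395b00c) (.leaf 0x19e3a5004)) (.node (.leaf 0x1b262b084) (.leaf 0x10ed66300e))) (.node (.node (.leaf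 0x284e4b062) (.leaf 0xd914ab194)) (.node (.leaf 0x2e17e7010) (.leaf 0x1fcab01e))))) (.node (.node (.node (.node (.leaf 0x1ef7b01e) (.leaf 0x8daa7020)) (.node (.leaf 0x608b084) (.leaf 0x7fb43b09c))) (.node (.node (.leaf 0xd9e5b056) (.leaf 0x245c7b014)) (.node (.leaf 0x35d769026) (.leaf 0x27a3b06a)))) (.node (.node (.node (.leaf 0xe96ab0c0) (.leaf 0x10aeef901a)) (.node (.leaf 0x45386b056) (.leaf 0xc9275b0ea))) (.node (.node (.leaf 0x39f799000) (.leaf 0x271dc9010)) (.node (.leaf 0x31e77034) (.leaf 0x783ab05c)))))) (.node (.node (.node (.node (.node (.leaf 0x1eb329046) (.leaf 0x19dae5010)) (.node (.leaf 0x407dc7006) (.leaf 0xe545fb0a6))) (.node (.node (.leaf 0x2d4307006) (.leaf 0x1f140b000)) (.node (.leaf 0x698187042) (.leaf 0x3efb901c)))) (.node (.node (.node (.leaf 0x33e51700e) (.leaf 0x77899044)) (.node (.leaf 0x5dedd900a) (.leaf 0xc7d9b194))) (.node (.node (.leaf 0x12e267020) (.leaf 0x174669026)) (.node (.leaf 0x2b08ab144)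 (.leaf 0x4413b901a))))) (.node (.node (.node (.node (.leaf 0x3990e700e) (.leaf 0x2fa03b084)) (.node (.leaf 0x272e19046) (.leaf 0xf5c0b194))) (.node (.node (.leaf 0x31c1cb09a) (.leaf 0x62ac6b0d6)) (.node (.leaf 0x17791700e) (.leaf 0x275f49000)))) (.node (.node (.node (.leaf 0x1a41b9030) (.leaf 0x134acb0c0)) (.node (.leaf 0x4822e90c6) (.leaf 0x39b519010))) (.node (.node (.leaf 0x8b23b01c) (.leaf 0x186839016)) (.node (.leaf 0x447c901c) (.leaf 0x1d92b01e))))))) (.node (.node (.node (.node (.node (.node (.leaf 0x256b5b194) (.leaf 0x1e11cb144)) (.node (.leaf 0xcdb369026) (.leaf 0x1125b69030))) (.node (.node (.leaf 0x2d5239024) (.leaf 0x2a25ab064)) (.node (.leaf 0x6e8ee905c) (.leaf 0xb7fdcb144)))) (.node (.node (.node (.leaf 0xd7cd900e) (.leaf 0x6d86b114)) (.node (.leaf 0x45d08900e) (.leaf 0x2c313904e))) (.node (.node (.leaf 0x3b6ad9082) (.leaf 0xf352bb000)) (.node (.leaf 0x1bc9ab084) (.leaf 0x11583700a))))) (.node (.node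 (.node (.node (.leaf 0x2bd619000) (.leaf 0x10936b044)) (.node (.leaf 0x22993b0c6) (.leaf 0x2b4d99010))) (.node (.node (.leaf 0x8fab2b0c0) (.leaf 0x50c16b086)) (.node (.leaf 0xa66b036) (.leaf 0x620c1b0c6)))) (.node (.node (.node (.leaf 0x245efb09a) (.leaf 0x42c729036)) (.node (.leaf 0x2d54b7004) (.leaf 0x439c4704e))) (.node (.node (.leaf 0x16ce1c7004) (.leaf 0x77f567006)) (.node (.leaf 0x3e4ceb042) (.leaf 0x19e619002)))))) (.node (.node (.node (.node (.node (.leaf 0x9586cb056) (.leaf 0x159a5901a)) (.node (.leaf 0xad40b024) (.leaf 0x31427006))) (.node (.node (.leaf 0x6da167010) (.leaf 0x27e447010)) (.node (.leaf 0x22f27026) (.leaf 0xa270eb14e)))) (.node (.node (.node (.leaf 0x89c4b7006) (.leaf 0x7d8f0901a)) (.node (.leaf 0x465e9014) (.leaf 0x1e6c4b00c))) (.node (.node (.leaf 0x7e659030) (.leaf 0x69b90901c)) (.node (.leaf 0x44c17006) (.leaf 0x235cb042))))) (.node (.node (.node (.node (.leaf 0x4e50db044) (.leaf 0x13fafcb0c0))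 (.node (.leaf 0x16ac39044) (.leaf 0x2782c7000))) (.node (.node (.leaf 0x8530b09a) (.leaf 0xcc79b086)) (.node (.leaf 0x196b19002) (.leaf 0x1dff6b044)))) (.node (.node (.node (.leaf 0xdb569036) (.leaf 0x34a1fb090)) (.node (.leaf 0x24ea9b06a) (.leaf 0x284e5b184))) (.node (.node (.leaf 0x3fbf3b0fc) (.leaf 0x808b99030)) (.node (.leaf 0x26fd0b064) (.leaf 0x4c5557002)))))))) (.node (.node (.node (.node (.node (.node (.node (.leaf 0x18c2b01e) (.leaf 0x4d209b036)) (.node (.leaf 0x298dbb2dc) (.leaf 0x5dddd90c6))) (.node (.node (.leaf 0x2f954b036) (.leaf 0x441339016)) (.node (.leaf 0x122179010) (.leaf 0x336b7014)))) (.node (.node (.node (.leaf 0x36a30b0cc) (.leaf 0x1933b5014)) (.node (.leaf 0xda118b09a) (.leaf 0x10b1fb064))) (.node (.node (.leaf 0x218b77030) (.leaf 0x4c4ae5004)) (.node (.leaf 0x18347904e) (.leaf 0x22970b0d6))))) (.node (.node (.node (.node (.leaf 0x19da65014) (.leaf 0x36220b0cc)) (.node (.leaf 0x25b86b062) (.leaf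 0x94ff8901c))) (.node (.node (.leaf 0xf545b0fc) (.leaf 0xbcd6b114)) (.node (.leaf 0x12cdfb01c) (.leaf 0x2c9f89014)))) (.node (.node (.node (.leaf 0x61bca9006) (.leaf 0x3d95900c)) (.node (.leaf 0x2da5d7042) (.leaf 0x2a3fb000))) (.node (.node (.leaf 0x4e909082) (.leaf 0x1ad4b905c)) (.node (.leaf 0x2349ab114) (.leaf 0x555bb9026)))))) (.node (.node (.node (.node (.node (.leaf 0x67807500a) (.leaf 0x19e8f5000)) (.node (.leaf 0x1ed8c700e) (.leaf 0x4fe9eb090))) (.node (.node (.leaf 0x431d490c6) (.leaf 0xfb3eb184)) (.node (.leaf 0x4152900c) (.leaf 0x335a79046)))) (.node (.node (.node (.leaf 0x6e0f4905c) (.leaf 0xc114b0fc)) (.node (.leaf 0xcc073b084) (.leaf 0x4f0dc5000))) (.node (.node (.leaf 0x13a7b01e) (.leaf 0xc24cbb2dc)) (.node (.leaf 0x60e263004) (.leaf 0x246d8b01c))))) (.node (.node (.node (.node (.leaf 0x197197002) (.leaf 0x1e9ab01e)) (.node (.leaf 0x47969024) (.leaf 0x28123b0ea))) (.node (.node (.leaf 0x17cc39046) (.leaf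 0x8f7e2b0c0)) (.node (.leaf 0x18bfb01e) (.leaf 0x6ad5b064)))) (.node (.node (.node (.leaf 0x4a1969030) (.leaf 0x206409030)) (.node (.leaf 0x3bbf79014) (.leaf 0x1eb279026))) (.node (.node (.leaf 0x462be90c6) (.leaf 0x41f22b0c6)) (.node (.leaf 0x38090905c) (.leaf 0x31b267020))))))) (.node (.node (.node (.node (.node (.node (.leaf 0x16be59030) (.leaf 0x4c4a87002)) (.node (.leaf 0x2db0d7024) (.leaf 0x2b81a700e))) (.node (.node (.leaf 0x5b7297004) (.leaf 0xeb3ab0c0)) (.node (.leaf 0x12898b09a) (.leaf 0x15ba1904e)))) (.node (.node (.node (.leaf 0x38e72905c) (.leaf 0x3b61b900c)) (.node (.leaf 0x33f59b00c) (.leaf 0x83abbb050))) (.node (.node (.leaf 0x43e6e700a) (.leaf 0x35fc9006)) (.node (.leaf 0x8d737010) (.leaf 0x3653db0cc))))) (.node (.node (.node (.node (.leaf 0x3cc99b00c) (.leaf 0x23a3db064)) (.node (.leaf 0xd3a7900e) (.leaf 0x39d56b00c))) (.node (.node (.leaf 0x4e695b114) (.leaf 0x115e5704e)) (.node (.leaf 0x78582b014)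 (.leaf 0x440a07004)))) (.node (.node (.node (.leaf 0x17689b00c) (.leaf 0x159f1700a)) (.node (.leaf 0x312dfb01c) (.leaf 0x3652db0cc))) (.node (.node (.leaf 0x40e47042) (.leaf 0x193449002)) (.node (.leaf 0x3420fb090) (.leaf 0xffe0b086)))))) (.node (.node (.node (.node (.node (.leaf 0x30f1a9036) (.leaf 0x189967024)) (.node (.leaf 0x1ae6cb1d6) (.leaf 0x66c327000))) (.node (.node (.leaf 0x128cf7010) (.leaf 0x72e3b1fe)) (.node (.leaf 0x9a4179030) (.leaf 0x207649044)))) (.node (.node (.node (.leaf 0x55c58b144) (.leaf 0xa800e900e)) (.node (.leaf 0x7ef94b042) (.leaf 0x4c5387002))) (.node (.node (.leaf 0x400659082) (.leaf 0x2d795901c)) (.node (.leaf 0xfa7bb062) (.leaf 0x729c5b114))))) (.node (.node (.node (.node (.leaf 0x9bfe2b084) (.leaf 0xade1b0d6)) (.node (.leaf 0x802239044) (.leaf 0x63a7cb01c))) (.node (.node (.leaf 0x7ed39044) (.leaf 0x194949002)) (.node (.leaf 0x4bbb09c) (.leaf 0x118b590c6)))) (.node (.node (.node (.leaf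 0x28e4ab0fc) (.leaf 0x308f5900e)) (.node (.leaf 0xc6b9b0ea) (.leaf 0xda4479010))) (.node (.node (.leaf 0x87411b1d6) (.leaf 0xe1a3b14e)) (.node (.leaf 0x52f087020) (.leaf 0x17241b144))))))))) (.node (.node (.node (.node (.node (.node (.node (.node (.leaf 0xefe24b036) (.leaf 0x9434b114)) (.node (.leaf 0x33d2700a) (.leaf 0x7aaf9030))) (.node (.node (.leaf 0xd340b05c) (.leaf 0xfed89014)) (.node (.leaf 0x150847042) (.leaf 0x1f0eeb09a)))) (.node (.node (.node (.leaf 0x8c9ea9010) (.leaf 0x13f64b14e)) (.node (.leaf 0x2a20bb114) (.leaf 0x4ceca500a))) (.node (.node (.leaf 0x20119b1d6) (.leaf 0x803f8b1d6)) (.node (.leaf 0x14d653b042) (.leaf 0x112ba9004))))) (.node (.node (.node (.node (.leaf 0x7a42b10c) (.leaf 0x12b812b0a2)) (.node (.leaf 0x4cfbe500e) (.leaf 0x23f12b044))) (.node (.node (.leaf 0x78469b002) (.leaf 0x1e92b01e)) (.node (.leaf 0x6ffa19002) (.leaf 0x3f82a9042)))) (.node (.node (.node (.leaf 0x318ff9000) (.leaf 0x110353b086))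 (.node (.leaf 0x36aebb00a) (.leaf 0x4ade3b05c))) (.node (.node (.leaf 0x276597020) (.leaf 0x2143bb144)) (.node (.leaf 0x1237f9000) (.leaf 0xf6287004)))))) (.node (.node (.node (.node (.node (.leaf 0x594455000) (.leaf 0xab86b0c6)) (.node (.leaf 0x12efb01e) (.leaf 0x2e68db050))) (.node (.node (.leaf 0x38b369044) (.leaf 0x13bfcb2dc)) (.node (.leaf 0x7f246b036) (.leaf 0x4e37704e)))) (.node (.node (.node (.leaf 0x157567004) (.leaf 0x26a5fb044)) (.node (.leaf 0x18cab01e) (.leaf 0x22320b0d6))) (.node (.node (.leaf 0x37a48b114) (.leaf 0xcc62904e)) (.node (.leaf 0x2b629026) (.leaf 0x3d8f1b000))))) (.node (.node (.node (.node (.leaf 0xa97c97004) (.leaf 0x176e5b014)) (.node (.leaf 0xb44eb044) (.leaf 0x12767b002))) (.node (.node (.leaf 0x18d98b0ea) (.leaf 0xcb26901a)) (.node (.leaf 0x26536b064) (.leaf 0x288829006)))) (.node (.node (.node (.leaf 0x437bf7042) (.leaf 0x1ddb5b064)) (.node (.leaf 0x1df7b01e) (.leaf 0x89507030))) (.node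 (.node (.leaf 0x59912b090) (.leaf 0x2ff95b036)) (.node (.leaf 0x68909b064) (.leaf 0x5e284b0c6))))))) (.node (.node (.node (.node (.node (.node (.leaf 0x4b572900c) (.leaf 0x14201b1d6)) (.node (.leaf 0x15baa900c) (.leaf 0x669b5b09a))) (.node (.node (.leaf 0x313777000) (.leaf 0x5adc1b14e)) (.node (.leaf 0x199be500a) (.leaf 0x19c025042)))) (.node (.node (.node (.leaf 0x15ae09082) (.leaf 0xe0e2b14e)) (.node (.leaf 0x3ffb87014) (.leaf 0x36caeb00a))) (.node (.node (.leaf 0x18f38b194) (.leaf 0x21ac59046)) (.node (.leaf 0x2ca4fb062) (.leaf 0x33ac900a))))) (.node (.node (.node (.node (.leaf 0x501149004) (.leaf 0x6dc75b050)) (.node (.leaf 0x4b12e7004) (.leaf 0x36df6b00a))) (.node (.node (.leaf 0x101f9b064) (.leaf 0x2de5b00c)) (.node (.leaf 0x1aa4d9030) (.leaf 0x602653004)))) (.node (.node (.node (.leaf 0x21fab700e) (.leaf 0x150ee9024)) (.node (.leaf 0x61b6bb086) (.leaf 0xc3d19014))) (.node (.node (.leaf 0x394cd7026) (.leaf 0x67e665004))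 (.node (.leaf 0x2565d7004) (.leaf 0x21e687010)))))) (.node (.node (.node (.node (.node (.leaf 0x17287b06a) (.leaf 0x20083b10c)) (.node (.leaf 0x16874b1d6) (.leaf 0xf37c1b00c))) (.node (.node (.leaf 0x114d4900c) (.leaf 0x65c6a7010)) (.node (.leaf 0x544ea7004) (.leaf 0x7fb4b1d6)))) (.node (.node (.node (.leaf 0x6fa665004) (.leaf 0xadf1b0d6)) (.node (.leaf 0x854803000) (.leaf 0x285bd7014))) (.node (.node (.leaf 0x1927b5006) (.leaf 0x19be65006)) (.node (.leaf 0x52232b00c) (.leaf 0x1f656b014))))) (.node (.node (.node (.node (.leaf 0x8d8b7000) (.leaf 0x5d2677006)) (.node (.leaf 0x24e57b050) (.leaf 0x2c810b086))) (.node (.node (.leaf 0x35ea67026) (.leaf 0x119e59006)) (.node (.leaf 0x3487fb0cc) (.leaf 0x2bfd67030)))) (.node (.node (.node (.leaf 0x1912a500e) (.leaf 0x190df500e)) (.node (.leaf 0x75703b002) (.leaf 0x1b63fb084))) (.node (.node (.leaf 0x2846d9004) (.leaf 0x2b6759026)) (.node (.leaf 0x675d17002) (.leaf 0x2b6db144))))))))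 (.node (.node (.node (.node (.node (.node (.node (.leaf 0x44aa3b062) (.leaf 0x8a7b5b044)) (.node (.leaf 0x6507ab01c) (.leaf 0x5d1cd9006))) (.node (.node (.leaf 0x4f02eb0cc) (.leaf 0x8b439000)) (.node (.leaf 0x37dd0b044) (.leaf 0x4bee87042)))) (.node (.node (.node (.leaf 0x294f9046) (.leaf 0x4757bb00c)) (.node (.leaf 0x1ca7b01e) (.leaf 0xce7e9016))) (.node (.node (.leaf 0x7dbf905c) (.leaf 0x214589000)) (.node (.leaf 0x4f7205010) (.leaf 0x39e5d9026))))) (.node (.node (.node (.node (.leaf 0xe32bb0c0) (.leaf 0x28392900a)) (.node (.leaf 0x2994ab2dc) (.leaf 0x2cdf0b194))) (.node (.node (.leaf 0x38b809030) (.leaf 0x4bac49082)) (.node (.leaf 0x14a869030) (.leaf 0x31fc704e)))) (.node (.node (.node (.leaf 0x7e6b5700e) (.leaf 0x1d9ab01e)) (.node (.leaf 0x34d9eb0cc) (.leaf 0x157947024))) (.node (.node (.leaf 0x3aa75b01c) (.leaf 0xc71f9082)) (.node (.leaf 0x1fbfb01e) (.leaf 0x158617006)))))) (.node (.node (.node (.node (.node (.leaf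 0xb6b7b064) (.leaf 0x2b5a57026)) (.node (.leaf 0x4c4ce502a) (.leaf 0x4675fb194))) (.node (.node (.leaf 0x57b287010) (.leaf 0x15d9cbb09a)) (.node (.leaf 0x159269014) (.leaf 0x1fc2b01e)))) (.node (.node (.node (.leaf 0x42c18b05c) (.leaf 0x11e2a7014)) (.node (.leaf 0x1e1b0b014) (.leaf 0x3f13b900a))) (.node (.node (.leaf 0x549549082) (.leaf 0x49eb036)) (.node (.leaf 0x12c387030) (.leaf 0x94c5d700a))))) (.node (.node (.node (.node (.leaf 0xd3b09c) (.leaf 0x2efc67000)) (.node (.leaf 0x1a376b05c) (.leaf 0x23bdbb064))) (.node (.node (.leaf 0x4b01904e) (.leaf 0x595cb114)) (.node (.leaf 0x7515b9000) (.leaf 0x35ec7b06a)))) (.node (.node (.node (.leaf 0x2749f7030) (.leaf 0x70a127030)) (.node (.leaf 0x116627042) (.leaf 0x168ef905c))) (.node (.node (.leaf 0x5c9c6b064) (.leaf 0x9bbcb044)) (.node (.leaf 0x31e3c7030) (.leaf 0x17110b042))))))) (.node (.node (.node (.node (.node (.node (.leaf 0x11aa89024) (.leaf 0x160f5905c)) (.node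 (.leaf 0x604333000) (.leaf 0x42a589036))) (.node (.node (.leaf 0xaee267034) (.leaf 0x4b0b87024)) (.node (.leaf 0xdd009036) (.leaf 0x80f22b10c)))) (.node (.node (.node (.leaf 0x479907000) (.leaf 0x5d46e9004)) (.node (.leaf 0x6c5eb044) (.leaf 0x678265000))) (.node (.node (.leaf 0x2070e905c) (.leaf 0x576a3b144)) (.node (.leaf 0x3b9f8901a) (.leaf 0x18f6db0fc))))) (.node (.node (.node (.node (.leaf 0x486a6b0fc) (.leaf 0x2bc5c7020)) (.node (.leaf 0x428e2b1d6) (.leaf 0x1d52eb114))) (.node (.node (.leaf 0xcf537024) (.leaf 0x282797034)) (.node (.leaf 0xf56f904e) (.leaf 0x2e746b002)))) (.node (.node (.node (.leaf 0x63e7b064) (.leaf 0xdc15b1fe)) (.node (.leaf 0x110ba901c) (.leaf 0x8b0fc9014))) (.node (.node (.leaf 0xae90b024) (.leaf 0x10cfeb114)) (.node (.leaf 0x59f53b090) (.leaf 0x174b3b000)))))) (.node (.node (.node (.node (.node (.leaf 0x431a77014) (.leaf 0x45d959036)) (.node (.leaf 0x44426b184) (.leaf 0x8288b050))) (.node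 (.node (.leaf 0x3cac90c6) (.leaf 0x310f7b002)) (.node (.leaf 0x2f936b084) (.leaf 0x2b0b084)))) (.node (.node (.node (.leaf 0xe17bb0c0) (.leaf 0x35544b042)) (.node (.leaf 0xf8a3901a) (.leaf 0x1a92f9044))) (.node (.node (.leaf 0x74931b036) (.leaf 0x154fd9016)) (.node (.leaf 0x65905b09a) (.leaf 0x7975905c))))) (.node (.node (.node (.node (.leaf 0x40d4c700a) (.leaf 0x3455c5010)) (.node (.leaf 0xa14b8b062) (.leaf 0x15a5c901c))) (.node (.node (.leaf 0x19012502a) (.leaf 0x1922a5002)) (.node (.leaf 0x119b89042) (.leaf 0x493deb044)))) (.node (.node (.node (.leaf 0x22d8bb0c6) (.leaf 0x270687026)) (.node (.leaf 0x12eb0b050) (.leaf 0x5d27a7034))) (.node (.node (.leaf 0x3038ab1d6) (.leaf 0x18c86b184)) (.node (.leaf 0x530f6b2dc) (.leaf 0x9cd8db0fc))))))))))) (.node (.node (.node (.node (.node (.node (.node (.node (.node (.node (.leaf 0x331a7900c) (.leaf 0x1f7167014)) (.node (.leaf 0x47b3b9082) (.leaf 0x257247010))) (.node (.node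 (.leaf 0x613fb056) (.leaf 0x914a4b062)) (.node (.leaf 0x53966b2dc) (.leaf 0x39e9d90c6)))) (.node (.node (.node (.leaf 0x510a05004) (.leaf 0xb4656b056)) (.node (.leaf 0x2e5a8700a) (.leaf 0x111d2b09a))) (.node (.node (.leaf 0x11b6ab014) (.leaf 0x1bd93b09c)) (.node (.leaf 0x398ab700a) (.leaf 0x6411a900e))))) (.node (.node (.node (.node (.leaf 0xcf537030) (.leaf 0xe61c2b084)) (.node (.leaf 0x231c5b1fe) (.leaf 0x3eccf7042))) (.node (.node (.leaf 0x558809082) (.leaf 0x4786a9016)) (.node (.leaf 0x25d9c7000) (.leaf 0x9dbcb10c)))) (.node (.node (.node (.leaf 0x84ed700a) (.leaf 0xbd7b084)) (.node (.leaf 0xda2b9901a) (.leaf 0x1c529900e))) (.node (.node (.leaf 0x4831fb06a) (.leaf 0x12a23900a)) (.node (.leaf 0x904b1b062) (.leaf 0xb821d7042)))))) (.node (.node (.node (.node (.node (.leaf 0x6f0db056) (.leaf 0x14e13b114)) (.node (.leaf 0x8cec69006) (.leaf 0x94149036))) (.node (.node (.leaf 0x6d10bb194) (.leaf 0x5a6d9b0c0)) (.node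 (.leaf 0x13fcb1b14e) (.leaf 0x23cd09036)))) (.node (.node (.node (.leaf 0x3b00b002) (.leaf 0xc28c7026)) (.node (.leaf 0x76b939002) (.leaf 0x1d498b05c))) (.node (.node (.leaf 0x13969b2dc) (.leaf 0x1292390c6)) (.node (.leaf 0x2c6eeb00c) (.leaf 0xf0397010))))) (.node (.node (.node (.node (.leaf 0x1cf2a9036) (.leaf 0x4be85b042)) (.node (.leaf 0x2df227026) (.leaf 0x543a9036))) (.node (.node (.leaf 0x47d6b06a) (.leaf 0x2ac83b10c)) (.node (.leaf 0x1a367b064) (.leaf 0x249ac704e)))) (.node (.node (.node (.leaf 0x433cfb09a) (.leaf 0xb647900e)) (.node (.leaf 0x2749f7024) (.leaf 0x455b5b114))) (.node (.node (.leaf 0x1e009901a) (.leaf 0xd3b7cb086)) (.node (.leaf 0x4c34bb0c6) (.leaf 0x2afce905c))))))) (.node (.node (.node (.node (.node (.node (.leaf 0x4d556b09c) (.leaf 0x3119bb0fc)) (.node (.leaf 0x25fbf700e) (.leaf 0x337dc9016))) (.node (.node (.leaf 0x15ac39010) (.leaf 0x6dc2bb086)) (.node (.leaf 0x9516b1d6) (.leaf 0x3dda5b194))))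 (.node (.node (.node (.leaf 0xfecc9046) (.leaf 0x1d95eb1d6)) (.node (.leaf 0x2b2a59006) (.leaf 0x4e1ac9030))) (.node (.node (.leaf 0x113b1b01c) (.leaf 0x1f11e7042)) (.node (.leaf 0x53176b2dc) (.leaf 0x2802e9000))))) (.node (.node (.node (.node (.leaf 0x177c99082) (.leaf 0x4f735b0c6)) (.node (.leaf 0xa4ce5002) (.leaf 0xaef6502a))) (.node (.node (.leaf 0x27262901a) (.leaf 0x724cc9030)) (.node (.leaf 0x29f4bb0c0) (.leaf 0xf7b19010)))) (.node (.node (.node (.leaf 0x3e9ad900c) (.leaf 0x36e5b000)) (.node (.leaf 0x31742b194) (.leaf 0x12b7c7034))) (.node (.node (.leaf 0x45377026) (.leaf 0x24e0901a)) (.node (.leaf 0x631c37014) (.leaf 0x255ec9010)))))) (.node (.node (.node (.node (.node (.leaf 0x3ffbb050) (.leaf 0xc1c089004)) (.node (.leaf 0x1f0b19006) (.leaf 0x35e14700a))) (.node (.node (.leaf 0x83fd904e) (.leaf 0x52c4e9004)) (.node (.leaf 0x6865900e) (.leaf 0x74ab2b036)))) (.node (.node (.node (.leaf 0x1ec95700a) (.leaf 0x171ad7042))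 (.node (.leaf 0x3c5d99082) (.leaf 0x4341b042))) (.node (.node (.leaf 0xd53737026) (.leaf 0x5f8cfb05c)) (.node (.leaf 0x5d8f97010) (.leaf 0x3a3eb904e))))) (.node (.node (.node (.node (.leaf 0x29f2704e) (.leaf 0xf6099000)) (.node (.leaf 0x1d1d89036) (.leaf 0x7e2bb9042))) (.node (.node (.leaf 0xd38dcb194) (.leaf 0x255149000)) (.node (.leaf 0xf9e2700e) (.leaf 0x2a298905c)))) (.node (.node (.node (.leaf 0x249bc90c6) (.leaf 0x65efe704e)) (.node (.leaf 0x18eb8b06a) (.leaf 0x3a41f901a))) (.node (.node (.leaf 0xf4d01b09a) (.leaf 0x4614d700e)) (.node (.leaf 0x556547042) (.leaf 0x61669036)))))))) (.node (.node (.node (.node (.node (.node (.node (.leaf 0x513b900e) (.leaf 0x8f97704e)) (.node (.leaf 0x8bec09046) (.leaf 0x1c46b900e))) (.node (.node (.leaf 0xb22d900e) (.leaf 0xdb4b036)) (.node (.leaf 0x31a62b086) (.leaf 0x4181db090)))) (.node (.node (.node (.leaf 0x1fea49024) (.leaf 0xc94d7020)) (.node (.leaf 0x4083d700e) (.leaf 0x276cd7004)))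 (.node (.node (.leaf 0x9260fb06a) (.leaf 0x1f4869004)) (.node (.leaf 0x63e609006) (.leaf 0x43511b06a))))) (.node (.node (.node (.node (.leaf 0x508c79026) (.leaf 0x3ec2b042)) (.node (.leaf 0x105f3905c) (.leaf 0x270bd9014))) (.node (.node (.leaf 0x1f4a27034) (.leaf 0x4f0a6b0d6)) (.node (.leaf 0x2feb9b084) (.leaf 0x14f64b064)))) (.node (.node (.node (.leaf 0x1eb85904e) (.leaf 0x33615901c)) (.node (.leaf 0x9254b05c) (.leaf 0x2206bb00a))) (.node (.node (.leaf 0x313a2b0ea) (.leaf 0xb9a4d700e)) (.node (.leaf 0x229d8b090) (.leaf 0x176c79024)))))) (.node (.node (.node (.node (.node (.leaf 0x229c8b090) (.leaf 0xe9ae1b01e)) (.node (.leaf 0x124229042) (.leaf 0x2448e700a))) (.node (.node (.leaf 0x378b5900e) (.leaf 0x3fa1db042)) (.node (.leaf 0x738c7b084) (.leaf 0x2c1117000)))) (.node (.node (.node (.leaf 0x7bb1690c6) (.leaf 0x2b2de7014)) (.node (.leaf 0x70fda901c) (.leaf 0xf572b144))) (.node (.node (.leaf 0x3c25b7004) (.leaf 0x32140904e))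 (.node (.leaf 0x178c3900c) (.leaf 0x68debb1fe))))) (.node (.node (.node (.node (.leaf 0x41502b00a) (.leaf 0x62a7eb090)) (.node (.leaf 0x69a28b09a) (.leaf 0x7f8bb064))) (.node (.node (.leaf 0x41e4db090) (.leaf 0x23d6ab1d6)) (.node (.leaf 0x33ccd7024) (.leaf 0x189f6b09a)))) (.node (.node (.node (.leaf 0x4522b000) (.leaf 0x7e5297014)) (.node (.leaf 0xac084502a) (.leaf 0x2542fb144))) (.node (.node (.leaf 0x37b2e9036) (.leaf 0x13af1b14e)) (.node (.leaf 0x19074b024) (.leaf 0x2cc797010))))))) (.node (.node (.node (.node (.node (.node (.leaf 0x2a4c700a) (.leaf 0x76ff4b00a)) (.node (.leaf 0x5ffd69044) (.leaf 0x306f2b044))) (.node (.node (.leaf 0x1dbddb1fe) (.leaf 0x3d5e0b0fc)) (.node (.leaf 0xab6b500e) (.leaf 0xabce500e)))) (.node (.node (.node (.leaf 0x417f7b00a) (.leaf 0x2c1a19010)) (.node (.leaf 0x7788bb144) (.leaf 0x22deeb00a))) (.node (.node (.leaf 0x4cb036) (.leaf 0x57a6fb184)) (.node (.leaf 0x524de7014) (.leaf 0xb92fb056)))))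 (.node (.node (.node (.node (.leaf 0x151527020) (.leaf 0x24abc900a)) (.node (.leaf 0x697f3b01c) (.leaf 0x5813b056))) (.node (.node (.leaf 0x57c14b0fc) (.leaf 0x6817900e)) (.node (.leaf 0x1e0f7704e) (.leaf 0x171907006)))) (.node (.node (.node (.leaf 0x19225b0d6) (.leaf 0x2773a9016)) (.node (.leaf 0x15974b09a) (.leaf 0x1f59f7006))) (.node (.node (.leaf 0xa272500a) (.leaf 0xaae65042)) (.node (.leaf 0x2b1c904e) (.leaf 0x1c243b056)))))) (.node (.node (.node (.node (.node (.leaf 0xe1fbe9044) (.leaf 0xeffb084)) (.node (.leaf 0x557f29014) (.leaf 0x29f52b14e))) (.node (.node (.leaf 0xaaede9004) (.leaf 0x27b7b9082)) (.node (.leaf 0x85f1901a) (.leaf 0x21a72b062)))) (.node (.node (.node (.leaf 0x3172cb184) (.leaf 0x121207014)) (.node (.leaf 0xbd45b056) (.leaf 0x7042b044))) (.node (.node (.leaf 0x2ca899000) (.leaf 0x9224cb042)) (.node (.leaf 0x13129b0c0) (.leaf 0x1499aeb084))))) (.node (.node (.node (.node (.leaf 0x10a3d905c) (.leaf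 0x4ec23b05c)) (.node (.leaf 0x47acb014) (.leaf 0x58acd905c))) (.node (.node (.leaf 0x5a81b056) (.leaf 0xa4275006)) (.node (.leaf 0x3fe36b000) (.leaf 0x37d27b056)))) (.node (.node (.node (.leaf 0x1a99eb044) (.leaf 0x10f9cb1d6)) (.node (.leaf 0x30efbb064) (.leaf 0x1cb01b056))) (.node (.node (.leaf 0x21439b086) (.leaf 0x663dfb086)) (.node (.leaf 0x1b978b084) (.leaf 0x347c9b0c6))))))))) (.node (.node (.node (.node (.node (.node (.node (.node (.leaf 0x16b9cb044) (.leaf 0x84a69024)) (.node (.leaf 0xdfc20b0d6) (.leaf 0x20c61b044))) (.node (.node (.leaf 0x3290c9016) (.leaf 0x44f419000)) (.node (.leaf 0x3ac87b062) (.leaf 0x2c76d7026)))) (.node (.node (.node (.leaf 0x5cfcb05c) (.leaf 0x49d9b9030)) (.node (.leaf 0xced09010) (.leaf 0x5fcb2905c))) (.node (.node (.leaf 0x76e25500e) (.leaf 0x325807006)) (.node (.leaf 0x214e39082) (.leaf 0xe9ebb2dc))))) (.node (.node (.node (.node (.leaf 0x24dc7006) (.leaf 0x2eb739024)) (.node (.leaf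 0x527a190c6) (.leaf 0x106f19044))) (.node (.node (.leaf 0x579c19014) (.leaf 0xb2b94b044)) (.node (.leaf 0x8d980500e) (.leaf 0x1c83c9036)))) (.node (.node (.node (.leaf 0xa9e57002) (.leaf 0x83fbb901c)) (.node (.leaf 0x21ee29016) (.leaf 0x2ce97024))) (.node (.node (.leaf 0xac434500e) (.leaf 0x3a08cb086)) (.node (.leaf 0x1d22db056) (.leaf 0x5ebb3b0cc)))))) (.node (.node (.node (.node (.node (.leaf 0x95869036) (.leaf 0x1b2c0b084)) (.node (.leaf 0x89507024) (.leaf 0x9dc1900e))) (.node (.node (.leaf 0x12fb1b062) (.leaf 0x11093b042)) (.node (.leaf 0x274cfb184) (.leaf 0x5b283b014)))) (.node (.node (.node (.leaf 0x63a7090c6) (.leaf 0x359217042)) (.node (.leaf 0x6838b05c) (.leaf 0x2c6b9014))) (.node (.node (.leaf 0xc0a019082) (.leaf 0x1c67cb05c)) (.node (.leaf 0x1e8a87042) (.leaf 0x1fcb1704e))))) (.node (.node (.node (.node (.leaf 0x4ac8700e) (.leaf 0x988bc9036)) (.node (.leaf 0x2e7157024) (.leaf 0x4ba79026))) (.node (.node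 (.leaf 0x7b297b086) (.leaf 0x362bb014)) (.node (.leaf 0x562b084) (.leaf 0x1d647b056)))) (.node (.node (.node (.leaf 0x2a62bb05c) (.leaf 0x8e7e9014)) (.node (.leaf 0x1956ab0c6) (.leaf 0x85dc3905a))) (.node (.node (.leaf 0x85c2900c) (.leaf 0x114ae57030)) (.node (.leaf 0xa3757002) (.leaf 0xaeaf4b000))))))) (.node (.node (.node (.node (.node (.node (.leaf 0xa99e5000) (.leaf 0x8f962b0c0)) (.node (.leaf 0x7bddeb0fc) (.leaf 0x799ab114))) (.node (.node (.leaf 0xf45d9026) (.leaf 0x4018b144)) (.node (.leaf 0x3393b09a) (.leaf 0x218b77024)))) (.node (.node (.node (.leaf 0x224b8b0a6) (.leaf 0x6fb6b1d6)) (.node (.leaf 0x573ee904e) (.leaf 0x27eeab062))) (.node (.node (.leaf 0x1b5a6b036) (.leaf 0x1cbb1b1fe)) (.node (.leaf 0x2761901c) (.leaf 0x624895004))))) (.node (.node (.node (.node (.leaf 0x255b97020) (.leaf 0x117a4b000)) (.node (.leaf 0x157947030) (.leaf 0x41cfdb0a6))) (.node (.node (.leaf 0xddab084) (.leaf 0x95327b044)) (.node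 (.leaf 0x43218b002) (.leaf 0xa9675014)))) (.node (.node (.node (.leaf 0x24cdf7042) (.leaf 0x3901e7034)) (.node (.leaf 0xf8e47020) (.leaf 0x5eba2b0cc))) (.node (.node (.leaf 0x28f89016) (.leaf 0xa89d9002)) (.node (.leaf 0x17744901a) (.leaf 0x185c4b000)))))) (.node (.node (.node (.node (.node (.leaf 0x47d0b00c) (.leaf 0x4393eb042)) (.node (.leaf 0x1e6f87024) (.leaf 0x90ae07014))) (.node (.node (.leaf 0x395029004) (.leaf 0xd978b044)) (.node (.leaf 0x2bea5704e) (.leaf 0x5531b1fe)))) (.node (.node (.node (.leaf 0x13179b2dc) (.leaf 0x34e91b0c6)) (.node (.leaf 0x66789036) (.leaf 0x35cc09016))) (.node (.node (.leaf 0x29f8ab0c0) (.leaf 0x7f91b064)) (.node (.leaf 0xb960b05c) (.leaf 0xf7db036))))) (.node (.node (.node (.node (.leaf 0x28f277020) (.leaf 0x25da89026)) (.node (.leaf 0x1036d9030) (.leaf 0xa537f7042))) (.node (.node (.leaf 0x843d7006) (.leaf 0x2e7519082)) (.node (.leaf 0x327479024) (.leaf 0xf3fafb086)))) (.node (.node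 (.node (.leaf 0x495a4b1d6) (.leaf 0xaf4d9002)) (.node (.leaf 0xdb10ab0cc) (.leaf 0x109a7b1fe))) (.node (.node (.leaf 0x65b277004) (.leaf 0xa2335000)) (.node (.leaf 0x26506900e) (.leaf 0xc3aabb06a)))))))) (.node (.node (.node (.node (.node (.node (.node (.leaf 0x39d2c900c) (.leaf 0xad987002)) (.node (.leaf 0x2d1b7004) (.leaf 0x4406a700e))) (.node (.node (.leaf 0x269beb056) (.leaf 0xa3189b000)) (.node (.leaf 0x1c404b10c) (.leaf 0x3fe469046)))) (.node (.node (.node (.leaf 0x24357901c) (.leaf 0x3712db1fe)) (.node (.leaf 0x511215000) (.leaf 0x32cd99082))) (.node (.node (.leaf 0x8788901c) (.leaf 0xf48d7026)) (.node (.leaf 0x33160700a) (.leaf 0x10d9eb05c))))) (.node (.node (.node (.node (.leaf 0x83ce7004) (.leaf 0x4bccc700e)) (.node (.leaf 0x17af6704e) (.leaf 0x3df0e9016))) (.node (.node (.leaf 0x1e0019016) (.leaf 0xce97b144)) (.node (.leaf 0x224a5b0a6) (.leaf 0x323fd7042)))) (.node (.node (.node (.leaf 0x8d045500a) (.leaf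 0x20aa9b114)) (.node (.leaf 0x45529046) (.leaf 0x157337000))) (.node (.node (.leaf 0x25e787026) (.leaf 0x111bab050)) (.node (.leaf 0x8a4649030) (.leaf 0x5d11d9026)))))) (.node (.node (.node (.node (.node (.leaf 0x26a18b056) (.leaf 0x5984b10c)) (.node (.leaf 0x51ced5014) (.leaf 0x2bf97042))) (.node (.node (.leaf 0x41cf0b0a6) (.leaf 0xb254cb114)) (.node (.leaf 0x50b76b06a) (.leaf 0x12312b086)))) (.node (.node (.node (.leaf 0x13939b0c0) (.leaf 0x10f7f6b064)) (.node (.leaf 0x90deb900a) (.leaf 0xaf087002))) (.node (.node (.leaf 0x3ddbf9082) (.leaf 0x1814eb050)) (.node (.leaf 0xb3209036) (.leaf 0x469ae7026))))) (.node (.node (.node (.node (.leaf 0x3af8b01c) (.leaf 0x463dcb042)) (.node (.leaf 0x21436904e) (.leaf 0x55705901a))) (.node (.node (.leaf 0x154b3b002) (.leaf 0x22cb8b0cc)) (.node (.leaf 0x242e99024) (.leaf 0x3aa4cb0ea)))) (.node (.node (.node (.leaf 0x1fc0f700a) (.leaf 0xd760b901a)) (.node (.leaf 0x7b9ecb062) (.leaf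 0x9967900e))) (.node (.node (.leaf 0x30d85b064) (.leaf 0x6a40b10c)) (.node (.leaf 0x655b036) (.leaf 0xc15fb00c))))))) (.node (.node (.node (.node (.node (.node (.leaf 0x86f99016) (.leaf 0x10d579044)) (.node (.leaf 0x56318b1fe) (.leaf 0x2c6fd9026))) (.node (.node (.leaf 0x68bdb1fe) (.leaf 0x217419014)) (.node (.leaf 0x35da9901c) (.leaf 0x83d637042)))) (.node (.node (.node (.leaf 0x1f2e1900a) (.leaf 0xc6f59046)) (.node (.leaf 0xd5624b144) (.leaf 0x129f2b194))) (.node (.node (.leaf 0xab911b05a) (.leaf 0x23e39024)) (.node (.leaf 0xa0de5004) (.leaf 0x9739b056))))) (.node (.node (.node (.node (.leaf 0xb818b10c) (.leaf 0xa3e09002)) (.node (.leaf 0x133a1b14e) (.leaf 0x65ddf9024))) (.node (.node (.leaf 0x4ed5bb10c) (.leaf 0x261f79036)) (.node (.leaf 0x585dd9030) (.leaf 0xc100fb0fc)))) (.node (.node (.node (.leaf 0x1e4069024) (.leaf 0x254f900c)) (.node (.leaf 0x36321b024) (.leaf 0xa5775010))) (.node (.node (.leaf 0x480cb9046)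 (.leaf 0xf34d4b062)) (.node (.leaf 0x8f3ebb14e) (.leaf 0x2ca59082)))))) (.node (.node (.node (.node (.node (.leaf 0x2b5b5900a) (.leaf 0x31cd29042)) (.node (.leaf 0xb37179046) (.leaf 0xbeb0f9046))) (.node (.node (.leaf 0x1e732900c) (.leaf 0x1d92f900e)) (.node (.leaf 0x939fb056) (.leaf 0x49595905c)))) (.node (.node (.node (.leaf 0xd3a0b114) (.leaf 0x478fab062)) (.node (.leaf 0xa6625010) (.leaf 0xc3087010))) (.node (.node (.leaf 0x4c594b0d6) (.leaf 0x5792a9016)) (.node (.leaf 0x681779030) (.leaf 0x84007042))))) (.node (.node (.node (.node (.leaf 0x22ca5b0cc) (.leaf 0x32ccf9014)) (.node (.leaf 0xd7db47004) (.leaf 0xa87b5004))) (.node (.node (.leaf 0x32f65901c) (.leaf 0x15fab9000)) (.node (.leaf 0xa8309002) (.leaf 0x21bb17004)))) (.node (.node (.node (.leaf 0xecbbb2dc) (.leaf 0x12dabb0fc)) (.node (.leaf 0x1e86e7004) (.leaf 0x9dbddb064))) (.node (.node (.leaf 0x5deab1d6) (.leaf 0xfa2e7030)) (.node (.leaf 0x15b5cb050) (.leaf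 0x3f9f4b144)))))))))) (.node (.node (.node (.node (.node (.node (.node (.node (.node (.leaf 0x7a1b1b194) (.leaf 0x3efd97004)) (.node (.leaf 0x336c9026) (.leaf 0x15de46b062))) (.node (.node (.leaf 0x2db0d7030) (.leaf 0x638d9044)) (.node (.leaf 0x4543fb114) (.leaf 0xc6e7e7006)))) (.node (.node (.node (.leaf 0x10dd7b056) (.leaf 0x3bada9000)) (.node (.leaf 0xad697b090) (.leaf 0x1c56ab05c))) (.node (.node (.leaf 0x1f6a3901a) (.leaf 0x4fa97b0d6)) (.node (.leaf 0x1bbd1b084) (.leaf 0xb75b09c))))) (.node (.node (.node (.node (.leaf 0x527ab05c) (.leaf 0xf67cb000)) (.node (.leaf 0x24f29b194) (.leaf 0x40a09b09a))) (.node (.node (.leaf 0x180219000) (.leaf 0x6cd01b056)) (.node (.leaf 0x2bfd67024) (.leaf 0x18e999010)))) (.node (.node (.node (.leaf 0x123b0901c) (.leaf 0x2af17014)) (.node (.leaf 0x40d2f7020) (.leaf 0x1db08b1d6))) (.node (.node (.leaf 0x618ca7026) (.leaf 0x329917034)) (.node (.leaf 0x8af69042) (.leaf 0x34bf7b0d6))))))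 (.node (.node (.node (.node (.node (.leaf 0x10971b056) (.leaf 0x47f47030)) (.node (.leaf 0x23112b10c) (.leaf 0xc9595b06a))) (.node (.node (.leaf 0x3d2627006) (.leaf 0x21619004)) (.node (.leaf 0x2c76cb000) (.leaf 0x8c2897042)))) (.node (.node (.node (.leaf 0x467029010) (.leaf 0x1e9569042)) (.node (.leaf 0xc55555006) (.leaf 0xc718b01c))) (.node (.node (.leaf 0xeffbb0c0) (.leaf 0x31d19700a)) (.node (.leaf 0xcacc31002) (.leaf 0x83979006))))) (.node (.node (.node (.node (.leaf 0xa684fb056) (.leaf 0x1ab9cb114)) (.node (.leaf 0x316ed901a) (.leaf 0x2e562900a))) (.node (.node (.leaf 0xc033a900a) (.leaf 0x7d84b114)) (.node (.leaf 0xcafdb1002) (.leaf 0x120ba9014)))) (.node (.node (.node (.leaf 0x4b760b050) (.leaf 0x8de905004)) (.node (.leaf 0x94dd3b01c) (.leaf 0xa58d4b0fc))) (.node (.node (.leaf 0x4788c90c6) (.leaf 0x1568cb014)) (.node (.leaf 0x765dfb0cc) (.leaf 0x63ce59014))))))) (.node (.node (.node (.node (.node (.node (.leaf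 0x83587014) (.leaf 0x19097b0c6)) (.node (.leaf 0xd16eb044) (.leaf 0xa187a9026))) (.node (.node (.leaf 0x1529ab000) (.leaf 0x213fb7034)) (.node (.leaf 0x3afc7026) (.leaf 0xa03cb0cc)))) (.node (.node (.node (.leaf 0x9bc73b036) (.leaf 0xf49f9b014)) (.node (.leaf 0xf0b6b050) (.leaf 0x49edcb10c))) (.node (.node (.leaf 0xbfb7a5010) (.leaf 0x2cd7ab050)) (.node (.leaf 0xf92fb042) (.leaf 0x97a5905c))))) (.node (.node (.node (.node (.leaf 0xe172b14e) (.leaf 0x2186f9004)) (.node (.leaf 0x51e39500e) (.leaf 0x8d902b0cc))) (.node (.node (.leaf 0x60552300a) (.leaf 0x2445ab062)) (.node (.leaf 0x81889004) (.leaf 0x21e6f901c)))) (.node (.node (.node (.leaf 0x419be500a) (.leaf 0x41c025042)) (.node (.leaf 0xb7e907014) (.leaf 0xb1a219026))) (.node (.node (.leaf 0x283529026) (.leaf 0x184517010)) (.node (.leaf 0x407067010) (.leaf 0x5c939044)))))) (.node (.node (.node (.node (.node (.leaf 0x1eff07014) (.leaf 0x187a97000)) (.node (.leaf 0x847c39030)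 (.leaf 0x2ba2900a))) (.node (.node (.leaf 0x4112a500e) (.leaf 0x38337030)) (.node (.leaf 0x18f52b00c) (.leaf 0x6625e704e)))) (.node (.node (.node (.leaf 0x3de359042) (.leaf 0x5211c7004)) (.node (.leaf 0x484f57030) (.leaf 0x213d99024))) (.node (.node (.leaf 0x3cf93b086) (.leaf 0xc6bb79004)) (.node (.leaf 0x26c5fb10c) (.leaf 0x123287042))))) (.node (.node (.node (.node (.leaf 0x30410b044) (.leaf 0x2f402b036)) (.node (.leaf 0x6ebf9044) (.leaf 0xe2abb0c0))) (.node (.node (.leaf 0x1f35c7004) (.leaf 0x45d38b064)) (.node (.leaf 0xc1db09c) (.leaf 0x394d0b194)))) (.node (.node (.node (.leaf 0x24a290c6) (.leaf 0x4f2c4b0c6)) (.node (.leaf 0x502db9010) (.leaf 0x1e9209004))) (.node (.node (.leaf 0x3b6527000) (.leaf 0x10d6f900e)) (.node (.leaf 0x224565002) (.leaf 0x229be502a)))))))) (.node (.node (.node (.node (.node (.node (.node (.leaf 0x2ee239042) (.leaf 0x15ce1b042)) (.node (.leaf 0x77560b002) (.leaf 0x7578e9024))) (.node (.node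 (.leaf 0x377d7b1fe) (.leaf 0x24f9fb184)) (.node (.leaf 0xbd52e9000) (.leaf 0x154df7026)))) (.node (.node (.node (.leaf 0x1dad3905c) (.leaf 0x1639bb064)) (.node (.leaf 0xa039b0a6) (.leaf 0x7c5cb044))) (.node (.node (.leaf 0x53afeb14e) (.leaf 0x117a17010)) (.node (.leaf 0x286b9b144) (.leaf 0x5a019044))))) (.node (.node (.node (.node (.leaf 0x13e2cb0c0) (.leaf 0x8f8790c6)) (.node (.leaf 0x8280eb000) (.leaf 0x11766b144))) (.node (.node (.leaf 0xf341b002) (.leaf 0x1e7e7900a)) (.node (.leaf 0x3de537042) (.leaf 0x2a67cb056)))) (.node (.node (.node (.leaf 0xa839b0cc) (.leaf 0x2995bb2dc)) (.node (.leaf 0xe47b2b05c) (.leaf 0x457cb050))) (.node (.node (.leaf 0xae69b0a6) (.leaf 0x17307b194)) (.node (.leaf 0x2cd91b002) (.leaf 0x52b339016)))))) (.node (.node (.node (.node (.node (.leaf 0x8887900a) (.leaf 0x4427eb014)) (.node (.leaf 0x55a14b184) (.leaf 0x60a5d905a))) (.node (.node (.leaf 0x7a9ecb0fc) (.leaf 0xa669b0cc)) (.node (.leaf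 0x3fef79000) (.leaf 0x28661b00c)))) (.node (.node (.node (.leaf 0x1f5ea9082) (.leaf 0xe962b14e)) (.node (.leaf 0x4039e9010) (.leaf 0x20ad7034))) (.node (.node (.leaf 0x1726eb0fc) (.leaf 0x9e9dbb0cc)) (.node (.leaf 0x49839000) (.leaf 0x467d9b09a))))) (.node (.node (.node (.node (.leaf 0x31609904e) (.leaf 0x64cfb1fe)) (.node (.leaf 0x12b329024) (.leaf 0x50d437010))) (.node (.node (.leaf 0xa258eb14e) (.leaf 0x114aeb00c)) (.node (.leaf 0xcd4bb014) (.leaf 0x680d4b10c)))) (.node (.node (.node (.leaf 0x126ca7004) (.leaf 0x78c489042)) (.node (.leaf 0xca35a1002) (.leaf 0x19238b0d6))) (.node (.node (.leaf 0x26a7db1d6) (.leaf 0x112c97000)) (.node (.leaf 0x3cb9db184) (.leaf 0x465d37020))))))) (.node (.node (.node (.node (.node (.node (.leaf 0x10cde9036) (.leaf 0xbac59044)) (.node (.leaf 0x54a967020) (.leaf 0x7e8e09016))) (.node (.node (.leaf 0x16612b044) (.leaf 0x3eb1a9016)) (.node (.leaf 0x7d4b5b00c) (.leaf 0x234cf905c)))) (.node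 (.node (.node (.leaf 0x5055a7020) (.leaf 0x6b26b05c)) (.node (.leaf 0x3350bb086) (.leaf 0x3d2db901c))) (.node (.node (.leaf 0x22baf5006) (.leaf 0x17667b0ea)) (.node (.leaf 0x24d89b0ea) (.leaf 0x60325300e))))) (.node (.node (.node (.node (.leaf 0x77c0fb050) (.leaf 0x3ec8b9082)) (.node (.leaf 0xbcdfb1fe) (.leaf 0x120157006))) (.node (.node (.leaf 0x384cfb114) (.leaf 0x59b0cb0c6)) (.node (.leaf 0x6b999030) (.leaf 0x4895a9000)))) (.node (.node (.node (.leaf 0x226cb500e) (.leaf 0x80f47034)) (.node (.leaf 0xc959b06a) (.leaf 0x40316b01c))) (.node (.node (.leaf 0x12df1db086) (.leaf 0x17de7fb1fe)) (.node (.leaf 0x2bb529082) (.leaf 0xcab3b09a)))))) (.node (.node (.node (.node (.node (.leaf 0x57fd9030) (.leaf 0x2bbc39016)) (.node (.leaf 0x9084b1d6) (.leaf 0x24f39042))) (.node (.node (.leaf 0x10ac9900e) (.leaf 0xa83cb0a6)) (.node (.leaf 0x69bf6b06a) (.leaf 0x320769006)))) (.node (.node (.node (.leaf 0x556cab086) (.leaf 0x5fa3b1fe))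 (.node (.leaf 0x354d79042) (.leaf 0x3716eb05c))) (.node (.node (.leaf 0x28c4f9046) (.leaf 0x4e9bb002)) (.node (.leaf 0x154aeb06a) (.leaf 0x69f877026))))) (.node (.node (.node (.node (.leaf 0x12d619016) (.leaf 0xa66cb0a6)) (.node (.leaf 0x421b7000) (.leaf 0x23b40b1d6))) (.node (.node (.leaf 0x115519000) (.leaf 0x334cbb0ea)) (.node (.leaf 0x3b2d2b002) (.leaf 0x11d799010)))) (.node (.node (.node (.leaf 0x2df29006) (.leaf 0x1b29bb036)) (.node (.leaf 0x514345006) (.leaf 0xf4744b042))) (.node (.node (.leaf 0x359a69006) (.leaf 0x1c1f3b1fe)) (.node (.leaf 0x376d7020) (.leaf 0x30ed8b114))))))))) (.node (.node (.node (.node (.node (.node (.node (.node (.leaf 0x5a15cb2dc) (.leaf 0x597f905c)) (.node (.leaf 0xeabab0c0) (.leaf 0x10b4eb1d6))) (.node (.node (.leaf 0x633b9030) (.leaf 0x1297fb90c6)) (.node (.leaf 0x279179004) (.leaf 0x3f157b01c)))) (.node (.node (.node (.leaf 0xaa0bb00a) (.leaf 0xbbc90b01c)) (.node (.leaf 0x1ebe6b086)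 (.leaf 0x2bc3b086))) (.node (.node (.leaf 0x346a3b024) (.leaf 0x121cad700a)) (.node (.leaf 0x17e817034) (.leaf 0x76b7fb090))))) (.node (.node (.node (.node (.leaf 0x5f98f9036) (.leaf 0x5542b10c)) (.node (.leaf 0x157a0b00c) (.leaf 0x2fe2ab036))) (.node (.node (.leaf 0x41da65014) (.leaf 0x83c6b0ea)) (.node (.leaf 0x47c9c9006) (.leaf 0x401a97030)))) (.node (.node (.node (.leaf 0xa825fb114) (.leaf 0x2608eb1fe)) (.node (.leaf 0x4f54b09a) (.leaf 0xcad8e1002))) (.node (.node (.leaf 0x2103b0ea) (.leaf 0x415897002)) (.node (.leaf 0x63ca8b0fc) (.leaf 0xe323b14e)))))) (.node (.node (.node (.node (.node (.leaf 0x33d017034) (.leaf 0xcecb09c)) (.node (.leaf 0x3cb159004) (.leaf 0x230bab05c))) (.node (.node (.leaf 0x3a77c9042) (.leaf 0x3bdf1b09a)) (.node (.leaf 0x12185700a) (.leaf 0x32987b194)))) (.node (.node (.node (.leaf 0x2240a5010) (.leaf 0x8e06b086)) (.node (.leaf 0x686629036) (.leaf 0x2debeb01c))) (.node (.node (.leaf 0x84ad7b1fe)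 (.leaf 0x1c952b10c)) (.node (.leaf 0x41ea7020) (.leaf 0x4be98b09a))))) (.node (.node (.node (.node (.leaf 0x189967030) (.leaf 0x220bf5010)) (.node (.leaf 0xd43db064) (.leaf 0x5523a9042))) (.node (.node (.leaf 0x3efd1b0ea) (.leaf 0x272337034)) (.node (.leaf 0x22fe17002) (.leaf 0xaa03b00a)))) (.node (.node (.node (.leaf 0x2b92db0fc) (.leaf 0x15628b144)) (.node (.leaf 0x180359026) (.leaf 0x3ac1a7042))) (.node (.node (.leaf 0xbb6dfb014) (.leaf 0x48b55b09a)) (.node (.leaf 0x1c66f905c) (.leaf 0x7587f704e))))))) (.node (.node (.node (.node (.node (.node (.leaf 0x1b746b09c) (.leaf 0x1d1c79044)) (.node (.leaf 0xeb33b14e) (.leaf 0x20b9b184))) (.node (.node (.leaf 0x890cbb042) (.leaf 0x94efb1fe)) (.node (.leaf 0x53126b0c0) (.leaf 0x6201c500a)))) (.node (.node (.node (.leaf 0x264b7b05c) (.leaf 0x3a73e7034)) (.node (.leaf 0x65bbfb086) (.leaf 0x24f319014))) (.node (.node (.leaf 0x43737010) (.leaf 0x3c6729006)) (.node (.leaf 0x413449002)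 (.leaf 0x31b6c7042))))) (.node (.node (.node (.node (.leaf 0x8e66b194) (.leaf 0xb6f0b1d6)) (.node (.leaf 0x234759044) (.leaf 0x32527b086))) (.node (.node (.leaf 0x8cd7c904e) (.leaf 0x14539b044)) (.node (.leaf 0x11f759026) (.leaf 0x3f309010)))) (.node (.node (.node (.leaf 0x1c9ecb1d6) (.leaf 0x1e47fb0fc)) (.node (.leaf 0xbbfb905c) (.leaf 0x26b049030))) (.node (.node (.leaf 0x4ea50b056) (.leaf 0x31e3c7024)) (.node (.leaf 0xa720b900e) (.leaf 0x1c82d905c)))))) (.node (.node (.node (.node (.node (.leaf 0x8daf2b090) (.leaf 0x143173b0ea)) (.node (.leaf 0x624755006) (.leaf 0x7f638b09c))) (.node (.node (.leaf 0x3f189000) (.leaf 0xdaf6b114)) (.node (.leaf 0x28998b042) (.leaf 0x536cb1d6)))) (.node (.node (.node (.leaf 0x5ee405006) (.leaf 0x2b518b086)) (.node (.leaf 0xfb26b014) (.leaf 0x50214b050))) (.node (.node (.leaf 0x31f5a9014) (.leaf 0x54ed905c)) (.node (.leaf 0x6d175901c) (.leaf 0x815fb0fc))))) (.node (.node (.node (.node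 (.leaf 0x6089905c) (.leaf 0x2e205b184)) (.node (.leaf 0x12279901a) (.leaf 0x76f755000))) (.node (.node (.leaf 0x4e40ab056) (.leaf 0x2cfaab014)) (.node (.leaf 0x25b53b014) (.leaf 0x10be4b10c)))) (.node (.node (.node (.leaf 0x7ee84700a) (.leaf 0x1bef9b084)) (.node (.leaf 0xabacd905a) (.leaf 0x2a9419036))) (.node (.node (.leaf 0x15e4f9026) (.leaf 0x1367dc9014)) (.node (.leaf 0x3c8639042) (.leaf 0x101b509046)))))))) (.node (.node (.node (.node (.node (.node (.node (.leaf 0xbe4eb10c) (.leaf 0x8269b062)) (.node (.leaf 0x67ba3b0c6) (.leaf 0x38c2eb064))) (.node (.node (.leaf 0x2e813b0ea) (.leaf 0x3ba737020)) (.node (.leaf 0x609543002) (.leaf 0x3a42b7006)))) (.node (.node (.node (.leaf 0x1e091b062) (.leaf 0x37c78b1d6)) (.node (.leaf 0x225c47002) (.leaf 0x330159004))) (.node (.node (.leaf 0x229db5000) (.leaf 0x41dae5010)) (.node (.leaf 0x1b9f3b036) (.leaf 0x945207030))))) (.node (.node (.node (.node (.leaf 0x5ceeeb1fe) (.leaf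 0x396b79016)) (.node (.leaf 0xb1d1905c) (.leaf 0x3ee87010))) (.node (.node (.leaf 0x1851c7020) (.leaf 0x12f73704e)) (.node (.leaf 0xf269b01c) (.leaf 0x2144c90c6)))) (.node (.node (.node (.leaf 0x1d6f7b1fe) (.leaf 0x10f41b1fe)) (.node (.leaf 0x40fb69000) (.leaf 0xa689b090))) (.node (.node (.leaf 0x1313d0b01c) (.leaf 0xd605c7042)) (.node (.leaf 0x42ab9010) (.leaf 0x4726e7006)))))) (.node (.node (.node (.node (.node (.leaf 0x1f15eb184) (.leaf 0x2528b062)) (.node (.leaf 0x96f05b194) (.leaf 0x13de4b14e))) (.node (.node (.leaf 0x22ae75014) (.leaf 0x35ba7b0ea)) (.node (.leaf 0x4564eb064) (.leaf 0x2719e7006)))) (.node (.node (.node (.leaf 0x178359004) (.leaf 0x2c870b06a)) (.node (.leaf 0x5e6f9030) (.leaf 0x31959046))) (.node (.node (.leaf 0x221147002) (.leaf 0x51911b00a)) (.node (.leaf 0xe8afcb1fe) (.leaf 0x265989044))))) (.node (.node (.node (.node (.leaf 0x473099042) (.leaf 0x328bdb184)) (.node (.leaf 0xcfa0b002) (.leaf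 0x5567b900a))) (.node (.node (.leaf 0xf040b06a) (.leaf 0x595bbb0d6)) (.node (.leaf 0x33807000) (.leaf 0x28b43b06a)))) (.node (.node (.node (.leaf 0x1186b0b1fe) (.leaf 0x5eb9e7002)) (.node (.leaf 0x11ee57026) (.leaf 0x1f329b0fc))) (.node (.node (.leaf 0x94c6b05c) (.leaf 0x3cf7700e)) (.node (.leaf 0x220125014) (.leaf 0x170a57014))))))) (.node (.node (.node (.node (.node (.node (.leaf 0x18ce57026) (.leaf 0x1979fb0c6)) (.node (.leaf 0x151335b01e) (.leaf 0x149b1b114))) (.node (.node (.leaf 0x24e8f7024) (.leaf 0xca4ce1000)) (.node (.leaf 0x8c40b184) (.leaf 0x3f5477010)))) (.node (.node (.node (.leaf 0x17ef69006) (.leaf 0x16ccab114)) (.node (.leaf 0x27ee1900c) (.leaf 0x52ae3b062))) (.node (.node (.leaf 0x516d0b00a) (.leaf 0xaceeb00a)) (.node (.leaf 0x2052cb064) (.leaf 0x283fdb014))))) (.node (.node (.node (.node (.leaf 0x6a9d3b1d6) (.leaf 0x1094cb05c)) (.node (.leaf 0x58f01b1fe) (.leaf 0x52a84b086))) (.node (.node (.leaf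 0x12fd5904e) (.leaf 0x765845000)) (.node (.leaf 0x39da87004) (.leaf 0xc7c5b000)))) (.node (.node (.node (.leaf 0x2c752b09a) (.leaf 0x85e893000)) (.node (.leaf 0x1e7e8b184) (.leaf 0x222999002))) (.node (.node (.leaf 0x3927b144) (.leaf 0x37099905c)) (.node (.leaf 0x1192c7020) (.leaf 0xad5e45004)))))) (.node (.node (.node (.node (.node (.leaf 0x10b3447014) (.leaf 0x665eb10c)) (.node (.leaf 0x506f39000) (.leaf 0x3b2bab01c))) (.node (.node (.leaf 0x435149026) (.leaf 0x3a22c9024)) (.node (.leaf 0x5e9c5500e) (.leaf 0xb0eb9030)))) (.node (.node (.node (.leaf 0x1030c9036) (.leaf 0x91f59030)) (.node (.leaf 0x216ab0fc) (.leaf 0xf54b09c))) (.node (.node (.leaf 0x4cbf6b0c6) (.leaf 0xae8cb090)) (.node (.leaf 0x65554b062) (.leaf 0x47b237034))))) (.node (.node (.node (.node (.leaf 0x760205014) (.leaf 0x316c97006)) (.node (.leaf 0x22c099002) (.leaf 0x2923b194))) (.node (.node (.leaf 0xabdcb090) (.leaf 0x39efb00c)) (.node (.leaf 0x475e79004)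 (.leaf 0x4763b01c)))) (.node (.node (.node (.leaf 0xf70eb09a) (.leaf 0xcc9bb050)) (.node (.leaf 0x175d79042) (.leaf 0xe7eab0c0))) (.node (.node (.leaf 0x2999ab2dc) (.leaf 0x13e3cb0c0)) (.node (.leaf 0xa3e6b00a) (.leaf 0x38e17b044))))))))))))

theorem cert6_0 : chunkB 6 cert6 0 = true := by decide +kernel

theorem cert6_1 : chunkB 6 cert6 1 = true := by decide +kernel

theorem cert6_2 : chunkB 6 cert6 2 = true := by decide +kernel

theorem cert6_3 : chunkB 6 cert6 3 = true := by decide +kernel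

theorem cert6_4 : chunkB 6 cert6 4 = true := by decide +kernel

theorem cert6_5 : chunkB 6 cert6 5 = true := by decide +kernel

theorem cert6_6 : chunkB 6 cert6 6 = true := by decide +kernel

theorem cert6_7 : chunkB 6 cert6 7 = true := by decide +kernel

theorem cert6_ok : ∀ k < 2048, itemB 6 cert6 k = true :=
  of_chunks cert6_0 cert6_1 cert6_2 cert6_3 cert6_4 cert6_5 cert6_6 cert6_7

end Cfsg.Agent.F4Square.Two
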