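import Cfsg.Agent.F4Square.Two.Setup

/-!
Certificates for the coset of the Weyl element number 7.
-/

set_option autoImplicit false
set_option maxRecDepth 100000
set_option maxHeartbeats 0
set_option Elab.async false

namespace Cfsg.Agent.F4Square.Two

/-- The certificates. -/
noncomputable def cert7 : Tree :=
  (.node (.node (.node (.node (.node (.node (.node (.node (.node (.node (.node (.leaf 0x1d46c9026) (.leaf 0x88e0b194)) (.node (.leaf 0x7ba7a901a) (.leaf 0x1a1757014))) (.node (.node (.leaf 0x31883904e) (.leaf 0x2f3d8905a)) (.node (.leaf 0xae64b2dc) (.leaf 0x297f2b090)))) (.node (.node (.node (.leaf 0x1bb4a905a) (.leaf 0x2d611b1fe)) (.node (.leaf 0xd3809016) (.leaf 0x7e2449006))) (.node (.node (.leaf 0x1dcdb17a) (.leaf 0x4367b9046)) (.node (.leaf 0x29db45000) (.leaf 0xc466b002))))) (.node (.node (.node (.node (.leaf 0x16786b0fc) (.leaf 0x98e1b000)) (.node (.leaf 0x1eb3e7014) (.leaf 0x21f5900c))) (.node (.node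 (.leaf 0x736fb194) (.leaf 0x1a8a59004)) (.node (.leaf 0x660ab9082) (.leaf 0x4c619b0a6)))) (.node (.node (.node (.leaf 0x1c47db06a) (.leaf 0x109cc9000)) (.node (.leaf 0x200b7014) (.leaf 0x5e1eb042))) (.node (.node (.leaf 0x4238b056) (.leaf 0x891dab06a)) (.node (.leaf 0x3f127026) (.leaf 0x185c39000)))))) (.node (.node (.node (.node (.node (.leaf 0x170ff9004) (.leaf 0xcce67000)) (.node (.leaf 0xa910ab002) (.leaf 0x19690b090))) (.node (.node (.leaf 0x7b96b0fc) (.leaf 0x232109000)) (.node (.leaf 0x12aefb062) (.leaf 0x18dcbb002)))) (.node (.node (.node (.leaf 0x11435b042) (.leaf 0x1b683b05a)) (.node (.leaf 0xd6db9024) (.leaf 0x175db17a))) (.node (.node (.leaf 0x79ccc7000) (.leaf 0x493989026)) (.node (.leaf 0x1693fb194) (.leaf 0x6b909010))))) (.node (.node (.node (.node (.leaf 0x25b36b01c) (.leaf 0x1e0667042)) (.node (.leaf 0xf402eb05c) (.leaf 0xe604500e))) (.node (.node (.leaf 0x4caab056) (.leaf 0x3c4137042)) (.node (.leaf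 0xe3a32b14e) (.leaf 0x46bc99030)))) (.node (.node (.node (.leaf 0x25f8f7020) (.leaf 0x3ed00b114)) (.node (.leaf 0x1b3af905a) (.leaf 0x67648b0a6))) (.node (.node (.leaf 0xe345500e) (.leaf 0xd377900c)) (.node (.leaf 0x4dc64905a) (.leaf 0x55661900a))))))) (.node (.node (.node (.node (.node (.node (.leaf 0x16bdfb086) (.leaf 0x94c199036)) (.node (.leaf 0x5e24b002) (.leaf 0x3a7f5b114))) (.node (.node (.leaf 0xef20b905a) (.leaf 0x1ba16b05a)) (.node (.leaf 0x4d00b3006) (.leaf 0x8140b0ea)))) (.node (.node (.node (.leaf 0x25065b09a) (.leaf 0x1d1fc7026)) (.node (.leaf 0xa29bfb0a6) (.leaf 0x2e8c9006))) (.node (.node (.leaf 0xd8139014) (.leaf 0xbcd305014)) (.node (.leaf 0x33c43901c) (.leaf 0x20237b0fc))))) (.node (.node (.node (.node (.leaf 0x744fb0ea) (.leaf 0xa4bb036)) (.node (.leaf 0x2a6e2700e) (.leaf 0x47542b044))) (.node (.node (.leaf 0x15cbbb1d6) (.leaf 0x71b86b0a2)) (.node (.leaf 0x10b37b144) (.leaf 0x33bbd9024)))) (.node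 (.node (.node (.leaf 0xb4387000) (.leaf 0x2e6a5b194)) (.node (.leaf 0x2d65cb05c) (.leaf 0xb1507010))) (.node (.node (.leaf 0x3a83b06a) (.leaf 0xf2d27020)) (.node (.leaf 0xe78e7002) (.leaf 0x107047000)))))) (.node (.node (.node (.node (.node (.leaf 0x693619036) (.leaf 0x718fb086)) (.node (.leaf 0x4d5b0300a) (.leaf 0x125ddb0fc))) (.node (.node (.leaf 0x20437042) (.leaf 0x4f10900e)) (.node (.leaf 0x537bfb090) (.leaf 0x2672d9000)))) (.node (.node (.node (.leaf 0x416a8b2dc) (.leaf 0xe80f2b09a)) (.node (.leaf 0xc23e9000) (.leaf 0x1d7337030))) (.node (.node (.leaf 0x2a5149046) (.leaf 0xc161b050)) (.node (.leaf 0x1ac8a9006) (.leaf 0x14346b194))))) (.node (.node (.node (.node (.leaf 0x3cedb901c) (.leaf 0x8c0c9b0ea)) (.node (.leaf 0x10aafb00c) (.leaf 0x92fab042))) (.node (.node (.leaf 0xcd44c90c6) (.leaf 0x6d75db194)) (.node (.leaf 0xe85e7002) (.leaf 0x27082b044)))) (.node (.node (.node (.leaf 0xd3517042) (.leaf 0x28c57b1fe))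 (.node (.leaf 0x468e3b1fe) (.leaf 0x544bcb056))) (.node (.node (.leaf 0x1b40b17a) (.leaf 0x4f439036)) (.node (.leaf 0x19d0b17a) (.leaf 0x29423b090)))))))) (.node (.node (.node (.node (.node (.node (.node (.leaf 0xb187b00c) (.leaf 0x663f2901a)) (.node (.leaf 0x1dddb17a) (.leaf 0x189b084))) (.node (.node (.leaf 0x18d887030) (.leaf 0x15a45b10c)) (.node (.leaf 0x378dbb014) (.leaf 0x815a57006)))) (.node (.node (.node (.leaf 0x1e73a7034) (.leaf 0x299b901c)) (.node (.leaf 0x108a7700e) (.leaf 0x2f8f9905a))) (.node (.node (.leaf 0x9adcb002) (.leaf 0x75cca9082)) (.node (.leaf 0x332af7034) (.leaf 0x7985b184))))) (.node (.node (.node (.node (.leaf 0x2c7807030) (.leaf 0x8ed819016)) (.node (.leaf 0x260a57000) (.leaf 0x13b79b0d6))) (.node (.node (.leaf 0x3301b014) (.leaf 0x81f719016)) (.node (.leaf 0xfedb7010) (.leaf 0x60d7b00c)))) (.node (.node (.node (.leaf 0xebc05006) (.leaf 0x1bd19b08a)) (.node (.leaf 0x1b8abb05a) (.leaf 0x4ddcd905a)))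 (.node (.node (.leaf 0x16405b184) (.leaf 0xc71a2905c)) (.node (.leaf 0xda588b194) (.leaf 0x3151e9082)))))) (.node (.node (.node (.node (.node (.leaf 0x5e17b050) (.leaf 0xd94d9082)) (.node (.leaf 0x71eaeb0a2) (.leaf 0x2fe01905a))) (.node (.node (.leaf 0x8fa5b0fc) (.leaf 0x22577034)) (.node (.leaf 0x1ebe77006) (.leaf 0x174db17a)))) (.node (.node (.node (.leaf 0x13a98b024) (.leaf 0x2a0eab00c)) (.node (.leaf 0x43a85700e) (.leaf 0x531d15014))) (.node (.node (.leaf 0x6aeb09c) (.leaf 0x6f8c0b0cc)) (.node (.leaf 0x1c95cb01c) (.leaf 0x44a7bb002))))) (.node (.node (.node (.node (.leaf 0xe580500a) (.leaf 0x424697024)) (.node (.leaf 0x14b81b062) (.leaf 0x307097042))) (.node (.node (.leaf 0x250ae9010) (.leaf 0xbec89010)) (.node (.leaf 0x1b7a23002) (.leaf 0x592fab2dc)))) (.node (.node (.node (.leaf 0x522cbb044) (.leaf 0xbecfeb05c)) (.node (.leaf 0x684dc7010) (.leaf 0x21199024))) (.node (.node (.leaf 0x671fb144) (.leaf 0x40147900e))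 (.node (.leaf 0xeaa45042) (.leaf 0x2b9b9004))))))) (.node (.node (.node (.node (.node (.node (.leaf 0xc3e97030) (.leaf 0x2e913b184)) (.node (.leaf 0x4885f9030) (.leaf 0x2ca077000))) (.node (.node (.leaf 0x176ff901c) (.leaf 0xa624b0c0)) (.node (.leaf 0x19a1ab00a) (.leaf 0xe5cf7002)))) (.node (.node (.node (.leaf 0x1b1e0b08a) (.leaf 0x22099042)) (.node (.leaf 0x3075b900c) (.leaf 0x7e34b062))) (.node (.node (.leaf 0x16af4b062) (.leaf 0x6f087010)) (.node (.leaf 0x2fb5c3006) (.leaf 0xdc237004))))) (.node (.node (.node (.node (.leaf 0x18d50b050) (.leaf 0x233207010)) (.node (.leaf 0xfa539010) (.leaf 0x3bcfb000))) (.node (.node (.leaf 0x2a4819000) (.leaf 0x1f885b044)) (.node (.leaf 0x29c33b090) (.leaf 0x2dff4b10c)))) (.node (.node (.node (.leaf 0x11c0b17a) (.leaf 0x4b8fcb056)) (.node (.leaf 0x1350b17a) (.leaf 0x2fa27006))) (.node (.node (.leaf 0x237d87000) (.leaf 0x308af9024)) (.node (.leaf 0x17b4d9024) (.leaf 0x8b93b062))))))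 (.node (.node (.node (.node (.node (.leaf 0x4a2289004) (.leaf 0xd2e47006)) (.node (.leaf 0xee007b09a) (.leaf 0x7c7b0b002))) (.node (.node (.leaf 0x1814b7000) (.leaf 0x11e437026)) (.node (.leaf 0x2f834300a) (.leaf 0x28cc59030)))) (.node (.node (.node (.leaf 0x385239006) (.leaf 0x302759082)) (.node (.leaf 0x65607000) (.leaf 0x1969db090))) (.node (.node (.leaf 0x64b59046) (.leaf 0xb1df700e)) (.node (.leaf 0x12808b194) (.leaf 0x8f80b086))))) (.node (.node (.node (.node (.leaf 0x17c5d9042) (.leaf 0x67d95b0a6)) (.node (.leaf 0x36503500e) (.leaf 0x1d86d7020))) (.node (.node (.leaf 0x144f8b184) (.leaf 0x69cf700e)) (.node (.leaf 0x4dfaf300e) (.leaf 0x4a0f87014)))) (.node (.node (.node (.leaf 0xb9fd9046) (.leaf 0x43615b144)) (.node (.leaf 0x1a89a90c6) (.leaf 0x3fe109030))) (.node (.node (.leaf 0x4282900e) (.leaf 0x7e28f7034)) (.node (.leaf 0x33d09900c) (.leaf 0x6f81db0cc))))))))) (.node (.node (.node (.node (.node (.node (.node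 (.node (.leaf 0x14e58a9024) (.leaf 0x4c27bb00a)) (.node (.leaf 0x1902db0a6) (.leaf 0x186a3b01c))) (.node (.node (.leaf 0x2d32700a) (.leaf 0x5c2599000)) (.node (.leaf 0x3f0db144) (.leaf 0x7b65db086)))) (.node (.node (.node (.leaf 0x7e8d7014) (.leaf 0x82b89014)) (.node (.leaf 0x5a165b024) (.leaf 0x2f6d3905a))) (.node (.node (.leaf 0x450e3704e) (.leaf 0x2f861b08a)) (.node (.leaf 0x6d4c7026) (.leaf 0x4fea6b2dc))))) (.node (.node (.node (.node (.leaf 0x7d1d9004) (.leaf 0x52553b114)) (.node (.leaf 0x126e3904e) (.leaf 0x1aa6db184))) (.node (.node (.leaf 0xd41a704e) (.leaf 0x2d117b056)) (.node (.leaf 0x10b317020) (.leaf 0xa634b0c0)))) (.node (.node (.node (.leaf 0x15312b056) (.leaf 0x20cef90c6)) (.node (.leaf 0x46f5b10c) (.leaf 0xebf4502a))) (.node (.node (.leaf 0x45429904e) (.leaf 0x1149c700e)) (.node (.leaf 0x6b9e2b090) (.leaf 0x8f3af9002)))))) (.node (.node (.node (.node (.node (.leaf 0xf3a8b050) (.leaf 0x1cca4b002)) (.node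 (.leaf 0x3185b00c) (.leaf 0x5cb319010))) (.node (.node (.leaf 0x463b036) (.leaf 0x203ef900a)) (.node (.leaf 0x79ce87026) (.leaf 0x167697034)))) (.node (.node (.node (.leaf 0x73233b036) (.leaf 0x533e05010)) (.node (.leaf 0x5cfcc9046) (.leaf 0x2f027b05a))) (.node (.node (.leaf 0x28d53905c) (.leaf 0x13369b0d6)) (.node (.leaf 0x25b569000) (.leaf 0x6da079082))))) (.node (.node (.node (.node (.leaf 0x1c7c9b000) (.leaf 0x13148b024)) (.node (.leaf 0x81f79901a) (.leaf 0xbf047026))) (.node (.node (.leaf 0x35bff7014) (.leaf 0x1bcb9905a)) (.node (.leaf 0x46999905c) (.leaf 0xcd8e7010)))) (.node (.node (.node (.leaf 0x648b7030) (.leaf 0x1340b17a)) (.node (.leaf 0xbf057020) (.leaf 0x11d0b17a))) (.node (.node (.leaf 0xbc59bb0cc) (.leaf 0x74279300a)) (.node (.leaf 0x50673b05c) (.leaf 0x19e7db0a6))))))) (.node (.node (.node (.node (.node (.node (.leaf 0x1bf6e300a) (.leaf 0x29003b0cc)) (.node (.leaf 0xcef77020) (.leaf 0x8b84e7020)))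 (.node (.node (.leaf 0x1f5db17a) (.leaf 0x16b0e900a)) (.node (.leaf 0x15e6b9036) (.leaf 0x204847034)))) (.node (.node (.node (.leaf 0x878bab086) (.leaf 0xadd8eb0d6)) (.node (.leaf 0x20dc900a) (.leaf 0x62ce3b024))) (.node (.node (.leaf 0x28295905c) (.leaf 0x56f017026)) (.node (.leaf 0x5424cb1fe) (.leaf 0x1b2c5300a))))) (.node (.node (.node (.node (.leaf 0x4bc8b1fe) (.leaf 0x6e39c9004)) (.node (.leaf 0x5bbdb06a) (.leaf 0x253ddb050))) (.node (.node (.leaf 0x7bea8b0fc) (.leaf 0x2b663b114)) (.node (.leaf 0x17d90900a) (.leaf 0x90b929004)))) (.node (.node (.node (.leaf 0x5344fb0cc) (.leaf 0x102707026)) (.node (.leaf 0x85d29082) (.leaf 0x79bf9042))) (.node (.node (.leaf 0x226bdb0c0) (.leaf 0x8c1577024)) (.node (.leaf 0xa5ecb14e) (.leaf 0x1c74eb042)))))) (.node (.node (.node (.node (.node (.leaf 0x4be63b1d6) (.leaf 0x6bdc9026)) (.node (.leaf 0x692539036) (.leaf 0x15cdb17a))) (.node (.node (.leaf 0x501109044) (.leaf 0x35ed49006))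 (.node (.leaf 0x216b09c) (.leaf 0x7a4e9006)))) (.node (.node (.node (.leaf 0xe5e2b0a6) (.leaf 0x1eb4590c6)) (.node (.leaf 0x135c6b0c6) (.leaf 0x1ba2e3006))) (.node (.node (.leaf 0x2e00d7004) (.leaf 0x593bbb2dc)) (.node (.leaf 0xf1ab9000) (.leaf 0x8825b7010))))) (.node (.node (.node (.node (.leaf 0x1d0309010) (.leaf 0x31dd700e)) (.node (.leaf 0x14f8c7034) (.leaf 0x3e829026))) (.node (.node (.leaf 0x2e5bd9014) (.leaf 0x3cdb090c6)) (.node (.leaf 0x906bb09a) (.leaf 0x38942b086)))) (.node (.node (.node (.leaf 0x863167002) (.leaf 0x1e355704e)) (.node (.leaf 0x1640e90c6) (.leaf 0xbe949026))) (.node (.node (.leaf 0x2acae7030) (.leaf 0x5c8817000)) (.node (.leaf 0x758fcb0ea) (.leaf 0x46e9f9030)))))))) (.node (.node (.node (.node (.node (.node (.node (.leaf 0xeaf69002) (.leaf 0x6c44db06a)) (.node (.leaf 0x294f45004) (.leaf 0x7288cb06a))) (.node (.node (.leaf 0x4d1c4b08a) (.leaf 0xbb5b7030)) (.node (.leaf 0x4e9ecb06a) (.leaf 0x146779006))))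 (.node (.node (.node (.leaf 0x36dcc7002) (.leaf 0xded8901a)) (.node (.leaf 0xbaca3b09c) (.leaf 0x48eb39044))) (.node (.node (.leaf 0x1639d9004) (.leaf 0x37b70b002)) (.node (.leaf 0x316ccb194) (.leaf 0xd774700a))))) (.node (.node (.node (.node (.leaf 0x6df6e901a) (.leaf 0x341f7b2dc)) (.node (.leaf 0x14c548b10c) (.leaf 0x543fb09a))) (.node (.node (.leaf 0x1dbf7700e) (.leaf 0x236b57020)) (.node (.leaf 0xc99eb01c) (.leaf 0x4db423002)))) (.node (.node (.node (.leaf 0xbcd8bb0cc) (.leaf 0x1680d7014)) (.node (.leaf 0x2e006901a) (.leaf 0x104d37030))) (.node (.node (.leaf 0x7fa97034) (.leaf 0x1b50b17a)) (.node (.leaf 0x19c0b17a) (.leaf 0xe0a3b0a6)))))) (.node (.node (.node (.node (.node (.leaf 0x66a05b0ea) (.leaf 0x6d1ca904e)) (.node (.leaf 0x284039030) (.leaf 0x19670b0cc))) (.node (.node (.leaf 0x299e85010) (.leaf 0x28e06b10c)) (.node (.leaf 0x3520d900c) (.leaf 0x58cd4b002)))) (.node (.node (.node (.leaf 0x115a087024) (.leaf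 0x3bb70b05c)) (.node (.leaf 0xe4669002) (.leaf 0x488db05c))) (.node (.node (.leaf 0x6d4d7020) (.leaf 0x29cc2b0cc)) (.node (.leaf 0x23b847026) (.leaf 0x3691c7002))))) (.node (.node (.node (.node (.leaf 0x54c7b014) (.leaf 0x25c5eb002)) (.node (.leaf 0x87698b184) (.leaf 0x646dcb000))) (.node (.node (.leaf 0xe9e5b00a) (.leaf 0x140d69042)) (.node (.leaf 0x1b080905a) (.leaf 0x844ac7000)))) (.node (.node (.node (.leaf 0x6bcb2b090) (.leaf 0x2a8c704e)) (.node (.leaf 0x257057030) (.leaf 0x114be9046))) (.node (.node (.leaf 0xe5279002) (.leaf 0x44f5a7020)) (.node (.leaf 0x65235b086) (.leaf 0x2030e9042))))))) (.node (.node (.node (.node (.node (.node (.leaf 0x11d4cb144) (.leaf 0x22dfdb2dc)) (.node (.leaf 0x30abc904e) (.leaf 0x64256b050))) (.node (.node (.leaf 0x435ae7026) (.leaf 0x4c086b00a)) (.node (.leaf 0x4e015b01c) (.leaf 0x332b0900a)))) (.node (.node (.node (.leaf 0x1f4db17a) (.leaf 0x2f132b05a)) (.node (.leaf 0x2d899900e)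 (.leaf 0x853fdb09c))) (.node (.node (.leaf 0x29813b0cc) (.leaf 0xf8e3b002)) (.node (.leaf 0xedf2b0a6) (.leaf 0x42d1c700a))))) (.node (.node (.node (.node (.leaf 0x1d2efb00c) (.leaf 0x21602b114)) (.node (.leaf 0x19020b0a6) (.leaf 0x351e77042))) (.node (.node (.leaf 0x1be28300e) (.leaf 0xc6169010)) (.node (.leaf 0xae74b2dc) (.leaf 0x781e90c6)))) (.node (.node (.node (.leaf 0x900027014) (.leaf 0x17e9090c6)) (.node (.leaf 0x71c86b0a2) (.leaf 0x39ff9046))) (.node (.node (.leaf 0x7437d905a) (.leaf 0x6b08c5014)) (.node (.leaf 0x164ef9042) (.leaf 0x28164b1d6)))))) (.node (.node (.node (.node (.node (.leaf 0x71ce2b0a2) (.leaf 0x1eb37700a)) (.node (.leaf 0x15b7a900e) (.leaf 0x52390b064))) (.node (.node (.leaf 0x1c207b050) (.leaf 0x50dcb01c)) (.node (.leaf 0x8abdab050) (.leaf 0x1e445900a)))) (.node (.node (.node (.leaf 0x1967db0cc) (.leaf 0x23b549026)) (.node (.leaf 0x814b901a) (.leaf 0x45cd9036))) (.node (.node (.leaf 0xa91bb7020)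 (.leaf 0x15ddb17a)) (.node (.leaf 0x16e5e9006) (.leaf 0x2d71e9036))))) (.node (.node (.node (.node (.leaf 0x36e819002) (.leaf 0x14e309004)) (.node (.leaf 0x2a03c7020) (.leaf 0x1abfbb086))) (.node (.node (.leaf 0x32dbdb0ea) (.leaf 0x318ecb086)) (.node (.leaf 0x4693b1d6) (.leaf 0xfd307030)))) (.node (.node (.node (.leaf 0x5a2f7b0c6) (.leaf 0x2f210b08a)) (.node (.leaf 0x7f033b036) (.leaf 0xba1b084))) (.node (.node (.leaf 0x24058b114) (.leaf 0x3317a700a)) (.node (.leaf 0x12b009014) (.leaf 0x9043b014)))))))))) (.node (.node (.node (.node (.node (.node (.node (.node (.node (.leaf 0x7bb8700a) (.leaf 0x778929000)) (.node (.leaf 0x18ebcb144) (.leaf 0x1a2337004))) (.node (.node (.leaf 0x2e741900c) (.leaf 0x4bbda9044)) (.node (.leaf 0x42757b194) (.leaf 0x5e209026)))) (.node (.node (.node (.leaf 0x462489036) (.leaf 0xbf6b036)) (.node (.leaf 0xe4c15014) (.leaf 0x67cba5014))) (.node (.node (.leaf 0xf90ab000) (.leaf 0x6c86b7030))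 (.node (.leaf 0x10932b042) (.leaf 0x33f1e901a))))) (.node (.node (.node (.node (.leaf 0x3836c9082) (.leaf 0x293d79002)) (.node (.leaf 0x17b66904e) (.leaf 0x4b2a9044))) (.node (.node (.leaf 0x5851b700e) (.leaf 0x93f87026)) (.node (.leaf 0x376d7700e) (.leaf 0xeb924b08a)))) (.node (.node (.node (.leaf 0xef92b090) (.leaf 0x8c877006)) (.node (.leaf 0x5397eb0a6) (.leaf 0x71817b0a2))) (.node (.node (.leaf 0x52605b044) (.leaf 0x2504db014)) (.node (.leaf 0x13ea3b0c6) (.leaf 0x1c0abb00c)))))) (.node (.node (.node (.node (.node (.leaf 0x29bc69002) (.leaf 0xf5bf7026)) (.node (.leaf 0x19142502a) (.leaf 0x1947a5002))) (.node (.node (.leaf 0x12e237006) (.leaf 0x150ee9030)) (.node (.leaf 0x21ab8b114) (.leaf 0x6523e700a)))) (.node (.node (.node (.leaf 0x29013b0a6) (.leaf 0xde50b062)) (.node (.leaf 0x55df7030) (.leaf 0x9137890c6))) (.node (.node (.leaf 0x1745a901a) (.leaf 0xe8555000)) (.node (.leaf 0x6a0d67030) (.leaf 0x55eb4b194)))))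 (.node (.node (.node (.node (.leaf 0x2e5359042) (.leaf 0x2f206b08a)) (.node (.leaf 0xf7e2bb042) (.leaf 0x61e0b002))) (.node (.node (.leaf 0x1465b17a) (.leaf 0x4cc687002)) (.node (.leaf 0x6c0409026) (.leaf 0x14319901a)))) (.node (.node (.node (.leaf 0x6da1f7034) (.leaf 0x805a79014)) (.node (.leaf 0x2f3263000) (.leaf 0x13b5b17a))) (.node (.node (.leaf 0x27537024) (.leaf 0x3326a904e)) (.node (.leaf 0x1cf247000) (.leaf 0x26222b050))))))) (.node (.node (.node (.node (.node (.node (.leaf 0x170377024) (.leaf 0x3bf159044)) (.node (.leaf 0x531b29002) (.leaf 0x62cd1b0c6))) (.node (.node (.leaf 0x32fd0704e) (.leaf 0x4508cb184)) (.node (.leaf 0x2f1f9082) (.leaf 0xc42a47006)))) (.node (.node (.node (.leaf 0x2c584b144) (.leaf 0x1c6fc9000)) (.node (.leaf 0x4cb8f5010) (.leaf 0x1c2d49010))) (.node (.node (.leaf 0x10484b002) (.leaf 0x25b2bb06a)) (.node (.leaf 0x2e9627006) (.leaf 0x552d4b086))))) (.node (.node (.node (.node (.leaf 0x82bc900c)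 (.leaf 0x181029046)) (.node (.leaf 0x1f78b17a) (.leaf 0x267e9016))) (.node (.node (.leaf 0xa9ac69026) (.leaf 0x4881b900e)) (.node (.leaf 0x79e8904e) (.leaf 0x4112db14e)))) (.node (.node (.node (.leaf 0x1e1367024) (.leaf 0x16538700a)) (.node (.leaf 0x6e85b000) (.leaf 0x921adb056))) (.node (.node (.leaf 0x10ce9b000) (.leaf 0x72de27030)) (.node (.leaf 0x1fa10b064) (.leaf 0x5f44d9000)))))) (.node (.node (.node (.node (.node (.leaf 0xf71db042) (.leaf 0x294c2b0a6)) (.node (.leaf 0x46408b05c) (.leaf 0x2710cb044))) (.node (.node (.leaf 0x745f9b05a) (.leaf 0x98b084)) (.node (.leaf 0x970b7030) (.leaf 0xbbcdb000)))) (.node (.node (.node (.leaf 0x1386cb0d6) (.leaf 0x88709042)) (.node (.leaf 0x97146b0a6) (.leaf 0xda41a901c))) (.node (.node (.leaf 0x1d1f8b01c) (.leaf 0x4c6435004)) (.node (.leaf 0xd31bb194) (.leaf 0xc14f9046))))) (.node (.node (.node (.node (.leaf 0x4d19fb08a) (.leaf 0x125459006)) (.node (.leaf 0x4ca109002) (.leaf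 0x4421cb144))) (.node (.node (.leaf 0x57130b044) (.leaf 0x6843b050)) (.node (.leaf 0xeec3b090) (.leaf 0x18a8b17a)))) (.node (.node (.node (.leaf 0x1bf4cb05a) (.leaf 0x2d62d905c)) (.node (.leaf 0x3b597030) (.leaf 0x2fbb3b08a))) (.node (.node (.leaf 0x3f1e7b1d6) (.leaf 0x5071ab056)) (.node (.leaf 0x4db89044) (.leaf 0xa4308b0ea)))))))) (.node (.node (.node (.node (.node (.node (.node (.leaf 0x8d867042) (.leaf 0x57c17020)) (.node (.leaf 0x3090fb086) (.leaf 0xc9c98b042))) (.node (.node (.leaf 0xed805014) (.leaf 0x7e0099014)) (.node (.leaf 0x17f429016) (.leaf 0x3409eb14e)))) (.node (.node (.node (.leaf 0x56f3eb050) (.leaf 0x1ef229082)) (.node (.leaf 0x19b7a500e) (.leaf 0x19d8f500e))) (.node (.node (.leaf 0x1ba45b05a) (.leaf 0x6bb09c)) (.node (.leaf 0x21630b044) (.leaf 0xb7f4f9016))))) (.node (.node (.node (.node (.leaf 0x42d79b184) (.leaf 0x3b16b002)) (.node (.leaf 0x197f65006) (.leaf 0x1e35b17a))) (.node (.node (.leaf 0xfc5eb06a)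 (.leaf 0x308cfb0ea)) (.node (.leaf 0x5fe857000) (.leaf 0x12b927042)))) (.node (.node (.node (.leaf 0x764e704e) (.leaf 0x2cd19014)) (.node (.leaf 0xe782b090) (.leaf 0x331b79082))) (.node (.node (.leaf 0x45049030) (.leaf 0x6eaab042)) (.node (.leaf 0x12e5b17a) (.leaf 0x854e9004)))))) (.node (.node (.node (.node (.node (.leaf 0x63d29b064) (.leaf 0x8f8a7034)) (.node (.leaf 0xa8b9b14e) (.leaf 0x678075010))) (.node (.node (.leaf 0x95713900a) (.leaf 0x2fe17004)) (.node (.leaf 0xcee5b00c) (.leaf 0x33d569016)))) (.node (.node (.node (.leaf 0xc825fb0c0) (.leaf 0x2377eb042)) (.node (.leaf 0x1a9c39014) (.leaf 0xdcbbb086))) (.node (.node (.leaf 0x2f2533000) (.leaf 0xb67ab042)) (.node (.leaf 0xe1145000) (.leaf 0x3b9e19030))))) (.node (.node (.node (.node (.leaf 0x15bfe905c) (.leaf 0x4a44e9014)) (.node (.leaf 0xd67bb0ea) (.leaf 0x4903b05c))) (.node (.node (.leaf 0x19dae500a) (.leaf 0x171939082)) (.node (.leaf 0x419f5b0c0) (.leaf 0x29114502a))))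 (.node (.node (.node (.leaf 0x146d5904e) (.leaf 0x25de8b042)) (.node (.leaf 0x1e9339016) (.leaf 0x294f55002))) (.node (.node (.leaf 0x39a59b114) (.leaf 0x1af7d7024)) (.node (.leaf 0x3c18e9016) (.leaf 0x1d493b09a))))))) (.node (.node (.node (.node (.node (.node (.leaf 0x56985b002) (.leaf 0xae21b0c0)) (.node (.leaf 0x5f6b6b144) (.leaf 0x1c6f99046))) (.node (.node (.leaf 0x61a5db1fe) (.leaf 0x14277704e)) (.node (.leaf 0x4c0035000) (.leaf 0x2326901a)))) (.node (.node (.node (.leaf 0x97289026) (.leaf 0xf838b014)) (.node (.leaf 0x5a0b2b0c6) (.leaf 0x2ff0bb08a))) (.node (.node (.leaf 0x726197026) (.leaf 0x360a0b0cc)) (.node (.leaf 0x375009010) (.leaf 0x7d219905c))))) (.node (.node (.node (.node (.leaf 0x3d5e1b064) (.leaf 0x3cb259014)) (.node (.leaf 0x2462904e) (.leaf 0x381f8901c))) (.node (.node (.leaf 0x5cb07026) (.leaf 0x32180900a)) (.node (.leaf 0x23937b050) (.leaf 0x12ad89042)))) (.node (.node (.node (.leaf 0x2e5537042)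 (.leaf 0x25b57b000)) (.node (.leaf 0x2619bb042) (.leaf 0xfd49e9046))) (.node (.node (.leaf 0x1928b17a) (.leaf 0x465a0b10c)) (.node (.leaf 0x29644b00a) (.leaf 0x2845cb10c)))))) (.node (.node (.node (.node (.node (.leaf 0x18c479026) (.leaf 0x62f52b024)) (.node (.leaf 0x1254a901c) (.leaf 0x8b4e901c))) (.node (.node (.leaf 0x48f9a9036) (.leaf 0x64192700e)) (.node (.leaf 0x9da499004) (.leaf 0x16a5e704e)))) (.node (.node (.node (.leaf 0x15c13b10c) (.leaf 0x4b77c9044)) (.node (.leaf 0x35d1b050) (.leaf 0x832d9006))) (.node (.node (.leaf 0x319d9704e) (.leaf 0x29cd2b0a6)) (.node (.leaf 0x34ab7b0c0) (.leaf 0xb5d3b050))))) (.node (.node (.node (.node (.leaf 0x6054bb084) (.leaf 0x7e47a904e)) (.node (.leaf 0x6f1949002) (.leaf 0x591abb0c0))) (.node (.node (.leaf 0xdf11b184) (.leaf 0x1852c700e)) (.node (.leaf 0x5c85ab09a) (.leaf 0x3d4e9000)))) (.node (.node (.node (.leaf 0xe6d3b090) (.leaf 0x89209024)) (.node (.leaf 0x82dc1b05c) (.leaf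 0x15f8b17a))) (.node (.node (.leaf 0x11790b050) (.leaf 0x1ec509014)) (.node (.leaf 0x1c0f3700e) (.leaf 0x17db57004))))))))) (.node (.node (.node (.node (.node (.node (.node (.node (.leaf 0xa6fdb7030) (.leaf 0x7dbc7b1fe)) (.node (.leaf 0x7aeb900c) (.leaf 0xd63447004))) (.node (.node (.leaf 0x78679014) (.leaf 0xb303b014)) (.node (.leaf 0x20aeb062) (.leaf 0xe1915010)))) (.node (.node (.node (.leaf 0xb2f6b900c) (.leaf 0x32aef7014)) (.node (.leaf 0x53cab7002) (.leaf 0x189a6b06a))) (.node (.node (.leaf 0x15ec89044) (.leaf 0x6be71b00a)) (.node (.leaf 0x18c977026) (.leaf 0x696389030))))) (.node (.node (.node (.node (.leaf 0x75d57024) (.leaf 0x20aba900c)) (.node (.leaf 0x2379b086) (.leaf 0xae31b0c0))) (.node (.node (.leaf 0xb540b01c) (.leaf 0x487bb10c)) (.node (.leaf 0x26cdab09a) (.leaf 0x204707024)))) (.node (.node (.node (.leaf 0x66e577014) (.leaf 0x14e157006)) (.node (.leaf 0xede2b0cc) (.leaf 0x10a8b17a))) (.node (.node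 (.leaf 0x26444b06a) (.leaf 0x28d67b056)) (.node (.leaf 0x168457042) (.leaf 0x1a910700a)))))) (.node (.node (.node (.node (.node (.leaf 0x9be4a3000) (.leaf 0x450049004)) (.node (.leaf 0x362cdb090) (.leaf 0x3026d7034))) (.node (.node (.leaf 0x251a79046) (.leaf 0x79373b09a)) (.node (.leaf 0x326a77042) (.leaf 0x2a8e1b01c)))) (.node (.node (.node (.leaf 0x54549010) (.leaf 0x1e6e8b0ea)) (.node (.leaf 0x1b027b08a) (.leaf 0x587c9000))) (.node (.node (.leaf 0xe2155004) (.leaf 0x9be47010)) (.node (.leaf 0x11d3fb01c) (.leaf 0x2025e9024))))) (.node (.node (.node (.node (.leaf 0x729157010) (.leaf 0x552879016)) (.node (.leaf 0x4d9ba3004) (.leaf 0x16b249016))) (.node (.node (.leaf 0x9a48d9082) (.leaf 0x29bf5500e)) (.node (.leaf 0x6193b014) (.leaf 0xcc5cb042)))) (.node (.node (.node (.leaf 0x28b59b056) (.leaf 0x226b0b0c0)) (.node (.leaf 0x143119016) (.leaf 0x9e5c7000))) (.node (.node (.leaf 0x9ac39901c) (.leaf 0xcaf27026)) (.node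 (.leaf 0x1778b17a) (.leaf 0x2ed7890c6))))))) (.node (.node (.node (.node (.node (.node (.leaf 0x6f79e5042) (.leaf 0x4486905c)) (.node (.leaf 0x873d90c6) (.leaf 0x6bc379002))) (.node (.node (.leaf 0x5d3cb9010) (.leaf 0x54cc7010)) (.node (.leaf 0x84c2cb002) (.leaf 0x9d857b086)))) (.node (.node (.node (.leaf 0x15f86ab14e) (.leaf 0x14a869024)) (.node (.leaf 0x3fafeb056) (.leaf 0x9c519046))) (.node (.node (.leaf 0x7d5099030) (.leaf 0x186c0b014)) (.node (.leaf 0x92d49000) (.leaf 0x2956e7002))))) (.node (.node (.node (.node (.leaf 0x2f60db05a) (.leaf 0x656bb09a)) (.node (.leaf 0x8575db036) (.leaf 0x3baa0b1d6))) (.node (.node (.leaf 0xa74a07000) (.leaf 0x6bd769002)) (.node (.leaf 0x7bd7d9024) (.leaf 0x6bd9b06a)))) (.node (.node (.node (.leaf 0x2f9663004) (.leaf 0x5afbb00c)) (.node (.leaf 0xf66f9026) (.leaf 0x7ba19082))) (.node (.node (.leaf 0x1112f7010) (.leaf 0x1b92ab08a)) (.node (.leaf 0x19a9f5004) (.leaf 0x97cc45006))))))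 (.node (.node (.node (.node (.node (.leaf 0xa671b2dc) (.leaf 0x71287006)) (.node (.leaf 0xe0b3b0cc) (.leaf 0xa372db09a))) (.node (.node (.leaf 0x1b1403004) (.leaf 0x2c642b06a)) (.node (.leaf 0xba81b06a) (.leaf 0xd5cb9042)))) (.node (.node (.node (.leaf 0xfd94700e) (.leaf 0x922c9010)) (.node (.leaf 0x6ff1f5006) (.leaf 0x3db9b09a))) (.node (.node (.leaf 0x3100c9024) (.leaf 0x5f1b87020)) (.node (.leaf 0x36dfbb00a) (.leaf 0x199be5010))))) (.node (.node (.node (.node (.leaf 0x2a3e6b014) (.leaf 0xcfa3b06a)) (.node (.leaf 0x1c65b17a) (.leaf 0x32a0d9042))) (.node (.node (.leaf 0x2d77d9030) (.leaf 0x5da47000)) (.node (.leaf 0x144f2900c) (.leaf 0x3f077020)))) (.node (.node (.node (.leaf 0x8857700a) (.leaf 0x7df3eb05c)) (.node (.leaf 0x190235010) (.leaf 0x36ca3b00a))) (.node (.node (.leaf 0xd81a9006) (.leaf 0x1387cb0d6)) (.node (.leaf 0x1bb5b17a) (.leaf 0x2f3793000)))))))) (.node (.node (.node (.node (.node (.node (.node (.leaf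 0x15531b9044) (.leaf 0x143b87042)) (.node (.leaf 0x200767004) (.leaf 0x319e27042))) (.node (.node (.leaf 0x4dc18b05a) (.leaf 0xe8d05010)) (.node (.leaf 0x1a88a704e) (.leaf 0x459d07034)))) (.node (.node (.node (.leaf 0xcbb1b014) (.leaf 0x5b4ba9026)) (.node (.leaf 0x200e8901c) (.leaf 0x3baeb01c))) (.node (.node (.leaf 0x99a197042) (.leaf 0x373cc9026)) (.node (.leaf 0xc195e9004) (.leaf 0x1e028b086))))) (.node (.node (.node (.node (.leaf 0x5395a7002) (.leaf 0x5ea3700e)) (.node (.leaf 0xd8899004) (.leaf 0x18db2b000))) (.node (.node (.leaf 0x1722db086) (.leaf 0x96a7b00c)) (.node (.leaf 0x442b0b014) (.leaf 0x1df8b17a)))) (.node (.node (.node (.leaf 0x16c619082) (.leaf 0x94b73b05c)) (.node (.leaf 0x1d0fbb050) (.leaf 0x3d24fb064))) (.node (.node (.leaf 0x2dd5eb05c) (.leaf 0x4214905c)) (.node (.leaf 0x2e568704e) (.leaf 0x298b8500a)))))) (.node (.node (.node (.node (.node (.leaf 0x6a3d99010) (.leaf 0xe60c5004)) (.node (.leaf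 0x31d5c9042) (.leaf 0x7a177004))) (.node (.node (.leaf 0x17292b062) (.leaf 0x4e9ba700e)) (.node (.leaf 0x11d467020) (.leaf 0x65b559024)))) (.node (.node (.node (.leaf 0x4dce43000) (.leaf 0x9a4e3900c)) (.node (.leaf 0x43ef9b050) (.leaf 0x6b18b01c))) (.node (.node (.leaf 0xd3197014) (.leaf 0x167a87006)) (.node (.leaf 0x58799046) (.leaf 0x194549002))))) (.node (.node (.node (.node (.leaf 0xe5f2b0cc) (.leaf 0x1128b17a)) (.node (.leaf 0x1196ce90c6) (.leaf 0x731d901c))) (.node (.node (.leaf 0x153a2b1fe) (.leaf 0x145d49082)) (.node (.leaf 0x296f85006) (.leaf 0x25b9b0ea)))) (.node (.node (.node (.leaf 0x2cabdb042) (.leaf 0x49373b050)) (.node (.leaf 0x292e15006) (.leaf 0xf20b084))) (.node (.node (.leaf 0x2ee78900a) (.leaf 0x49cdab042)) (.node (.leaf 0x8886eb06a) (.leaf 0x81d0790c6))))))) (.node (.node (.node (.node (.node (.node (.leaf 0x2c03b184) (.leaf 0x803d900a)) (.node (.leaf 0x6aee97000) (.leaf 0x163ff9024))) (.node (.node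 (.leaf 0x5106bb0d6) (.leaf 0x3f269010)) (.node (.leaf 0x2f0f5b05a) (.leaf 0xa5a9bb064)))) (.node (.node (.node (.leaf 0x5dd1a7020) (.leaf 0x197df5000)) (.node (.leaf 0x3755c7026) (.leaf 0x14c30901c))) (.node (.node (.leaf 0x3ae3fb044) (.leaf 0xb2f4d7042)) (.node (.leaf 0x4c9e6500e) (.leaf 0x35a639082))))) (.node (.node (.node (.node (.leaf 0x32d89900c) (.leaf 0x17618b0fc)) (.node (.leaf 0x5f2927030) (.leaf 0x1ec26b184))) (.node (.node (.leaf 0x371c37030) (.leaf 0x90eb036)) (.node (.leaf 0x8d049b0c6) (.leaf 0x1635b17a)))) (.node (.node (.node (.leaf 0x1ae5b17a) (.leaf 0x77e49016)) (.node (.leaf 0x447f77026) (.leaf 0x1b3513004))) (.node (.node (.leaf 0x1aa00904e) (.leaf 0x471db1d6)) (.node (.leaf 0xc2a38500a) (.leaf 0x135179b17a)))))) (.node (.node (.node (.node (.node (.leaf 0x3b09c) (.leaf 0x8f2d704e)) (.node (.leaf 0x1e3ddb0fc) (.leaf 0x48114b05c))) (.node (.node (.leaf 0x4024eb10c) (.leaf 0x18f75b042)) (.node (.leaf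 0x8ce06700a) (.leaf 0xd94a900a)))) (.node (.node (.node (.leaf 0x75c5c9024) (.leaf 0x14d1e9014)) (.node (.leaf 0x94f109030) (.leaf 0xfbfa9046))) (.node (.node (.leaf 0x24805b064) (.leaf 0xbdbbb09a)) (.node (.leaf 0x16f557024) (.leaf 0x31ea8900c))))) (.node (.node (.node (.node (.leaf 0x23e8fb09a) (.leaf 0x141e87024)) (.node (.leaf 0x1bbca3000) (.leaf 0x47969030))) (.node (.node (.leaf 0x6e3467004) (.leaf 0x1dc00b002)) (.node (.leaf 0x1002db06a) (.leaf 0x166379014)))) (.node (.node (.node (.leaf 0x43a72b002) (.leaf 0x76c57042)) (.node (.leaf 0x128b3700a) (.leaf 0x4eb6ab144))) (.node (.node (.leaf 0xda4a90c6) (.leaf 0xe85957026)) (.node (.leaf 0x29cef7002) (.leaf 0x165fb900c))))))))))) (.node (.node (.node (.node (.node (.node (.node (.node (.node (.node (.leaf 0x9a215b144) (.leaf 0x2a1bf700a)) (.node (.leaf 0x4757ab1d6) (.leaf 0xda8a9026))) (.node (.node (.leaf 0x1d4ac900a) (.leaf 0x7f0a7010)) (.node (.leaf 0x2aa05900a)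 (.leaf 0x194d1b024)))) (.node (.node (.node (.leaf 0x7ac93b1fe) (.leaf 0x11543704e)) (.node (.leaf 0x4ce0b064) (.leaf 0x1c2f9900c))) (.node (.node (.leaf 0x8f3c4b0c6) (.leaf 0x1bd95b05a)) (.node (.leaf 0xa3f607006) (.leaf 0x1ee8b17a))))) (.node (.node (.node (.node (.leaf 0x18e509004) (.leaf 0x483ebb064)) (.node (.leaf 0x1b2bf3004) (.leaf 0xa7b3c9006))) (.node (.node (.leaf 0x6bba700a) (.leaf 0x7a9859044)) (.node (.leaf 0x9d949b050) (.leaf 0x12a457026)))) (.node (.node (.node (.leaf 0xafe26700a) (.leaf 0xb5fd900c)) (.node (.leaf 0x2e6e2b042) (.leaf 0x1a4867010))) (.node (.node (.leaf 0x27825905c) (.leaf 0xa3bfc9016)) (.node (.leaf 0x57b43b056) (.leaf 0x1ae5db09a)))))) (.node (.node (.node (.node (.node (.leaf 0x10359900c) (.leaf 0x23c84704e)) (.node (.leaf 0x8ddeb014) (.leaf 0xb0cf7034))) (.node (.node (.leaf 0x65c8fb09a) (.leaf 0x1238b17a)) (.node (.leaf 0xd115700e) (.leaf 0x34967b0c0)))) (.node (.node (.node (.leaf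 0x30cd7034) (.leaf 0xf9367004)) (.node (.leaf 0xe5cdfb14e) (.leaf 0x52fb084))) (.node (.node (.leaf 0x93e8900a) (.leaf 0xcc63cb08a)) (.node (.leaf 0xadcb036) (.leaf 0x5c2d87004))))) (.node (.node (.node (.node (.leaf 0x4bf69b044) (.leaf 0xb148fb0fc)) (.node (.leaf 0xc123b194) (.leaf 0x3bc3ab114))) (.node (.node (.leaf 0x38128b014) (.leaf 0x7e1787000)) (.node (.leaf 0x4ede99006) (.leaf 0x9b1803004)))) (.node (.node (.node (.leaf 0x5a0f25002) (.leaf 0xb6d39004)) (.node (.leaf 0x203ff7026) (.leaf 0x672c0b0d6))) (.node (.node (.leaf 0xe346b024) (.leaf 0x1277627004)) (.node (.leaf 0x36943b0c6) (.leaf 0x5683e9004))))))) (.node (.node (.node (.node (.node (.node (.leaf 0x31458b000) (.leaf 0x18f979006)) (.node (.leaf 0x601e5b084) (.leaf 0x2703f905c))) (.node (.node (.leaf 0x11875904e) (.leaf 0x33b217020)) (.node (.leaf 0x5b3bd9082) (.leaf 0x2c283704e)))) (.node (.node (.node (.leaf 0x22770b2dc) (.leaf 0x59e0900a)) (.node (.leaf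 0x3227fb050) (.leaf 0xd70db00c))) (.node (.node (.leaf 0x38622b06a) (.leaf 0xb24b036)) (.node (.leaf 0x6f1c900a) (.leaf 0x51551502a))))) (.node (.node (.node (.node (.leaf 0x10cf77034) (.leaf 0x43dffb0ea)) (.node (.leaf 0x2934ab0d6) (.leaf 0xc628b062))) (.node (.node (.leaf 0x138eeb00a) (.leaf 0x22730b0c0)) (.node (.leaf 0x24c90b10c) (.leaf 0x713cdb0a2)))) (.node (.node (.node (.leaf 0xbdd19042) (.leaf 0x5b0e700a)) (.node (.leaf 0x74ba7b05a) (.leaf 0x1a5d6b01c))) (.node (.node (.leaf 0x23b94900a) (.leaf 0x1f06a900e)) (.node (.leaf 0x4c91bb0c6) (.leaf 0x141bbb002)))))) (.node (.node (.node (.node (.node (.leaf 0xf2499016) (.leaf 0x1d4d2700a)) (.node (.leaf 0x1cde37034) (.leaf 0x4e1ac9024))) (.node (.node (.leaf 0x13aa6b00a) (.leaf 0x26c91900a)) (.node (.leaf 0x1525b17a) (.leaf 0x16a79700e)))) (.node (.node (.node (.leaf 0x19f5b17a) (.leaf 0x29436b024)) (.node (.leaf 0x40196b114) (.leaf 0x109b27006))) (.node (.node (.leaf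 0xdfc5b144) (.leaf 0x2022b042)) (.node (.leaf 0x3dd39042) (.leaf 0x10e4b9004))))) (.node (.node (.node (.node (.leaf 0x448f7704e) (.leaf 0x149b39000)) (.node (.leaf 0x7b929010) (.leaf 0x61747b064))) (.node (.node (.leaf 0x899b4901c) (.leaf 0x456ae9046)) (.node (.leaf 0xbc4b7042) (.leaf 0x34129006)))) (.node (.node (.node (.leaf 0x3d4049036) (.leaf 0x39a81b10c)) (.node (.leaf 0x61a7eb044) (.leaf 0x96591900e))) (.node (.node (.leaf 0x187b69042) (.leaf 0x12d9c7020)) (.node (.leaf 0x2f8223006) (.leaf 0xe305b0c6)))))))) (.node (.node (.node (.node (.node (.node (.node (.leaf 0x14d30b050) (.leaf 0x17b8b17a)) (.node (.leaf 0x13c11b090) (.leaf 0x6a753b062))) (.node (.node (.leaf 0xf31e9024) (.leaf 0x988657004)) (.node (.leaf 0x1036d9024) (.leaf 0x5a7f2500e)))) (.node (.node (.node (.leaf 0x1cb3d9024) (.leaf 0x9ce890c6)) (.node (.leaf 0x7c4269016) (.leaf 0x164a9b144))) (.node (.node (.leaf 0x1f188b056) (.leaf 0x24e389036))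 (.node (.leaf 0x664c704e) (.leaf 0x43926b0fc))))) (.node (.node (.node (.node (.leaf 0x4a444b144) (.leaf 0x1c707901c)) (.node (.leaf 0x10c4b901c) (.leaf 0x2c5fd904e))) (.node (.node (.leaf 0x1c42d9042) (.leaf 0x13a41b090)) (.node (.leaf 0xabf1b2dc) (.leaf 0x32417014)))) (.node (.node (.node (.leaf 0x92aa700a) (.leaf 0x7454b905a)) (.node (.leaf 0xbec19024) (.leaf 0x1063d9042))) (.node (.node (.leaf 0x18a7c7034) (.leaf 0x11925700a)) (.node (.leaf 0x131cbb00a) (.leaf 0x249bb050)))))) (.node (.node (.node (.node (.node (.leaf 0x13b83b00a) (.leaf 0x1b41a3004)) (.node (.leaf 0x16221b00c) (.leaf 0x317c3b042))) (.node (.node (.leaf 0xd7779046) (.leaf 0xc7b9b184)) (.node (.leaf 0xf2c69014) (.leaf 0xb4d3901c)))) (.node (.node (.node (.leaf 0x1068b17a) (.leaf 0x88b6b09a)) (.node (.leaf 0x36d19004) (.leaf 0x79f60b0fc))) (.node (.node (.leaf 0xaf69b14e) (.leaf 0x1dbac90c6)) (.node (.leaf 0xd0cbfb194) (.leaf 0x12c9c65006))))) (.node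 (.node (.node (.node (.leaf 0x20c5b000) (.leaf 0x645c27034)) (.node (.leaf 0x7435b09a) (.leaf 0x8d4ce7002))) (.node (.node (.leaf 0x4e2bc9042) (.leaf 0xef2ab0d6)) (.node (.leaf 0x4a49cb00c) (.leaf 0xb2437014)))) (.node (.node (.node (.leaf 0x326f9b000) (.leaf 0x225b8b14e)) (.node (.leaf 0x21755900e) (.leaf 0x3a03fb10c))) (.node (.node (.leaf 0x1309c4b0a6) (.leaf 0x1b6fdb05a)) (.node (.leaf 0x32d54b002) (.leaf 0x49c5890c6))))))) (.node (.node (.node (.node (.node (.node (.leaf 0x170377030) (.leaf 0x44395700a)) (.node (.leaf 0x14a5b17a) (.leaf 0xccfb7b05a))) (.node (.node (.leaf 0x5eac55000) (.leaf 0x4e1e8900c)) (.node (.leaf 0x11a09901a) (.leaf 0x638c6b05c)))) (.node (.node (.node (.leaf 0x198b8b0d6) (.leaf 0xc903b0ea)) (.node (.leaf 0x1009b7014) (.leaf 0xf2dc9082))) (.node (.node (.leaf 0x326a6b042) (.leaf 0x629c15004)) (.node (.leaf 0x1375b17a) (.leaf 0x21bedb056))))) (.node (.node (.node (.node (.leaf 0x1ca977014)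 (.leaf 0x6a22db0fc)) (.node (.leaf 0x1e4557026) (.leaf 0x304c1b050))) (.node (.node (.leaf 0x4e0aa7034) (.leaf 0x77c46704e)) (.node (.leaf 0x73137020) (.leaf 0x2bae1b05c)))) (.node (.node (.node (.leaf 0x3837eb000) (.leaf 0x108957904e)) (.node (.leaf 0x8260b06a) (.leaf 0x12c827030))) (.node (.node (.leaf 0x45e3b114) (.leaf 0x51480b00a)) (.node (.leaf 0x27a82b10c) (.leaf 0xc3c3b086)))))) (.node (.node (.node (.node (.node (.leaf 0x36d68b0d6) (.leaf 0x6a9c6b184)) (.node (.leaf 0x1a0ef7020) (.leaf 0xb6fa7006))) (.node (.node (.leaf 0x3410eb14e) (.leaf 0x561a67042)) (.node (.leaf 0x2f479300e) (.leaf 0x7eba09000)))) (.node (.node (.node (.leaf 0x681c90c6) (.leaf 0x169fb9046)) (.node (.leaf 0x28a0b002) (.leaf 0x5bb0704e))) (.node (.node (.leaf 0x5ae090c6) (.leaf 0x34b37b0c0)) (.node (.leaf 0x3d42900a) (.leaf 0x8b99b01c))))) (.node (.node (.node (.node (.leaf 0xad8c55002) (.leaf 0xd20f27006)) (.node (.leaf 0x731a4b036) (.leaf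 0xb4049006))) (.node (.node (.leaf 0x1b2dcb05a) (.leaf 0x1dafc704e)) (.node (.leaf 0x38a237026) (.leaf 0x3e4290c6)))) (.node (.node (.node (.leaf 0x7b1ab01c) (.leaf 0x307b084)) (.node (.leaf 0x7571cb06a) (.leaf 0x13804b090))) (.node (.node (.leaf 0x305da9000) (.leaf 0x25ea8904e)) (.node (.leaf 0x106837042) (.leaf 0x578fb900e))))))))) (.node (.node (.node (.node (.node (.node (.node (.node (.leaf 0x192cfb0c6) (.leaf 0x2506b9024)) (.node (.leaf 0x348ffb14e) (.leaf 0x5e877014))) (.node (.node (.leaf 0x19801b024) (.leaf 0x432ae9006)) (.node (.leaf 0x2379d900c) (.leaf 0x10e62700a)))) (.node (.node (.node (.leaf 0xd29bb06a) (.leaf 0xc3a2900a)) (.node (.leaf 0x1615e7026) (.leaf 0x8b07b042))) (.node (.node (.leaf 0x18898b184) (.leaf 0x74edc905a)) (.node (.leaf 0x21bf2b1d6) (.leaf 0x7e1db050))))) (.node (.node (.node (.node (.leaf 0xfc4d700a) (.leaf 0x3225db06a)) (.node (.leaf 0x146c37010) (.leaf 0x250f39014))) (.node (.node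 (.leaf 0x864eb050) (.leaf 0x1795bb144)) (.node (.leaf 0x24adb900e) (.leaf 0x1e7949046)))) (.node (.node (.node (.leaf 0x33dac7010) (.leaf 0x11f0a9014)) (.node (.leaf 0x6ef547030) (.leaf 0x6d43901c))) (.node (.node (.leaf 0x6810f9004) (.leaf 0x219989036)) (.node (.leaf 0xcca290c6) (.leaf 0x1f285b10c)))))) (.node (.node (.node (.node (.node (.leaf 0x45794b014) (.leaf 0x47abb900e)) (.node (.leaf 0x11690901c) (.leaf 0x1d25b17a))) (.node (.node (.leaf 0x77bc97024) (.leaf 0x2f649b08a)) (.node (.leaf 0x1e86a700e) (.leaf 0x294b5b0c6)))) (.node (.node (.node (.leaf 0x45fe37026) (.leaf 0x26b049024)) (.node (.leaf 0x6b999024) (.leaf 0x1da427006))) (.node (.node (.leaf 0x93a59042) (.leaf 0x3ea20b05c)) (.node (.leaf 0x1d8f99042) (.leaf 0x11f5b17a))))) (.node (.node (.node (.node (.leaf 0x174d3b00c) (.leaf 0x87c8c700e)) (.node (.leaf 0x25da7900c) (.leaf 0x2a59b06a))) (.node (.node (.leaf 0xa4a1b0c0) (.leaf 0x3e88b062)) (.node (.leaf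 0x22b3b09a) (.leaf 0x56cf7042)))) (.node (.node (.node (.leaf 0x5a7059002) (.leaf 0x4f907b2dc)) (.node (.leaf 0x68df7034) (.leaf 0x1cc70704e))) (.node (.node (.leaf 0x148c8b09a) (.leaf 0xb004704e)) (.node (.leaf 0x9851900c) (.leaf 0x5aebf5004))))))) (.node (.node (.node (.node (.node (.node (.leaf 0x6c899042) (.leaf 0x178349010)) (.node (.leaf 0x6d9247000) (.leaf 0xd264b042))) (.node (.node (.leaf 0x2cd029024) (.leaf 0x768415010)) (.node (.leaf 0x1a38b17a) (.leaf 0x252687006)))) (.node (.node (.node (.leaf 0x2a66f7006) (.leaf 0xe6877b084)) (.node (.leaf 0x33c9c9000) (.leaf 0x143e007000))) (.node (.node (.leaf 0xc9f17014) (.leaf 0x15045b044)) (.node (.leaf 0x2072f9026) (.leaf 0xde87cb184))))) (.node (.node (.node (.node (.leaf 0x12896700e) (.leaf 0x2825cb044)) (.node (.leaf 0x2bad2900e) (.leaf 0x285b036))) (.node (.node (.leaf 0x70a4cb056) (.leaf 0x48261b064)) (.node (.leaf 0x5a67d7002) (.leaf 0x1b0813004)))) (.node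 (.node (.node (.leaf 0x250819082) (.leaf 0x13db4b0a6)) (.node (.leaf 0x5e532b0cc) (.leaf 0x2c8ca9014))) (.node (.node (.leaf 0x4406e7004) (.leaf 0x612a7006)) (.node (.leaf 0x218d8b05c) (.leaf 0x135b4b0cc)))))) (.node (.node (.node (.node (.node (.leaf 0x50ed9042) (.leaf 0x126249046)) (.node (.leaf 0x37ac4b0fc) (.leaf 0x8331eb1d6))) (.node (.node (.leaf 0x99037014) (.leaf 0x3b03b194)) (.node (.leaf 0x8bbfb90c6) (.leaf 0x1d7fb9004)))) (.node (.node (.node (.leaf 0x58f8a901a) (.leaf 0x6c22db0ea)) (.node (.leaf 0x77ba9000) (.leaf 0x5317901c))) (.node (.node (.leaf 0x254bb014) (.leaf 0x5b184904e)) (.node (.leaf 0x16e8b17a) (.leaf 0x4db343000))))) (.node (.node (.node (.node (.leaf 0xbd54900a) (.leaf 0x1adbeb002)) (.node (.leaf 0x57fd9024) (.leaf 0x30e737020))) (.node (.node (.leaf 0x1a4f69000) (.leaf 0x5c307b062)) (.node (.leaf 0x56d51900a) (.leaf 0x4a29db042)))) (.node (.node (.node (.leaf 0x16828b042) (.leaf 0x5709db1fe))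 (.node (.leaf 0x2661b7006) (.leaf 0x786e4900e))) (.node (.node (.leaf 0x35dbfb014) (.leaf 0xa139b14e)) (.node (.leaf 0x8f4cb000) (.leaf 0x3b8ab0fc)))))))) (.node (.node (.node (.node (.node (.node (.node (.leaf 0x5d179004) (.leaf 0x1b0f7b08a)) (.node (.leaf 0x8a4da9004) (.leaf 0x109719b002))) (.node (.node (.leaf 0xd147b000) (.leaf 0x1ca5b17a)) (.node (.leaf 0x5e9e7006) (.leaf 0x8d961b00a)))) (.node (.node (.node (.leaf 0x3e63b0ea) (.leaf 0x98f89006)) (.node (.leaf 0x1b75b17a) (.leaf 0x44fa87042))) (.node (.node (.leaf 0xaffaf901c) (.leaf 0x1a13e7000)) (.node (.leaf 0x98acdb194) (.leaf 0x85ad7b036))))) (.node (.node (.node (.node (.leaf 0xed7ab0d6) (.leaf 0x251437004)) (.node (.leaf 0x36271b024) (.leaf 0x9f302b0a2))) (.node (.node (.leaf 0x376e9b086) (.leaf 0x27623b1fe)) (.node (.leaf 0xe2d6b024) (.leaf 0x2aa76901c)))) (.node (.node (.node (.leaf 0x1c520900a) (.leaf 0x3c42c7010)) (.node (.leaf 0x18426b194) (.leaf 0x328acb01c)))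 (.node (.node (.leaf 0x75627000) (.leaf 0x4d3f9b05a)) (.node (.leaf 0xad0b27002) (.leaf 0x34a3b086)))))) (.node (.node (.node (.node (.node (.leaf 0x436be90c6) (.leaf 0x475ea9036)) (.node (.leaf 0x6fd37014) (.leaf 0x7ad70b1d6))) (.node (.node (.leaf 0x4264cb042) (.leaf 0xb36a700a)) (.node (.leaf 0x92d3901c) (.leaf 0x167bfb06a)))) (.node (.node (.node (.leaf 0x252dd901c) (.leaf 0x60b5900c)) (.node (.leaf 0x4adb036) (.leaf 0x26030900c))) (.node (.node (.leaf 0xfebf704e) (.leaf 0x279139044)) (.node (.leaf 0xccf39042) (.leaf 0x118829024))))) (.node (.node (.node (.node (.leaf 0x1d8237042) (.leaf 0x2f1b7b05a)) (.node (.leaf 0x53b37034) (.leaf 0x2c0907042))) (.node (.node (.leaf 0x47615900e) (.leaf 0x12e917010)) (.node (.leaf 0xc5f29006) (.leaf 0x391feb056)))) (.node (.node (.node (.leaf 0x2ef63b09a) (.leaf 0x4ce4db024)) (.node (.leaf 0x22d60b0c0) (.leaf 0x44ab084))) (.node (.node (.leaf 0x2494a9036) (.leaf 0x91f59024))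 (.node (.leaf 0x463a0b044) (.leaf 0x306bab01c))))))) (.node (.node (.node (.node (.node (.node (.leaf 0x26f819006) (.leaf 0x331099046)) (.node (.leaf 0x1b7ff3000) (.leaf 0x1479a7020))) (.node (.node (.leaf 0x2bfe4900e) (.leaf 0x4c913b0c6)) (.node (.leaf 0x5fb09006) (.leaf 0xfc01901a)))) (.node (.node (.node (.leaf 0x639b7042) (.leaf 0x242cdb056)) (.node (.leaf 0x18f46b086) (.leaf 0x1868b17a))) (.node (.node (.leaf 0x1efc97000) (.leaf 0x3f8d7b114)) (.node (.leaf 0x661ebb00c) (.leaf 0x86b13b0d6))))) (.node (.node (.node (.node (.leaf 0x4449e9014) (.leaf 0x1e0fab144)) (.node (.leaf 0x467bb044) (.leaf 0x17e999046))) (.node (.node (.leaf 0xd259b014) (.leaf 0x44820901c)) (.node (.leaf 0x3809b184) (.leaf 0x75d57030)))) (.node (.node (.node (.leaf 0x677b3b0c6) (.leaf 0x2018b01c)) (.node (.leaf 0xc7ad7034) (.leaf 0x91bf7034))) (.node (.node (.leaf 0x2a2fe7042) (.leaf 0x9e5b7042)) (.node (.leaf 0x74f33300e) (.leaf 0x3ddd1900e))))))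 (.node (.node (.node (.node (.node (.leaf 0x1fb8b17a) (.leaf 0x21830b10c)) (.node (.leaf 0x115119016) (.leaf 0x198a8b0d6))) (.node (.node (.leaf 0x6a4c9006) (.leaf 0x1d46b7014)) (.node (.leaf 0x9cd39004) (.leaf 0x39296900e)))) (.node (.node (.node (.leaf 0x1bb683004) (.leaf 0x624285000)) (.node (.leaf 0xb2fb1b144) (.leaf 0xa6f85b086))) (.node (.node (.leaf 0x81b1b002) (.leaf 0x426d7b06a)) (.node (.leaf 0x24323b056) (.leaf 0x28f94b114))))) (.node (.node (.node (.node (.leaf 0x4a72b064) (.leaf 0x5479900c)) (.node (.leaf 0x20eba9046) (.leaf 0x33aff700e))) (.node (.node (.leaf 0x6e4237000) (.leaf 0xd31a7026)) (.node (.leaf 0x25e557042) (.leaf 0x1e962b00c)))) (.node (.node (.node (.leaf 0x18186b0ea) (.leaf 0xaebca9014)) (.node (.leaf 0x71e2b002) (.leaf 0xb02677020))) (.node (.node (.leaf 0x1e1717010) (.leaf 0x238fe7006)) (.node (.leaf 0x587039082) (.leaf 0x7f2b084)))))))))) (.node (.node (.node (.node (.node (.node (.node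 (.node (.node (.leaf 0x64dbb184) (.leaf 0x356049026)) (.node (.leaf 0x9896b062) (.leaf 0x1ac35b014))) (.node (.node (.leaf 0xd8667010) (.leaf 0xa3e4b2dc)) (.node (.leaf 0x330fcb01c) (.leaf 0x2c6129042)))) (.node (.node (.node (.leaf 0x1780db06a) (.leaf 0x1b90b17a)) (.node (.leaf 0x1e00b17a) (.leaf 0xd3770b056))) (.node (.node (.leaf 0x13286500e) (.leaf 0x135e3500e)) (.node (.leaf 0x1f1089044) (.leaf 0x3dc739030))))) (.node (.node (.node (.node (.leaf 0xa2243b024) (.leaf 0x1bbbe3006)) (.node (.leaf 0x329317020) (.leaf 0xbab69016))) (.node (.node (.leaf 0x135ee5042) (.leaf 0x138ea500a)) (.node (.leaf 0x16f037020) (.leaf 0x6b94b0fc)))) (.node (.node (.node (.leaf 0x104d37024) (.leaf 0x4dce43002)) (.node (.leaf 0x722ef9016) (.leaf 0x1e816b09a))) (.node (.node (.leaf 0x3dc26b10c) (.leaf 0x7ad75b1fe)) (.node (.leaf 0x1b01c3006) (.leaf 0x285efb064)))))) (.node (.node (.node (.node (.node (.leaf 0x4ab43b01c) (.leaf 0x86c97010))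 (.node (.leaf 0x74cdb014) (.leaf 0x1ea7eb014))) (.node (.node (.leaf 0x4cdb09c) (.leaf 0x3cc59082)) (.node (.leaf 0x1d609b0ea) (.leaf 0x448e790c6)))) (.node (.node (.node (.leaf 0x21aabb1fe) (.leaf 0xc1f2704e)) (.node (.leaf 0x647ce7024) (.leaf 0x36c06b0c6))) (.node (.node (.leaf 0x15a13b044) (.leaf 0x3ec39024)) (.node (.leaf 0x51ce3b0cc) (.leaf 0x2590d7014))))) (.node (.node (.node (.node (.leaf 0x156cab064) (.leaf 0x1cf0e904e)) (.node (.leaf 0x37e5c704e) (.leaf 0x30d3d700e))) (.node (.node (.leaf 0x2c6839006) (.leaf 0x1654ab01c)) (.node (.leaf 0xf020b184) (.leaf 0x25cdd9004)))) (.node (.node (.node (.leaf 0x35ff900c) (.leaf 0x85317000)) (.node (.leaf 0x2f5a03004) (.leaf 0x1b17d300a))) (.node (.node (.leaf 0x5410eb064) (.leaf 0x315099026)) (.node (.leaf 0xd476b01c) (.leaf 0x9455b086))))))) (.node (.node (.node (.node (.node (.node (.leaf 0xf1d9b062) (.leaf 0x43558901a)) (.node (.leaf 0xbb5b7024) (.leaf 0x337bbb09a)))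 (.node (.node (.leaf 0x2a4d7020) (.leaf 0x21122b05c)) (.node (.leaf 0x6339b0ea) (.leaf 0x30835b00c)))) (.node (.node (.node (.leaf 0x12a81b01c) (.leaf 0x1ab5bb06a)) (.node (.leaf 0x57833b1fe) (.leaf 0xb2b7a9000))) (.node (.node (.leaf 0x6ff41b024) (.leaf 0x1b641905a)) (.node (.leaf 0x389707030) (.leaf 0x4e7649014))))) (.node (.node (.node (.node (.leaf 0x327b7004) (.leaf 0x48df4b114)) (.node (.leaf 0x178db17a) (.leaf 0x5fa9c7004))) (.node (.node (.leaf 0x27931900e) (.leaf 0xc69999030)) (.node (.leaf 0x8c019010) (.leaf 0x6b006b024)))) (.node (.node (.node (.leaf 0x4d0c5b08a) (.leaf 0xd8cf7020)) (.node (.leaf 0x184619016) (.leaf 0x2543a9006))) (.node (.node (.leaf 0x10816901a) (.leaf 0x1e721b01c)) (.node (.leaf 0x247af905c) (.leaf 0x921bb184)))))) (.node (.node (.node (.node (.node (.leaf 0x8fda700e) (.leaf 0x884a69014)) (.node (.leaf 0x306adb144) (.leaf 0x3ea339044))) (.node (.node (.leaf 0x742b8b05a) (.leaf 0x72efb06a))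 (.node (.leaf 0x8f84eb024) (.leaf 0x51ff2b0cc)))) (.node (.node (.node (.leaf 0x2edb89026) (.leaf 0x3c497042)) (.node (.leaf 0xaa8d5b10c) (.leaf 0x213d99030))) (.node (.node (.leaf 0x10572904e) (.leaf 0x61820b044)) (.node (.leaf 0x9230b0fc) (.leaf 0x180f57006))))) (.node (.node (.node (.node (.leaf 0x3700c90c6) (.leaf 0x230eab062)) (.node (.leaf 0x91694b01c) (.leaf 0xabc7eb036))) (.node (.node (.leaf 0x55bb59010) (.leaf 0x1198c7034)) (.node (.leaf 0x2b1f6905c) (.leaf 0x2a57bb062)))) (.node (.node (.node (.leaf 0x1c9cf7024) (.leaf 0x7a5b09c)) (.node (.leaf 0x121db17a) (.leaf 0x312d97026))) (.node (.node (.leaf 0x29c27b024) (.leaf 0x5e1db0ea)) (.node (.leaf 0x1a78a7026) (.leaf 0x89b99000)))))))) (.node (.node (.node (.node (.node (.node (.node (.leaf 0x198b5b0d6) (.leaf 0xa9778901a)) (.node (.leaf 0x9130fb014) (.leaf 0x1c6aa9016))) (.node (.node (.leaf 0x4695bb064) (.leaf 0x27993b056)) (.node (.leaf 0x2ee687026) (.leaf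 0xf1deb194)))) (.node (.node (.node (.leaf 0x42249b09a) (.leaf 0x21c6d9044)) (.node (.leaf 0x5428b0fc) (.leaf 0x7899fb10c))) (.node (.node (.leaf 0x514ed5010) (.leaf 0x119439006)) (.node (.leaf 0x58c767006) (.leaf 0x558c57000))))) (.node (.node (.node (.node (.leaf 0x822a4b064) (.leaf 0x59c2bb0c0)) (.node (.leaf 0x906219000) (.leaf 0xb63a904e))) (.node (.node (.leaf 0x6d59b194) (.leaf 0x30b5b9046)) (.node (.leaf 0x4f557b0c0) (.leaf 0x8c92b00c)))) (.node (.node (.node (.leaf 0x200eb9000) (.leaf 0x4d4aa905a)) (.node (.leaf 0x418a0b14e) (.leaf 0x16ec29010))) (.node (.node (.leaf 0x32db77030) (.leaf 0x55c909046)) (.node (.leaf 0xe73bb0d6) (.leaf 0x241c9026)))))) (.node (.node (.node (.node (.node (.leaf 0x231bfb184) (.leaf 0x1380b17a)) (.node (.leaf 0x1bc00300e) (.leaf 0x1610b17a))) (.node (.node (.leaf 0x37de2700a) (.leaf 0x1d8c9b086)) (.node (.leaf 0x2f9d6b08a) (.leaf 0x179fcb01c)))) (.node (.node (.node (.leaf 0x1aa40b042)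 (.leaf 0xa93cb14e)) (.node (.leaf 0x33589016) (.leaf 0x2aa08b194))) (.node (.node (.leaf 0x1bcca300e) (.leaf 0x7ea8b042)) (.node (.leaf 0xc41c904e) (.leaf 0x83ced9044))))) (.node (.node (.node (.node (.leaf 0x13fce5002) (.leaf 0x131fe502a)) (.node (.leaf 0x8c4ab144) (.leaf 0x106b59014))) (.node (.node (.leaf 0xa5423b1fe) (.leaf 0x598fb184)) (.node (.leaf 0x4db3cb08a) (.leaf 0x2364cb0fc)))) (.node (.node (.node (.leaf 0xce9beb024) (.leaf 0x18d887024)) (.node (.leaf 0x7c30c900a) (.leaf 0x1f0b2b1fe))) (.node (.node (.leaf 0xc94c700a) (.leaf 0x6a4b89024)) (.node (.leaf 0x14fdc700e) (.leaf 0x11f929042))))))) (.node (.node (.node (.node (.node (.node (.leaf 0x1b9a8905a) (.leaf 0x2582a90c6)) (.node (.leaf 0xfcfeb086) (.leaf 0x218c7026))) (.node (.node (.leaf 0x4802cb044) (.leaf 0x4fd47b0c0)) (.node (.leaf 0xaca4b0c0) (.leaf 0x10bef9082)))) (.node (.node (.node (.leaf 0x797327006) (.leaf 0x66f9b086)) (.node (.leaf 0x36275b0d6)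 (.leaf 0x3b597024))) (.node (.node (.leaf 0x5b6ab062) (.leaf 0x653c49000)) (.node (.leaf 0x58f109006) (.leaf 0xb6499014))))) (.node (.node (.node (.node (.leaf 0x1d529b194) (.leaf 0x43eae704e)) (.node (.leaf 0x1615a7010) (.leaf 0xec97b024))) (.node (.node (.leaf 0x4d5a3b05a) (.leaf 0x14fa65b05c)) (.node (.leaf 0x1e488b06a) (.leaf 0x49f25b086)))) (.node (.node (.node (.leaf 0x18c249082) (.leaf 0x7fdbb000)) (.node (.leaf 0x3770c900a) (.leaf 0x37ac7006))) (.node (.node (.leaf 0x179db17a) (.leaf 0x3a91eb056)) (.node (.leaf 0x7fd0fb084) (.leaf 0x6e36b062)))))) (.node (.node (.node (.node (.node (.leaf 0x7d4e7026) (.leaf 0x5ee2db00a)) (.node (.leaf 0x2a9e8b0ea) (.leaf 0x58009900c))) (.node (.node (.leaf 0xea44b0c6) (.leaf 0xd5be9010)) (.node (.leaf 0x21e5b9044) (.leaf 0x1be10905a)))) (.node (.node (.node (.leaf 0x45bef7010) (.leaf 0x512a2b0cc)) (.node (.leaf 0x1f97bb05c) (.leaf 0x41838b2dc))) (.node (.node (.leaf 0x9835b194)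 (.leaf 0xdea1b09a)) (.node (.leaf 0x11b007014) (.leaf 0x6be11b0c6))))) (.node (.node (.node (.node (.leaf 0x50ddb086) (.leaf 0xfa3eb0ea)) (.node (.leaf 0xb2797004) (.leaf 0x2c1447034))) (.node (.node (.leaf 0x3abf0b056) (.leaf 0xc3c61b064)) (.node (.leaf 0x120db17a) (.leaf 0xbb2517024)))) (.node (.node (.node (.leaf 0x364b9014) (.leaf 0x10e5e9016)) (.node (.leaf 0x77ec17014) (.leaf 0x110909004))) (.node (.node (.leaf 0x241a8b1d6) (.leaf 0x201e8b050)) (.node (.leaf 0x2d83eb114) (.leaf 0x19f64b024))))))))) (.node (.node (.node (.node (.node (.node (.node (.node (.leaf 0x7bde9026) (.leaf 0x18825700a)) (.node (.leaf 0xa97709016) (.leaf 0x3c6c904e))) (.node (.node (.leaf 0x13cd65000) (.leaf 0x112e2b086)) (.node (.leaf 0xee9a6904e) (.leaf 0x57d49905c)))) (.node (.node (.node (.leaf 0x6d979082) (.leaf 0x353c700a)) (.node (.leaf 0xc3a59082) (.leaf 0x741abb08a))) (.node (.node (.leaf 0x3a8d59036) (.leaf 0x486db114)) (.node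 (.leaf 0xcd4f900c) (.leaf 0x1fdbe9030))))) (.node (.node (.node (.node (.leaf 0x13e675014) (.leaf 0x26edb904e)) (.node (.leaf 0x1f46db1d6) (.leaf 0x1c07ab062))) (.node (.node (.leaf 0xbb01b194) (.leaf 0x53af6b0d6)) (.node (.leaf 0x23b2b9082) (.leaf 0x714d9b0a2)))) (.node (.node (.node (.leaf 0x8f545b0c6) (.leaf 0x242e99030)) (.node (.leaf 0xcbe39024) (.leaf 0x1a1db17a))) (.node (.node (.leaf 0x98069016) (.leaf 0x6222fb0a6)) (.node (.leaf 0x6d449b000) (.leaf 0x67e69016)))))) (.node (.node (.node (.node (.node (.leaf 0x13db25014) (.leaf 0x56b14b194)) (.node (.leaf 0x2430ab05c) (.leaf 0x97e79082))) (.node (.node (.leaf 0x25215b184) (.leaf 0x50759014)) (.node (.leaf 0x2938bb0d6) (.leaf 0x84e18704e)))) (.node (.node (.node (.leaf 0x66301b000) (.leaf 0x6f908b0d6)) (.node (.leaf 0x198a5b0d6) (.leaf 0x4a2639000))) (.node (.node (.leaf 0x2a9e07004) (.leaf 0x1c31db086)) (.node (.leaf 0x395109030) (.leaf 0x4706d9044))))) (.node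 (.node (.node (.node (.leaf 0x72b9700e) (.leaf 0x1f8db17a)) (.node (.leaf 0xdae797000) (.leaf 0x424697030))) (.node (.node (.leaf 0x318957010) (.leaf 0x2a2109014)) (.node (.leaf 0x3162d7000) (.leaf 0x14ea0b014)))) (.node (.node (.node (.leaf 0x52805b10c) (.leaf 0x32a649010)) (.node (.leaf 0x105adb194) (.leaf 0xd60e7000))) (.node (.node (.leaf 0x2c319b062) (.leaf 0x133389002)) (.node (.leaf 0x277a9b1fe) (.leaf 0xacb4b0c0))))))) (.node (.node (.node (.node (.node (.node (.leaf 0x57a4f9030) (.leaf 0x56e83b062)) (.node (.leaf 0xe81027042) (.leaf 0x4a128b050))) (.node (.node (.leaf 0x130d07002) (.leaf 0x5fbb9082)) (.node (.leaf 0x32013b00c) (.leaf 0xc4f97042)))) (.node (.node (.node (.leaf 0x8a6b3904e) (.leaf 0x2dd09010)) (.node (.leaf 0x497b69016) (.leaf 0x35023b00c))) (.node (.node (.leaf 0x1c59fb184) (.leaf 0x1390b17a)) (.node (.leaf 0x1600b17a) (.leaf 0x648b7024))))) (.node (.node (.node (.node (.leaf 0x2fe65b05a) (.leaf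 0xbc66b062)) (.node (.leaf 0x5020bb044) (.leaf 0x4e533b062))) (.node (.node (.leaf 0x440e8b184) (.leaf 0x2a1eb9016)) (.node (.leaf 0x1a839b00c) (.leaf 0x1000db0ea)))) (.node (.node (.node (.leaf 0x2f3883000) (.leaf 0x7c1537014)) (.node (.leaf 0x1b6da905a) (.leaf 0x16c9db050))) (.node (.node (.leaf 0xd4d42b00a) (.leaf 0xf2bf9006)) (.node (.leaf 0xf1dbf7002) (.leaf 0x1f9b4905c)))))) (.node (.node (.node (.node (.node (.leaf 0x5ca8b7006) (.leaf 0x3e9e1905c)) (.node (.leaf 0x2079b7010) (.leaf 0x2cfd0b184))) (.node (.node (.leaf 0x5e5d5500e) (.leaf 0xc51b7004)) (.node (.leaf 0x1d60e9016) (.leaf 0x437109016)))) (.node (.node (.node (.leaf 0x5e5d4500e) (.leaf 0x966d9014)) (.node (.leaf 0x77a07b086) (.leaf 0x1b77f905a))) (.node (.node (.leaf 0x3219bb144) (.leaf 0xf24e9042)) (.node (.leaf 0x3362ab042) (.leaf 0x131407002))))) (.node (.node (.node (.node (.leaf 0x19fb4b024) (.leaf 0x2e8b7700e)) (.node (.leaf 0xd5969000) (.leaf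 0x77fc7b0ea))) (.node (.node (.leaf 0x177ffb050) (.leaf 0x2bb89000)) (.node (.leaf 0x51ba9016) (.leaf 0xdac899010)))) (.node (.node (.node (.leaf 0x156d0b064) (.leaf 0xa76cb14e)) (.node (.leaf 0x8cfd9026) (.leaf 0xb1462900c))) (.node (.node (.leaf 0xa7cb09c) (.leaf 0x32ed47000)) (.node (.leaf 0x9bdd7004) (.leaf 0x3e732b10c)))))))) (.node (.node (.node (.node (.node (.node (.node (.leaf 0x78e0c9044) (.leaf 0x3e7bf905c)) (.node (.leaf 0x908159026) (.leaf 0x17404b002))) (.node (.node (.leaf 0x2eb27b144) (.leaf 0x2347700e)) (.node (.leaf 0x1ad31700e) (.leaf 0xe9a7ab17a)))) (.node (.node (.node (.leaf 0x131a25010) (.leaf 0x307ebb000)) (.node (.leaf 0x5e35f7002) (.leaf 0x91ba904e))) (.node (.node (.leaf 0x321899046) (.leaf 0x2caa2b0ea)) (.node (.leaf 0xb80bb184) (.leaf 0x3040901a))))) (.node (.node (.node (.node (.leaf 0x14995b042) (.leaf 0xac4b09c)) (.node (.leaf 0x21cd7905c) (.leaf 0x102f8b0fc))) (.node (.node (.leaf 0x18b97704e)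 (.leaf 0x2b207000)) (.node (.leaf 0x1faae905c) (.leaf 0x1a0db17a)))) (.node (.node (.node (.leaf 0x4e286b184) (.leaf 0x1b870b08a)) (.node (.leaf 0x5c0209024) (.leaf 0x37b899024))) (.node (.node (.leaf 0x7758eb0fc) (.leaf 0x35c087000)) (.node (.leaf 0x1af5a9026) (.leaf 0x132f35004)))))) (.node (.node (.node (.node (.node (.leaf 0x1c1ddb0ea) (.leaf 0x263869082)) (.node (.leaf 0x1d8517004) (.leaf 0x172e9b000))) (.node (.node (.leaf 0x494ab7024) (.leaf 0x4cf5b044)) (.node (.leaf 0x55df7024) (.leaf 0x7c0aa7006)))) (.node (.node (.node (.leaf 0x27c6ab1d6) (.leaf 0x386d0b09a)) (.node (.leaf 0x1b97eb05a) (.leaf 0x955187030))) (.node (.node (.leaf 0x113c1b062) (.leaf 0x105c3b184)) (.node (.leaf 0xcff89016) (.leaf 0x6ebe901a))))) (.node (.node (.node (.node (.leaf 0xc061901c) (.leaf 0x802d7026)) (.node (.leaf 0x2b3b89030) (.leaf 0x4d0b4905a))) (.node (.node (.leaf 0x555a19026) (.leaf 0x16fb2b002)) (.node (.leaf 0x132775010)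 (.leaf 0x69ea904e)))) (.node (.node (.node (.leaf 0x18f6139046) (.leaf 0x3012704e)) (.node (.leaf 0x264779016) (.leaf 0x3a907b1d6))) (.node (.node (.leaf 0x1099f57026) (.leaf 0x2c087010)) (.node (.leaf 0x1f9db17a) (.leaf 0x41468b0c0))))))) (.node (.node (.node (.node (.node (.node (.leaf 0x14d02b000) (.leaf 0x1d682904e)) (.node (.leaf 0x64119014) (.leaf 0x105ceb062))) (.node (.node (.leaf 0x27b0cb10c) (.leaf 0x12d39b002)) (.node (.leaf 0x7c69b144) (.leaf 0x625e29002)))) (.node (.node (.node (.leaf 0x5a5e904e) (.leaf 0xdf89b050)) (.node (.leaf 0x21dcab10c) (.leaf 0xa488c7020))) (.node (.node (.leaf 0x7829eb1fe) (.leaf 0x2a2af904e)) (.node (.leaf 0x5c5729004) (.leaf 0x2fb113000))))) (.node (.node (.node (.node (.leaf 0xcbdc7006) (.leaf 0xad5955000)) (.node (.leaf 0x34186b2dc) (.leaf 0x623139002))) (.node (.node (.leaf 0x56e74b0ea) (.leaf 0x45e577000)) (.node (.leaf 0xef1cb0c6) (.leaf 0x295fb00c)))) (.node (.node (.node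 (.leaf 0x33d43b050) (.leaf 0x17726b042)) (.node (.leaf 0x1df56901a) (.leaf 0x83d67030))) (.node (.node (.leaf 0x19172b0c6) (.leaf 0x13cbd7002)) (.node (.leaf 0x8a5be9082) (.leaf 0x231c99014)))))) (.node (.node (.node (.node (.node (.leaf 0x31f5eb00c) (.leaf 0x2424d9044)) (.node (.leaf 0x164327000) (.leaf 0x433f9901c))) (.node (.node (.leaf 0x1b80b17a) (.leaf 0x30f51b014)) (.node (.leaf 0x1e10b17a) (.leaf 0x1bc473002)))) (.node (.node (.node (.leaf 0x381f67020) (.leaf 0x6f6d1b024)) (.node (.leaf 0x970b7024) (.leaf 0xc46b9014))) (.node (.node (.leaf 0x76e1b00c) (.leaf 0xdf0fdb0d6)) (.node (.leaf 0x23a397004) (.leaf 0x1bec9b08a))))) (.node (.node (.node (.node (.leaf 0x6f217004) (.leaf 0x62d80b00a)) (.node (.leaf 0x5dcc69024) (.leaf 0x57f1f905c))) (.node (.node (.leaf 0x4207a7000) (.leaf 0x255cbb086)) (.node (.leaf 0x3bf50b114) (.leaf 0x6dc63b050)))) (.node (.node (.node (.leaf 0xf5af900a) (.leaf 0x7c6c99024)) (.node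 (.leaf 0x5bb7a90c6) (.leaf 0x5da2901a))) (.node (.node (.leaf 0x2697b144) (.leaf 0x8dd515004)) (.node (.leaf 0xa3f4b2dc) (.leaf 0x2def6b044))))))))))))

theorem cert7_0 : chunkB 7 cert7 0 = true := by decide +kernel

theorem cert7_1 : chunkB 7 cert7 1 = true := by decide +kernel

theorem cert7_2 : chunkB 7 cert7 2 = true := by decide +kernel

theorem cert7_3 : chunkB 7 cert7 3 = true := by decide +kernel

theorem cert7_4 : chunkB 7 cert7 4 = true := by decide +kernel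

theorem cert7_5 : chunkB 7 cert7 5 = true := by decide +kernel

theorem cert7_6 : chunkB 7 cert7 6 = true := by decide +kernel

theorem cert7_7 : chunkB 7 cert7 7 = true := by decide +kernel

theorem cert7_ok : ∀ k < 2048, itemB 7 cert7 k = true :=
  of_chunks cert7_0 cert7_1 cert7_2 cert7_3 cert7_4 cert7_5 cert7_6 cert7_7

end Cfsg.Agent.F4Square.Two
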