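import Cfsg.Agent.F4Square.Two.Setup

/-!
Certificates for the coset of the Weyl element number 8.
-/

set_option autoImplicit false
set_option maxRecDepth 100000
set_option maxHeartbeats 0
set_option Elab.async false

namespace Cfsg.Agent.F4Square.Two

/-- The certificates. -/
noncomputable def cert8 : Tree :=
  (.node (.node (.node (.node (.node (.node (.node (.node (.node (.node (.node (.leaf 0x2fe09006) (.leaf 0x2881e9004)) (.node (.leaf 0x246b08a) (.leaf 0x6b2c90c6))) (.node (.node (.leaf 0xdb6d47002) (.leaf 0xe11f9016)) (.node (.leaf 0x15bdd9016) (.leaf 0x442877026)))) (.node (.node (.node (.leaf 0x18d35b0d6) (.leaf 0x77543b062)) (.node (.leaf 0x808ab184) (.leaf 0xcb55b1d6))) (.node (.node (.leaf 0xd188900e) (.leaf 0x40e31b2dc)) (.node (.leaf 0xac92901c) (.leaf 0x8c9949036))))) (.node (.node (.node (.node (.leaf 0x146097030) (.leaf 0x3bce9b05a)) (.node (.leaf 0x25325300e) (.leaf 0x2889900c))) (.node (.node (.leaf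 0x3a819b002) (.leaf 0x218e0700a)) (.node (.leaf 0x30842b14e) (.leaf 0xac822b1d6)))) (.node (.node (.node (.leaf 0x56550b086) (.leaf 0xc2ea905c)) (.node (.leaf 0x178ab00c) (.leaf 0x13f7fb0ea))) (.node (.node (.leaf 0x25333300e) (.leaf 0x8e21b0fc)) (.node (.leaf 0x52375901c) (.leaf 0x3dba6b09a)))))) (.node (.node (.node (.node (.node (.leaf 0x105d3e500a) (.leaf 0x1f233b044)) (.node (.leaf 0x65f81b042) (.leaf 0x26e079014))) (.node (.node (.leaf 0x14e6147030) (.leaf 0x75c4f7026)) (.node (.leaf 0x6933eb044) (.leaf 0xf4849000)))) (.node (.node (.node (.leaf 0x29be7b084) (.leaf 0x347d1700a)) (.node (.leaf 0x44bf1b042) (.leaf 0x15b8c901c))) (.node (.node (.leaf 0x4f2bc7030) (.leaf 0x556ab086)) (.node (.leaf 0xae929004) (.leaf 0xc3877b17a))))) (.node (.node (.node (.node (.leaf 0x7c75b114) (.leaf 0x42d5b036)) (.node (.leaf 0xacb49024) (.leaf 0x5270f9014))) (.node (.node (.leaf 0x2e1d7b042) (.leaf 0x58aab0ea)) (.node (.leaf 0x83ba8b036)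 (.leaf 0xee2e9082)))) (.node (.node (.node (.leaf 0x9be33b144) (.leaf 0xf6f7700e)) (.node (.leaf 0x74933b000) (.leaf 0xa0fe7034))) (.node (.node (.leaf 0x1f52b144) (.leaf 0xd4839036)) (.node (.leaf 0x78ed1900a) (.leaf 0x5cdc67042))))))) (.node (.node (.node (.node (.node (.node (.leaf 0x2489d9044) (.leaf 0x2a15a9000)) (.node (.leaf 0x193805004) (.leaf 0x6b3c704e))) (.node (.node (.leaf 0x51f8c7004) (.leaf 0x44ca6b06a)) (.node (.leaf 0x648a49042) (.leaf 0x2b277034)))) (.node (.node (.node (.leaf 0xd3a0b056) (.leaf 0x3723e7020)) (.node (.leaf 0x6ef6f7030) (.leaf 0x2697b900c))) (.node (.node (.leaf 0x1af98b0a6) (.leaf 0x5a64b184)) (.node (.leaf 0xe7987004) (.leaf 0x2049cb090))))) (.node (.node (.node (.node (.leaf 0x8fbb08a) (.leaf 0x1189f7014)) (.node (.leaf 0x260df9024) (.leaf 0x1955fb0cc))) (.node (.node (.leaf 0x27227006) (.leaf 0x157147024)) (.node (.leaf 0x25a5d905a) (.leaf 0x353004)))) (.node (.node (.node (.leaf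 0x1b5d7b2dc) (.leaf 0x40271b0c0)) (.node (.leaf 0xbada9026) (.leaf 0x67eab700e))) (.node (.node (.leaf 0x3c42b194) (.leaf 0x20fbab00a)) (.node (.leaf 0x55cdeb05c) (.leaf 0x3bc323004)))))) (.node (.node (.node (.node (.node (.leaf 0x172c09901a) (.leaf 0xc63627010)) (.node (.leaf 0x18b64b024) (.leaf 0xa66b7006))) (.node (.node (.leaf 0x29248b036) (.leaf 0xb8a9700e)) (.node (.leaf 0xa2e49042) (.leaf 0x313acb0d6)))) (.node (.node (.node (.leaf 0xa261fb00c) (.leaf 0x12a67b144)) (.node (.leaf 0x672299046) (.leaf 0x1144f901c))) (.node (.node (.leaf 0xfd4c7000) (.leaf 0x29f5fb084)) (.node (.leaf 0x4264d7020) (.leaf 0xd06ab056))))) (.node (.node (.node (.node (.leaf 0x8d9cb0ea) (.leaf 0x4a5bfb06a)) (.node (.leaf 0x2c4ff9036) (.leaf 0x2e63000))) (.node (.node (.leaf 0x219b9004) (.leaf 0xb2b427006)) (.node (.leaf 0x3bcb53000) (.leaf 0x972bb014)))) (.node (.node (.node (.leaf 0x22abc704e) (.leaf 0x45972b2dc)) (.node (.leaf 0xf5b47010)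 (.leaf 0xd5f867034))) (.node (.node (.leaf 0x9e6b79002) (.leaf 0x25375905a)) (.node (.leaf 0x1aec8b0a6) (.leaf 0x2cf7c900e)))))))) (.node (.node (.node (.node (.node (.node (.node (.leaf 0x3ec6b7000) (.leaf 0x9845b06a)) (.node (.leaf 0xc0ba9030) (.leaf 0x26ed9042))) (.node (.node (.leaf 0x17997010) (.leaf 0x125019046)) (.node (.leaf 0x85ac19006) (.leaf 0x2b10c704e)))) (.node (.node (.node (.leaf 0xf9d337014) (.leaf 0x25e09300a)) (.node (.leaf 0x23e69b0fc) (.leaf 0x497729006))) (.node (.node (.leaf 0x248e6b05c) (.leaf 0x6bf4e700e)) (.node (.leaf 0x45162b2dc) (.leaf 0x1213c9010))))) (.node (.node (.node (.node (.leaf 0xe8d3904e) (.leaf 0x286967042)) (.node (.leaf 0x29c60b036) (.leaf 0x1d217000))) (.node (.node (.leaf 0x586c1b10c) (.leaf 0x15eae900c)) (.node (.leaf 0x47acbb05a) (.leaf 0x1a6c8b0cc)))) (.node (.node (.node (.leaf 0x20637b00a) (.leaf 0x37fc77010)) (.node (.leaf 0x110719042) (.leaf 0xfbeb08a))) (.node (.node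 (.leaf 0x3c077b1d6) (.leaf 0x230d6b184)) (.node (.leaf 0xbaa1b00c) (.leaf 0x4286b084)))))) (.node (.node (.node (.node (.node (.leaf 0x43abb700e) (.leaf 0x279b901c)) (.node (.leaf 0x817bc704e) (.leaf 0x1bdc7b2dc))) (.node (.node (.leaf 0x37a2b0ea) (.leaf 0x13b90b062)) (.node (.leaf 0x642c900a) (.leaf 0x97079704e)))) (.node (.node (.node (.leaf 0x124849000) (.leaf 0x2012fb00a)) (.node (.leaf 0x213ea704e) (.leaf 0x864feb05a))) (.node (.node (.leaf 0x27898b10c) (.leaf 0xa0427014)) (.node (.leaf 0x229ac900a) (.leaf 0xec47901a))))) (.node (.node (.node (.node (.leaf 0x3d1ceb014) (.leaf 0x3e62b086)) (.node (.leaf 0xd987fb042) (.leaf 0x2e925b002))) (.node (.node (.leaf 0x2af827000) (.leaf 0x520879024)) (.node (.leaf 0x146469000) (.leaf 0x126f7700e)))) (.node (.node (.node (.leaf 0x909e3b056) (.leaf 0x355a29030)) (.node (.leaf 0x28bd9024) (.leaf 0xbb39b144))) (.node (.node (.leaf 0x39e1c700a) (.leaf 0xd702900e)) (.node (.leaf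 0x78edb044) (.leaf 0x860b8b08a))))))) (.node (.node (.node (.node (.node (.node (.leaf 0xb2c79046) (.leaf 0xf1bfb00c)) (.node (.leaf 0xff33000) (.leaf 0x8566a7014))) (.node (.node (.leaf 0x28c689042) (.leaf 0x3711f9010)) (.node (.leaf 0x5d3b08a) (.leaf 0x1188b7034)))) (.node (.node (.node (.leaf 0x22ac6700a) (.leaf 0x3ff4b184)) (.node (.leaf 0x14c1eb002) (.leaf 0x1a355b0cc))) (.node (.node (.leaf 0x965799030) (.leaf 0xa1b19006)) (.node (.leaf 0x2a537042) (.leaf 0x8217b062))))) (.node (.node (.node (.node (.leaf 0x24f0fb1fe) (.leaf 0x432db036)) (.node (.leaf 0x1ad05b0cc) (.leaf 0x8f7019024))) (.node (.node (.leaf 0xe3327024) (.leaf 0x10e99000)) (.node (.leaf 0x48c4c9010) (.leaf 0x6896700a)))) (.node (.node (.node (.leaf 0x3cf11b10c) (.leaf 0x11abd900c)) (.node (.leaf 0x8b5cb086) (.leaf 0x2f97fb00a))) (.node (.node (.leaf 0x5c41e901c) (.leaf 0x1164f9004)) (.node (.leaf 0x13ec9046) (.leaf 0x234b7014)))))) (.node (.node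 (.node (.node (.node (.leaf 0x472c4b08a) (.leaf 0x13fa6b0fc)) (.node (.leaf 0x8ad31b09c) (.leaf 0xc06c905c))) (.node (.node (.leaf 0xd5f20900c) (.leaf 0x3bc3004)) (.node (.leaf 0xccffb10c) (.leaf 0x58c3b0fc)))) (.node (.node (.node (.leaf 0x44aeb084) (.leaf 0x4b1c4b064)) (.node (.leaf 0x9a43b09a) (.leaf 0x195795004))) (.node (.node (.leaf 0x47646b05a) (.leaf 0x3b00f3004)) (.node (.leaf 0x1cc2700e) (.leaf 0x12d4c7000))))) (.node (.node (.node (.node (.leaf 0xa01129000) (.leaf 0x25c44905a)) (.node (.leaf 0xcf6699024) (.leaf 0x275a5b1fe))) (.node (.node (.leaf 0xca4609030) (.leaf 0x3a43ab050)) (.node (.leaf 0x3e9e07030) (.leaf 0xa71a7042)))) (.node (.node (.node (.leaf 0x125b47010) (.leaf 0x511de7024)) (.node (.leaf 0x15e447042) (.leaf 0x2b11c90c6))) (.node (.node (.leaf 0x14119010) (.leaf 0x4772a3002)) (.node (.leaf 0x23504b0ea) (.leaf 0x48a249000))))))))) (.node (.node (.node (.node (.node (.node (.node (.node (.leaf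 0xc1209044) (.leaf 0x21495901c)) (.node (.leaf 0x58ac9004) (.leaf 0xd8459036))) (.node (.node (.leaf 0x64d77042) (.leaf 0x5507d905c)) (.node (.leaf 0xcaaeb1fe) (.leaf 0x322a3b144)))) (.node (.node (.node (.leaf 0x868c8300e) (.leaf 0x31433b0c6)) (.node (.leaf 0x33200b01c) (.leaf 0x22ba99042))) (.node (.node (.leaf 0x383c49024) (.leaf 0x9041b000)) (.node (.leaf 0x86879016) (.leaf 0x206e9b0a6))))) (.node (.node (.node (.node (.leaf 0x2ff2700a) (.leaf 0x30f83b14e)) (.node (.leaf 0x24ad9905c) (.leaf 0x3f7c9004))) (.node (.node (.leaf 0x11a6490c6) (.leaf 0x229167006)) (.node (.leaf 0x43dd77030) (.leaf 0xe7cfb062)))) (.node (.node (.node (.leaf 0x480787026) (.leaf 0x448b05a)) (.node (.leaf 0x87f69082) (.leaf 0x17415b044))) (.node (.node (.leaf 0x6db3004) (.leaf 0x2bcef901c)) (.node (.leaf 0x3f56eb10c) (.leaf 0x54389b044)))))) (.node (.node (.node (.node (.node (.leaf 0x47442300e) (.leaf 0x58fcb9036)) (.node (.leaf 0x32ac7014)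 (.leaf 0x52540700a))) (.node (.node (.leaf 0x6f3c9006) (.leaf 0x102b8b044)) (.node (.leaf 0x2b03b7034) (.leaf 0xeb00b086)))) (.node (.node (.node (.leaf 0xa1bb700a) (.leaf 0x50371b000)) (.node (.leaf 0xbf9bb06a) (.leaf 0x2cf0900a))) (.node (.node (.leaf 0x6b9947020) (.leaf 0xf3f89026)) (.node (.leaf 0x805c7b14e) (.leaf 0x2acaa7010))))) (.node (.node (.node (.node (.leaf 0x2f9adb0cc) (.leaf 0x13fd7026)) (.node (.leaf 0x2beef9004) (.leaf 0x23e6b901a))) (.node (.node (.leaf 0x13b857034) (.leaf 0x212639014)) (.node (.leaf 0x5f882b002) (.leaf 0x97c7a7034)))) (.node (.node (.node (.leaf 0x566df9016) (.leaf 0x7043000)) (.node (.leaf 0x760ed7010) (.leaf 0x3b317b08a))) (.node (.node (.leaf 0x4adbb084) (.leaf 0x8ce77900e)) (.node (.leaf 0x252d5b08a) (.leaf 0x702fb905c))))))) (.node (.node (.node (.node (.node (.node (.leaf 0x3b752b08a) (.leaf 0x24abb9030)) (.node (.leaf 0xcc17b05c) (.leaf 0xdf7db10c))) (.node (.node (.leaf 0x42c909010)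 (.leaf 0x183b4b024)) (.node (.leaf 0xce5e9044) (.leaf 0x16d8db044)))) (.node (.node (.node (.leaf 0x6cf03b014) (.leaf 0x6f8f7014)) (.node (.leaf 0x60f189006) (.leaf 0xb8fdb014))) (.node (.node (.leaf 0x197395000) (.leaf 0x32133700e)) (.node (.leaf 0x60f5900c) (.leaf 0xa6a1900a))))) (.node (.node (.node (.node (.leaf 0x229f99024) (.leaf 0x2f9b0b0cc)) (.node (.leaf 0x2cf01b10c) (.leaf 0x52904901a))) (.node (.node (.leaf 0x2294f9004) (.leaf 0x26e58901a)) (.node (.leaf 0x5e9c8b0c6) (.leaf 0x2a4329010)))) (.node (.node (.node (.leaf 0x3403e7004) (.leaf 0x2be767006)) (.node (.leaf 0x48b977030) (.leaf 0x6f0dab14e))) (.node (.node (.leaf 0x14ca6b01c) (.leaf 0xeaa5b0fc)) (.node (.leaf 0x38f837006) (.leaf 0x1917fb090)))))) (.node (.node (.node (.node (.node (.leaf 0x1c8f0b114) (.leaf 0x22f4f901c)) (.node (.leaf 0x201fcb0a6) (.leaf 0x2e036b09a))) (.node (.node (.leaf 0x116c6700a) (.leaf 0x10b1619014)) (.node (.leaf 0x402a9b14e)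 (.leaf 0x3e03900a)))) (.node (.node (.node (.leaf 0x1332e9006) (.leaf 0x30793b14e)) (.node (.leaf 0x4ee7c9016) (.leaf 0x127287026))) (.node (.node (.leaf 0x5f5b900a) (.leaf 0x859a7024)) (.node (.leaf 0x71379901c) (.leaf 0x6f583b0c0))))) (.node (.node (.node (.node (.leaf 0x31bbcb0d6) (.leaf 0x2ca799036)) (.node (.leaf 0x7f45cb09a) (.leaf 0x3d0390c6))) (.node (.node (.leaf 0x201ecb0a6) (.leaf 0x585b90c6)) (.node (.leaf 0x9c02b042) (.leaf 0x521b05a)))) (.node (.node (.node (.leaf 0x24df8b1d6) (.leaf 0x3d78cb000)) (.node (.leaf 0x6e5f89010) (.leaf 0x2daf7700e))) (.node (.node (.leaf 0x73b6e7020) (.leaf 0x13de7030)) (.node (.leaf 0x212d99082) (.leaf 0x13b0f9042)))))))) (.node (.node (.node (.node (.node (.node (.node (.leaf 0x66299042) (.leaf 0x1f58cb064)) (.node (.leaf 0x3b11a3000) (.leaf 0xf76e5b0fc))) (.node (.node (.leaf 0xe753000) (.leaf 0x422cf700e)) (.node (.leaf 0x94fcb002) (.leaf 0x2be0704e)))) (.node (.node (.node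 (.leaf 0x3478d9016) (.leaf 0x137397014)) (.node (.leaf 0x1fbfbb114) (.leaf 0x44d4b036))) (.node (.node (.leaf 0x10b60b114) (.leaf 0xfe437030)) (.node (.leaf 0x1df32b0c6) (.leaf 0x56787034))))) (.node (.node (.node (.node (.leaf 0x8453db0d6) (.leaf 0x423b59046)) (.node (.leaf 0x355cc9044) (.leaf 0x64a73700a))) (.node (.node (.leaf 0x27ad5b056) (.leaf 0x396979024)) (.node (.leaf 0x17eddb114) (.leaf 0x1b3f6b2dc)))) (.node (.node (.node (.leaf 0x21cf7900c) (.leaf 0x5d7cdb06a)) (.node (.leaf 0xb977b000) (.leaf 0x15e63704e))) (.node (.node (.leaf 0x47bb3300a) (.leaf 0x6c467006)) (.node (.leaf 0x833cab084) (.leaf 0x4cf4ab0c6)))))) (.node (.node (.node (.node (.node (.leaf 0x666cdb2dc) (.leaf 0xba63004)) (.node (.leaf 0x9228d9024) (.leaf 0x56253904e))) (.node (.node (.leaf 0x143e9b09a) (.leaf 0x2469eb10c)) (.node (.leaf 0x228c77042) (.leaf 0x4e4c5901c)))) (.node (.node (.node (.leaf 0xe9c0b0ea) (.leaf 0x23f090c6)) (.node (.leaf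 0x1b0b05a) (.leaf 0x90fdab1d6))) (.node (.node (.leaf 0x3b8afb08a) (.leaf 0x9e25e7002)) (.node (.leaf 0x1a9cfb00a) (.leaf 0x1dd2cb024))))) (.node (.node (.node (.node (.leaf 0x2b43f7014) (.leaf 0x25767b05a)) (.node (.leaf 0xadb1704e) (.leaf 0x858f901a))) (.node (.node (.leaf 0x868c43006) (.leaf 0x44cb8b144)) (.node (.leaf 0x37287034) (.leaf 0x131e99004)))) (.node (.node (.node (.leaf 0x471f33006) (.leaf 0xbd0a7026)) (.node (.leaf 0x391159082) (.leaf 0x1a387b00a))) (.node (.node (.leaf 0x11964900a) (.leaf 0x5360db084)) (.node (.leaf 0x1a468b090) (.leaf 0x274ebb056))))))) (.node (.node (.node (.node (.node (.node (.leaf 0x37d29042) (.leaf 0x2b7677042)) (.node (.leaf 0x43ae07026) (.leaf 0x780049024))) (.node (.node (.leaf 0x28f35900a) (.leaf 0x32a587000)) (.node (.leaf 0x655f9004) (.leaf 0x265ae704e)))) (.node (.node (.node (.leaf 0x3ce46900e) (.leaf 0x85649014)) (.node (.leaf 0x321a07010) (.leaf 0xa49b05a))) (.node (.node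 (.leaf 0x294a2b084) (.leaf 0x63799024)) (.node (.leaf 0x199245014) (.leaf 0x3d971b002))))) (.node (.node (.node (.node (.leaf 0x5356bb036) (.leaf 0x9338e90c6)) (.node (.leaf 0x29111b036) (.leaf 0x605b7034))) (.node (.node (.leaf 0x3ba7ab08a) (.leaf 0x1303e900a)) (.node (.leaf 0x21c1c9016) (.leaf 0x4dfcb036)))) (.node (.node (.node (.leaf 0xdac74704e) (.leaf 0x6a51db024)) (.node (.leaf 0x13847020) (.leaf 0x39139006))) (.node (.node (.leaf 0x2cc39b05c) (.leaf 0x7181f900c)) (.node (.leaf 0x39e397042) (.leaf 0xe1e0b194)))))) (.node (.node (.node (.node (.node (.leaf 0x9b61f7030) (.leaf 0x603959042)) (.node (.leaf 0x27a929036) (.leaf 0x4ee1d7042))) (.node (.node (.leaf 0xa5a190c6) (.leaf 0x902c49036)) (.node (.leaf 0x25363905a) (.leaf 0x1adaab00a)))) (.node (.node (.node (.leaf 0x4ec699082) (.leaf 0xf7287026)) (.node (.leaf 0x192c05000) (.leaf 0x209ecb0cc))) (.node (.node (.leaf 0x58da9042) (.leaf 0xc53c9030)) (.node (.leaf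 0x1c378b044) (.leaf 0x649a1900a))))) (.node (.node (.node (.node (.leaf 0xda05b05c) (.leaf 0x28f47700a)) (.node (.leaf 0x11a74704e) (.leaf 0x22b9f7014))) (.node (.node (.leaf 0x1996fb090) (.leaf 0x5c4b9006)) (.node (.leaf 0x8fed4704e) (.leaf 0x52810904e)))) (.node (.node (.node (.leaf 0x774939016) (.leaf 0x4b23b084)) (.node (.leaf 0x172d9026) (.leaf 0x2b50c9006))) (.node (.node (.leaf 0x1aea2b00a) (.leaf 0x33c67b09a)) (.node (.leaf 0x44268700e) (.leaf 0x6b5f901c)))))))))) (.node (.node (.node (.node (.node (.node (.node (.node (.node (.leaf 0x19c5b7002) (.leaf 0x1460d700e)) (.node (.leaf 0x1429a9026) (.leaf 0x85d27014))) (.node (.node (.leaf 0x5d01700a) (.leaf 0x18857b0c6)) (.node (.leaf 0x13f44904e) (.leaf 0xf8c31b09a)))) (.node (.node (.node (.leaf 0x8602901c) (.leaf 0x53ee4b084)) (.node (.leaf 0x594f5b084) (.leaf 0xa59f901a))) (.node (.node (.leaf 0x18141b024) (.leaf 0x151d2b086)) (.node (.leaf 0x9c8cab14e) (.leaf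 0x70b3b114))))) (.node (.node (.node (.node (.leaf 0x7f948b00c) (.leaf 0x253e33000)) (.node (.leaf 0x1a4bf5004) (.leaf 0x3ea14b144))) (.node (.node (.leaf 0x15812b0ea) (.leaf 0x2f0c25042)) (.node (.leaf 0xb6c67010) (.leaf 0x2b037024)))) (.node (.node (.node (.leaf 0xc1a0b056) (.leaf 0x5611904e)) (.node (.leaf 0x9034ab05c) (.leaf 0x233b19006))) (.node (.node (.leaf 0xc8613b064) (.leaf 0xa2ab904e)) (.node (.leaf 0x57a727030) (.leaf 0x46eb0b14e)))))) (.node (.node (.node (.node (.node (.leaf 0x6019b0ea) (.leaf 0x203975002)) (.node (.leaf 0x273e0b1d6) (.leaf 0x395a690c6))) (.node (.node (.leaf 0x12fa2b042) (.leaf 0x873d7905a)) (.node (.leaf 0x3db08a) (.leaf 0x1938b7002)))) (.node (.node (.node (.leaf 0x1a7617002) (.leaf 0x2fa5f500e)) (.node (.leaf 0x64a9c7004) (.leaf 0x566937006))) (.node (.node (.leaf 0x1d3c9b024) (.leaf 0x1ad065010)) (.node (.leaf 0x589e0905c) (.leaf 0xf377b90c6))))) (.node (.node (.node (.node (.leaf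 0xcedeb056) (.leaf 0xe37b05a)) (.node (.leaf 0x47e30b05a) (.leaf 0x3f0dc9036))) (.node (.node (.leaf 0x111cb000) (.leaf 0x1a7535010)) (.node (.leaf 0x82fc9024) (.leaf 0x2d9cbb014)))) (.node (.node (.node (.leaf 0x34077900a) (.leaf 0x524adb184)) (.node (.leaf 0x12d9bb050) (.leaf 0x25b7c3004))) (.node (.node (.leaf 0xcc633b036) (.leaf 0x1e261b0c0)) (.node (.leaf 0x13f2e704e) (.leaf 0xd4ea9044))))))) (.node (.node (.node (.node (.node (.node (.leaf 0xf1b905a) (.leaf 0xa82c9014)) (.node (.leaf 0x2b1b2b062) (.leaf 0x4c2a7b0c6))) (.node (.node (.leaf 0x3c2d0905c) (.leaf 0x3513704e)) (.node (.leaf 0x65abcb050) (.leaf 0x47269b05a)))) (.node (.node (.node (.leaf 0x57b7d7026) (.leaf 0xd4209044)) (.node (.leaf 0x1ac3c9002) (.leaf 0x144ddb144))) (.node (.node (.leaf 0x3475901a) (.leaf 0xec6d90c6)) (.node (.leaf 0x3486c7014) (.leaf 0x9a0fb00c))))) (.node (.node (.node (.node (.leaf 0x2186901a) (.leaf 0x1073eb044)) (.node (.leaf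 0x55201b1fe) (.leaf 0x23e9e7014))) (.node (.node (.leaf 0x237b0900c) (.leaf 0x60c25b0ea)) (.node (.leaf 0x966905a) (.leaf 0x3556f9036)))) (.node (.node (.node (.leaf 0x328dfb09a) (.leaf 0x4a9cb09c)) (.node (.leaf 0x6bb4b0fc) (.leaf 0x1bca6b0c0))) (.node (.node (.leaf 0xca579036) (.leaf 0x29849b09c)) (.node (.leaf 0x882b05a) (.leaf 0x1646b050)))))) (.node (.node (.node (.node (.node (.leaf 0x28e2904e) (.leaf 0x253aeb08a)) (.node (.leaf 0xbc0e9010) (.leaf 0xa49845006))) (.node (.node (.leaf 0x52cccb062) (.leaf 0x1e5fb042)) (.node (.leaf 0x9ed7b144) (.leaf 0x39d617014)))) (.node (.node (.node (.leaf 0x87b46b05a) (.leaf 0x66240b0c0)) (.node (.leaf 0xf73905a) (.leaf 0xb43687010))) (.node (.node (.leaf 0x14c15b00c) (.leaf 0x6c8dd7020)) (.node (.leaf 0x11c129016) (.leaf 0x3ab659026))))) (.node (.node (.node (.node (.leaf 0x1f001b044) (.leaf 0x1ca43b064)) (.node (.leaf 0xae9c7004) (.leaf 0x86bb7006))) (.node (.node (.leaf 0x8031fb2dc)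 (.leaf 0xa5cb08a)) (.node (.leaf 0x84e99006) (.leaf 0x116d39082)))) (.node (.node (.node (.leaf 0xec6f5b056) (.leaf 0x733d69046)) (.node (.leaf 0x37e3ab06a) (.leaf 0x15204b184))) (.node (.node (.leaf 0x7ea8b064) (.leaf 0x1de905a)) (.node (.leaf 0x1ee21b2dc) (.leaf 0x214fa900a)))))))) (.node (.node (.node (.node (.node (.node (.node (.leaf 0x19a1b002) (.leaf 0xffa2b042)) (.node (.leaf 0x147a79046) (.leaf 0x2e1317026))) (.node (.node (.leaf 0x2ba84b0fc) (.leaf 0x3d57c9046)) (.node (.leaf 0x87c99b08a) (.leaf 0xa26ebb050)))) (.node (.node (.node (.leaf 0x202f65006) (.leaf 0x13148901a)) (.node (.leaf 0x4af4b09c) (.leaf 0x1a9ff5000))) (.node (.node (.leaf 0xa32cab2dc) (.leaf 0x24710b10c)) (.node (.leaf 0x3d8c19010) (.leaf 0x31fb05a))))) (.node (.node (.node (.node (.leaf 0x2b327b184) (.leaf 0x4ed8e9006)) (.node (.leaf 0x8c48900c) (.leaf 0x8f8b2901a))) (.node (.node (.leaf 0x954c9010) (.leaf 0x286a09014)) (.node (.leaf 0x1a7d47002)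 (.leaf 0x11ab99014)))) (.node (.node (.node (.leaf 0x1348d4b05a) (.leaf 0x190fa7002)) (.node (.leaf 0x5d25901a) (.leaf 0x69560b044))) (.node (.node (.leaf 0x338349026) (.leaf 0x1a7d25000)) (.node (.leaf 0x35a4cb056) (.leaf 0x6ee4fb09a)))))) (.node (.node (.node (.node (.node (.leaf 0x232477006) (.leaf 0x32cf0b01c)) (.node (.leaf 0x25ef63000) (.leaf 0x1a21b5014))) (.node (.node (.leaf 0x2feea5002) (.leaf 0x28d57004)) (.node (.leaf 0x80029004) (.leaf 0x1268d3b0fc)))) (.node (.node (.node (.leaf 0x3d2799000) (.leaf 0x77ebe9004)) (.node (.leaf 0xba5097000) (.leaf 0x114097004))) (.node (.node (.leaf 0xa2a69082) (.leaf 0x69d9b086)) (.node (.leaf 0x20afe500a) (.leaf 0x1bcb6b0c0))))) (.node (.node (.node (.node (.leaf 0x797999030) (.leaf 0xd9cc9030)) (.node (.leaf 0x80ee7034) (.leaf 0x42a93b014))) (.node (.node (.leaf 0xa3d79016) (.leaf 0x2c1109030)) (.node (.leaf 0x2008f500e) (.leaf 0x20442500e)))) (.node (.node (.node (.leaf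 0x584b704e) (.leaf 0x6d12b062)) (.node (.leaf 0x2ead67030) (.leaf 0x356f6b056))) (.node (.node (.leaf 0x2a8cb9046) (.leaf 0x1a2447002)) (.node (.leaf 0xc55b08a) (.leaf 0x1932a7002))))))) (.node (.node (.node (.node (.node (.node (.leaf 0x626829010) (.leaf 0x6ca9c7026)) (.node (.leaf 0x8bca7042) (.leaf 0xae4a7024))) (.node (.node (.leaf 0xe63d704e) (.leaf 0x759c3b002)) (.node (.leaf 0x499a97042) (.leaf 0x22902b062)))) (.node (.node (.node (.leaf 0x2b3f9082) (.leaf 0x23f7a7034)) (.node (.leaf 0xb6af7020) (.leaf 0x2a651b00c))) (.node (.node (.leaf 0x860493000) (.leaf 0xc64a67026)) (.node (.leaf 0x42e6bb09a) (.leaf 0x315e9b0d6))))) (.node (.node (.node (.node (.leaf 0x3daf17000) (.leaf 0x3bed83006)) (.node (.leaf 0x3491700a) (.leaf 0x8b422b0c0))) (.node (.node (.leaf 0x6851b7042) (.leaf 0x3974d7034)) (.node (.leaf 0x238e49024) (.leaf 0x1792eb064)))) (.node (.node (.node (.leaf 0x890b7b10c) (.leaf 0x65b9b194)) (.node (.leaf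 0x3e684700e) (.leaf 0x18368b0d6))) (.node (.node (.leaf 0x4891fb050) (.leaf 0x190645006)) (.node (.leaf 0x3bfd13006) (.leaf 0x23d0e9004)))))) (.node (.node (.node (.node (.node (.leaf 0x6e4b08a) (.leaf 0x37df6b000)) (.node (.leaf 0x2a8d9b144) (.leaf 0x32c91b06a))) (.node (.node (.leaf 0x3f216b1d6) (.leaf 0x3ad3c7020)) (.node (.leaf 0x35bde900e) (.leaf 0x52ae7b086)))) (.node (.node (.node (.leaf 0x129ccb002) (.leaf 0x79a57b1fe)) (.node (.leaf 0x3381904e) (.leaf 0x75d907030))) (.node (.node (.leaf 0x3ab05a) (.leaf 0x4f790700e)) (.node (.leaf 0x99c47010) (.leaf 0x17157b044))))) (.node (.node (.node (.node (.leaf 0xbb96b01c) (.leaf 0x217ea9006)) (.node (.leaf 0x8233002) (.leaf 0x53d4eb036))) (.node (.node (.leaf 0x977c7000) (.leaf 0x196705042)) (.node (.leaf 0x33f457020) (.leaf 0x2fce9016)))) (.node (.node (.node (.leaf 0x155ebb0fc) (.leaf 0x8cac9042)) (.node (.leaf 0x1c3dab044) (.leaf 0x7367c700e))) (.node (.node (.leaf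 0x2a53002) (.leaf 0x334e47026)) (.node (.leaf 0x443bbb002) (.leaf 0x8285fb17a))))))))) (.node (.node (.node (.node (.node (.node (.node (.node (.leaf 0x3f827900e) (.leaf 0x30b47042)) (.node (.leaf 0x654bbb01c) (.leaf 0x39e79b184))) (.node (.node (.leaf 0x9423006) (.leaf 0x38443904e)) (.node (.leaf 0xf123b09a) (.leaf 0xb86db050)))) (.node (.node (.node (.leaf 0x8b563b0c0) (.leaf 0x5883006)) (.node (.leaf 0xcffa9b194) (.leaf 0x36ea7004))) (.node (.node (.leaf 0x66877024) (.leaf 0x2175db184)) (.node (.leaf 0x780a7901a) (.leaf 0xa674b194))))) (.node (.node (.node (.node (.leaf 0xd1fbb10c) (.leaf 0x221d6904e)) (.node (.leaf 0x2441db056) (.leaf 0x4c598b0d6))) (.node (.node (.leaf 0x20f875000) (.leaf 0x25189b05a)) (.node (.leaf 0x477f2b08a) (.leaf 0x3c9c49044)))) (.node (.node (.node (.leaf 0x3afa6b144) (.leaf 0x933f79014)) (.node (.leaf 0xd6dc905c) (.leaf 0x57f0c9046))) (.node (.node (.leaf 0xe1267034) (.leaf 0xac3659044))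 (.node (.leaf 0x2c600905c) (.leaf 0x265d57034)))))) (.node (.node (.node (.node (.node (.leaf 0x1b93eb14e) (.leaf 0xc02300a)) (.node (.leaf 0x528a9024) (.leaf 0x6b710b06a))) (.node (.node (.leaf 0x3b6a23002) (.leaf 0x1290bb014)) (.node (.leaf 0x2da5bb050) (.leaf 0x1635fb114)))) (.node (.node (.node (.leaf 0x207525000) (.leaf 0x2b06a901a)) (.node (.leaf 0x766bb044) (.leaf 0x3e456b06a))) (.node (.node (.leaf 0xeeba9004) (.leaf 0x3d57d9026)) (.node (.leaf 0x2c9300a) (.leaf 0xcd85b05c))))) (.node (.node (.node (.node (.leaf 0x9c637030) (.leaf 0x431edb06a)) (.node (.leaf 0x718fab0fc) (.leaf 0x36892b064))) (.node (.node (.leaf 0x227db194) (.leaf 0x31616b0c6)) (.node (.leaf 0x11781b086) (.leaf 0xafcf4b184)))) (.node (.node (.node (.leaf 0x245ffb056) (.leaf 0x80e9704e)) (.node (.leaf 0x1954fb0a6) (.leaf 0x151087034))) (.node (.node (.leaf 0x60c377024) (.leaf 0x236e190c6)) (.node (.leaf 0xec227042) (.leaf 0x5e609082))))))) (.node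 (.node (.node (.node (.node (.node (.leaf 0x110e1b194) (.leaf 0x33843b00c)) (.node (.leaf 0xea3d9006) (.leaf 0x45922b0c0))) (.node (.node (.leaf 0xecba901c) (.leaf 0x42585b000)) (.node (.leaf 0x190b39002) (.leaf 0x1789fb114)))) (.node (.node (.node (.leaf 0xd3969030) (.leaf 0xd1d1f7026)) (.node (.leaf 0x4eeefb194) (.leaf 0x308e900c))) (.node (.node (.leaf 0x5a247042) (.leaf 0x9dc87026)) (.node (.leaf 0x269ae9006) (.leaf 0x15e229042))))) (.node (.node (.node (.node (.leaf 0x78ddc9014) (.leaf 0xf665b06a)) (.node (.leaf 0x618b6b1fe) (.leaf 0x39829024))) (.node (.node (.leaf 0xf1075b114) (.leaf 0x51d56901c)) (.node (.leaf 0x26a8f9042) (.leaf 0x152639006)))) (.node (.node (.node (.leaf 0x257b63004) (.leaf 0xc84905a)) (.node (.leaf 0x18b78b0d6) (.leaf 0x9efb2b090))) (.node (.node (.leaf 0x47227b08a) (.leaf 0x13c847006)) (.node (.leaf 0x25430b05a) (.leaf 0x87f9900a)))))) (.node (.node (.node (.node (.node (.leaf 0x58a8bb05c)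 (.leaf 0x5de27004)) (.node (.leaf 0x1afb2502a) (.leaf 0xa047b062))) (.node (.node (.leaf 0x1dd6b014) (.leaf 0x35709082)) (.node (.leaf 0x760b3b042) (.leaf 0x3379bb144)))) (.node (.node (.node (.leaf 0x5d203700e) (.leaf 0xf8e4b01c)) (.node (.leaf 0x964bdb056) (.leaf 0x3712cb144))) (.node (.node (.leaf 0x31698b024) (.leaf 0x191239002)) (.node (.leaf 0x60439082) (.leaf 0x348a6b086))))) (.node (.node (.node (.node (.leaf 0x138777004) (.leaf 0x251dd3000)) (.node (.leaf 0x16148b064) (.leaf 0x1977eb0a6))) (.node (.node (.leaf 0x4e116b0fc) (.leaf 0x2bfa17004)) (.node (.leaf 0x2f1fc7002) (.leaf 0x8f521b0ea)))) (.node (.node (.node (.leaf 0xb9b69000) (.leaf 0xa614b086)) (.node (.leaf 0xf5aaeb06a) (.leaf 0x69829016))) (.node (.node (.leaf 0x14c11b014) (.leaf 0xae599b0c6)) (.node (.leaf 0x17c905a) (.leaf 0x354319036)))))))) (.node (.node (.node (.node (.node (.node (.node (.leaf 0xf90bb014) (.leaf 0x6be19014)) (.node (.leaf 0xa079b0fc)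 (.leaf 0xb53e7000))) (.node (.node (.leaf 0x3e1a9014) (.leaf 0x1885fb0c6)) (.node (.leaf 0x307cab2dc) (.leaf 0x1cc7db064)))) (.node (.node (.node (.leaf 0x133009016) (.leaf 0x22e139082)) (.node (.leaf 0x9a189026) (.leaf 0x20e509002))) (.node (.node (.leaf 0x2b8239082) (.leaf 0x3b59a905a)) (.node (.leaf 0x8ed3bb10c) (.leaf 0x34dbfb0fc))))) (.node (.node (.node (.node (.leaf 0x107fdb064) (.leaf 0x22d929016)) (.node (.leaf 0x1558c9004) (.leaf 0x2d362b042))) (.node (.node (.leaf 0xaf5ab184) (.leaf 0x9c997020)) (.node (.leaf 0x34006b194) (.leaf 0x3fa869036)))) (.node (.node (.node (.leaf 0x30417006) (.leaf 0x20ec75004)) (.node (.leaf 0x52d759004) (.leaf 0x2e362b00c))) (.node (.node (.leaf 0x266f99004) (.leaf 0x5a5e0b044)) (.node (.leaf 0x2f68b0fc) (.leaf 0xa436fb0a6)))))) (.node (.node (.node (.node (.node (.leaf 0x12123b09a) (.leaf 0x2e13b184)) (.node (.leaf 0x15f5c7014) (.leaf 0x1428bb06a))) (.node (.node (.leaf 0x13a5f9024)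 (.leaf 0x405acb14e)) (.node (.leaf 0x5b249b064) (.leaf 0x2c0a9b1d6)))) (.node (.node (.node (.leaf 0x18a91b024) (.leaf 0x1ac9b01c)) (.node (.leaf 0x1e7f9b14e) (.leaf 0x251e1b05a))) (.node (.node (.leaf 0x979c47004) (.leaf 0x26c297014)) (.node (.leaf 0x8cfffb1fe) (.leaf 0x7422b064))))) (.node (.node (.node (.node (.leaf 0x1be97b0c0) (.leaf 0x6094d9014)) (.node (.leaf 0x2efaab144) (.leaf 0x62732b002))) (.node (.node (.leaf 0x723300e) (.leaf 0x658ab7010)) (.node (.leaf 0x12b0b06a) (.leaf 0xa9b11b01c)))) (.node (.node (.node (.leaf 0x19d5fb0a6) (.leaf 0x7ce300e)) (.node (.leaf 0xc96db10c) (.leaf 0x284f8b194))) (.node (.node (.leaf 0x3ee12b000) (.leaf 0x5d2d9016)) (.node (.leaf 0x42cdb09c) (.leaf 0x132bb900c))))))) (.node (.node (.node (.node (.node (.node (.leaf 0x128e4b01c) (.leaf 0x3e3d9016)) (.node (.leaf 0x111fcb0fc) (.leaf 0x23cd7700a))) (.node (.node (.leaf 0x18beb09a) (.leaf 0x1ec31b0c0)) (.node (.leaf 0x2e57a700e)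 (.leaf 0x39448b062)))) (.node (.node (.node (.leaf 0x67ca901a) (.leaf 0x77241900a)) (.node (.leaf 0xccc59036) (.leaf 0x55129014))) (.node (.node (.leaf 0x2fbba5000) (.leaf 0xea01cb10c)) (.node (.leaf 0x245eb062) (.leaf 0x1457cb042))))) (.node (.node (.node (.node (.leaf 0x6f86904e) (.leaf 0x4ee5db184)) (.node (.leaf 0x2c8c7b10c) (.leaf 0x80f990c6))) (.node (.node (.leaf 0xc890b1fe) (.leaf 0x11dc7b184)) (.node (.leaf 0x2f5905a) (.leaf 0x29868b09c)))) (.node (.node (.node (.leaf 0x2d029b000) (.leaf 0x2ff075000)) (.node (.leaf 0x13c879014) (.leaf 0x1b76eb14e))) (.node (.node (.leaf 0x1a8565006) (.leaf 0xea4c900c)) (.node (.leaf 0x607139082) (.leaf 0x716d3b0ea)))))) (.node (.node (.node (.node (.node (.leaf 0x13e217042) (.leaf 0x4799fb08a)) (.node (.leaf 0x210dbb0ea) (.leaf 0x758ebb01c))) (.node (.node (.leaf 0x2a7bbb000) (.leaf 0x4f4b2b000)) (.node (.leaf 0xec309042) (.leaf 0x28658b0ea)))) (.node (.node (.node (.leaf 0xd595b1d6)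 (.leaf 0x5677d90c6)) (.node (.leaf 0x244d7900e) (.leaf 0x13b717024))) (.node (.node (.leaf 0x2fb097002) (.leaf 0x1b687b0c0)) (.node (.leaf 0x85149b0fc) (.leaf 0x4a5f9b09a))))) (.node (.node (.node (.node (.leaf 0x2e18d7010) (.leaf 0x6ee08b002)) (.node (.leaf 0x20db87002) (.leaf 0x43c37b09a))) (.node (.node (.leaf 0x12665b06a) (.leaf 0x3a576700e)) (.node (.leaf 0x86d1fb08a) (.leaf 0xed5aeb024)))) (.node (.node (.node (.leaf 0x5f747024) (.leaf 0x4275b09c)) (.node (.leaf 0x3d7c901c) (.leaf 0xd886905c))) (.node (.node (.leaf 0x56d17006) (.leaf 0xfdd905a)) (.node (.leaf 0x19f6eb0a6) (.leaf 0x2f7fb5014))))))))))) (.node (.node (.node (.node (.node (.node (.node (.node (.node (.node (.leaf 0x30ec2b14e) (.leaf 0x87859000)) (.node (.leaf 0x5c336b09a) (.leaf 0x2b037030))) (.node (.node (.leaf 0x20309026) (.leaf 0x47caa905a)) (.node (.leaf 0xf56487042) (.leaf 0x252733004)))) (.node (.node (.node (.leaf 0x18a09042) (.leaf 0x13b04b042))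 (.node (.leaf 0xf101900c) (.leaf 0xbec7900c))) (.node (.node (.leaf 0xbfb57024) (.leaf 0xa73857030)) (.node (.leaf 0x2aea6b0fc) (.leaf 0x4e229b00c))))) (.node (.node (.node (.node (.leaf 0x659ef90c6) (.leaf 0x171300a)) (.node (.leaf 0x5752d900a) (.leaf 0x59e11b09c))) (.node (.node (.leaf 0xe06eb00c) (.leaf 0x34633b01c)) (.node (.leaf 0x6f003b0c0) (.leaf 0x1fec900c)))) (.node (.node (.node (.leaf 0xc626f7004) (.leaf 0x8b7d9010)) (.node (.leaf 0x5666b000) (.leaf 0x7d6949042))) (.node (.node (.leaf 0x5154db01c) (.leaf 0x8f2eb144)) (.node (.leaf 0x74f300a) (.leaf 0x1d11c9002)))))) (.node (.node (.node (.node (.node (.leaf 0x60ec9026) (.leaf 0x118db700e)) (.node (.leaf 0x4fa7e7004) (.leaf 0x2dd857004))) (.node (.node (.leaf 0x7405b1d6) (.leaf 0x25758b05a)) (.node (.leaf 0x4743cb08a) (.leaf 0x4d7acb184)))) (.node (.node (.node (.leaf 0x9e2d7004) (.leaf 0x1466bb0ea)) (.node (.leaf 0x5bc7c9036) (.leaf 0x749fd901c))) (.node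 (.node (.leaf 0x259543000) (.leaf 0x2e05e9004)) (.node (.leaf 0x6a9687002) (.leaf 0xc76db044))))) (.node (.node (.node (.node (.leaf 0xe1e6b144) (.leaf 0x325b77014)) (.node (.leaf 0x1f05a900e) (.leaf 0x57c7d704e))) (.node (.node (.leaf 0x86b6b00c) (.leaf 0x12101900c)) (.node (.leaf 0x4313006) (.leaf 0x1ddcc9002)))) (.node (.node (.node (.leaf 0x334f7010) (.leaf 0x19690b0c6)) (.node (.leaf 0x165c0b056) (.leaf 0xde03006))) (.node (.node (.leaf 0xf4759042) (.leaf 0x102236905a)) (.node (.leaf 0x96dd9014) (.leaf 0x8f260b01c))))))) (.node (.node (.node (.node (.node (.node (.leaf 0x109c09036) (.leaf 0x1134bb144)) (.node (.leaf 0x7ff27b0fc) (.leaf 0x1d5817002))) (.node (.node (.leaf 0x6eb277014) (.leaf 0x944f9082)) (.node (.leaf 0x1df1f5004) (.leaf 0x3cc4b09a)))) (.node (.node (.node (.leaf 0xf59769014) (.leaf 0x5a819905c)) (.node (.leaf 0x222f7b09a) (.leaf 0x381017026))) (.node (.node (.leaf 0xfb227006) (.leaf 0x3ec905a))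 (.node (.leaf 0x42536b062) (.leaf 0x305cbb0c0))))) (.node (.node (.node (.node (.leaf 0x75b4f704e) (.leaf 0x5c3cb014)) (.node (.leaf 0x31e3b500e) (.leaf 0x1d46a5004))) (.node (.node (.leaf 0x1eaf1b2dc) (.leaf 0x7a22d905c)) (.node (.leaf 0x8392eb036) (.leaf 0x16f38900e)))) (.node (.node (.node (.leaf 0x7dcea901c) (.leaf 0x4f7c89082)) (.node (.leaf 0x26a7a9000) (.leaf 0x187edb0a6))) (.node (.node (.leaf 0x107d5b1fe) (.leaf 0x1204b7014)) (.node (.leaf 0x66877030) (.leaf 0x3d2da7034)))))) (.node (.node (.node (.node (.node (.leaf 0x6c59c9006) (.leaf 0x3d15e9004)) (.node (.leaf 0xf04b7014) (.leaf 0x316af5006))) (.node (.node (.leaf 0x1d7117002) (.leaf 0x214905a)) (.node (.leaf 0xa0387020) (.leaf 0x11393b00c)))) (.node (.node (.node (.leaf 0x2c9ccb064) (.leaf 0x1623f9036)) (.node (.leaf 0x34e67020) (.leaf 0x29d2cb084))) (.node (.node (.leaf 0x17e15b10c) (.leaf 0x8eb3bb044)) (.node (.leaf 0x111b09000) (.leaf 0x14d59b184)))))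 (.node (.node (.node (.node (.leaf 0x1351fb06a) (.leaf 0x2e1749042)) (.node (.leaf 0x372b3b0fc) (.leaf 0x4a74e9006))) (.node (.node (.leaf 0x1edf7006) (.leaf 0x114089010)) (.node (.leaf 0x2c31fb114) (.leaf 0x9a3e9016)))) (.node (.node (.node (.leaf 0x2abffb0ea) (.leaf 0x78b13b042)) (.node (.leaf 0x1ea79b14e) (.leaf 0x21595b050))) (.node (.node (.leaf 0x1f967014) (.leaf 0x3376cb0fc)) (.node (.leaf 0x5b2b1b1fe) (.leaf 0x80489046)))))))) (.node (.node (.node (.node (.node (.node (.node (.leaf 0xf284b9046) (.leaf 0x54ca4900e)) (.node (.leaf 0x12c289006) (.leaf 0x4d827b0fc))) (.node (.node (.leaf 0x2e0ce7014) (.leaf 0x498ab036)) (.node (.leaf 0x5b1d4b10c) (.leaf 0x804300e)))) (.node (.node (.node (.leaf 0x70469030) (.leaf 0x50d98704e)) (.node (.leaf 0x9e6300e) (.leaf 0x18fd9006))) (.node (.node (.leaf 0x36c0ab056) (.leaf 0x2ce17020)) (.node (.leaf 0x2ef70900c) (.leaf 0x43ff29016))))) (.node (.node (.node (.node (.leaf 0x17cbd9036)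 (.leaf 0x1c0759044)) (.node (.leaf 0x33112b062) (.leaf 0x182a0b0a6))) (.node (.node (.leaf 0xa777a9000) (.leaf 0x4d8ceb194)) (.node (.leaf 0x5acab06a) (.leaf 0x5dc1090c6)))) (.node (.node (.node (.leaf 0x26172b002) (.leaf 0x1302e7026)) (.node (.leaf 0x932229010) (.leaf 0x9c637024))) (.node (.node (.leaf 0x3ba26b05a) (.leaf 0x1d6b99002)) (.node (.leaf 0x254253000) (.leaf 0xed017000)))))) (.node (.node (.node (.node (.node (.leaf 0x24dc5b064) (.leaf 0xcce5b114)) (.node (.leaf 0x423dbb184) (.leaf 0x34a237010))) (.node (.node (.leaf 0x182bdb0cc) (.leaf 0x3bf5f905a)) (.node (.leaf 0x393b1b050) (.leaf 0x41a189036)))) (.node (.node (.node (.leaf 0x1b46901c) (.leaf 0x2afa5b184)) (.node (.leaf 0x1fbdb9036) (.leaf 0x162c0890c6))) (.node (.node (.leaf 0x18ff0b0a6) (.leaf 0x8745cb05a)) (.node (.leaf 0xfd259024) (.leaf 0x470923002))))) (.node (.node (.node (.node (.leaf 0x18fedb0cc) (.leaf 0x3b24a905a)) (.node (.leaf 0x1cabbb1fe)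 (.leaf 0xa5619026))) (.node (.node (.leaf 0x1de699002) (.leaf 0x8d1f7b042)) (.node (.leaf 0xbd6d901c) (.leaf 0x13679b014)))) (.node (.node (.node (.leaf 0x2ba63b00c) (.leaf 0x9e0c6b024)) (.node (.leaf 0x86a8a3000) (.leaf 0xfc9b901c))) (.node (.node (.leaf 0x5e8c77002) (.leaf 0xb3b37004)) (.node (.leaf 0x16f09024) (.leaf 0xfc289006))))))) (.node (.node (.node (.node (.node (.node (.leaf 0x574b7026) (.leaf 0x5fea0b062)) (.node (.leaf 0x60b74b01c) (.leaf 0x4c42ab00a))) (.node (.node (.leaf 0x5651b042) (.leaf 0xfe9b9004)) (.node (.leaf 0x1d8365014) (.leaf 0x786bb10c)))) (.node (.node (.node (.leaf 0x126a77034) (.leaf 0x61dd7020)) (.node (.leaf 0x4775bb05a) (.leaf 0xbdf49016))) (.node (.node (.leaf 0x19c97b0d6) (.leaf 0x1545eb000)) (.node (.leaf 0x51f3eb09a) (.leaf 0x70d905a))))) (.node (.node (.node (.node (.leaf 0xa6b17026) (.leaf 0x187f0b0cc)) (.node (.leaf 0xe436700e) (.leaf 0x1c772b05c))) (.node (.node (.leaf 0x6b0bb904e)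 (.leaf 0x15469004)) (.node (.leaf 0x1d1f47002) (.leaf 0x287a6b09a)))) (.node (.node (.node (.leaf 0x37b78b184) (.leaf 0x2bf6b700e)) (.node (.leaf 0xf7137042) (.leaf 0x745519082))) (.node (.node (.leaf 0x306d2b14e) (.leaf 0x322819042)) (.node (.leaf 0xa07679024) (.leaf 0x20d5ab0c6)))))) (.node (.node (.node (.node (.node (.leaf 0x840d7000) (.leaf 0x560bd9026)) (.node (.leaf 0x3d38e7014) (.leaf 0x51e34b06a))) (.node (.node (.leaf 0x760c905c) (.leaf 0x14927034)) (.node (.leaf 0x2ce07026) (.leaf 0x53e58b09c)))) (.node (.node (.node (.leaf 0x49a377020) (.leaf 0x16c9e900e)) (.node (.leaf 0x925905a) (.leaf 0x4a45e900a))) (.node (.node (.leaf 0x14f92b0fc) (.leaf 0x81b57010)) (.node (.leaf 0x1d8e7042) (.leaf 0x4f8c2900c))))) (.node (.node (.node (.node (.leaf 0x42439b0ea) (.leaf 0x4598b084)) (.node (.leaf 0xb5e57042) (.leaf 0x3cc79010))) (.node (.node (.leaf 0x179fdb05c) (.leaf 0x1dd5f5000)) (.node (.leaf 0x12e9b9004) (.leaf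 0x5e191500e)))) (.node (.node (.node (.leaf 0x104d6b1d6) (.leaf 0x1430bb194)) (.node (.leaf 0x477c5b08a) (.leaf 0x9a36901a))) (.node (.node (.leaf 0xae4a7030) (.leaf 0x1db647002)) (.node (.leaf 0xa647cb062) (.leaf 0x33731b194))))))))) (.node (.node (.node (.node (.node (.node (.node (.node (.leaf 0x20821b0d6) (.leaf 0xf0005904e)) (.node (.leaf 0xa4ae700e) (.leaf 0x2b2377030))) (.node (.node (.leaf 0x14b1d7034) (.leaf 0x8fe97026)) (.node (.leaf 0x17a1e900e) (.leaf 0x6c06a700a)))) (.node (.node (.node (.leaf 0x2c899046) (.leaf 0x10d25b056)) (.node (.leaf 0xa9457000) (.leaf 0x73f09044))) (.node (.node (.leaf 0x37d3b900a) (.leaf 0x4a828b062)) (.node (.leaf 0x39149b09a) (.leaf 0x5f09e90c6))))) (.node (.node (.node (.node (.leaf 0x6fcd2b0c0) (.leaf 0x12bf2700a)) (.node (.leaf 0xd6e5b114) (.leaf 0x2acad7014))) (.node (.node (.leaf 0x82607020) (.leaf 0x1840db090)) (.node (.leaf 0x5f79e900a) (.leaf 0xaacb7b09c)))) (.node (.node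 (.node (.leaf 0xa5109046) (.leaf 0x3eace9014)) (.node (.leaf 0x21166b01c) (.leaf 0xf03890c6))) (.node (.node (.leaf 0x1d40f500e) (.leaf 0x1df7a500e)) (.node (.leaf 0x119aec704e) (.leaf 0x27698b044)))))) (.node (.node (.node (.node (.node (.leaf 0xb9c8700a) (.leaf 0x9dc5b194)) (.node (.leaf 0x3df77000) (.leaf 0x1dc125042))) (.node (.node (.leaf 0x3e77b002) (.leaf 0x426979082)) (.node (.leaf 0x1203890c6) (.leaf 0x1a24cb024)))) (.node (.node (.node (.leaf 0x410c5900e) (.leaf 0xde7b05a)) (.node (.leaf 0x72278b114) (.leaf 0x86b2cb05a))) (.node (.node (.leaf 0x4735d905a) (.leaf 0x3ebe2900c)) (.node (.leaf 0xfbf2700a) (.leaf 0x1ced90c6))))) (.node (.node (.node (.node (.leaf 0x33cd97004) (.leaf 0x150f700a)) (.node (.leaf 0x4ce10b0cc) (.leaf 0x7d11190c6))) (.node (.node (.leaf 0x32b3e700a) (.leaf 0x4da1e9042)) (.node (.leaf 0x2477700e) (.leaf 0x91748b0c0)))) (.node (.node (.node (.leaf 0x76da67034) (.leaf 0x1a1cab0c6)) (.node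 (.leaf 0x7e648b036) (.leaf 0x34c4b7000))) (.node (.node (.leaf 0xedb08a) (.leaf 0x315907002)) (.node (.leaf 0x257c6b08a) (.leaf 0x37e3b90c6))))))) (.node (.node (.node (.node (.node (.node (.leaf 0x252653004) (.leaf 0x1400a9006)) (.node (.leaf 0x191c7b0d6) (.leaf 0x733a9044))) (.node (.node (.leaf 0xe3ad9026) (.leaf 0xaf3eb144)) (.node (.leaf 0x5a7cb9044) (.leaf 0x65509010)))) (.node (.node (.node (.leaf 0x612b05a) (.leaf 0x5e1bf9002)) (.node (.leaf 0x651aeb0ea) (.leaf 0x79f55b064))) (.node (.node (.leaf 0x310f75014) (.leaf 0x3f3f9000)) (.node (.leaf 0x84e905a) (.leaf 0x9d25b0ea))))) (.node (.node (.node (.node (.leaf 0x1c5dab10c) (.leaf 0x41aedb056)) (.node (.leaf 0x567f6700e) (.leaf 0x161b0b1fe))) (.node (.node (.leaf 0x217367010) (.leaf 0x3194e5000)) (.node (.leaf 0x43338b0fc) (.leaf 0xba3905a)))) (.node (.node (.node (.leaf 0x4fd59904e) (.leaf 0xbb942b2dc)) (.node (.leaf 0x145db9042) (.leaf 0x459b3b2dc))) (.node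 (.node (.leaf 0x379ec7034) (.leaf 0x30a0ab0c0)) (.node (.leaf 0x67fb39082) (.leaf 0x28417b042)))))) (.node (.node (.node (.node (.node (.leaf 0x7f53b05c) (.leaf 0x387cb050)) (.node (.leaf 0x3368a901a) (.leaf 0x2192db09a))) (.node (.node (.leaf 0x6018cb002) (.leaf 0x75e467004)) (.node (.leaf 0x44f947042) (.leaf 0x18b37b00a)))) (.node (.node (.node (.leaf 0x311235000) (.leaf 0x71f6fb000)) (.node (.leaf 0x368b3b1d6) (.leaf 0xbf6905a))) (.node (.node (.leaf 0xa73ca7010) (.leaf 0xcccb08a)) (.node (.leaf 0x20402b0c6) (.leaf 0xb2d8904e))))) (.node (.node (.node (.node (.leaf 0x102069036) (.leaf 0x8b399026)) (.node (.leaf 0x7cb905a) (.leaf 0x5e6a0b00a))) (.node (.node (.leaf 0x5b267b056) (.leaf 0x75e08901c)) (.node (.leaf 0x3235490c6) (.leaf 0x6ce89000)))) (.node (.node (.node (.leaf 0x33c46904e) (.leaf 0x34cfcb050)) (.node (.leaf 0x136bb9046) (.leaf 0x3ec8c9082))) (.node (.node (.leaf 0x69ce99030) (.leaf 0x4c610b0a6)) (.node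 (.leaf 0x2e86190c6) (.leaf 0x3183a5014)))))))) (.node (.node (.node (.node (.node (.node (.node (.leaf 0x275c9000) (.leaf 0x234deb014)) (.node (.leaf 0x521429000) (.leaf 0x22e49010))) (.node (.node (.leaf 0x1e3a1b2dc) (.leaf 0x209a0b024)) (.node (.leaf 0x64d05b002) (.leaf 0x5928700e)))) (.node (.node (.node (.leaf 0x54589b10c) (.leaf 0x5f9b9026)) (.node (.leaf 0x12828704e) (.leaf 0x9140b0fc))) (.node (.node (.leaf 0x859a7030) (.leaf 0x6c987010)) (.node (.leaf 0x15510b00c) (.leaf 0x13dddb00c))))) (.node (.node (.node (.node (.leaf 0x89f39b044) (.leaf 0x9610fb064)) (.node (.leaf 0x19fc8b0c6) (.leaf 0x141517014))) (.node (.node (.leaf 0x2e8c7700a) (.leaf 0x81b65b000)) (.node (.leaf 0x1c040b1d6) (.leaf 0x3e13e7004)))) (.node (.node (.node (.leaf 0x567aeb00c) (.leaf 0xf738900a)) (.node (.leaf 0x3cfb05a) (.leaf 0x2dc78b0fc))) (.node (.node (.leaf 0x40b0b084) (.leaf 0x2610a7010)) (.node (.leaf 0x401a1b0c0) (.leaf 0x5a03bb1fe))))))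 (.node (.node (.node (.node (.node (.leaf 0x32b44704e) (.leaf 0x477b4905a)) (.node (.leaf 0x145c19004) (.leaf 0x64f59046))) (.node (.node (.leaf 0x12738900a) (.leaf 0x85b08a)) (.node (.leaf 0x14fd704e) (.leaf 0xed4ebb090)))) (.node (.node (.node (.leaf 0x11e5589024) (.leaf 0x70d21b064)) (.node (.leaf 0x2d2d3b184) (.leaf 0x67607000))) (.node (.node (.leaf 0x1c807905c) (.leaf 0x13ed900a)) (.node (.leaf 0x383a57000) (.leaf 0x2f475b0d6))))) (.node (.node (.node (.node (.leaf 0xed3d7026) (.leaf 0x65b27b0fc)) (.node (.leaf 0x59d30b09c) (.leaf 0x38956700e))) (.node (.node (.leaf 0x6b0b700e) (.leaf 0x9573b184)) (.node (.leaf 0x688cc9026) (.leaf 0x173f0900e)))) (.node (.node (.node (.leaf 0x4430c901c) (.leaf 0xb60a704e)) (.node (.leaf 0x6c19c704e) (.leaf 0x27e10b114))) (.node (.node (.leaf 0x3bc1c905a) (.leaf 0x85dc17026)) (.node (.leaf 0x56626b144) (.leaf 0x956f3900a))))))) (.node (.node (.node (.node (.node (.node (.leaf 0x4d4a47014)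 (.leaf 0x2e63002)) (.node (.leaf 0x28f1eb050) (.leaf 0x257fb00c))) (.node (.node (.leaf 0x37f707014) (.leaf 0xb0052b184)) (.node (.leaf 0x22a4fb050) (.leaf 0x18a40b090)))) (.node (.node (.node (.leaf 0x62ba6b0fc) (.leaf 0x3b703300a)) (.node (.leaf 0x29947000) (.leaf 0x51e90b000))) (.node (.node (.leaf 0xae359010) (.leaf 0x24827b064)) (.node (.leaf 0xe753002) (.leaf 0x3ebb07042))))) (.node (.node (.node (.node (.leaf 0x5e6805002) (.leaf 0x67956904e)) (.node (.leaf 0x133d5700e) (.leaf 0x2d2deb062))) (.node (.node (.leaf 0x254333000) (.leaf 0x949d8b0a6)) (.node (.leaf 0x6da24b036) (.leaf 0x4f51d901a)))) (.node (.node (.node (.leaf 0x6b9bb144) (.leaf 0x5420b00c)) (.node (.leaf 0x111747026) (.leaf 0x17da6b056))) (.node (.node (.leaf 0x423119014) (.leaf 0x2c6c7b044)) (.node (.leaf 0x448847024) (.leaf 0x37ce09004)))))) (.node (.node (.node (.node (.node (.leaf 0x156b39026) (.leaf 0x1e8e1b0c0)) (.node (.leaf 0x15a58700e) (.leaf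 0xbefc901a))) (.node (.node (.leaf 0x3ee47030) (.leaf 0x310ff5010)) (.node (.leaf 0x9c18bb14e) (.leaf 0x43a2b036)))) (.node (.node (.node (.leaf 0x47e16300a) (.leaf 0x24e7b144)) (.node (.leaf 0x29baeb036) (.leaf 0x54eefb1d6))) (.node (.node (.leaf 0x420217004) (.leaf 0x5a9499030)) (.node (.leaf 0x369759036) (.leaf 0x3bcb93006))))) (.node (.node (.node (.node (.leaf 0x64a4ab050) (.leaf 0x5ab8b144)) (.node (.leaf 0xadcd9000) (.leaf 0x1415a900a))) (.node (.node (.leaf 0x24c9eb044) (.leaf 0x1aab05a)) (.node (.leaf 0x2a6c7010) (.leaf 0x4b721b05c)))) (.node (.node (.node (.leaf 0x335829016) (.leaf 0x25913b08a)) (.node (.leaf 0xb74b08a) (.leaf 0x13cfe9026))) (.node (.node (.leaf 0x2ef61900a) (.leaf 0x57cfa9004)) (.node (.leaf 0x447717006) (.leaf 0x255ec3004)))))))))) (.node (.node (.node (.node (.node (.node (.node (.node (.node (.leaf 0x16856b1fe) (.leaf 0x3bc8a3004)) (.node (.leaf 0x57480b0ea) (.leaf 0x4fca6b086))) (.node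 (.node (.leaf 0x25e3c300e) (.leaf 0xeb93b042)) (.node (.leaf 0xecd3004) (.leaf 0xd94f8b086)))) (.node (.node (.node (.leaf 0x41cc8b1d6) (.leaf 0xb964b062)) (.node (.leaf 0x604019046) (.leaf 0x135327000))) (.node (.node (.leaf 0x2d432700a) (.leaf 0x41f4b9030)) (.node (.leaf 0x26d7e9026) (.leaf 0x3329f9004))))) (.node (.node (.node (.node (.leaf 0x2363b09a) (.leaf 0x50e25b086)) (.node (.leaf 0x148c65b0fc) (.leaf 0x34c1b042))) (.node (.node (.leaf 0x183319002) (.leaf 0x203cfb0c6)) (.node (.leaf 0x427df7034) (.leaf 0x260bb014)))) (.node (.node (.node (.leaf 0x4f666b0ea) (.leaf 0x2a87e704e)) (.node (.leaf 0x1174db000) (.leaf 0xedbab050))) (.node (.node (.leaf 0x59349b036) (.leaf 0x15f9f9000)) (.node (.leaf 0x74bab056) (.leaf 0x9fe76b084)))))) (.node (.node (.node (.node (.node (.leaf 0x6b4dd90c6) (.leaf 0x5098ab062)) (.node (.leaf 0x1009b905c) (.leaf 0x31831b0a6))) (.node (.node (.leaf 0x494727026) (.leaf 0x44d0c9004)) (.node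 (.leaf 0x5f747030) (.leaf 0xfe437024)))) (.node (.node (.node (.leaf 0x1d51ab00a) (.leaf 0x4ce7b036)) (.node (.leaf 0x378e9901a) (.leaf 0x82bb08a))) (.node (.node (.leaf 0x8f7b89010) (.leaf 0x8ce3000)) (.node (.leaf 0x1a987004) (.leaf 0x6de7b09a))))) (.node (.node (.node (.node (.leaf 0x98778b086) (.leaf 0x1d512b00a)) (.node (.leaf 0x210f79046) (.leaf 0x12e437024))) (.node (.node (.leaf 0x31661b0a6) (.leaf 0x42643901c)) (.node (.leaf 0x7f70b056) (.leaf 0x4a3b89016)))) (.node (.node (.node (.leaf 0x34586b06a) (.leaf 0x5b8ecb1d6)) (.node (.leaf 0x1b289014) (.leaf 0x71d069010))) (.node (.node (.leaf 0x2b9f6b042) (.leaf 0x10310b1d6)) (.node (.leaf 0x188e19002) (.leaf 0x3e137026))))))) (.node (.node (.node (.node (.node (.node (.leaf 0x48b977024) (.leaf 0xa8032700e)) (.node (.leaf 0x31164b0a6) (.leaf 0x1a6a7b0c6))) (.node (.node (.leaf 0x7fa59904e) (.leaf 0x15ed7b002)) (.node (.leaf 0x18cbc7002) (.leaf 0x4c8835006)))) (.node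 (.node (.node (.leaf 0xeb0d0b0fc) (.leaf 0xaeadb01c)) (.node (.leaf 0x440d790c6) (.leaf 0x4bbefb05c))) (.node (.node (.leaf 0x620a97024) (.leaf 0x2ac8c901a)) (.node (.leaf 0x7e58900e) (.leaf 0x165e69044))))) (.node (.node (.node (.node (.leaf 0x74707b194) (.leaf 0x31b34b0cc)) (.node (.leaf 0x3e3e79006) (.leaf 0x4d6b08a))) (.node (.node (.leaf 0x152577000) (.leaf 0x1b0beb14e)) (.node (.leaf 0x1c0b9016) (.leaf 0x1453c904e)))) (.node (.node (.node (.leaf 0x85040b000) (.leaf 0x139ba9000)) (.node (.leaf 0x48aab09c) (.leaf 0x187075004))) (.node (.node (.leaf 0x21f99b00c) (.leaf 0x1607fb05c)) (.node (.leaf 0x12546901a) (.leaf 0x3028bb2dc)))))) (.node (.node (.node (.node (.node (.leaf 0x12ce2904e) (.leaf 0x45ef3b0c0)) (.node (.leaf 0x18d2c7002) (.leaf 0x334a19042))) (.node (.node (.leaf 0xf83a4700a) (.leaf 0x257a5905a)) (.node (.leaf 0x182765010) (.leaf 0x47f5c3000)))) (.node (.node (.node (.leaf 0x1d818b090) (.leaf 0x37195700a))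 (.node (.leaf 0xee3cb000) (.leaf 0x1aca9082))) (.node (.node (.leaf 0x3a58fb062) (.leaf 0x6dcfb014)) (.node (.leaf 0x31964b0cc) (.leaf 0x1732db1d6))))) (.node (.node (.node (.node (.leaf 0xfb0bbb06a) (.leaf 0x2e9229082)) (.node (.leaf 0x6a84cb090) (.leaf 0x2894a700e))) (.node (.node (.leaf 0x433b0900a) (.leaf 0x23e487020)) (.node (.leaf 0x26d15b144) (.leaf 0x5bfd3905c)))) (.node (.node (.node (.leaf 0x6234c7006) (.leaf 0x14c6c700a)) (.node (.leaf 0xfce2904e) (.leaf 0x863bb042))) (.node (.node (.leaf 0x283cb01c) (.leaf 0xdffbb044)) (.node (.leaf 0x79139036) (.leaf 0x5b746b10c)))))))) (.node (.node (.node (.node (.node (.node (.node (.leaf 0x83f8b000) (.leaf 0x22053b00c)) (.node (.leaf 0xf3fd9014) (.leaf 0x12d4d7004))) (.node (.node (.leaf 0xd9238b0ea) (.leaf 0x1da45b090)) (.node (.leaf 0x1b5eeb14e) (.leaf 0x8291fb17a)))) (.node (.node (.node (.leaf 0x36cbab1fe) (.leaf 0x2bf40b002)) (.node (.leaf 0x48d729016) (.leaf 0x6bbdd900a)))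 (.node (.node (.leaf 0x1c290b05c) (.leaf 0x733e3b0fc)) (.node (.leaf 0x26d7b9046) (.leaf 0x44f787034))))) (.node (.node (.node (.node (.leaf 0x9043bb064) (.leaf 0x3bfc8b05a)) (.node (.leaf 0x13de7024) (.leaf 0xb2fbb0ea))) (.node (.node (.leaf 0x62f3b900c) (.leaf 0x3bc9c3000)) (.node (.leaf 0x17b57b10c) (.leaf 0x4ab4b900c)))) (.node (.node (.node (.leaf 0x123fd9014) (.leaf 0xfd4d7004)) (.node (.leaf 0x8990eb064) (.leaf 0x815287010))) (.node (.node (.leaf 0x25d1f300a) (.leaf 0x1a950b0d6)) (.node (.leaf 0x565eab014) (.leaf 0x8233000)))))) (.node (.node (.node (.node (.node (.leaf 0x33af19024) (.leaf 0x7a09fb056)) (.node (.leaf 0x514a09046) (.leaf 0x38ecb014))) (.node (.node (.leaf 0x37fc5904e) (.leaf 0x87bdc300a)) (.node (.leaf 0x59532b084) (.leaf 0x226cbb144)))) (.node (.node (.node (.leaf 0x32522901a) (.leaf 0x307dbb2dc)) (.node (.leaf 0x5e779000) (.leaf 0x2183a9026))) (.node (.node (.leaf 0xacf4b06a) (.leaf 0x5f4f4700a))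 (.node (.leaf 0x626159082) (.leaf 0x653f67004))))) (.node (.node (.node (.node (.leaf 0x3ba9f3004) (.leaf 0x366d09044)) (.node (.leaf 0x541669044) (.leaf 0x131b2b002))) (.node (.node (.leaf 0xc277b114) (.leaf 0x28442b00c)) (.node (.leaf 0x19da6b0d6) (.leaf 0x22c3004)))) (.node (.node (.node (.leaf 0x157147030) (.leaf 0x23a219026)) (.node (.leaf 0x67c2d9024) (.leaf 0x1dc15b090))) (.node (.node (.leaf 0xa12ab09a) (.leaf 0x31031b0cc)) (.node (.leaf 0x603b08a) (.leaf 0x21d91700e))))))) (.node (.node (.node (.node (.node (.node (.leaf 0x2582c905a) (.leaf 0x1680c9030)) (.node (.leaf 0x9752700a) (.leaf 0xce657b064))) (.node (.node (.leaf 0x4381b084) (.leaf 0x52eb08a)) (.node (.leaf 0x57d22b184) (.leaf 0x4fabfb0fc)))) (.node (.node (.node (.leaf 0x7378ab0ea) (.leaf 0xc01ba9044)) (.node (.leaf 0x132e9b050) (.leaf 0x4acc97042))) (.node (.node (.leaf 0xc79ff900e) (.leaf 0xa902b014)) (.node (.leaf 0x10e61905c) (.leaf 0x181bb5014)))))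 (.node (.node (.node (.node (.leaf 0x181497002) (.leaf 0xe981b002)) (.node (.leaf 0x1e8b4b2dc) (.leaf 0x3d3389014))) (.node (.node (.leaf 0x47d023004) (.leaf 0x77d2900e)) (.node (.leaf 0x230b17026) (.leaf 0xf0842b0ea)))) (.node (.node (.node (.leaf 0x5f3fb002) (.leaf 0x2753ab044)) (.node (.leaf 0x3c3eb000) (.leaf 0x1243901a))) (.node (.node (.leaf 0x1cea2b1d6) (.leaf 0x71fceb01c)) (.node (.leaf 0xed0f67002) (.leaf 0x43cb090c6)))))) (.node (.node (.node (.node (.node (.leaf 0x280199010) (.leaf 0x96d890c6)) (.node (.leaf 0x28ea19000) (.leaf 0x1bf17b0c0))) (.node (.node (.leaf 0x485ed9014) (.leaf 0x4b1dc9044)) (.node (.leaf 0x1e1f904e) (.leaf 0x4d6dd901a)))) (.node (.node (.node (.leaf 0x64d26700e) (.leaf 0x2e297904e)) (.node (.leaf 0x25dd4905a) (.leaf 0x228a07000))) (.node (.node (.leaf 0xcb68b064) (.leaf 0x44d879006)) (.node (.leaf 0x14c0a704e) (.leaf 0x12cff9082))))) (.node (.node (.node (.node (.leaf 0x14090901a) (.leaf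 0x6dc8b01c)) (.node (.leaf 0x3746b704e) (.leaf 0x35f2eb064))) (.node (.node (.leaf 0x57bf7000) (.leaf 0x1042cab17a)) (.node (.leaf 0xd4f2b064) (.leaf 0xfcff9082)))) (.node (.node (.node (.leaf 0x2255b700e) (.leaf 0x44ff69042)) (.node (.leaf 0x180d97002) (.leaf 0x4214c9006))) (.node (.node (.leaf 0x3412cb014) (.leaf 0x181fa5000)) (.node (.leaf 0x13b717030) (.leaf 0xb11bb194))))))))) (.node (.node (.node (.node (.node (.node (.node (.node (.leaf 0x182825042) (.leaf 0x4b39b084)) (.node (.leaf 0xc349fb17a) (.leaf 0xbe1a90c6))) (.node (.node (.leaf 0x26f8bb000) (.leaf 0x2326a700e)) (.node (.leaf 0x665fb050) (.leaf 0x214b0b042)))) (.node (.node (.node (.leaf 0x43c2b09c) (.leaf 0x194f6b0d6)) (.node (.leaf 0x17d269044) (.leaf 0x5e54b09a))) (.node (.node (.leaf 0x8a94db084) (.leaf 0x1dcf8b0a6)) (.node (.leaf 0x54ac8905c) (.leaf 0x2d2ed9024))))) (.node (.node (.node (.node (.leaf 0x2dcbd9042) (.leaf 0x16d829030)) (.node (.leaf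 0x1a140b0d6) (.leaf 0x2f217b0c6))) (.node (.node (.leaf 0x239657000) (.leaf 0x2e5f3b062)) (.node (.leaf 0x2df5b901c) (.leaf 0x9bbb9004)))) (.node (.node (.node (.leaf 0x2529fb05a) (.leaf 0x50bdb9082)) (.node (.leaf 0x2a23d901c) (.leaf 0x11a61b06a))) (.node (.node (.leaf 0x2a9a77004) (.leaf 0x95337042)) (.node (.leaf 0x57a93904e) (.leaf 0x23bb09046)))))) (.node (.node (.node (.node (.node (.leaf 0x32611b194) (.leaf 0x3acf27024)) (.node (.leaf 0x43ec77042) (.leaf 0x9321b9046))) (.node (.node (.leaf 0x5005a9016) (.leaf 0x7fe869014)) (.node (.leaf 0x6f1b05a) (.leaf 0x9d888b0cc)))) (.node (.node (.node (.leaf 0x777cd9000) (.leaf 0x8ebcb06a)) (.node (.leaf 0x18f265006) (.leaf 0x6a05b000))) (.node (.node (.leaf 0x12f53b184) (.leaf 0x445fdb062)) (.node (.leaf 0x42d4c704e) (.leaf 0x45fb2b0c0))))) (.node (.node (.node (.node (.leaf 0x78f9d7010) (.leaf 0x5fd309016)) (.node (.leaf 0x185e2500e) (.leaf 0x18c17500e))) (.node (.node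 (.leaf 0xff53b184) (.leaf 0x87948b08a)) (.node (.leaf 0x4cf465010) (.leaf 0xb846a9042)))) (.node (.node (.node (.leaf 0x4d2b67004) (.leaf 0x6a379b0cc)) (.node (.leaf 0x14e439014) (.leaf 0x158867020))) (.node (.node (.leaf 0x2ba2b042) (.leaf 0x1330b194)) (.node (.leaf 0xbd1a900a) (.leaf 0x8423a5002))))))) (.node (.node (.node (.node (.node (.node (.leaf 0x12b6f9b002) (.leaf 0x23cbab144)) (.node (.leaf 0x12edeb062) (.leaf 0x9f059024))) (.node (.node (.leaf 0x2eba4b194) (.leaf 0xae9229002)) (.node (.leaf 0x348e9046) (.leaf 0x295bdb084)))) (.node (.node (.node (.leaf 0x343d8b144) (.leaf 0x3bbf43004)) (.node (.leaf 0x6b5da7042) (.leaf 0x26eae7026))) (.node (.node (.leaf 0x159af7010) (.leaf 0x25cc43002)) (.node (.leaf 0x60b3004) (.leaf 0xa1ebb042))))) (.node (.node (.node (.node (.leaf 0x73c3b1d6) (.leaf 0x20b34b0d6)) (.node (.leaf 0x11edfb014) (.leaf 0x2ace57042))) (.node (.node (.leaf 0x99bb901c) (.leaf 0x1f839b1d6)) (.node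 (.leaf 0x461f5b2dc) (.leaf 0x149c89016)))) (.node (.node (.node (.leaf 0xfedeb062) (.leaf 0x2a14b002)) (.node (.leaf 0x3717a9024) (.leaf 0x279b2b114))) (.node (.node (.leaf 0x4271c90c6) (.leaf 0x4928f9046)) (.node (.leaf 0x5d0059014) (.leaf 0x50bcd9014)))))) (.node (.node (.node (.node (.node (.leaf 0x68189b06a) (.leaf 0x61631b114)) (.node (.leaf 0x2839c7020) (.leaf 0x5d8b05a))) (.node (.node (.leaf 0x1695c905c) (.leaf 0x64e0b002)) (.node (.leaf 0x52c01b144) (.leaf 0x9943000)))) (.node (.node (.node (.leaf 0x13c029010) (.leaf 0xf485b086)) (.node (.leaf 0x37686900c) (.leaf 0x326bab062))) (.node (.node (.leaf 0x334f4900a) (.leaf 0xbcf97034)) (.node (.leaf 0x56077010) (.leaf 0x34b10b00c))))) (.node (.node (.node (.node (.leaf 0x5e6815004) (.leaf 0x31676b00a)) (.node (.leaf 0x6c7c9b194) (.leaf 0x1c033900e))) (.node (.node (.leaf 0x1a90b0ea) (.leaf 0x6aa2cb0a6)) (.node (.leaf 0x75b8eb086) (.leaf 0xe379b01c)))) (.node (.node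 (.node (.leaf 0x87aca905a) (.leaf 0x37f827004)) (.node (.leaf 0x25cfab05a) (.leaf 0x14bc1901c))) (.node (.node (.leaf 0x32831b086) (.leaf 0x4f5d69042)) (.node (.leaf 0x59eb7b084) (.leaf 0x12485b086)))))))) (.node (.node (.node (.node (.node (.node (.node (.leaf 0x642927030) (.leaf 0x62f9c700a)) (.node (.leaf 0x370a49082) (.leaf 0x386eab050))) (.node (.node (.leaf 0x222977030) (.leaf 0x31f5bb00a)) (.node (.leaf 0x66548b14e) (.leaf 0x93c4e9026)))) (.node (.node (.node (.leaf 0x229bb050) (.leaf 0x4cb565014)) (.node (.leaf 0xa2a0b000) (.leaf 0xef6ab014))) (.node (.node (.leaf 0x30e8b144) (.leaf 0xb58b9042)) (.node (.leaf 0x5ae489036) (.leaf 0x41a6d9044))))) (.node (.node (.node (.node (.leaf 0x80fbeb2dc) (.leaf 0x4cadb5014)) (.node (.leaf 0x39821b014) (.leaf 0xcaffb044))) (.node (.node (.leaf 0x6931db1fe) (.leaf 0x1235b0fc)) (.node (.leaf 0x349429046) (.leaf 0x2c699b114)))) (.node (.node (.node (.leaf 0xd99b05a) (.leaf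 0x2a05f9024)) (.node (.leaf 0x7cf53b09c) (.leaf 0x173bfb05c))) (.node (.node (.leaf 0x1ed6cb14e) (.leaf 0x10aa59044)) (.node (.leaf 0x8efab09a) (.leaf 0x43a867006)))))) (.node (.node (.node (.node (.node (.leaf 0x167d2905c) (.leaf 0x2abf57024)) (.node (.leaf 0x3a6309014) (.leaf 0x178d49030))) (.node (.node (.leaf 0x940147002) (.leaf 0x1eceb184)) (.node (.leaf 0x14d197042) (.leaf 0x7f1b67004)))) (.node (.node (.node (.leaf 0x165b5b1d6) (.leaf 0x3330b00c)) (.node (.leaf 0xa94109014) (.leaf 0x1b7cfb14e))) (.node (.node (.leaf 0x4f0a47014) (.leaf 0x1daa5b0cc)) (.node (.leaf 0x155279010) (.leaf 0xfce5b194))))) (.node (.node (.node (.node (.leaf 0xad92b050) (.leaf 0x966b7014)) (.node (.leaf 0x75880b184) (.leaf 0xa9f207004))) (.node (.node (.leaf 0x11fb7b09a) (.leaf 0x1cff5b056)) (.node (.leaf 0x136ca7010) (.leaf 0x12ce5b194)))) (.node (.node (.node (.leaf 0x14a737004) (.leaf 0x2dcf09006)) (.node (.leaf 0x738b07014) (.leaf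 0x2a6979014))) (.node (.node (.leaf 0x72edb10c) (.leaf 0x5e8f9010)) (.node (.leaf 0x221bc7026) (.leaf 0x47cb7b08a))))))) (.node (.node (.node (.node (.node (.node (.leaf 0x576d87004) (.leaf 0xfe45b0ea)) (.node (.leaf 0x1d4f8b0cc) (.leaf 0x161199b056))) (.node (.node (.leaf 0x317d4b090) (.leaf 0x38b25b002)) (.node (.leaf 0x143a7900c) (.leaf 0x39c39026)))) (.node (.node (.node (.leaf 0x60c6b042) (.leaf 0x3878700e)) (.node (.leaf 0x22a6c9026) (.leaf 0x6d32db09c))) (.node (.node (.leaf 0x2535e905a) (.leaf 0x1a4efb0c6)) (.node (.leaf 0x4f63790c6) (.leaf 0x11d4e6b050))))) (.node (.node (.node (.node (.leaf 0x49ead700e) (.leaf 0x1050b086)) (.node (.leaf 0x5d9af7024) (.leaf 0x3b6a23000))) (.node (.node (.leaf 0x1d5a8b0cc) (.leaf 0x257b3905a)) (.node (.leaf 0x3655bb10c) (.leaf 0x4f537900a)))) (.node (.node (.node (.leaf 0x2a53000) (.leaf 0xd523b114)) (.node (.leaf 0x12e45b0ea) (.leaf 0x570a89014))) (.node (.node (.leaf 0x214ea7026)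 (.leaf 0x146cb9024)) (.node (.leaf 0x7d80b1fe) (.leaf 0x20b05a)))))) (.node (.node (.node (.node (.node (.leaf 0xaedd95002) (.leaf 0x149bb062)) (.node (.leaf 0x232fd9000) (.leaf 0x405fb036))) (.node (.node (.leaf 0x6b4d27014) (.leaf 0x72d59036)) (.node (.leaf 0x439e9900c) (.leaf 0x2a4119082)))) (.node (.node (.node (.leaf 0x2bf17b09a) (.leaf 0x1051f9044)) (.node (.leaf 0x3041ab2dc) (.leaf 0x5857b01c))) (.node (.node (.leaf 0x78c159010) (.leaf 0x17b96b1fe)) (.node (.leaf 0x903aab114) (.leaf 0xbf6d9004))))) (.node (.node (.node (.node (.leaf 0x146559082) (.leaf 0x98e3004)) (.node (.leaf 0x65cc1904e) (.leaf 0x982909014))) (.node (.node (.leaf 0x3b7653004) (.leaf 0x1fc60905c)) (.node (.leaf 0xb2bd7014) (.leaf 0xa5c5b002)))) (.node (.node (.node (.leaf 0x2e686b184) (.leaf 0x1d2a5b0a6)) (.node (.leaf 0x19032b024) (.leaf 0x619a9b044))) (.node (.node (.leaf 0x91cc5b2dc) (.leaf 0x1e6a4b0c0)) (.node (.leaf 0x32ef1b0ea) (.leaf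 0x1b636b0c0))))))))))))

theorem cert8_0 : chunkB 8 cert8 0 = true := by decide +kernel

theorem cert8_1 : chunkB 8 cert8 1 = true := by decide +kernel

theorem cert8_2 : chunkB 8 cert8 2 = true := by decide +kernel

theorem cert8_3 : chunkB 8 cert8 3 = true := by decide +kernel

theorem cert8_4 : chunkB 8 cert8 4 = true := by decide +kernel

theorem cert8_5 : chunkB 8 cert8 5 = true := by decide +kernel

theorem cert8_6 : chunkB 8 cert8 6 = true := by decide +kernel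

theorem cert8_7 : chunkB 8 cert8 7 = true := by decide +kernel

theorem cert8_ok : ∀ k < 2048, itemB 8 cert8 k = true :=
  of_chunks cert8_0 cert8_1 cert8_2 cert8_3 cert8_4 cert8_5 cert8_6 cert8_7

end Cfsg.Agent.F4Square.Two
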