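import Cfsg.Agent.F4Square.Two.Setup

/-!
Certificates for the coset of the Weyl element number 9.
-/

set_option autoImplicit false
set_option maxRecDepth 100000
set_option maxHeartbeats 0
set_option Elab.async false

namespace Cfsg.Agent.F4Square.Two

/-- The certificates. -/
noncomputable def cert9 : Tree :=
  (.node (.node (.node (.node (.node (.node (.node (.node (.node (.node (.node (.leaf 0x4b013004) (.leaf 0x729ab144)) (.node (.leaf 0xc0ba9024) (.leaf 0x6ac29000))) (.node (.node (.leaf 0xdbcbc9002) (.leaf 0x5428b1fe)) (.node (.leaf 0x1163c85010) (.leaf 0x1a775b090)))) (.node (.node (.node (.leaf 0x6cd1b050) (.leaf 0x10b657020)) (.node (.leaf 0x2aa41900c) (.leaf 0x2419c700a))) (.node (.node (.leaf 0x39fdb05c) (.leaf 0x4d6849014)) (.node (.leaf 0x302a45000) (.leaf 0x56fbe9046))))) (.node (.node (.node (.node (.leaf 0x2728eb0fc) (.leaf 0x2fc30b0cc)) (.node (.leaf 0x1f449b01c) (.leaf 0x2d467000))) (.node (.node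 (.leaf 0x5ff437034) (.leaf 0x395599030)) (.node (.leaf 0xa58cab090) (.leaf 0x10a347026)))) (.node (.node (.node (.leaf 0x1cf447026) (.leaf 0xccf6900c)) (.node (.leaf 0x9592c900c) (.leaf 0x783677000))) (.node (.node (.leaf 0x1e74db024) (.leaf 0x2d7ecb114)) (.node (.leaf 0x2c529b062) (.leaf 0x49077b056)))))) (.node (.node (.node (.node (.node (.leaf 0x38a377000) (.leaf 0xce459016)) (.node (.leaf 0x9308ab1d6) (.leaf 0x30972b090))) (.node (.node (.leaf 0x3e7767042) (.leaf 0x798e19004)) (.node (.leaf 0x122a7f9014) (.leaf 0x4c963000)))) (.node (.node (.node (.leaf 0x6c78eb044) (.leaf 0x2155b050)) (.node (.leaf 0xd927900a) (.leaf 0x11eab7020))) (.node (.node (.leaf 0xb266b062) (.leaf 0x773d9010)) (.node (.leaf 0x74b377024) (.leaf 0x439eb08a))))) (.node (.node (.node (.node (.leaf 0x41a38b01c) (.leaf 0x364b59000)) (.node (.leaf 0x24fcc904e) (.leaf 0x17c819026))) (.node (.node (.leaf 0x141fc900a) (.leaf 0x6fcbbb090)) (.node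 (.leaf 0x34353b05c) (.leaf 0x4b4f3b042)))) (.node (.node (.node (.leaf 0x39632b05c) (.leaf 0xea4eb000)) (.node (.leaf 0x365e2b00c) (.leaf 0x77159000))) (.node (.node (.leaf 0x13568b10c) (.leaf 0xda2790c6)) (.node (.leaf 0x92ffb064) (.leaf 0x181b5b2dc))))))) (.node (.node (.node (.node (.node (.node (.leaf 0x177b27030) (.leaf 0x6b8ab002)) (.node (.leaf 0x164b27030) (.leaf 0x3f5b7900c))) (.node (.node (.leaf 0x8aab7026) (.leaf 0x312e4b14e)) (.node (.leaf 0x326fb1d6) (.leaf 0x3846cb050)))) (.node (.node (.node (.leaf 0x20927b00a) (.leaf 0x1dfadb0c0)) (.node (.leaf 0x1c7949026) (.leaf 0x4dc83901a))) (.node (.node (.leaf 0x3cbd9036) (.leaf 0x74dda901a)) (.node (.leaf 0x34e4ab1fe) (.leaf 0xc2629014))))) (.node (.node (.node (.node (.leaf 0x100a49026) (.leaf 0x3e4d09024)) (.node (.leaf 0x623419014) (.leaf 0x58c9f90c6))) (.node (.node (.leaf 0xebedb042) (.leaf 0xf75fdb042)) (.node (.leaf 0x2c0b0b184) (.leaf 0x4b594b000))))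 (.node (.node (.node (.leaf 0xb3c0b0fc) (.leaf 0x11432b01c)) (.node (.leaf 0x549817010) (.leaf 0x298843004))) (.node (.node (.leaf 0x4df6f904e) (.leaf 0xa37185000)) (.node (.leaf 0xd5b49004) (.leaf 0x17c517026)))))) (.node (.node (.node (.node (.node (.leaf 0x600a7000) (.leaf 0x5ac07b09a)) (.node (.leaf 0x79889046) (.leaf 0x69b5ab042))) (.node (.node (.leaf 0x5345b10c) (.leaf 0x1b4c4500e)) (.node (.leaf 0x20cd7030) (.leaf 0x86c4b014)))) (.node (.node (.node (.leaf 0x25d49b09c) (.leaf 0x9d56b044)) (.node (.leaf 0x6d0b036) (.leaf 0xd0e897014))) (.node (.node (.leaf 0x2a4b77014) (.leaf 0x35d55700a)) (.node (.leaf 0xd9247014) (.leaf 0x736129004))))) (.node (.node (.node (.node (.leaf 0x5ca4a7020) (.leaf 0x5565d7024)) (.node (.leaf 0x406bb08a) (.leaf 0x290b73000))) (.node (.node (.leaf 0x4bbb9b002) (.leaf 0x529bb9044)) (.node (.leaf 0xabf7b01c) (.leaf 0x13ed5b1fe)))) (.node (.node (.node (.leaf 0xed074b0c6) (.leaf 0x774a700e))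 (.node (.leaf 0xcf1c7042) (.leaf 0x15222905c))) (.node (.node (.leaf 0x28b939000) (.leaf 0xc64c7024)) (.node (.leaf 0x3ef5d9006) (.leaf 0x3f6fb9024)))))))) (.node (.node (.node (.node (.node (.node (.node (.leaf 0x53ad9036) (.leaf 0x46ea5b0d6)) (.node (.leaf 0x30ef15014) (.leaf 0x2a0d89006))) (.node (.node (.leaf 0xc23157024) (.leaf 0x2aa059024)) (.node (.leaf 0xbc9bab114) (.leaf 0x25121b09c)))) (.node (.node (.node (.leaf 0x2bb2ab002) (.leaf 0xe68b036)) (.node (.leaf 0x4ae89b0ea) (.leaf 0xc2d89082))) (.node (.node (.leaf 0x8fadab01c) (.leaf 0x451905042)) (.node (.leaf 0x3bf0ab084) (.leaf 0x5f4477014))))) (.node (.node (.node (.node (.leaf 0x3cffa9042) (.leaf 0x142fc90c6)) (.node (.leaf 0x9cd055006) (.leaf 0x1ba2b7002))) (.node (.node (.leaf 0x3e15b10c) (.leaf 0x4b733000)) (.node (.leaf 0xc1a9a9014) (.leaf 0x1a0f2b00a)))) (.node (.node (.node (.leaf 0x28590b050) (.leaf 0x8a3313006)) (.node (.leaf 0x117aa9010) (.leaf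 0x205f2b00a))) (.node (.node (.leaf 0x86aab06a) (.leaf 0x35005904e)) (.node (.leaf 0x3fe5d7042) (.leaf 0xc29739014)))))) (.node (.node (.node (.node (.node (.leaf 0x2050cb090) (.leaf 0x3b431b036)) (.node (.leaf 0x654cbb062) (.leaf 0x73412901c))) (.node (.node (.leaf 0x2110cb1d6) (.leaf 0x13f1edb050)) (.node (.leaf 0xb2b767000) (.leaf 0xa0a4b09a)))) (.node (.node (.node (.leaf 0x60097030) (.leaf 0xc2eeb9024)) (.node (.leaf 0xc494901c) (.leaf 0x13fc0b05c))) (.node (.node (.leaf 0xee82b06a) (.leaf 0x4fe9990c6)) (.node (.leaf 0x3cdfb9006) (.leaf 0x5327b1d6))))) (.node (.node (.node (.node (.leaf 0x46183004) (.leaf 0x815869000)) (.node (.leaf 0x3483a9044) (.leaf 0x29392b08a))) (.node (.node (.leaf 0x19dd7b0c0) (.leaf 0x1b7bb7002)) (.node (.leaf 0x1097b7030) (.leaf 0x2051cb090)))) (.node (.node (.node (.leaf 0x1c8677030) (.leaf 0x44f6b08a)) (.node (.leaf 0xab9e7020) (.leaf 0x3a7e4b064))) (.node (.node (.leaf 0x37bab700a)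 (.leaf 0xdc779006)) (.node (.leaf 0x5e3b084) (.leaf 0x4b35ab050))))))) (.node (.node (.node (.node (.node (.node (.leaf 0x1bc515006) (.leaf 0x3cff89004)) (.node (.leaf 0x74c829016) (.leaf 0x226897030))) (.node (.node (.leaf 0x2ed12b064) (.leaf 0xae573b024)) (.node (.leaf 0x3fb239014) (.leaf 0x58bb084)))) (.node (.node (.node (.leaf 0x15b729030) (.leaf 0x8145e7000)) (.node (.leaf 0x4d80a9082) (.leaf 0x3978b1fe))) (.node (.node (.leaf 0x2c932b194) (.leaf 0xaaa77010)) (.node (.leaf 0x1b0285006) (.leaf 0x333b3b064))))) (.node (.node (.node (.node (.leaf 0x35ba3704e) (.leaf 0x6246f7024)) (.node (.leaf 0x96b90901a) (.leaf 0x238177026))) (.node (.node (.leaf 0x2e6dbb044) (.leaf 0x9dcd0b0c0)) (.node (.leaf 0x76e57010) (.leaf 0x1abb8b090)))) (.node (.node (.node (.leaf 0x5aedb05c) (.leaf 0x7b8d7000)) (.node (.leaf 0x1148127042) (.leaf 0x248e9000))) (.node (.node (.leaf 0x4f3a7700a) (.leaf 0x45ee67002)) (.node (.leaf 0x2a0d37034)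 (.leaf 0x559e39024)))))) (.node (.node (.node (.node (.node (.leaf 0x2a4279004) (.leaf 0x39cad9044)) (.node (.leaf 0xc0397006) (.leaf 0x7af2c7010))) (.node (.node (.leaf 0x27e07b086) (.leaf 0x29c9a3000)) (.node (.leaf 0x1bae45042) (.leaf 0x152cdb1d6)))) (.node (.node (.node (.leaf 0x48d3b08a) (.leaf 0x5c08b9010)) (.node (.leaf 0x1a2e8b090) (.leaf 0x2a5bf7042))) (.node (.node (.leaf 0x3642d7000) (.leaf 0x29c6b002)) (.node (.leaf 0x143ac704e) (.leaf 0x66a5db0d6))))) (.node (.node (.node (.node (.leaf 0x3bc89b036) (.leaf 0xe8c8b014)) (.node (.leaf 0x301b3b090) (.leaf 0x68777b000))) (.node (.node (.leaf 0xd5407034) (.leaf 0x29817b08a)) (.node (.leaf 0x60e22b01c) (.leaf 0x8be6c5042)))) (.node (.node (.node (.leaf 0x44a33b062) (.leaf 0x458767002)) (.node (.leaf 0x133eab1d6) (.leaf 0x16ad97026))) (.node (.node (.leaf 0x8c79b042) (.leaf 0x69d80b002)) (.node (.leaf 0x4e6ad905c) (.leaf 0x1d8edb2dc))))))))) (.node (.node (.node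 (.node (.node (.node (.node (.node (.leaf 0x3c50ab0ea) (.leaf 0x15d469044)) (.node (.leaf 0xd4bac7024) (.leaf 0x603fdb050))) (.node (.node (.leaf 0x20c7cb0cc) (.leaf 0x1aad5b0cc)) (.node (.leaf 0x2153d9030) (.leaf 0x3908b056)))) (.node (.node (.node (.leaf 0x4234b05a) (.leaf 0xcff9904e)) (.node (.leaf 0x5882eb194) (.leaf 0x528bab10c))) (.node (.node (.leaf 0x2f827b00a) (.leaf 0xb5fe901a)) (.node (.leaf 0x266359044) (.leaf 0x1c42bb144))))) (.node (.node (.node (.node (.leaf 0x2acd8704e) (.leaf 0x47a11b09c)) (.node (.leaf 0x141a99042) (.leaf 0x399dab10c))) (.node (.node (.leaf 0x2f82fb00a) (.leaf 0x1d7bdb0c0)) (.node (.leaf 0x80396b090) (.leaf 0x24adb09a)))) (.node (.node (.node (.leaf 0x4ae817004) (.leaf 0x18847cb08a)) (.node (.leaf 0x8be69046) (.leaf 0x1b3e4b00a))) (.node (.node (.leaf 0x2994f3004) (.leaf 0x1904fb14e)) (.node (.leaf 0x1a385b0cc) (.leaf 0xc423590c6)))))) (.node (.node (.node (.node (.node (.leaf 0x993deb000)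 (.leaf 0x1eeddb024)) (.node (.leaf 0x26d63b1fe) (.leaf 0x25be7010))) (.node (.node (.leaf 0x16d56700e) (.leaf 0x650fe7024)) (.node (.leaf 0x2ae88900a) (.leaf 0x6d7b7020)))) (.node (.node (.node (.leaf 0x54e0900e) (.leaf 0x114529000)) (.node (.leaf 0x849bdb2dc) (.leaf 0x1c8f3b00c))) (.node (.node (.leaf 0x1c5e89010) (.leaf 0x6769b09a)) (.node (.leaf 0x18e3db14e) (.leaf 0x6ab24b0c0))))) (.node (.node (.node (.node (.leaf 0x78d97026) (.leaf 0xb9da904e)) (.node (.leaf 0xcebb704e) (.leaf 0x5cb79036))) (.node (.node (.leaf 0xd36cb184) (.leaf 0x457fab0a6)) (.node (.leaf 0x2b342b01c) (.leaf 0x20c6cb0cc)))) (.node (.node (.node (.leaf 0xabc47030) (.leaf 0x58e47b0fc)) (.node (.leaf 0xc12f5700a) (.leaf 0x1c5109000))) (.node (.node (.leaf 0xf164b114) (.leaf 0x3cfcab086)) (.node (.leaf 0x124acb044) (.leaf 0x16aa89046))))))) (.node (.node (.node (.node (.node (.node (.leaf 0xad32b9000) (.leaf 0x211219044)) (.node (.leaf 0x91deb114)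 (.leaf 0x452bbb0a6))) (.node (.node (.leaf 0x11bda7000) (.leaf 0x1685eb00c)) (.node (.leaf 0x270f57034) (.leaf 0xe204700e)))) (.node (.node (.node (.leaf 0x53696b09c) (.leaf 0x46703000)) (.node (.leaf 0x28eeb01c) (.leaf 0x7a499026))) (.node (.node (.leaf 0x147bf7034) (.leaf 0x21369010)) (.node (.leaf 0x3f2a0700a) (.leaf 0x17e7d9000))))) (.node (.node (.node (.node (.leaf 0x146f3901c) (.leaf 0x50feb056)) (.node (.leaf 0x4f6fe901c) (.leaf 0x1bc5db00a))) (.node (.node (.leaf 0x1449b114) (.leaf 0x22b6a9010)) (.node (.leaf 0x4fb6e7014) (.leaf 0x371029004)))) (.node (.node (.node (.leaf 0x140f39004) (.leaf 0x6c845b064)) (.node (.leaf 0x8031d5014) (.leaf 0x35d2a9014))) (.node (.node (.leaf 0x346d6905c) (.leaf 0x1cfbb700e)) (.node (.leaf 0x29271b05a) (.leaf 0x1bf4fb0a6)))))) (.node (.node (.node (.node (.node (.leaf 0x28ff3b01c) (.leaf 0x16ec6b144)) (.node (.leaf 0x151e89044) (.leaf 0x7fc369004))) (.node (.node (.leaf 0x71fd6b10c)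 (.leaf 0xd0eb084)) (.node (.leaf 0x10df07010) (.leaf 0x56f02b06a)))) (.node (.node (.node (.leaf 0x109d87000) (.leaf 0x33f0900e)) (.node (.leaf 0x46b5b05a) (.leaf 0x248297042))) (.node (.node (.leaf 0x190e6b0c0) (.leaf 0x248437004)) (.node (.leaf 0x142b99024) (.leaf 0x4ccb3004))))) (.node (.node (.node (.node (.leaf 0x2f99db090) (.leaf 0x44b8c7004)) (.node (.leaf 0x6b5c1b044) (.leaf 0x3aff9036))) (.node (.node (.leaf 0x269939044) (.leaf 0x2c2f47034)) (.node (.leaf 0xd2bc7901a) (.leaf 0x63f27010)))) (.node (.node (.node (.leaf 0x33722b114) (.leaf 0x9d51b064)) (.node (.leaf 0x5058b056) (.leaf 0x7d997b044))) (.node (.node (.leaf 0x16b1d9010) (.leaf 0x1f416b050)) (.node (.leaf 0xdb36b0ea) (.leaf 0x8abccb08a)))))))) (.node (.node (.node (.node (.node (.node (.node (.leaf 0xf4acb044) (.leaf 0xc1b036)) (.node (.leaf 0xb6f69016) (.leaf 0xe8d4b144))) (.node (.node (.leaf 0x29bf23004) (.leaf 0x2f980b090)) (.node (.leaf 0x1d0fdb2dc)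 (.leaf 0x106689010)))) (.node (.node (.node (.leaf 0x557e0904e) (.leaf 0x220e27010)) (.node (.leaf 0x854677000) (.leaf 0x30542b0cc))) (.node (.node (.leaf 0xa81cb050) (.leaf 0x17a96700e)) (.node (.leaf 0x15c649030) (.leaf 0xa15639036))))) (.node (.node (.node (.node (.leaf 0x108009000) (.leaf 0x1077e2901c)) (.node (.leaf 0x3bfe7b084) (.leaf 0x1fc21b002))) (.node (.node (.leaf 0x9cdcab0a6) (.leaf 0x171609046)) (.node (.leaf 0x1a748b0a6) (.leaf 0x8d444b144)))) (.node (.node (.node (.leaf 0x241a89016) (.leaf 0x8f10700e)) (.node (.leaf 0x23d879026) (.leaf 0x31bb4b14e))) (.node (.node (.leaf 0x7eb67030) (.leaf 0xa8979000)) (.node (.leaf 0x1760d7010) (.leaf 0x13ad3b056)))))) (.node (.node (.node (.node (.node (.leaf 0xd556b194) (.leaf 0x713b0b1d6)) (.node (.leaf 0x975837010) (.leaf 0xce4d901a))) (.node (.node (.leaf 0xc8e9700a) (.leaf 0x41d80b002)) (.node (.leaf 0x2ed10b064) (.leaf 0x10477b00c)))) (.node (.node (.node (.leaf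 0x37702901c) (.leaf 0xe65cb00c)) (.node (.leaf 0x2791690c6) (.leaf 0x14f2b7042))) (.node (.node (.leaf 0x2afbe700a) (.leaf 0x9b6b084)) (.node (.leaf 0x73295704e) (.leaf 0x361e97026))))) (.node (.node (.node (.node (.leaf 0x4ff267042) (.leaf 0x66912b0c6)) (.node (.leaf 0x5346900e) (.leaf 0x817b9026))) (.node (.node (.leaf 0x351b19016) (.leaf 0x177b57000)) (.node (.leaf 0x147ac9006) (.leaf 0xdeafb0fc)))) (.node (.node (.node (.leaf 0x4e5cb05a) (.leaf 0x37ac89042)) (.node (.leaf 0xb2d45b09a) (.leaf 0x6dc37b09c))) (.node (.node (.leaf 0xa9049b044) (.leaf 0x27a16900a)) (.node (.leaf 0x2c4e29042) (.leaf 0xbed79082))))))) (.node (.node (.node (.node (.node (.node (.leaf 0x9769a7020) (.leaf 0x159b6b1fe)) (.node (.leaf 0x1bd139002) (.leaf 0x20f79b0cc))) (.node (.node (.leaf 0x23ba0b00c) (.leaf 0x242339014)) (.node (.leaf 0x63be09016) (.leaf 0x8dc229046)))) (.node (.node (.node (.leaf 0x17606b144) (.leaf 0xe87e9046)) (.node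 (.leaf 0x349c69030) (.leaf 0x1002f700e))) (.node (.node (.leaf 0x60a757030) (.leaf 0x364799026)) (.node (.leaf 0x47ea9b09c) (.leaf 0x39ec8b1d6))))) (.node (.node (.node (.node (.leaf 0x8a18b00c) (.leaf 0x917a6b0c6)) (.node (.leaf 0x103dd9046) (.leaf 0x4a7ca9016))) (.node (.node (.leaf 0x13f7a9036) (.leaf 0x4a0db05a)) (.node (.leaf 0x96a41901c) (.leaf 0x8bcbbb0a6)))) (.node (.node (.node (.leaf 0x37a927014) (.leaf 0x1b3e29002)) (.node (.leaf 0x62a2b01c) (.leaf 0x3a1e900e))) (.node (.node (.leaf 0x4bfe3004) (.leaf 0x889449046)) (.node (.leaf 0x2e9b036) (.leaf 0x273597014)))))) (.node (.node (.node (.node (.node (.leaf 0xaddfb002) (.leaf 0x23068b144)) (.node (.leaf 0x14805900c) (.leaf 0x6846a9026))) (.node (.node (.leaf 0x2c477020) (.leaf 0x4f59a7034)) (.node (.leaf 0x3be1fb084) (.leaf 0x443567024)))) (.node (.node (.node (.leaf 0x1e81b044) (.leaf 0x1985fb14e)) (.node (.leaf 0xd315b062) (.leaf 0x1361d900e))) (.node (.node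 (.leaf 0x20779b0a6) (.leaf 0x567c37026)) (.node (.leaf 0x171deb00c) (.leaf 0x22de9b09a))))) (.node (.node (.node (.node (.leaf 0x451d1b00a) (.leaf 0x1cd987000)) (.node (.leaf 0x401b0b024) (.leaf 0xad8607030))) (.node (.node (.leaf 0x25a08b09c) (.leaf 0x1b11fb0a6)) (.node (.leaf 0x247397024) (.leaf 0x2c1689004)))) (.node (.node (.node (.leaf 0x41413000) (.leaf 0x261519030)) (.node (.leaf 0x21286b05c) (.leaf 0x8780b144))) (.node (.node (.leaf 0x630339024) (.leaf 0x1c7207010)) (.node (.leaf 0x4f0fe9004) (.leaf 0x1b8329002)))))))))) (.node (.node (.node (.node (.node (.node (.node (.node (.node (.leaf 0x244aa900a) (.leaf 0x2a11a9016)) (.node (.leaf 0x109e0b01c) (.leaf 0x528a9030))) (.node (.node (.leaf 0x1b3bfb090) (.leaf 0xaf46b000)) (.node (.leaf 0x272b4700a) (.leaf 0x4e59b08a)))) (.node (.node (.node (.leaf 0x30e969002) (.leaf 0x4057b05a)) (.node (.leaf 0x2f2619002) (.leaf 0x609c8b042))) (.node (.node (.leaf 0xbfd59042)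 (.leaf 0x30693b0a6)) (.node (.leaf 0xc11ab086) (.leaf 0x8dcfb002))))) (.node (.node (.node (.node (.leaf 0x68869026) (.leaf 0x92ff5b014)) (.node (.leaf 0x6f6f0502a) (.leaf 0x3d9d9b114))) (.node (.node (.leaf 0x4aa03002) (.leaf 0x14c59b0ea)) (.node (.leaf 0x22a039046) (.leaf 0x6697fb0c6)))) (.node (.node (.node (.leaf 0x5fbca9016) (.leaf 0x47463002)) (.node (.leaf 0x19fc7b2dc) (.leaf 0xc0dab0ea))) (.node (.node (.leaf 0x4a8e5900c) (.leaf 0x39829030)) (.node (.leaf 0x5c3db1d6) (.leaf 0x16f4cb06a)))))) (.node (.node (.node (.node (.node (.leaf 0xb3f1900c) (.leaf 0xe15f9000)) (.node (.leaf 0xe598c7026) (.leaf 0x21359900e))) (.node (.node (.leaf 0x28cac700e) (.leaf 0x11173b000)) (.node (.leaf 0x30705b00a) (.leaf 0xedb42b0d6)))) (.node (.node (.node (.leaf 0x332db1d6) (.leaf 0x156d0900e)) (.node (.leaf 0x1fa197010) (.leaf 0x3cdf8901c))) (.node (.node (.leaf 0xa6e9e700a) (.leaf 0x2f2b19002)) (.node (.leaf 0x29c1a905a) (.leaf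 0x52fd1b1fe))))) (.node (.node (.node (.node (.leaf 0x29cdeb05a) (.leaf 0xde1b09c)) (.node (.leaf 0x440349024) (.leaf 0x2a59b9082))) (.node (.node (.leaf 0x43793b064) (.leaf 0xe6c4ab08a)) (.node (.leaf 0x5c0c2b000) (.leaf 0x54244b000)))) (.node (.node (.node (.leaf 0x35eb29042) (.leaf 0x1ced1b06a)) (.node (.leaf 0x306879002) (.leaf 0x2988f905a))) (.node (.node (.leaf 0x15e5f9036) (.leaf 0x275f8901a)) (.node (.leaf 0xdc089082) (.leaf 0x12866b044))))))) (.node (.node (.node (.node (.node (.node (.leaf 0x12c0fb064) (.leaf 0x3684905c)) (.node (.leaf 0x3e2267024) (.leaf 0x83b4f905a))) (.node (.node (.leaf 0x1b3655000) (.leaf 0x2f8265010)) (.node (.leaf 0x5f14905c) (.leaf 0x2291700e)))) (.node (.node (.node (.leaf 0x5fc0f7024) (.leaf 0x30d42b0a6)) (.node (.leaf 0x80888500e) (.leaf 0x8d54b050))) (.node (.node (.leaf 0xa8fcb7010) (.leaf 0x516039010)) (.node (.leaf 0x1be8eb090) (.leaf 0x2f3ac7002))))) (.node (.node (.node (.node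 (.leaf 0x2fe29026) (.leaf 0x84f68b14e)) (.node (.leaf 0x3070cb00a) (.leaf 0x37818b194))) (.node (.node (.leaf 0x667db144) (.leaf 0x207525002)) (.node (.leaf 0x1ffd2700e) (.leaf 0xc1bd2b194)))) (.node (.node (.node (.leaf 0x4450b08a) (.leaf 0xa88cb014)) (.node (.leaf 0x494f79044) (.leaf 0x53e1bb09c))) (.node (.node (.leaf 0xea18b050) (.leaf 0x12f40f5042)) (.node (.leaf 0x244617014) (.leaf 0x2fffb5010)))))) (.node (.node (.node (.node (.node (.leaf 0x31e69b2dc) (.leaf 0x1b5115014)) (.node (.leaf 0x6bc26b064) (.leaf 0x367d8b000))) (.node (.node (.leaf 0x1c96fb014) (.leaf 0x615087042)) (.node (.leaf 0x111067026) (.leaf 0xb11a7006)))) (.node (.node (.node (.leaf 0x35c209004) (.leaf 0x772747030)) (.node (.leaf 0x10631b06a) (.leaf 0x47bab05a))) (.node (.node (.leaf 0x2a1bd7004) (.leaf 0x8e712900c)) (.node (.leaf 0x730db002) (.leaf 0x169c5b01c))))) (.node (.node (.node (.node (.leaf 0x8d8c7030) (.leaf 0x35cb07014)) (.node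 (.leaf 0x6d961b084) (.leaf 0x5ac007000))) (.node (.node (.leaf 0xc75cb184) (.leaf 0x11e19b014)) (.node (.leaf 0x93d2f9030) (.leaf 0xd72e7004)))) (.node (.node (.node (.leaf 0x2ae8d9014) (.leaf 0x650949042)) (.node (.leaf 0x1476bb184) (.leaf 0x15668b056))) (.node (.node (.leaf 0xd262c9024) (.leaf 0x166bab014)) (.node (.leaf 0x1a9e2502a) (.leaf 0x65a5b00c)))))))) (.node (.node (.node (.node (.node (.node (.node (.leaf 0x7a93ab042) (.leaf 0xb1089006)) (.node (.leaf 0x4d3e905a) (.leaf 0x418159046))) (.node (.node (.leaf 0x393f0b10c) (.leaf 0x29d273002)) (.node (.leaf 0x1baefb090) (.leaf 0x3bd2905c)))) (.node (.node (.node (.leaf 0x29f3c3002) (.leaf 0x2fed49002)) (.node (.leaf 0x3f21db184) (.leaf 0xb1859024))) (.node (.node (.leaf 0x778cbb002) (.leaf 0x29d9b00c)) (.node (.leaf 0xf866b044) (.leaf 0x14cd6b062))))) (.node (.node (.node (.node (.leaf 0x44a1b08a) (.leaf 0xa6120704e)) (.node (.leaf 0x814f7000) (.leaf 0x13c11905c)))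 (.node (.node (.leaf 0x460b905a) (.leaf 0xe707b002)) (.node (.leaf 0x2a5ee904e) (.leaf 0x14999b086)))) (.node (.node (.node (.leaf 0x23ddcb050) (.leaf 0x33f80b114)) (.node (.leaf 0xd5c59016) (.leaf 0x13892b10c))) (.node (.node (.leaf 0x6f27e9002) (.leaf 0x1e960b024)) (.node (.leaf 0x5e0d2b0d6) (.leaf 0x4a1e99024)))))) (.node (.node (.node (.node (.node (.leaf 0x17c94b06a) (.leaf 0x3c1229014)) (.node (.leaf 0x3d551b044) (.leaf 0x2bec5b00c))) (.node (.node (.leaf 0x2e01b144) (.leaf 0x29aa4b08a)) (.node (.leaf 0x29fb6b05a) (.leaf 0xe9fbd9036)))) (.node (.node (.node (.leaf 0x4c16905a) (.leaf 0x4ab437034)) (.node (.leaf 0x55c43b086) (.leaf 0x2ac42901a))) (.node (.node (.leaf 0x66629b024) (.leaf 0x4d8c9704e)) (.node (.leaf 0x7ef8b000) (.leaf 0xdbd2900c))))) (.node (.node (.node (.node (.leaf 0xa0e07b184) (.leaf 0x137ab064)) (.node (.leaf 0xe4dcc9046) (.leaf 0xa677090c6))) (.node (.node (.leaf 0x6f2ae9002) (.leaf 0x1fc42b144))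 (.node (.leaf 0x8dbab7000) (.leaf 0xe4907030)))) (.node (.node (.node (.leaf 0x44a4e7014) (.leaf 0x4eafb05a)) (.node (.leaf 0xd3969024) (.leaf 0x30fe55002))) (.node (.node (.leaf 0x1573e900e) (.leaf 0x222d69026)) (.node (.leaf 0x5cda905c) (.leaf 0x40f3905a))))))) (.node (.node (.node (.node (.node (.node (.leaf 0x4838b08a) (.leaf 0x6285c704e)) (.node (.leaf 0x1d9f0b0c0) (.leaf 0x1bbdeb090))) (.node (.node (.leaf 0x8025d5006) (.leaf 0x29765b08a)) (.node (.leaf 0xd43c7024) (.leaf 0x2d539b064)))) (.node (.node (.node (.leaf 0x2f2f9046) (.leaf 0x22565b00c)) (.node (.leaf 0xb08f7034) (.leaf 0x69bad7020))) (.node (.node (.leaf 0x1adf25042) (.leaf 0x180f8b2dc)) (.node (.leaf 0x170fab014) (.leaf 0xdb2c7042))))) (.node (.node (.node (.node (.leaf 0x41f77b00c) (.leaf 0x1d6b0b2dc)) (.node (.leaf 0x5506ab0fc) (.leaf 0x283e4b00c))) (.node (.node (.leaf 0x44d2b05a) (.leaf 0x310b1b14e)) (.node (.leaf 0x7ffaeb184) (.leaf 0xb2429b144))))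 (.node (.node (.node (.leaf 0x20fae500a) (.leaf 0x20cf25042)) (.node (.leaf 0x759bd90c6) (.leaf 0x14744ab042))) (.node (.node (.leaf 0x76df7b044) (.leaf 0x6f21bb0a6)) (.node (.leaf 0x15269c905c) (.leaf 0x3788db0fc)))))) (.node (.node (.node (.node (.node (.leaf 0x689b09c) (.leaf 0x80ba4500a)) (.node (.leaf 0x14b79b194) (.leaf 0x1ba705014))) (.node (.node (.leaf 0x1c63b044) (.leaf 0x1a2135006)) (.node (.leaf 0x2c9f3704e) (.leaf 0x21edfb056)))) (.node (.node (.node (.leaf 0x98dcb044) (.leaf 0x2b58d700e)) (.node (.leaf 0x3e8489014) (.leaf 0x2b9b69026))) (.node (.node (.leaf 0x11ae4b042) (.leaf 0x55023b194)) (.node (.leaf 0xca7ab194) (.leaf 0x2392bb002))))) (.node (.node (.node (.node (.leaf 0x5e1fb10c) (.leaf 0x1a7da500e)) (.node (.leaf 0x13a5f9030) (.leaf 0xb28f1b00c))) (.node (.node (.leaf 0xb5339004) (.leaf 0x106dbb09a)) (.node (.leaf 0xc773b0fc) (.leaf 0x2aeaf7024)))) (.node (.node (.node (.leaf 0x2942bb05a) (.leaf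 0x3b57b10c)) (.node (.leaf 0xaa7b7026) (.leaf 0x41bbfb144))) (.node (.node (.leaf 0x7c919b05a) (.leaf 0x32142b044)) (.node (.leaf 0xe47397010) (.leaf 0x85c79000))))))))) (.node (.node (.node (.node (.node (.node (.node (.node (.leaf 0x35842b0ea) (.leaf 0x2b19cb042)) (.node (.leaf 0x68499b09a) (.leaf 0x3982db056))) (.node (.node (.leaf 0x63a30b062) (.leaf 0x188e8b2dc)) (.node (.leaf 0xb2ca700a) (.leaf 0x297fd905a)))) (.node (.node (.node (.leaf 0x771237010) (.leaf 0x315e1b14e)) (.node (.leaf 0xc8447014) (.leaf 0x226b3b000))) (.node (.node (.leaf 0xfbeeb114) (.leaf 0x3e173b062)) (.node (.leaf 0x1a8af5000) (.leaf 0xa1c8a9044))))) (.node (.node (.node (.node (.leaf 0x16c58b000) (.leaf 0x15b58b1fe)) (.node (.leaf 0xa9ad4b064) (.leaf 0x1b74fb0cc))) (.node (.node (.leaf 0x66337b0c6) (.leaf 0xe0bfb01c)) (.node (.leaf 0x1ad8a5000) (.leaf 0x5b193b09a)))) (.node (.node (.node (.leaf 0x44621704e) (.leaf 0x4af0905a)) (.node (.leaf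 0x2cefc9082) (.leaf 0x3f4817034))) (.node (.node (.leaf 0x2b2667026) (.leaf 0x59c9db084)) (.node (.leaf 0x20e157002) (.leaf 0x26c85b1fe)))))) (.node (.node (.node (.node (.node (.leaf 0x17aba8901a) (.leaf 0x2433b06a)) (.node (.leaf 0x24069b184) (.leaf 0x2a7cab062))) (.node (.node (.leaf 0x3938bb056) (.leaf 0xb6a4cb024)) (.node (.leaf 0x10a909b000) (.leaf 0x1a60b5014)))) (.node (.node (.node (.leaf 0x2b327026) (.leaf 0xb51890c6)) (.node (.leaf 0xa1ab9026) (.leaf 0x601439046))) (.node (.node (.leaf 0x7a5cb06a) (.leaf 0x698159046)) (.node (.leaf 0x4b8a19000) (.leaf 0x27789901c))))) (.node (.node (.node (.node (.leaf 0x47d8905a) (.leaf 0x1393ab05c)) (.node (.leaf 0x35582b086) (.leaf 0x1a5065014))) (.node (.node (.leaf 0x192f6b2dc) (.leaf 0x36889044)) (.node (.leaf 0x55ceb1fe) (.leaf 0x287b5b042)))) (.node (.node (.node (.leaf 0xc6949004) (.leaf 0x1f83d7026)) (.node (.leaf 0x1a9847002) (.leaf 0xdd89700a))) (.node (.node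 (.leaf 0x70efb9042) (.leaf 0x272ad9082)) (.node (.leaf 0xa2f8eb114) (.leaf 0x3c99d700a))))))) (.node (.node (.node (.node (.node (.node (.leaf 0x1aabb114) (.leaf 0x863f9010)) (.node (.leaf 0x97694b014) (.leaf 0x2419bb086))) (.node (.node (.leaf 0x86ecb09a) (.leaf 0x180cb064)) (.node (.leaf 0x203975000) (.leaf 0x45ffab0cc)))) (.node (.node (.node (.leaf 0x2b447b06a) (.leaf 0x1b5255004)) (.node (.leaf 0xdfd267020) (.leaf 0x36aecb06a))) (.node (.node (.leaf 0x1c4a6b042) (.leaf 0x17d83b042)) (.node (.leaf 0x415bb7030) (.leaf 0x64f58b144))))) (.node (.node (.node (.node (.leaf 0x75ac6901c) (.leaf 0x3ebd5b0fc)) (.node (.leaf 0x6741b014) (.leaf 0x207ae5014))) (.node (.node (.leaf 0x75dad9006) (.leaf 0x7baeb014)) (.node (.leaf 0x4b0397000) (.leaf 0x231837010)))) (.node (.node (.node (.leaf 0x147af3b014) (.leaf 0x1ab499002)) (.node (.leaf 0x43889b064) (.leaf 0x22c5b014))) (.node (.node (.leaf 0x273cf7004) (.leaf 0x716ae9036))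 (.node (.leaf 0x8036b9002) (.leaf 0x21891b1fe)))))) (.node (.node (.node (.node (.node (.leaf 0xab40b00c) (.leaf 0x41fbc7026)) (.node (.leaf 0x5a449030) (.leaf 0xc42e8b194))) (.node (.node (.leaf 0x3d269044) (.leaf 0x142f79082)) (.node (.leaf 0xc5ab900a) (.leaf 0x2d526b044)))) (.node (.node (.node (.leaf 0xa3699500e) (.leaf 0x26978b10c)) (.node (.leaf 0x22dc1b014) (.leaf 0x10badb000))) (.node (.node (.leaf 0x4bf16b144) (.leaf 0x3527bb0fc)) (.node (.leaf 0x3e336b184) (.leaf 0x807da9002))))) (.node (.node (.node (.node (.leaf 0x4ce08b2dc) (.leaf 0x130659044)) (.node (.leaf 0x59f7b05c) (.leaf 0x4fdb47004))) (.node (.node (.leaf 0x34e92900e) (.leaf 0x4088300e)) (.node (.leaf 0x3a861b114) (.leaf 0x3fdba90c6)))) (.node (.node (.node (.leaf 0x416e300e) (.leaf 0x72f5b01c)) (.node (.leaf 0x135a3b1fe) (.leaf 0x1ce18b002))) (.node (.node (.leaf 0xc6ab90c6) (.leaf 0x86adcb036)) (.node (.leaf 0x8e78d901a) (.leaf 0x151b5b10c))))))))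 (.node (.node (.node (.node (.node (.node (.node (.leaf 0x86307b084) (.leaf 0x1706ab050)) (.node (.leaf 0x3f9057014) (.leaf 0x65b7b06a))) (.node (.node (.leaf 0x5ac3d7020) (.leaf 0x29e44905a)) (.node (.leaf 0x1afa17002) (.leaf 0x2305b9010)))) (.node (.node (.node (.leaf 0x14a319014) (.leaf 0x17c90b000)) (.node (.leaf 0x206787002) (.leaf 0x8ff77010))) (.node (.node (.leaf 0x38b937026) (.leaf 0x1ecf1b0d6)) (.node (.leaf 0x1a9165010) (.leaf 0x4e0c4b10c))))) (.node (.node (.node (.node (.leaf 0x7b249b10c) (.leaf 0x2edfb000)) (.node (.leaf 0xd70b09c) (.leaf 0x1d9e0b0c0))) (.node (.node (.leaf 0x4d3369004) (.leaf 0x21834b10c)) (.node (.leaf 0x4e79905a) (.leaf 0x744277042)))) (.node (.node (.node (.leaf 0x1652ab050) (.leaf 0x1254cd7010)) (.node (.leaf 0x587a1901a) (.leaf 0x31e79b2dc))) (.node (.node (.leaf 0x4020db024) (.leaf 0x116d69026)) (.node (.leaf 0x12fa1b064) (.leaf 0x305f9500a)))))) (.node (.node (.node (.node (.node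 (.leaf 0x1578507014) (.leaf 0x379fb904e)) (.node (.leaf 0x206a87002) (.leaf 0x1a2317002))) (.node (.node (.leaf 0x346f8b056) (.leaf 0x4b1c6700e)) (.node (.leaf 0xb618900a) (.leaf 0x54d89044)))) (.node (.node (.node (.leaf 0xacfa17042) (.leaf 0x1d6a0b2dc)) (.node (.leaf 0x3b96b1fe) (.leaf 0xa6b69046))) (.node (.node (.leaf 0xd877704e) (.leaf 0x106dab042)) (.node (.leaf 0x72757b194) (.leaf 0x2986c905a))))) (.node (.node (.node (.node (.leaf 0x8fd95700e) (.leaf 0x35b61b062)) (.node (.leaf 0x45c1905a) (.leaf 0x12beeb114))) (.node (.node (.leaf 0x2f436500a) (.leaf 0x2f4da5042)) (.node (.leaf 0x140417004) (.leaf 0x159cfb1d6)))) (.node (.node (.node (.leaf 0xe4379010) (.leaf 0x96258b062)) (.node (.leaf 0x11ca5700e) (.leaf 0xafd6eb056))) (.node (.node (.leaf 0x86a7b01c) (.leaf 0xb80427014)) (.node (.leaf 0x7e16b09a) (.leaf 0x10a58b002))))))) (.node (.node (.node (.node (.node (.node (.leaf 0x72b48b062) (.leaf 0x740189006))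 (.node (.leaf 0x14f5e901a) (.leaf 0x2c768901c))) (.node (.node (.leaf 0x48f43006) (.leaf 0x49b06b10c)) (.node (.leaf 0x546a2b09a) (.leaf 0x17f35b002)))) (.node (.node (.node (.leaf 0x21056b1d6) (.leaf 0x427a3006)) (.node (.leaf 0xb81b19006) (.leaf 0x1b0dc5004))) (.node (.node (.leaf 0x15f1db05c) (.leaf 0x38d49030)) (.node (.leaf 0x7a97cb01c) (.leaf 0x2afc5b194))))) (.node (.node (.node (.node (.leaf 0x27e7f9014) (.leaf 0x4d11c9042)) (.node (.leaf 0x23593b01c) (.leaf 0x62e677014))) (.node (.node (.leaf 0x264d0b05c) (.leaf 0xecaf7010)) (.node (.leaf 0x113edb00c) (.leaf 0x788b09c)))) (.node (.node (.node (.leaf 0x1419a904e) (.leaf 0x274017042)) (.node (.leaf 0x41bad7020) (.leaf 0x20d909002))) (.node (.node (.leaf 0x34d139036) (.leaf 0x20afe5010)) (.node (.leaf 0x16aadb002) (.leaf 0x4019fb0c6)))))) (.node (.node (.node (.node (.node (.leaf 0x4b3a300a) (.leaf 0x2bac3b000)) (.node (.leaf 0x57bb9b114) (.leaf 0x5399eb036)))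 (.node (.node (.leaf 0x29a763006) (.leaf 0xde7769000)) (.node (.leaf 0x473f1b036) (.leaf 0xceea9042)))) (.node (.node (.node (.leaf 0x60567026) (.leaf 0x29e003006)) (.node (.leaf 0x24b78b062) (.leaf 0x4d3ee7042))) (.node (.node (.leaf 0x5f7e9044) (.leaf 0x6cacb042)) (.node (.leaf 0x279517024) (.leaf 0x4ab4300a))))) (.node (.node (.node (.node (.leaf 0x54a5ab014) (.leaf 0x3072f7002)) (.node (.leaf 0x22d2cb042) (.leaf 0x8b8e7020))) (.node (.node (.leaf 0x33bfb05c) (.leaf 0x39333900e)) (.node (.leaf 0x4c248b0c0) (.leaf 0x91d08b0d6)))) (.node (.node (.node (.leaf 0x225067026) (.leaf 0x7e493b036)) (.node (.leaf 0x10cf3b050) (.leaf 0x287877026))) (.node (.node (.leaf 0x11735b144) (.leaf 0xc2bb9006)) (.node (.leaf 0x42686b114) (.leaf 0x5699f9000))))))))))) (.node (.node (.node (.node (.node (.node (.node (.node (.node (.node (.leaf 0x313e9b2dc) (.leaf 0x5b76b064)) (.node (.leaf 0x4acdeb042) (.leaf 0x4f7feb050))) (.node (.node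 (.leaf 0x4880b08a) (.leaf 0x27b32b01c)) (.node (.leaf 0x1776a9004) (.leaf 0x3cee6b000)))) (.node (.node (.node (.leaf 0x40e2cb0cc) (.leaf 0x72cb901a)) (.node (.leaf 0x1f8de7042) (.leaf 0x19207b0c0))) (.node (.node (.leaf 0x7ce3d3004) (.leaf 0xe7a2b086)) (.node (.leaf 0x27d627010) (.leaf 0x1ff827034))))) (.node (.node (.node (.node (.leaf 0xe40a3901a) (.leaf 0x5f0347026)) (.node (.leaf 0x4dc36b050) (.leaf 0xb611b5014))) (.node (.node (.leaf 0x3f045b014) (.leaf 0x20f07006)) (.node (.leaf 0x9a55905c) (.leaf 0x109719024)))) (.node (.node (.node (.leaf 0xda2a7020) (.leaf 0x30afdb0c6)) (.node (.leaf 0x1680c9024) (.leaf 0x1ca0905c))) (.node (.node (.leaf 0x17ec67034) (.leaf 0x577dc900e)) (.node (.leaf 0x43b0bb056) (.leaf 0x541fb044)))))) (.node (.node (.node (.node (.node (.leaf 0x108637014) (.leaf 0x2f8c1b024)) (.node (.leaf 0x45db0b0c6) (.leaf 0xfd259030))) (.node (.node (.leaf 0x23b6db062) (.leaf 0xb5a3b014)) (.node (.leaf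 0x1642a901c) (.leaf 0x6d694b09c)))) (.node (.node (.node (.leaf 0xa6d4b184) (.leaf 0x1cbb1b0ea)) (.node (.leaf 0xa2457b1fe) (.leaf 0x101f3901c))) (.node (.node (.leaf 0x5516e7010) (.leaf 0x78101700a)) (.node (.leaf 0xed2b09c) (.leaf 0x2f1c9016))))) (.node (.node (.node (.node (.leaf 0xe962b0ea) (.leaf 0x185d547006)) (.node (.leaf 0x1fb169004) (.leaf 0xc92c19014))) (.node (.node (.leaf 0x436ab05a) (.leaf 0xb6aff5000)) (.node (.leaf 0x16cfa7014) (.leaf 0x1e0525002)))) (.node (.node (.node (.leaf 0x668935006) (.leaf 0x66dde5006)) (.node (.leaf 0x43251b056) (.leaf 0x339e09036))) (.node (.node (.leaf 0x33175b1fe) (.leaf 0x10acab9004)) (.node (.leaf 0x2ba76900a) (.leaf 0x19ffeb14e))))))) (.node (.node (.node (.node (.node (.node (.leaf 0xfca99044) (.leaf 0x629eb0fc)) (.node (.leaf 0x172849042) (.leaf 0x20160b024))) (.node (.node (.leaf 0x18128b0c0) (.leaf 0x2b2f900c)) (.node (.leaf 0x46703002) (.leaf 0x9b03905c)))) (.node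 (.node (.node (.leaf 0x2907fb08a) (.leaf 0x2348fb0fc)) (.node (.leaf 0x16c437006) (.leaf 0x4c963002))) (.node (.node (.leaf 0x7fe47004) (.leaf 0x38b83900a)) (.node (.leaf 0x94450b2dc) (.leaf 0x288407014))))) (.node (.node (.node (.node (.leaf 0x27dab7020) (.leaf 0x326509036)) (.node (.leaf 0x443b19026) (.leaf 0x3d6939036))) (.node (.node (.leaf 0x8439904e) (.leaf 0x5fce49026)) (.node (.leaf 0x29d273000) (.leaf 0x15fb5b044)))) (.node (.node (.node (.leaf 0x1a879b024) (.leaf 0x4d29db002)) (.node (.leaf 0x6037b194) (.leaf 0x8fc08901a))) (.node (.node (.leaf 0xaab103006) (.leaf 0x1fb3d9006)) (.node (.leaf 0x1c977b184) (.leaf 0xe6dbb0fc)))))) (.node (.node (.node (.node (.node (.leaf 0x69dec90c6) (.leaf 0x81ab704e)) (.node (.leaf 0x2aaaeb042) (.leaf 0x5573eb01c))) (.node (.node (.leaf 0x1be92b024) (.leaf 0x5aa6b7034)) (.node (.leaf 0x7bc8fb044) (.leaf 0x32445b1fe)))) (.node (.node (.node (.leaf 0x1f9309024) (.leaf 0x2ab27b050))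 (.node (.leaf 0x105349006) (.leaf 0x2c1b7004))) (.node (.node (.leaf 0x11e069006) (.leaf 0x1095a7006)) (.node (.leaf 0xef02b194) (.leaf 0xae5ab0ea))))) (.node (.node (.node (.node (.leaf 0x49c7b05a) (.leaf 0x22360901a)) (.node (.leaf 0x42d5eb10c) (.leaf 0x148bd7020))) (.node (.node (.leaf 0x1efe905c) (.leaf 0x119f79042)) (.node (.leaf 0x27739024) (.leaf 0x3ab0fb1d6)))) (.node (.node (.node (.leaf 0xf68eb05c) (.leaf 0x2b7f17014)) (.node (.leaf 0x172037006) (.leaf 0x5cfb97006))) (.node (.node (.leaf 0x48c9b08a) (.leaf 0xdca3b01c)) (.node (.leaf 0x1f916901c) (.leaf 0x7cd49014)))))))) (.node (.node (.node (.node (.node (.node (.node (.leaf 0xef09b062) (.leaf 0xc100b144)) (.node (.leaf 0x2bd669006) (.leaf 0x119899004))) (.node (.node (.leaf 0x8ca6bb06a) (.leaf 0x7ac89900c)) (.node (.leaf 0x6585eb09a) (.leaf 0x4b5859006)))) (.node (.node (.node (.leaf 0x351c79010) (.leaf 0x4402b05a)) (.node (.leaf 0x28999082) (.leaf 0x67cec9036)))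 (.node (.node (.leaf 0x3b2e6b09c) (.leaf 0x18af0b14e)) (.node (.leaf 0x5ec167002) (.leaf 0x1c271b086))))) (.node (.node (.node (.node (.leaf 0x1e1835006) (.leaf 0x1e6ee5006)) (.node (.leaf 0x381787034) (.leaf 0x48e8b08a))) (.node (.node (.leaf 0x7e041b036) (.leaf 0x2ba579042)) (.node (.leaf 0x1c422b062) (.leaf 0x247397030)))) (.node (.node (.node (.leaf 0x10fdd900c) (.leaf 0x166a8900c)) (.node (.leaf 0x235d6b0ea) (.leaf 0x3e5fa700e))) (.node (.node (.leaf 0x3a5c19036) (.leaf 0x370d2b014)) (.node (.leaf 0x2e22db1d6) (.leaf 0x12d259030)))))) (.node (.node (.node (.node (.node (.leaf 0x1ef87500e) (.leaf 0x1e752500e)) (.node (.leaf 0x90981b00c) (.leaf 0x103f39004))) (.node (.node (.leaf 0x6f0c3b0d6) (.leaf 0xf7f7b1fe)) (.node (.leaf 0xcf98b00c) (.leaf 0xf6fb036)))) (.node (.node (.node (.leaf 0x94d88b14e) (.leaf 0xd02b9010)) (.node (.leaf 0xaaf3b0fc) (.leaf 0x2a9d7042))) (.node (.node (.leaf 0xd09cb09a) (.leaf 0x9fe4b1d6))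 (.node (.leaf 0x2acccb002) (.leaf 0x79529082))))) (.node (.node (.node (.node (.leaf 0x2c58f7010) (.leaf 0x11b597014)) (.node (.leaf 0x33c92b1d6) (.leaf 0xacfab194))) (.node (.node (.leaf 0x16b9b1d6) (.leaf 0xf0079044)) (.node (.leaf 0x7f939016) (.leaf 0x1f9cf7006)))) (.node (.node (.node (.leaf 0x1053f7034) (.leaf 0x7d7d89044)) (.node (.leaf 0xb7cbb09a) (.leaf 0x1e3f25042))) (.node (.node (.leaf 0x3d614b056) (.leaf 0x29742b08a)) (.node (.leaf 0x4754cb084) (.leaf 0x3540fb01c))))))) (.node (.node (.node (.node (.node (.node (.leaf 0x88e7a7024) (.leaf 0x16bf59b114)) (.node (.leaf 0x1663b10c) (.leaf 0x10a619042))) (.node (.node (.leaf 0x560e2b0ea) (.leaf 0xa66c49010)) (.node (.leaf 0x4c8d8b0c0) (.leaf 0x489b905a)))) (.node (.node (.node (.leaf 0x1268eb05c) (.leaf 0x20da1b0d6)) (.node (.leaf 0x1a1bfb0c6) (.leaf 0x41564b0fc))) (.node (.node (.leaf 0x6119b184) (.leaf 0x29a623000)) (.node (.leaf 0x7a9ba7006) (.leaf 0x4b3fb05a)))))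 (.node (.node (.node (.node (.leaf 0x1b5e6b0d6) (.leaf 0x16ae27042)) (.node (.leaf 0xe4c0b184) (.leaf 0x2055901c))) (.node (.node (.leaf 0x27531b09a) (.leaf 0x18968b2dc)) (.node (.leaf 0x7eb67024) (.leaf 0xbc94b01c)))) (.node (.node (.node (.leaf 0x288fc7034) (.leaf 0x19857b0c0)) (.node (.leaf 0x3ecd17000) (.leaf 0xaddd47034))) (.node (.node (.leaf 0x4eee905a) (.leaf 0x4686db0a6)) (.node (.leaf 0x5e504500a) (.leaf 0x650a6b014)))))) (.node (.node (.node (.node (.node (.leaf 0xc66b9026) (.leaf 0x144ac7026)) (.node (.leaf 0x4e63905a) (.leaf 0x23004b184))) (.node (.node (.leaf 0x555d77020) (.leaf 0x9756b10c)) (.node (.leaf 0x53359b036) (.leaf 0x17f519006)))) (.node (.node (.node (.leaf 0x22ab9014) (.leaf 0x6c2099030)) (.node (.leaf 0x1fa6c900c) (.leaf 0x1403b7030))) (.node (.node (.leaf 0x11a1690c6) (.leaf 0x9e539030)) (.node (.leaf 0x6112f7010) (.leaf 0x270aa9010))))) (.node (.node (.node (.node (.leaf 0x40139b0cc) (.leaf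 0x12ca99044)) (.node (.leaf 0x8bcd901a) (.leaf 0x2296c904e))) (.node (.node (.leaf 0x37951b01c) (.leaf 0xaa1db062)) (.node (.leaf 0x10a6b7042) (.leaf 0x4b0737006)))) (.node (.node (.node (.leaf 0x14ae9030) (.leaf 0x4cc6905a)) (.node (.leaf 0xd9db084) (.leaf 0x5e4445006))) (.node (.node (.leaf 0x300f6b024) (.leaf 0x57fc6b056)) (.node (.leaf 0x1655c9042) (.leaf 0x20cd7024))))))))) (.node (.node (.node (.node (.node (.node (.node (.node (.leaf 0x19a66b0c0) (.leaf 0x24f4e9010)) (.node (.leaf 0x1a7d0b0d6) (.leaf 0xbe9ab042))) (.node (.node (.leaf 0xa57b9006) (.leaf 0xb633b050)) (.node (.leaf 0x2f411b024) (.leaf 0x54f109014)))) (.node (.node (.node (.leaf 0x2b3aeb0fc) (.leaf 0x3f9b79046)) (.node (.leaf 0x75856b014) (.leaf 0x413619014))) (.node (.node (.leaf 0x10bca700a) (.leaf 0x6f8d3b0d6)) (.node (.leaf 0x6a017014) (.leaf 0xfed4b1d6))))) (.node (.node (.node (.node (.leaf 0x1edfd9002) (.leaf 0xa46a9042)) (.node (.leaf 0xec1390c6)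 (.leaf 0x50f0ab1d6))) (.node (.node (.leaf 0x92e65901c) (.leaf 0x61e187030)) (.node (.leaf 0x59d88b09c) (.leaf 0x9f059030)))) (.node (.node (.node (.leaf 0x21abcb114) (.leaf 0x13e1ab114)) (.node (.leaf 0x4e59ab114) (.leaf 0xc5bb7026))) (.node (.node (.leaf 0x87329014) (.leaf 0x1d96db2dc)) (.node (.leaf 0x5be257004) (.leaf 0x1dc2b1fe)))))) (.node (.node (.node (.node (.node (.leaf 0x33c83900e) (.leaf 0x2730904e)) (.node (.leaf 0x2217f9014) (.leaf 0x8ade4b08a))) (.node (.node (.leaf 0x17729044) (.leaf 0x4a41300e)) (.node (.leaf 0x83dc7042) (.leaf 0x431e1b1fe)))) (.node (.node (.node (.leaf 0x4358300e) (.leaf 0x70dcb194)) (.node (.leaf 0x2c4e77000) (.leaf 0x10c63790c6))) (.node (.node (.leaf 0x8d8c7024) (.leaf 0x646e29024)) (.node (.leaf 0x8b415b0c6) (.leaf 0x233a87034))))) (.node (.node (.node (.node (.leaf 0x1e4425000) (.leaf 0x8f4617042)) (.node (.leaf 0x171d3700a) (.leaf 0x63d19004))) (.node (.node (.leaf 0x350af9000)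 (.leaf 0x12875905c)) (.node (.leaf 0x69f73901c) (.leaf 0x147787010)))) (.node (.node (.node (.leaf 0xc104b014) (.leaf 0x26d52b044)) (.node (.leaf 0x37ebbb042) (.leaf 0x5ed7b114))) (.node (.node (.leaf 0x1be7db0c6) (.leaf 0x44ba2b00c)) (.node (.leaf 0x14aaf700e) (.leaf 0x353b7b002))))))) (.node (.node (.node (.node (.node (.node (.leaf 0xa1187034) (.leaf 0xfd339030)) (.node (.leaf 0x2e4e3b05c) (.leaf 0x5414e9082))) (.node (.node (.leaf 0x28758b184) (.leaf 0x3049ab0d6)) (.node (.leaf 0x660675004) (.leaf 0x4ffa5b01c)))) (.node (.node (.node (.leaf 0x737cb086) (.leaf 0x2cce07030)) (.node (.leaf 0x22b51901c) (.leaf 0x4f08905a))) (.node (.node (.leaf 0x61790b050) (.leaf 0x1c5b39082)) (.node (.leaf 0xae7305004) (.leaf 0x95feb05c))))) (.node (.node (.node (.node (.leaf 0xb601b000) (.leaf 0xbaf969044)) (.node (.leaf 0xd49b7000) (.leaf 0x3415b044))) (.node (.node (.leaf 0x66af17002) (.leaf 0x1c7b29016)) (.node (.leaf 0x48d34b1d6)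 (.leaf 0x169c990c6)))) (.node (.node (.node (.leaf 0x84c59016) (.leaf 0x46440b090)) (.node (.leaf 0x1118eb0fc) (.leaf 0x4131a904e))) (.node (.node (.leaf 0x37ca9b002) (.leaf 0x5f0b87000)) (.node (.leaf 0x1daf5b14e) (.leaf 0x7243b062)))))) (.node (.node (.node (.node (.node (.leaf 0x6846900a) (.leaf 0x91599044)) (.node (.leaf 0x87e6900c) (.leaf 0x183a0b14e))) (.node (.node (.leaf 0x17c41900a) (.leaf 0x46450b090)) (.node (.leaf 0xc506b000) (.leaf 0x3b11bb036)))) (.node (.node (.node (.leaf 0x1362db064) (.leaf 0x5006cb10c)) (.node (.leaf 0x1fa1f700a) (.leaf 0x43f2c9036))) (.node (.node (.leaf 0x3ec5d7026) (.leaf 0x4120905a)) (.node (.leaf 0x3801bb0fc) (.leaf 0x501149036))))) (.node (.node (.node (.node (.leaf 0x12005cb0ea) (.leaf 0x12863905c)) (.node (.leaf 0x14a3617030) (.leaf 0x2ae0fb09a))) (.node (.node (.leaf 0x27b529000) (.leaf 0x2c32704e)) (.node (.leaf 0x3cb6b9026) (.leaf 0x6f4690c6)))) (.node (.node (.node (.leaf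 0x3bfceb09c) (.leaf 0x8aea9024)) (.node (.leaf 0x3d0b99036) (.leaf 0x14fb7b00c))) (.node (.node (.leaf 0xbdf23b1fe) (.leaf 0x2b898b062)) (.node (.leaf 0xb0e18b1fe) (.leaf 0x1e6157002)))))))) (.node (.node (.node (.node (.node (.node (.node (.leaf 0x34562b064) (.leaf 0x7201b0fc)) (.node (.leaf 0xb574fb050) (.leaf 0x21634b044))) (.node (.node (.leaf 0x338029036) (.leaf 0x6b3a7b1d6)) (.node (.leaf 0x2d54901a) (.leaf 0xe6439006)))) (.node (.node (.node (.leaf 0x54c427024) (.leaf 0xf875905c)) (.node (.leaf 0x11d07b086) (.leaf 0x2bfe9b184))) (.node (.node (.leaf 0x1e1d75004) (.leaf 0x613df9000)) (.node (.leaf 0xa4c5eb14e) (.leaf 0x18938b0c0))))) (.node (.node (.node (.node (.leaf 0x27c5ab002) (.leaf 0x3a1df9036)) (.node (.leaf 0x1e5909002) (.leaf 0x67133900e))) (.node (.node (.leaf 0x1ebb65010) (.leaf 0x62bd7034)) (.node (.leaf 0x437a2b1d6) (.leaf 0x4ae53006)))) (.node (.node (.node (.leaf 0x30fa5b0c6) (.leaf 0x91f06b00a))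 (.node (.leaf 0x42ff3006) (.leaf 0x2669bb064))) (.node (.node (.leaf 0x11cc7b0ea) (.leaf 0x23a4c7014)) (.node (.leaf 0x4034cb090) (.leaf 0x85827004)))))) (.node (.node (.node (.node (.node (.leaf 0xa16b90c6) (.leaf 0xd6b4b050)) (.node (.leaf 0x19edfb14e) (.leaf 0x23edc9004))) (.node (.node (.leaf 0x17b51704e) (.leaf 0x3caecb00c)) (.node (.leaf 0x95f79044) (.leaf 0x64c0d9016)))) (.node (.node (.node (.leaf 0x1e4db5010) (.leaf 0x5822db042)) (.node (.leaf 0x28516b086) (.leaf 0x88007b062))) (.node (.node (.leaf 0x9847b1fe) (.leaf 0xc4b9b042)) (.node (.leaf 0x1caf97004) (.leaf 0x2910a3004))))) (.node (.node (.node (.node (.leaf 0x16f09030) (.leaf 0x72f21b014)) (.node (.leaf 0x4b82300a) (.leaf 0x29710b05a))) (.node (.node (.leaf 0xe9d29042) (.leaf 0x1ef009002)) (.node (.leaf 0x5d18ab1d6) (.leaf 0x618c7b002)))) (.node (.node (.node (.leaf 0x7db029030) (.leaf 0x3a314900e)) (.node (.leaf 0xa26b900a) (.leaf 0x3fd7a9026))) (.node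 (.node (.leaf 0x460c300a) (.leaf 0x4715eb036)) (.node (.leaf 0x8b5b084) (.leaf 0x6800c7006))))))) (.node (.node (.node (.node (.node (.node (.leaf 0xdc1bb002) (.leaf 0x14e889000)) (.node (.leaf 0x33105b056) (.leaf 0x11b2fa7026))) (.node (.node (.leaf 0x2aaf7b014) (.leaf 0x6ba79042)) (.node (.leaf 0x4ada9b06a) (.leaf 0x29119b05a)))) (.node (.node (.node (.leaf 0x2820700a) (.leaf 0x3c9969046)) (.node (.leaf 0x2dc3f900e) (.leaf 0x8c0e79046))) (.node (.node (.leaf 0x10064900a) (.leaf 0x54a23904e)) (.node (.leaf 0x668047002) (.leaf 0xf863905c))))) (.node (.node (.node (.node (.leaf 0x1f82d900a) (.leaf 0x70e1db014)) (.node (.leaf 0x5effe9002) (.leaf 0x6acf1b0c0))) (.node (.node (.leaf 0x1f73d704e) (.leaf 0xbabcb002)) (.node (.leaf 0x23d4790c6) (.leaf 0x362ac9024)))) (.node (.node (.node (.leaf 0xaecc7014) (.leaf 0x6781bb056)) (.node (.leaf 0x22b259082) (.leaf 0x5253cb114))) (.node (.node (.leaf 0x3eddb114) (.leaf 0x28576b194))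 (.node (.leaf 0x8c54901c) (.leaf 0x63569006)))))) (.node (.node (.node (.node (.node (.leaf 0x40e9905a) (.leaf 0x1a7f7b0c6)) (.node (.leaf 0x38be4b184) (.leaf 0x7b036))) (.node (.node (.leaf 0xaf1c9004) (.leaf 0x33c3bb056)) (.node (.leaf 0x415379082) (.leaf 0x36c1e901c)))) (.node (.node (.node (.leaf 0xe9189004) (.leaf 0x18cbb05c)) (.node (.leaf 0xc0fab06a) (.leaf 0x1ee787002))) (.node (.node (.leaf 0x75bcb0ea) (.leaf 0x32dbb900e)) (.node (.leaf 0x8044bb024) (.leaf 0x4d1e6b014))))) (.node (.node (.node (.node (.leaf 0x92dfc9016) (.leaf 0x30266b024)) (.node (.leaf 0x41ac69016) (.leaf 0x27289b050))) (.node (.node (.leaf 0x4577fb024) (.leaf 0x12449044)) (.node (.leaf 0x247d67010) (.leaf 0x8e340700e)))) (.node (.node (.node (.leaf 0x43954b10c) (.leaf 0x5a90b064)) (.node (.leaf 0x2ca3f9000) (.leaf 0x2ec4a9044))) (.node (.node (.leaf 0x358377000) (.leaf 0x84589082)) (.node (.leaf 0xd6ab09c) (.leaf 0x143e09010)))))))))) (.node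 (.node (.node (.node (.node (.node (.node (.node (.node (.leaf 0x1a792b0c6) (.leaf 0x1f2587004)) (.node (.leaf 0x77d9704e) (.leaf 0x4eec4b044))) (.node (.node (.leaf 0x100869016) (.leaf 0x2bb079024)) (.node (.leaf 0x392eb064) (.leaf 0x9674d700e)))) (.node (.node (.node (.leaf 0x160bf9016) (.leaf 0x14af9b06a)) (.node (.leaf 0x47c35b084) (.leaf 0xd70155010))) (.node (.node (.leaf 0x58f3b7010) (.leaf 0x28f187042)) (.node (.leaf 0x2b3859082) (.leaf 0xd0a2b000))))) (.node (.node (.node (.node (.leaf 0x49e4b05a) (.leaf 0x2961f905a)) (.node (.leaf 0x628f3b144) (.leaf 0xc86f9010))) (.node (.node (.leaf 0x618c2b06a) (.leaf 0x15ee0b064)) (.node (.leaf 0x3c13fb002) (.leaf 0x1f7e89014)))) (.node (.node (.node (.leaf 0x649a3900a) (.leaf 0xfec837014)) (.node (.leaf 0x9a77b056) (.leaf 0x26d3b086))) (.node (.node (.leaf 0x36c4cb0ea) (.leaf 0x928659004)) (.node (.leaf 0x102379082) (.leaf 0x419739004)))))) (.node (.node (.node (.node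 (.node (.leaf 0x18775b0c0) (.leaf 0x4b59e9082)) (.node (.leaf 0x48239b1fe) (.leaf 0x3cf307030))) (.node (.node (.leaf 0x8be0fb024) (.leaf 0xbe3c7000)) (.node (.leaf 0x2313b0ea) (.leaf 0x2e5a39036)))) (.node (.node (.node (.leaf 0x72acb7020) (.leaf 0x3045bb0d6)) (.node (.leaf 0x1c0267006) (.leaf 0x54c74900c))) (.node (.node (.leaf 0x1737f9016) (.leaf 0x81bb90c6)) (.node (.leaf 0x29ee2905a) (.leaf 0x24b7db144))))) (.node (.node (.node (.node (.leaf 0x3fb469000) (.leaf 0x12304b05c)) (.node (.leaf 0xbdc47010) (.leaf 0xad71700a))) (.node (.node (.leaf 0x44774b06a) (.leaf 0x1709e9082)) (.node (.leaf 0x291a7905a) (.leaf 0x225519004)))) (.node (.node (.node (.leaf 0x5544fb000) (.leaf 0x82bb900a)) (.node (.leaf 0xa661904e) (.leaf 0x11d647006))) (.node (.node (.leaf 0x1b4a900e) (.leaf 0x91d9b056)) (.node (.leaf 0x29c0eb05a) (.leaf 0x7c31a905a))))))) (.node (.node (.node (.node (.node (.node (.leaf 0x7989900a) (.leaf 0xcf2bbb0ea))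 (.node (.leaf 0x60fc700a) (.leaf 0x3507eb000))) (.node (.node (.leaf 0xb2b49000) (.leaf 0x3896c901c)) (.node (.leaf 0x8072ab024) (.leaf 0x5ce46b086)))) (.node (.node (.node (.leaf 0x40a1a5004) (.leaf 0x28490901c)) (.node (.leaf 0x18f2b056) (.leaf 0x47d56b09c))) (.node (.node (.leaf 0x36431b0fc) (.leaf 0x2ad489026)) (.node (.leaf 0x14e23b014) (.leaf 0x4bfc09014))))) (.node (.node (.node (.node (.leaf 0x12519b1fe) (.leaf 0x2abb97020)) (.node (.leaf 0xfc5eb1d6) (.leaf 0x13368b044))) (.node (.node (.leaf 0x9958c9082) (.leaf 0x2446a9026)) (.node (.leaf 0x2b0a97042) (.leaf 0x1097b7024)))) (.node (.node (.node (.leaf 0x177b27024) (.leaf 0xd7777026)) (.node (.leaf 0x249ad700e) (.leaf 0x479c3b036))) (.node (.node (.leaf 0x29b3b194) (.leaf 0x469525014)) (.node (.leaf 0x495b3004) (.leaf 0xddbcbb01e)))))) (.node (.node (.node (.node (.node (.leaf 0x1d820b2dc) (.leaf 0x9c9c8b0c6)) (.node (.leaf 0x2bf6f7004) (.leaf 0x12c4b056)))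 (.node (.node (.leaf 0x570469044) (.leaf 0x59dd9b036)) (.node (.leaf 0x684617014) (.leaf 0x25e5fb09c)))) (.node (.node (.node (.leaf 0x40bd09002) (.leaf 0x83cb084)) (.node (.leaf 0x286487024) (.leaf 0xb592c9000))) (.node (.node (.leaf 0xbb0c9010) (.leaf 0x1f55b9016)) (.node (.leaf 0x404be5010) (.leaf 0x29103b05a))))) (.node (.node (.node (.node (.leaf 0x495afb064) (.leaf 0x22516900a)) (.node (.leaf 0x3c2bf7000) (.leaf 0xecad904e))) (.node (.node (.leaf 0x2cdeeb000) (.leaf 0x29d4db08a)) (.node (.leaf 0x274e7b06a) (.leaf 0x4aa03000)))) (.node (.node (.node (.leaf 0x41cda7006) (.leaf 0x99cf900e)) (.node (.leaf 0x2ebc8b056) (.leaf 0x90a3a7010))) (.node (.node (.leaf 0x80847014) (.leaf 0x4325b05a)) (.node (.leaf 0xa4bd6b2dc) (.leaf 0x2c2f37026)))))))) (.node (.node (.node (.node (.node (.node (.node (.leaf 0xd3d6b06a) (.leaf 0xb06249030)) (.node (.leaf 0x23871700a) (.leaf 0x64eb39006))) (.node (.node (.leaf 0x1059a904e)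 (.leaf 0x56c91901a)) (.node (.leaf 0x1c4c19042) (.leaf 0x5d303b1fe)))) (.node (.node (.node (.leaf 0xd0eb4b042) (.leaf 0x16f83904e)) (.node (.leaf 0x17ac3904e) (.leaf 0x1ddf8b14e))) (.node (.node (.leaf 0x61e8eb000) (.leaf 0x41415900c)) (.node (.leaf 0x5e1eab090) (.leaf 0xb3402905c))))) (.node (.node (.node (.node (.leaf 0x272067026) (.leaf 0x167b7901a)) (.node (.leaf 0x43dd19044) (.leaf 0xbb97b00c))) (.node (.node (.leaf 0x817da90c6) (.leaf 0x2f8cb062)) (.node (.leaf 0xa23b4b05c) (.leaf 0x4dfa07020)))) (.node (.node (.node (.leaf 0x111517024) (.leaf 0x799b67000)) (.node (.leaf 0x283357006) (.leaf 0x19c17b2dc))) (.node (.node (.leaf 0xad85901a) (.leaf 0x17537901a)) (.node (.leaf 0x10c9e901a) (.leaf 0x4bc37901a)))))) (.node (.node (.node (.node (.node (.leaf 0xc23b8b042) (.leaf 0x29c9a3002)) (.node (.leaf 0x6cab036) (.leaf 0x7e7b8b09c))) (.node (.node (.leaf 0x2b8089016) (.leaf 0x117c900e)) (.node (.leaf 0x1ec6cb0a6)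 (.leaf 0x198b9036)))) (.node (.node (.node (.leaf 0x11d7f9014) (.leaf 0xa17b704e)) (.node (.leaf 0x20ab4b0d6) (.leaf 0x2c4b8b014))) (.node (.node (.leaf 0x85ab9006) (.leaf 0x498cb05a)) (.node (.leaf 0x129449036) (.leaf 0x4b3b3904e))))) (.node (.node (.node (.node (.leaf 0x2d1e3905c) (.leaf 0x5468a901c)) (.node (.leaf 0x31e34b14e) (.leaf 0x4fe599026))) (.node (.node (.leaf 0x3cb679000) (.leaf 0xbb4fb144)) (.node (.leaf 0x92fe17034) (.leaf 0x79a36b002)))) (.node (.node (.node (.leaf 0x84ba9042) (.leaf 0x2217d7034)) (.node (.leaf 0x58ba0b09a) (.leaf 0x319acb2dc))) (.node (.node (.leaf 0x38ca47042) (.leaf 0x7d27700a)) (.node (.leaf 0x4eb1cb114) (.leaf 0x12eacb10c))))))) (.node (.node (.node (.node (.node (.node (.leaf 0x79fe1b050) (.leaf 0x40a2d9002)) (.node (.leaf 0x709b6b01c) (.leaf 0x15d7fb114))) (.node (.node (.leaf 0x6bc509030) (.leaf 0x19a47b2dc)) (.node (.leaf 0x98be9036) (.leaf 0x4b693000)))) (.node (.node (.node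 (.leaf 0x9421900e) (.leaf 0xcff7b01c)) (.node (.leaf 0x46b865004) (.leaf 0x91aae5000))) (.node (.node (.leaf 0x449db05a) (.leaf 0x7a8990c6)) (.node (.leaf 0x36b6cb194) (.leaf 0x182edb14e))))) (.node (.node (.node (.node (.leaf 0x2bef97024) (.leaf 0x253fcb084)) (.node (.leaf 0xa003c9026) (.leaf 0x630a9b014))) (.node (.node (.leaf 0x3f3d5b050) (.leaf 0x10df99014)) (.node (.leaf 0x6f56704e) (.leaf 0x4c59db14e)))) (.node (.node (.node (.leaf 0x28d9e7004) (.leaf 0xedc1901a)) (.node (.leaf 0x5945b044) (.leaf 0x5b6077034))) (.node (.node (.leaf 0x7aa4e901a) (.leaf 0x139a0b114)) (.node (.leaf 0x20bc7b0c6) (.leaf 0x2aeaf7030)))))) (.node (.node (.node (.node (.node (.leaf 0x405ee5014) (.leaf 0x2b39f9014)) (.node (.leaf 0x14368b01c) (.leaf 0x38c029024))) (.node (.node (.leaf 0x8c407034) (.leaf 0x7cf65b08a)) (.node (.leaf 0x605cc901a) (.leaf 0x839e2905a)))) (.node (.node (.node (.leaf 0x222069006) (.leaf 0x66c48b0cc)) (.node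 (.leaf 0x40fbd9002) (.leaf 0x17efc7004))) (.node (.node (.leaf 0x7a57a904e) (.leaf 0x41063004)) (.node (.leaf 0xd899b042) (.leaf 0x29ddb184))))) (.node (.node (.node (.node (.leaf 0x165d49014) (.leaf 0x526bab044)) (.node (.leaf 0x87600b084) (.leaf 0x21417b064))) (.node (.node (.leaf 0x1bfd7b0d6) (.leaf 0x1e769b0a6)) (.node (.leaf 0xc0fb09c) (.leaf 0x33aaab10c)))) (.node (.node (.node (.leaf 0x1a55db0d6) (.leaf 0x29dbbb05a)) (.node (.leaf 0x27273b000) (.leaf 0x31eecb0c0))) (.node (.node (.leaf 0xe6715b08a) (.leaf 0xc6a77010)) (.node (.leaf 0x680bd7034) (.leaf 0x244079046))))))))) (.node (.node (.node (.node (.node (.node (.node (.node (.leaf 0x35b0e9046) (.leaf 0x6a4b4b2dc)) (.node (.leaf 0xef18901c) (.leaf 0x693619014))) (.node (.node (.leaf 0x14f75b000) (.leaf 0x972eb1d6)) (.node (.leaf 0x22239042) (.leaf 0x3fb26b01c)))) (.node (.node (.node (.leaf 0x682c7006) (.leaf 0x3c84f9010)) (.node (.leaf 0x29f95905a) (.leaf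 0x18bbdb14e))) (.node (.node (.leaf 0x889cb184) (.leaf 0x3f5fe9010)) (.node (.leaf 0x2b800901a) (.leaf 0x60097024))))) (.node (.node (.node (.node (.leaf 0x57792905c) (.leaf 0x4727bb036)) (.node (.leaf 0x1267f900e) (.leaf 0x2af13b144))) (.node (.node (.leaf 0xad1c901c) (.leaf 0x1d830b2dc)) (.node (.leaf 0xf49545002) (.leaf 0x47463000)))) (.node (.node (.node (.leaf 0x5a304b0fc) (.leaf 0x58cc37000)) (.node (.leaf 0x5e84ab0cc) (.leaf 0x147f3b050))) (.node (.node (.leaf 0x2eb73b1d6) (.leaf 0x67c2d9030)) (.node (.leaf 0x79ee7014) (.leaf 0xae8d9016)))))) (.node (.node (.node (.node (.node (.leaf 0x27f35b144) (.leaf 0x2ca9e9046)) (.node (.leaf 0x59327b084) (.leaf 0x560899016))) (.node (.node (.leaf 0x75092b144) (.leaf 0x23cdc901c)) (.node (.leaf 0x55f91b144) (.leaf 0x16eccb194)))) (.node (.node (.node (.leaf 0x17bd9b0fc) (.leaf 0x22a87b0ea)) (.node (.leaf 0x73658b06a) (.leaf 0x4b9a8b0ea))) (.node (.node (.leaf 0x29d6d905a)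 (.leaf 0x45cf1b0c6)) (.node (.leaf 0xdfd29046) (.leaf 0xda223b086))))) (.node (.node (.node (.node (.leaf 0x22047b086) (.leaf 0x172a2b184)) (.node (.leaf 0x10cb1b194) (.leaf 0x707e901c))) (.node (.node (.leaf 0x1f69b05c) (.leaf 0x241fa7026)) (.node (.leaf 0xef86b7014) (.leaf 0x618c4b00c)))) (.node (.node (.node (.leaf 0x20329006) (.leaf 0xff91900e)) (.node (.leaf 0x474eb08a) (.leaf 0x51ed67004))) (.node (.node (.leaf 0x45913004) (.leaf 0x6e6f9014)) (.node (.leaf 0xc594b050) (.leaf 0x4124a700a))))))) (.node (.node (.node (.node (.node (.node (.leaf 0x32b036) (.leaf 0x407ae5006)) (.node (.leaf 0x4748db084) (.leaf 0x66ee8b090))) (.node (.node (.leaf 0x858ab0ea) (.leaf 0x1ea27b00a)) (.node (.leaf 0x7207a7000) (.leaf 0x28887704e)))) (.node (.node (.node (.leaf 0x4a4f89000) (.leaf 0x242fbb06a)) (.node (.leaf 0x7fb77006) (.leaf 0xb8997020))) (.node (.node (.leaf 0x311bcb2dc) (.leaf 0x12f87b056)) (.node (.leaf 0x51df09082)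 (.leaf 0x61d1901c))))) (.node (.node (.node (.node (.leaf 0xa8cb17006) (.leaf 0xaaa17006)) (.node (.leaf 0x33642b05c) (.leaf 0x160ecb086))) (.node (.node (.leaf 0x81248b062) (.leaf 0x1fecbb062)) (.node (.leaf 0x2ca34b144) (.leaf 0xb1d89026)))) (.node (.node (.node (.leaf 0x5e1145010) (.leaf 0x11ab4700a)) (.node (.leaf 0x29db2300e) (.leaf 0x82a09b01e))) (.node (.node (.leaf 0x6ba89016) (.leaf 0x328d19030)) (.node (.leaf 0x834ab086) (.leaf 0xc39fb002)))))) (.node (.node (.node (.node (.node (.leaf 0x10bb817014) (.leaf 0x364d7904e)) (.node (.leaf 0x8df99b062) (.leaf 0x11df8901a))) (.node (.node (.leaf 0x12829b056) (.leaf 0x119d089036)) (.node (.leaf 0x49fbb08a) (.leaf 0x408ea5042)))) (.node (.node (.node (.leaf 0x2c857014) (.leaf 0x1ff90b086)) (.node (.leaf 0x92dcb10c) (.leaf 0x2f1e4b024))) (.node (.node (.leaf 0x93749036) (.leaf 0x10951b086)) (.node (.leaf 0x77afc901c) (.leaf 0x31c64b14e))))) (.node (.node (.node (.node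 (.leaf 0x66fb8b090) (.leaf 0x22559004)) (.node (.leaf 0xaea29014) (.leaf 0x40ec7500e))) (.node (.node (.leaf 0x140d0b002) (.leaf 0x5df4f905c)) (.node (.leaf 0x239e17006) (.leaf 0x1ed3fb00a)))) (.node (.node (.node (.leaf 0x4af009010) (.leaf 0x10956b062)) (.node (.leaf 0x22799b184) (.leaf 0xe3807042))) (.node (.node (.leaf 0x41eec900a) (.leaf 0x2e2bdb05c)) (.node (.leaf 0x1db4b1fe) (.leaf 0x530f9b09c)))))))) (.node (.node (.node (.node (.node (.node (.node (.leaf 0xae34a7002) (.leaf 0x578a7b10c)) (.node (.leaf 0x358fc700e) (.leaf 0xd27b09c))) (.node (.node (.leaf 0x12f91900e) (.leaf 0xec4b084)) (.node (.leaf 0x67c9b9044) (.leaf 0xe4907024)))) (.node (.node (.node (.leaf 0xcb979000) (.leaf 0xd6e79026)) (.node (.leaf 0x2c2290c6) (.leaf 0x1c05490c6))) (.node (.node (.leaf 0x4523eb024) (.leaf 0x19299036)) (.node (.leaf 0x8463b0fc) (.leaf 0x51c717006))))) (.node (.node (.node (.node (.leaf 0x7adbdb194) (.leaf 0x6cdb69036))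 (.node (.leaf 0x6d597042) (.leaf 0x2e078b1fe))) (.node (.node (.leaf 0x389fb114) (.leaf 0x3a49fb05c)) (.node (.leaf 0x872ab194) (.leaf 0xe47e900c)))) (.node (.node (.node (.leaf 0x47f7eb09c) (.leaf 0x3d9f0905c)) (.node (.leaf 0x1b48cb0c6) (.leaf 0x3ef06b09a))) (.node (.node (.leaf 0xe40a9014) (.leaf 0x4648e500e)) (.node (.leaf 0x9ea9b1fe) (.leaf 0x6083f7004)))))) (.node (.node (.node (.node (.node (.leaf 0x752317000) (.leaf 0xf67f900e)) (.node (.leaf 0x46152500a) (.leaf 0x7e5a7034))) (.node (.node (.leaf 0x16e51b0fc) (.leaf 0x45e33000)) (.node (.leaf 0x4f88a700e) (.leaf 0x1a09ab0c6)))) (.node (.node (.node (.leaf 0x10e2bb184) (.leaf 0x378c59026)) (.node (.leaf 0xe2c29024) (.leaf 0xa2b6900c))) (.node (.node (.leaf 0x4c26b08a) (.leaf 0x28ae9901a)) (.node (.leaf 0x2bdcc700a) (.leaf 0x1ed0cb090))))) (.node (.node (.node (.node (.leaf 0x63df7004) (.leaf 0x16da2b184)) (.node (.leaf 0xad3a9024) (.leaf 0x44ddeb050))) (.node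 (.node (.leaf 0x2322900a) (.leaf 0xb8d92b050)) (.node (.leaf 0x43177905c) (.leaf 0x1f8f0b194)))) (.node (.node (.node (.leaf 0x23ee09082) (.leaf 0x1081b10c)) (.node (.leaf 0xb6087026) (.leaf 0x13564a9004))) (.node (.node (.leaf 0x767f7b10c) (.leaf 0x5ac89b194)) (.node (.leaf 0x20fe4b0d6) (.leaf 0x10cecb0fc))))))) (.node (.node (.node (.node (.node (.node (.leaf 0x9d34b05c) (.leaf 0x5cf949004)) (.node (.leaf 0xd980b144) (.leaf 0x2dbf7b1fe))) (.node (.node (.leaf 0x2d2ed9030) (.leaf 0x119a4904e)) (.node (.leaf 0x207dfb0c6) (.leaf 0x17befb062)))) (.node (.node (.node (.leaf 0x5eddbb0cc) (.leaf 0x497deb114)) (.node (.leaf 0xa5947042) (.leaf 0xe76d7006))) (.node (.node (.leaf 0x111bb1d6) (.leaf 0x150b7b044)) (.node (.leaf 0x19476b2dc) (.leaf 0x43ebd905c))))) (.node (.node (.node (.node (.leaf 0x2a2949000) (.leaf 0x48ee1900e)) (.node (.leaf 0x17834b086) (.leaf 0x30af4b0c6))) (.node (.node (.leaf 0x3e890b06a) (.leaf 0x63dedb00c))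 (.node (.leaf 0xf829b056) (.leaf 0x26c17034)))) (.node (.node (.node (.leaf 0x41dec90c6) (.leaf 0x6d11db036)) (.node (.leaf 0x565c07024) (.leaf 0x2a1c3700e))) (.node (.node (.leaf 0x9adb5b042) (.leaf 0x8f55b062)) (.node (.leaf 0x16e2cb0ea) (.leaf 0x38c93704e)))))) (.node (.node (.node (.node (.node (.leaf 0x1b7c7b0d6) (.leaf 0x43afcb1d6)) (.node (.leaf 0x5a5a2b062) (.leaf 0xbaeb7030))) (.node (.node (.leaf 0x142dab042) (.leaf 0xde48b00c)) (.node (.leaf 0x1f150b0ea) (.leaf 0x2ae419046)))) (.node (.node (.node (.leaf 0x69f79024) (.leaf 0x720c9042)) (.node (.leaf 0x40dc75002) (.leaf 0x1e909b090))) (.node (.node (.leaf 0x3cc90b09a) (.leaf 0x52ff9b064)) (.node (.leaf 0x1594eb064) (.leaf 0x10c91b0ea))))) (.node (.node (.node (.node (.leaf 0xaf127004) (.leaf 0x4c255b0c0)) (.node (.leaf 0xff87b056) (.leaf 0x30a77b024))) (.node (.node (.leaf 0x2a8fc9010) (.leaf 0x1c8f6700a)) (.node (.leaf 0x60e59082) (.leaf 0x18325b2dc))))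 (.node (.node (.node (.leaf 0x5170c901c) (.leaf 0x4d2357010)) (.node (.leaf 0x75a67042) (.leaf 0x3d9e6905c))) (.node (.node (.leaf 0x78372b0ea) (.leaf 0x7de66b056)) (.node (.leaf 0x4e43b08a) (.leaf 0xe41c9082))))))))))))

theorem cert9_0 : chunkB 9 cert9 0 = true := by decide +kernel

theorem cert9_1 : chunkB 9 cert9 1 = true := by decide +kernel

theorem cert9_2 : chunkB 9 cert9 2 = true := by decide +kernel

theorem cert9_3 : chunkB 9 cert9 3 = true := by decide +kernel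

theorem cert9_4 : chunkB 9 cert9 4 = true := by decide +kernel

theorem cert9_5 : chunkB 9 cert9 5 = true := by decide +kernel

theorem cert9_6 : chunkB 9 cert9 6 = true := by decide +kernel

theorem cert9_7 : chunkB 9 cert9 7 = true := by decide +kernel

theorem cert9_ok : ∀ k < 2048, itemB 9 cert9 k = true :=
  of_chunks cert9_0 cert9_1 cert9_2 cert9_3 cert9_4 cert9_5 cert9_6 cert9_7

end Cfsg.Agent.F4Square.Two
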