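import Cfsg.Agent.F4Square.Two.Cert0
import Cfsg.Agent.F4Square.Two.Cert1
import Cfsg.Agent.F4Square.Two.Cert2
import Cfsg.Agent.F4Square.Two.Cert3
import Cfsg.Agent.F4Square.Two.Cert4
import Cfsg.Agent.F4Square.Two.Cert5
import Cfsg.Agent.F4Square.Two.Cert6
import Cfsg.Agent.F4Square.Two.Cert7
import Cfsg.Agent.F4Square.Two.Cert8
import Cfsg.Agent.F4Square.Two.Cert9
import Cfsg.Agent.F4Square.Two.Cert10
import Cfsg.Agent.F4Square.Two.Cert11
import Cfsg.Agent.F4Square.Two.Cert12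
import Cfsg.Agent.F4Square.Two.Cert13
import Cfsg.Agent.F4Square.Two.Cert14
import Cfsg.Agent.F4Square.Two.Cert15

/-!
The class of an element of order five of the Tits group squared covers the nonidentity elements.
-/

set_option autoImplicit false
set_option maxRecDepth 100000
set_option maxHeartbeats 1000000

namespace Cfsg.Agent.F4Square.Two

open Cfsg.Agent.TwistedF4Two

attribute [local irreducible] rho toM comp img Cfsg.Lie.chevF4 gen sprodB itemB

theorem exists_cert : ∀ w : ℕ, w < 16 → ∃ t : Tree, ∀ k < 2048, itemB w t k = true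
  | 0, _ => ⟨cert0, cert0_ok⟩
  | 1, _ => ⟨cert1, cert1_ok⟩
  | 2, _ => ⟨cert2, cert2_ok⟩
  | 3, _ => ⟨cert3, cert3_ok⟩
  | 4, _ => ⟨cert4, cert4_ok⟩
  | 5, _ => ⟨cert5, cert5_ok⟩
  | 6, _ => ⟨cert6, cert6_ok⟩
  | 7, _ => ⟨cert7, cert7_ok⟩
  | 8, _ => ⟨cert8, cert8_ok⟩
  | 9, _ => ⟨cert9, cert9_ok⟩
  | 10, _ => ⟨cert10, cert10_ok⟩
  | 11, _ => ⟨cert11, cert11_ok⟩
  | 12, _ => ⟨cert12, cert12_ok⟩
  | 13, _ => ⟨cert13, cert13_ok⟩
  | 14, _ => ⟨cert14, cert14_ok⟩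
  | 15, _ => ⟨cert15, cert15_ok⟩
  | n + 16, h => absurd h (by omega)

/-- The class squared covers. -/
theorem cover {g : T} (hg : g ∈ D) (hne : g ≠ 1) :
    ∃ a ∈ D, ∃ b ∈ D, g = (a * x * a⁻¹) * (b * x * b⁻¹) := by
  have hone : weylEl 0 * sprod pc 0 = 1 := by rw [weylEl_zero, sprod_zero, mul_one]
  suffices h : Two' g by
    obtain ⟨a, b, rfl⟩ := h
    obtain ⟨d, hd, e⟩ := conj_D a
    obtain ⟨d', hd', e'⟩ := conj_D b
    exact ⟨d, hd, d', hd', by rw [e, e']⟩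
  obtain ⟨u, hu, w, hw, u', hu', rfl⟩ := inCells_all g
  obtain ⟨m, hm⟩ := exists_sprod_pc (UT.mul_mem hu' hu)
  have hm' : sprod pc m = sprod pc (m % 4096) := by
    rw [sprod_mod m, pc_length]
    norm_num
  rw [hm'] at hm
  have e : u * weylEl w * u' = u * (weylEl w * sprod pc (m % 4096)) * u⁻¹ := by rw [← hm]; group
  have hD : weylEl w * sprod pc (m % 4096) ∈ D := by
    have h := (Subgroup.Normal.conj_mem (inferInstance : (D : Subgroup T).Normal) _ hg u⁻¹)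
    rw [e] at h
    convert h using 1
    group
  have h2 : m % 4096 % 2 = 0 :=
    (sprod_mem_D_iff _).1 ((Subgroup.mul_mem_cancel_left _ (weylEl_mem_D w)).1 hD)
  obtain ⟨k, hk⟩ : ∃ k, m % 4096 = 2 * k := ⟨m % 4096 / 2, by omega⟩
  rw [e]
  refine Two'.conj ?_ u
  obtain ⟨t, ht⟩ := exists_cert w hw
  rw [hk]
  refine two_of_item hw (by omega) (ht k (by omega)) ?_
  by_contra hc
  push Not at hc
  obtain ⟨rfl, rfl⟩ := hc
  apply hne
  rw [e, hk, Nat.mul_zero, hone]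
  group

end Cfsg.Agent.F4Square.Two
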