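import Cfsg.Agent.TwistedF4Two.BitMat

/-!
Matrices over the field with two elements packed in one natural number, twenty-six bits a column.
-/

set_option autoImplicit false

namespace Cfsg.Agent.F4Square.Two

open Cfsg.Agent.TwistedF4Two

/-- A block mask. -/
def bmask : ℕ := 2 ^ 26 - 1

/-- The block `j`. -/
def blk (P j : ℕ) : ℕ := (P >>> (26 * j)) &&& bmask

/-- The lowest bit of every block. -/
def low : ℕ := (2 ^ 676 - 1) / bmask

/-- The partial product over the first `n` columns. -/
noncomputable def pmulTo (P Q : ℕ) : ℕ → ℕ :=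
  Nat.rec (motive := fun _ => ℕ) 0 fun k ih =>
    Nat.xor ih (Nat.mul (Nat.land (Nat.shiftRight Q k) low)
      (Nat.land (Nat.shiftRight P (Nat.mul 26 k)) bmask))

/-- The product. -/
noncomputable def pmul (P Q : ℕ) : ℕ := pmulTo P Q 26

/-- Packing of a list of columns. -/
def pack : List ℕ → ℕ
  | [] => 0
  | a :: l => a + 2 ^ 26 * pack l

/-- The lowest bit of the first `n` blocks. -/
def lowN : ℕ → ℕ
  | 0 => 0
  | n + 1 => 2 ^ 26 * lowN n + 1

theorem low_eq : low = lowN 26 := by decide +kernel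

/-- The columns. -/
def unpack (P : ℕ) : List ℕ := (List.range 26).map (blk P)

theorem length_unpack (P : ℕ) : (unpack P).length = 26 := by simp [unpack]

theorem blk_zero_left (j : ℕ) : blk 0 j = 0 := by simp [blk]

theorem blk_xor (a b j : ℕ) : blk (a ^^^ b) j = blk a j ^^^ blk b j := by
  simp only [blk, Nat.shiftRight_xor_distrib, Nat.and_xor_distrib_right]

theorem blk_mod (a j : ℕ) : blk a j = a / 2 ^ (26 * j) % 2 ^ 26 := by
  rw [blk, Nat.shiftRight_eq_div_pow, bmask, Nat.and_two_pow_sub_one_eq_mod]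

theorem and_lowN_succ (X n : ℕ) :
    X &&& lowN (n + 1) = 2 ^ 26 * ((X >>> 26) &&& lowN n) + X % 2 := by
  refine Nat.eq_of_testBit_eq fun j => ?_
  rw [Nat.testBit_and, lowN, Nat.testBit_two_pow_mul_add _ (by norm_num : 1 < 2 ^ 26),
    Nat.testBit_two_pow_mul_add _ (lt_of_lt_of_le (Nat.mod_lt X two_pos) (by norm_num))]
  split_ifs with h
  · cases j with
    | zero => simp [Nat.testBit_zero]
    | succ j => simp [Nat.testBit_succ, show X % 2 / 2 = 0 by omega]
  · rw [Nat.testBit_and, Nat.testBit_shiftRight, show 26 + (j - 26) = j by omega]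

theorem blk_spread {B : ℕ} (hB : B < 2 ^ 26) : ∀ (n X j : ℕ), j < n →
    blk ((X &&& lowN n) * B) j = (X >>> (26 * j)) % 2 * B
  | 0, _, j, h => absurd h (Nat.not_lt_zero j)
  | n + 1, X, j, h => by
    have hlt : X % 2 * B < 2 ^ 26 :=
      lt_of_le_of_lt (Nat.mul_le_mul_right B (show X % 2 ≤ 1 by omega)) (by simpa using hB)
    rw [and_lowN_succ, add_mul, mul_assoc, blk_mod]
    cases j with
    | zero =>
      rw [Nat.mul_zero, pow_zero, Nat.div_one, Nat.mul_add_mod, Nat.mod_eq_of_lt hlt,
        Nat.shiftRight_zero]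
    | succ j =>
      rw [show 26 * (j + 1) = 26 + 26 * j by omega, pow_add, ← Nat.div_div_eq_div_mul,
        Nat.mul_add_div (by norm_num), Nat.div_eq_of_lt hlt, add_zero, ← blk_mod,
        blk_spread hB n _ j (by omega), Nat.shiftRight_add]

theorem img_append : ∀ (l : List ℕ) (r a : ℕ),
    img (l ++ [r]) a = img l a ^^^ ((a >>> l.length) % 2 * r)
  | [], r, a => by simp [img]
  | x :: l, r, a => by
    rw [List.cons_append, img, img, img_append l r, List.length_cons, Nat.xor_assoc,
      Nat.shiftRight_succ_inside]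

theorem pmulTo_succ (P Q k : ℕ) :
    pmulTo P Q (k + 1) = pmulTo P Q k ^^^ (((Q >>> k) &&& low) * blk P k) := rfl

theorem blk_pmulTo (P Q j : ℕ) (hj : j < 26) : ∀ n : ℕ,
    blk (pmulTo P Q n) j = img ((List.range n).map (blk P)) ((Q >>> (26 * j)) &&& (2 ^ n - 1))
  | 0 => by simp [pmulTo, blk_zero_left, img]
  | n + 1 => by
    have hP : blk P n < 2 ^ 26 := by rw [blk_mod]; exact Nat.mod_lt _ (by norm_num)
    rw [pmulTo_succ, blk_xor, blk_pmulTo P Q j hj n, low_eq, blk_spread hP 26 _ j hj,
      List.range_succ, List.map_append, List.map_singleton, img_append, List.length_map,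
      List.length_range]
    have hl : ∀ (l : List ℕ) (a : ℕ), img l a = img l (a &&& (2 ^ l.length - 1)) := by
      intro l
      induction l with
      | nil => intro a; simp [img]
      | cons x l ih =>
        intro a
        rw [img, img, ih (a / 2), ih ((a &&& _) / 2), List.length_cons,
          Nat.and_two_pow_sub_one_eq_mod, Nat.and_two_pow_sub_one_eq_mod,
          Nat.and_two_pow_sub_one_eq_mod]
        congr 2
        · rw [Nat.mod_mod_of_dvd _ (dvd_pow_self 2 (Nat.succ_ne_zero _))]
        · rw [pow_succ', Nat.mod_mul_right_div_self, Nat.mod_mod]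
    congr 1
    · rw [hl _ ((Q >>> (26 * j)) &&& (2 ^ (n + 1) - 1)), List.length_map, List.length_range,
        Nat.and_two_pow_sub_one_eq_mod, Nat.and_two_pow_sub_one_eq_mod,
        Nat.and_two_pow_sub_one_eq_mod, Nat.mod_mod_of_dvd _ (pow_dvd_pow 2 (Nat.le_succ n))]
    · congr 1
      simp only [Nat.shiftRight_eq_div_pow, Nat.and_two_pow_sub_one_eq_mod, Nat.div_div_eq_div_mul,
        ← pow_add]
      rw [pow_succ, Nat.mod_mul_right_div_self, Nat.mod_mod, Nat.div_div_eq_div_mul, ← pow_add,
        Nat.add_comm]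

theorem unpack_pmul (P Q : ℕ) : unpack (pmul P Q) = comp (unpack P) (unpack Q) := by
  simp only [comp, unpack, List.map_map]
  refine List.map_congr_left fun j hj => ?_
  rw [Function.comp_apply, pmul, blk_pmulTo P Q j (List.mem_range.1 hj) 26]
  rfl

end Cfsg.Agent.F4Square.Two
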