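import Cfsg.Agent.F4Square.Two.Data
import Cfsg.Agent.TwistedF4Two.Overgroup

/-!
The checks of a certificate that the class of an element of order five of the Tits group squared
covers the nonidentity elements, and their meaning.
-/

set_option autoImplicit false
set_option maxRecDepth 100000
set_option maxHeartbeats 1000000

namespace Cfsg.Agent.F4Square.Two

open Cfsg.Agent.TwistedF4Two

attribute [local irreducible] rho toM comp img Cfsg.Lie.chevF4 gen sprodB numY

/-- A packed element of the unipotent group. -/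
noncomputable def uP (m : ℕ) : ℕ := pmul (loT.get (m % 64)) (hiT.get (m / 64))

/-- A packed element of a coset of the unipotent group. -/
noncomputable def triP (v : ℕ) : ℕ :=
  pmul (pmul (uP (v / 65536)) (weylT.get (v / 4096 % 16))) (uP (v % 4096))

/-- The packed chosen element. -/
noncomputable def xP : ℕ := triP xCode

theorem lo_ok : ∀ m < 64, unpack (loT.get m) = sprodB (pcMats.take 6) m := by decide +kernel

theorem hi_ok : ∀ m < 64, unpack (hiT.get m) = sprodB (pcMats.drop 6) m := by decide +kernel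

theorem weylT_ok : ∀ w < 16, unpack (weylT.get w) = weylMats.getD w [] := by decide +kernel

/-- The element of a code. -/
noncomputable def tri (v : ℕ) : T :=
  sprod pc (v / 65536) * weylEl (v / 4096 % 16) * sprod pc (v % 4096)

/-- An element with a given packed matrix. -/
def PRep (g : T) (P : ℕ) : Prop := Rep g (unpack P)

theorem PRep.mul {g h : T} {P Q : ℕ} (hg : PRep g P) (hh : PRep h Q) : PRep (g * h) (pmul P Q) := by
  show Rep _ _
  rw [unpack_pmul]
  exact Rep.mul hg hh

theorem PRep.inj {g h : T} {P Q : ℕ} (hg : PRep g P) (hh : PRep h Q) (e : P = Q) : g = h :=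
  Rep.eq hg hh (by rw [e])

theorem prep_u {m : ℕ} (hm : m < 4096) : PRep (sprod pc m) (uP m) := by
  have h1 : sprod pc m = sprod (pc.take 6) (m % 64) * sprod (pc.drop 6) (m / 64) := by
    conv_lhs => rw [← List.take_append_drop 6 pc, sprod_split]
    rw [List.length_take, pc_length]
    norm_num
  rw [h1]
  refine PRep.mul ?_ ?_
  · show Rep _ _
    rw [lo_ok _ (Nat.mod_lt _ (by norm_num))]
    exact rep_pc_take 6 _
  · show Rep _ _
    rw [hi_ok _ (Nat.div_lt_of_lt_mul (by omega))]
    exact rep_pc_drop 6 _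

theorem prep_weyl {w : ℕ} (hw : w < 16) : PRep (weylEl w) (weylT.get w) := by
  show Rep _ _
  rw [weylT_ok w hw]
  exact rep_weyl hw

theorem prep_tri {v : ℕ} (hv : v < 4096 * 65536) : PRep (tri v) (triP v) :=
  ((prep_u (Nat.div_lt_of_lt_mul (by omega))).mul (prep_weyl (Nat.mod_lt _ (by norm_num)))).mul
    (prep_u (Nat.mod_lt _ (by norm_num)))

theorem sprod_mem_D_iff (m : ℕ) : sprod pc m ∈ D ↔ m % 2 = 0 := by
  rw [← mem_U1_iff_mem_D (sprod_pc_mem m), sprod_pc_mem_U1]

theorem tri_mem_D_iff (v : ℕ) : tri v ∈ D ↔ (v / 65536 + v % 4096) % 2 = 0 := by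
  have hw := weylEl_mem_D (v / 4096 % 16)
  rcases Nat.mod_two_eq_zero_or_one (v / 65536) with h1 | h1
  · rw [tri, Subgroup.mul_mem_cancel_left _ (D.mul_mem ((sprod_mem_D_iff _).2 h1) hw),
      sprod_mem_D_iff, Nat.add_mod (v / 65536), h1, zero_add, Nat.mod_mod]
  · have hn : sprod pc (v / 65536) ∉ D := fun h => by
      have := (sprod_mem_D_iff _).1 h
      omega
    constructor
    · intro h
      have hu : sprod pc (v % 4096) ∉ D := fun hu => by
        rw [tri, Subgroup.mul_mem_cancel_right _ hu, Subgroup.mul_mem_cancel_right _ hw] at h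
        exact hn h
      have h2 : v % 4096 % 2 ≠ 0 := fun h2 => hu ((sprod_mem_D_iff _).2 h2)
      omega
    · intro h
      have hu : sprod pc (v % 4096) ∉ D := fun hu => by
        have := (sprod_mem_D_iff _).1 hu
        omega
      have e := Subgroup.mul_mem_iff_of_index_two index_D (a := sprod pc (v / 65536) * weylEl (v / 4096 % 16))
        (b := sprod pc (v % 4096))
      exact e.2 (iff_of_false (fun h' => hn ((Subgroup.mul_mem_cancel_right _ hw).1 h')) hu)

/-- The chosen element. -/
noncomputable def x : T := tri xCode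

theorem xCode_lt : xCode < 4096 * 65536 := by decide +kernel

theorem x_mem : x ∈ D := (tri_mem_D_iff _).2 (by decide +kernel)

theorem x_five : x ^ 5 = 1 := by
  have h := prep_tri xCode_lt
  exact ((((h.mul h).mul h).mul h).mul h).inj
    (P := pmul (pmul (pmul (pmul xP xP) xP) xP) xP) (Q := pack idB)
    (show Rep 1 (unpack (pack idB)) by
      rw [show unpack (pack idB) = idB by decide +kernel]; exact Rep.one)
    (by decide +kernel) |> fun e => by rw [pow_succ, pow_succ, pow_succ, pow_two]; exact e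

/-- The check on a conjugate. -/
noncomputable def yB (j : ℕ) : Bool :=
  Nat.blt (aT.get j) 268435456 &&
    Nat.beq (pmul (yT.get j) (triP (aT.get j))) (pmul (triP (aT.get j)) xP)

/-- An element conjugating `x` to a packed matrix. -/
theorem prep_conj {a : T} {A Y : ℕ} (ha : PRep a A) (e : pmul Y A = pmul A xP) :
    PRep (a * x * a⁻¹) Y := by
  have hx : rho x = toM (unpack xP) := (prep_tri xCode_lt).1
  have h1 : toM (unpack Y) * rho a = rho a * rho x := by
    rw [ha.1, hx, ← toM_comp _ _ (length_unpack Y).le,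
      ← toM_comp _ _ (length_unpack A).le, ← unpack_pmul, ← unpack_pmul, e]
  refine ⟨?_, length_unpack Y⟩
  rw [map_mul, map_mul, ← h1, mul_assoc, ← map_mul, mul_inv_cancel, map_one, mul_one]

/-- All below a bound. -/
noncomputable def allTo (f : ℕ → Bool) (n : ℕ) : Bool :=
  Nat.rec (motive := fun _ => Bool) true (fun j ih => ih && f j) n

theorem allY_ok : allTo yB numY = true := by decide +kernel

theorem of_rec {f : ℕ → Bool} : ∀ {n : ℕ}, allTo f n = true → ∀ j < n, f j = true
  | 0, _, j, hj => absurd hj (Nat.not_lt_zero j)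
  | n + 1, h, j, hj => by
    obtain ⟨h1, h2⟩ := Bool.and_eq_true_iff.1 h
    rcases Nat.lt_succ_iff_lt_or_eq.1 hj with hlt | rfl
    exacts [of_rec h1 j hlt, h2]

/-- The check of one element of a coset. -/
noncomputable def itemB (w : ℕ) (t : Tree) (k : ℕ) : Bool :=
  (Nat.beq w 0 && Nat.beq k 0) ||
    (Nat.blt (Nat.div (t.get k) 268435456) numY &&
      Nat.beq (pmul (pmul (weylT.get w) (uP (Nat.mul 2 k))) (triP (Nat.mod (t.get k) 268435456)))
        (pmul (yT.get (Nat.div (t.get k) 268435456)) (pmul (triP (Nat.mod (t.get k) 268435456)) xP)))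

/-- The check of 256 elements of a coset. -/
noncomputable def chunkB (w : ℕ) (t : Tree) (i : ℕ) : Bool :=
  allTo (fun j => itemB w t (256 * i + j)) 256

theorem of_chunks {w : ℕ} {t : Tree} (h0 : chunkB w t 0 = true) (h1 : chunkB w t 1 = true)
    (h2 : chunkB w t 2 = true) (h3 : chunkB w t 3 = true) (h4 : chunkB w t 4 = true)
    (h5 : chunkB w t 5 = true) (h6 : chunkB w t 6 = true) (h7 : chunkB w t 7 = true) :
    ∀ k < 2048, itemB w t k = true := fun k hk => by
  have hc : chunkB w t (k / 256) = true := by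
    have : k / 256 < 8 := by omega
    interval_cases k / 256 <;> assumption
  have := of_rec (f := fun j => itemB w t (256 * (k / 256) + j)) hc (k % 256)
    (Nat.mod_lt _ (by norm_num))
  rwa [Nat.div_add_mod] at this

/-- Being a product of two conjugates of `x` in the whole group. -/
def Two' (g : T) : Prop := ∃ a b : T, g = (a * x * a⁻¹) * (b * x * b⁻¹)

theorem two_of_item {w : ℕ} (hw : w < 16) {t : Tree} {k : ℕ} (hk : k < 2048)
    (h : itemB w t k = true) (h0 : w ≠ 0 ∨ k ≠ 0) : Two' (weylEl w * sprod pc (2 * k)) := by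
  simp only [itemB, Bool.or_eq_true, Bool.and_eq_true] at h
  rcases h with h | ⟨hj, he⟩
  · obtain ⟨e1, e2⟩ := h
    rcases h0 with h0 | h0
    exacts [absurd (Nat.eq_of_beq_eq_true e1) h0, absurd (Nat.eq_of_beq_eq_true e2) h0]
  have hj' : t.get k / 268435456 < numY := Nat.le_of_ble_eq_true hj
  have hy := of_rec (f := yB) (n := numY) allY_ok (t.get k / 268435456) hj'
  rw [yB, Bool.and_eq_true] at hy
  obtain ⟨ha, hye⟩ := hy
  have ha' : aT.get (t.get k / 268435456) < 4096 * 65536 := Nat.le_of_ble_eq_true ha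
  have hY := prep_conj (prep_tri ha') (Nat.eq_of_beq_eq_true hye)
  have hb : t.get k % 268435456 < 4096 * 65536 := Nat.mod_lt _ (by norm_num)
  have hg : PRep (weylEl w * sprod pc (2 * k)) (pmul (weylT.get w) (uP (2 * k))) :=
    (prep_weyl hw).mul (prep_u (by omega))
  set a := tri (aT.get (t.get k / 268435456))
  set b := tri (t.get k % 268435456)
  refine ⟨a, b, ?_⟩
  have e := (hg.mul (prep_tri hb)).inj (hY.mul ((prep_tri hb).mul (prep_tri xCode_lt)))
    (Nat.eq_of_beq_eq_true he)
  change weylEl w * sprod pc (2 * k) * b = a * x * a⁻¹ * (b * x) at e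
  rw [show a * x * a⁻¹ * (b * x * b⁻¹) = a * x * a⁻¹ * (b * x) * b⁻¹ by group, ← e,
    mul_inv_cancel_right]

theorem Two'.conj {g : T} (h : Two' g) (e : T) : Two' (e * g * e⁻¹) := by
  obtain ⟨a, b, rfl⟩ := h
  exact ⟨e * a, e * b, by group⟩

theorem cCode_ok : cCode.1 < 4096 * 65536 ∧ cCode.2 < 4096 * 65536 ∧
    (cCode.1 / 65536 + cCode.1 % 4096) % 2 = 0 ∧ (cCode.2 / 65536 + cCode.2 % 4096) % 2 = 1 ∧
    pmul cConj (triP cCode.1) = pmul (triP cCode.1) xP ∧
    pmul cConj (triP cCode.2) = pmul (triP cCode.2) xP := by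
  decide +kernel

/-- The class in the derived subgroup is the class in the whole group. -/
theorem conj_D (a : T) : ∃ d ∈ D, d * x * d⁻¹ = a * x * a⁻¹ := by
  obtain ⟨h1, h2, p1, p2, e1, e2⟩ := cCode_ok
  have e : tri cCode.1 * x * (tri cCode.1)⁻¹ = tri cCode.2 * x * (tri cCode.2)⁻¹ :=
    (prep_conj (prep_tri h1) e1).inj (prep_conj (prep_tri h2) e2) rfl
  set b := tri cCode.1
  set b' := tri cCode.2
  by_cases ha : a ∈ D
  · exact ⟨a, ha, rfl⟩
  have hb : b ∈ D := (tri_mem_D_iff _).2 p1
  have hb' : b' ∉ D := fun h => by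
    have := (tri_mem_D_iff _).1 h
    omega
  refine ⟨a * (b⁻¹ * b'), (Subgroup.mul_mem_iff_of_index_two index_D).2
    (iff_of_false ha fun h => hb' ((Subgroup.mul_mem_cancel_left _ (D.inv_mem hb)).1 h)), ?_⟩
  calc a * (b⁻¹ * b') * x * (a * (b⁻¹ * b'))⁻¹
      = a * b⁻¹ * (b' * x * b'⁻¹) * b * a⁻¹ := by group
    _ = _ := by rw [← e]; group

end Cfsg.Agent.F4Square.Two
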